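import Groth.Agent.Lib.Helper28.CMAux
import Groth.Agent.Lib.Helper49.CMQuot

/-!
# Depth of `A/(𝔞 ∩ 𝔟)`, of `A/𝔞` modulo a regular element, and a Cohen–Macaulay criterion
for local rings of quotients (helper28)
-/

set_option autoImplicit false
universe u

namespace Groth.Agent.Lib.Helper28.CMAux

open CategoryTheory Abelian IsLocalRing Pointwise
open Groth.Agent.Lib.Helper29 Groth.Agent.Lib.Helper29.DepthExt Groth.Agent.Lib.Helper29.DepthLib
open Groth.Agent.Lib.Helper29.CMLib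

section mv

variable {A : Type u} [CommRing A] (𝔞 𝔟 : Ideal A)

/-- the diagonal map `A/(𝔞 ∩ 𝔟) → A/𝔞 × A/𝔟` -/
noncomputable def fInf : (A ⧸ (𝔞 ⊓ 𝔟)) →ₗ[A] (A ⧸ 𝔞) × (A ⧸ 𝔟) :=
  LinearMap.prod (Submodule.mapQ (𝔞 ⊓ 𝔟) 𝔞 LinearMap.id (fun _ hx => hx.1))
    (Submodule.mapQ (𝔞 ⊓ 𝔟) 𝔟 LinearMap.id (fun _ hx => hx.2))

/-- the difference map `A/𝔞 × A/𝔟 → A/(𝔞 + 𝔟)` -/
noncomputable def gSup : ((A ⧸ 𝔞) × (A ⧸ 𝔟)) →ₗ[A] (A ⧸ (𝔞 ⊔ 𝔟)) :=
  (Submodule.mapQ 𝔞 (𝔞 ⊔ 𝔟) LinearMap.id (fun _ hx => Ideal.mem_sup_left hx)).comp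
      (LinearMap.fst A _ _) -
    (Submodule.mapQ 𝔟 (𝔞 ⊔ 𝔟) LinearMap.id (fun _ hx => Ideal.mem_sup_right hx)).comp
      (LinearMap.snd A _ _)

lemma fInf_mk (x : A) : fInf 𝔞 𝔟 (Submodule.Quotient.mk x) =
    (Submodule.Quotient.mk x, Submodule.Quotient.mk x) := rfl

lemma gSup_mk (x y : A) : gSup 𝔞 𝔟 (Submodule.Quotient.mk x, Submodule.Quotient.mk y) =
    Submodule.Quotient.mk (x - y) := rfl

lemma fInf_injective : Function.Injective (fInf 𝔞 𝔟) := by
  rw [injective_iff_map_eq_zero]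
  intro z hz
  obtain ⟨x, rfl⟩ := Submodule.Quotient.mk_surjective _ z
  rw [fInf_mk, Prod.mk_eq_zero, Submodule.Quotient.mk_eq_zero, Submodule.Quotient.mk_eq_zero] at hz
  rw [Submodule.Quotient.mk_eq_zero]
  exact hz

lemma gSup_surjective : Function.Surjective (gSup 𝔞 𝔟) := by
  intro z
  obtain ⟨x, rfl⟩ := Submodule.Quotient.mk_surjective _ z
  refine ⟨(Submodule.Quotient.mk x, Submodule.Quotient.mk 0), ?_⟩
  rw [gSup_mk, sub_zero]

lemma exact_fInf_gSup : Function.Exact (fInf 𝔞 𝔟) (gSup 𝔞 𝔟) := by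
  intro z
  constructor
  · intro hz
    obtain ⟨z1, z2⟩ := z
    obtain ⟨x, rfl⟩ := Submodule.Quotient.mk_surjective _ z1
    obtain ⟨y, rfl⟩ := Submodule.Quotient.mk_surjective _ z2
    rw [gSup_mk, Submodule.Quotient.mk_eq_zero] at hz
    obtain ⟨a, ha, b, hb, hab⟩ := Submodule.mem_sup.1 hz
    refine ⟨Submodule.Quotient.mk (x - a), ?_⟩
    rw [fInf_mk]
    apply Prod.ext
    · show (Submodule.Quotient.mk (x - a) : A ⧸ 𝔞) = Submodule.Quotient.mk x
      rw [Submodule.Quotient.eq]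
      have : x - a - x = -a := by ring
      rw [this]
      exact 𝔞.neg_mem ha
    · show (Submodule.Quotient.mk (x - a) : A ⧸ 𝔟) = Submodule.Quotient.mk y
      rw [Submodule.Quotient.eq]
      have : x - a - y = b := by
        have h5 : x - a - y = (x - y) - a := by ring
        rw [h5, ← hab]; ring
      rw [this]
      exact hb
  · rintro ⟨w, rfl⟩
    obtain ⟨x, rfl⟩ := Submodule.Quotient.mk_surjective _ w
    rw [fInf_mk, gSup_mk, sub_self]
    rfl

end mv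

section local_

variable {A : Type u} [CommRing A] [IsLocalRing A]

/-- the depth lemma applied to `0 → A/(𝔞 ∩ 𝔟) → A/𝔞 × A/𝔟 → A/(𝔞 + 𝔟) → 0` -/
theorem extVan_quotient_inf (𝔞 𝔟 : Ideal A) (k : ℕ) (h1 : ExtVan A k (A ⧸ 𝔞))
    (h2 : ExtVan A k (A ⧸ 𝔟)) (h3 : ExtVan A (k - 1) (A ⧸ (𝔞 ⊔ 𝔟))) :
    ExtVan A k (A ⧸ (𝔞 ⊓ 𝔟)) :=
  extVan_sub (fInf 𝔞 𝔟) (gSup 𝔞 𝔟) (fInf_injective 𝔞 𝔟) (gSup_surjective 𝔞 𝔟)
    (exact_fInf_gSup 𝔞 𝔟) k (extVan_prod k h1 h2) h3

variable [IsNoetherianRing A]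

/-- `(A/𝔞)/x(A/𝔞) ≃ A/(𝔞 + xA)` -/
noncomputable def quotSMulTopQuotientEquiv (𝔞 : Ideal A) (x : A) :
    QuotSMulTop x (A ⧸ 𝔞) ≃ₗ[A] (A ⧸ (𝔞 ⊔ Ideal.span {x})) := by
  refine (Submodule.quotEquivOfEq _ _ ?_).trans
    (Submodule.quotientQuotientEquivQuotientSup 𝔞 (Ideal.span {x}))
  ext y
  rw [Submodule.mem_smul_pointwise_iff_exists]
  constructor
  · rintro ⟨m, -, rfl⟩
    obtain ⟨a, rfl⟩ := Submodule.Quotient.mk_surjective _ m
    refine ⟨a * x, Ideal.mem_span_singleton'.2 ⟨a, rfl⟩, ?_⟩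
    show (Submodule.Quotient.mk (a * x) : A ⧸ 𝔞) = x • Submodule.Quotient.mk a
    rw [← Submodule.Quotient.mk_smul, smul_eq_mul, mul_comm]
  · rintro ⟨b, hb, rfl⟩
    obtain ⟨a, rfl⟩ := Ideal.mem_span_singleton'.1 hb
    refine ⟨Submodule.Quotient.mk a, Submodule.mem_top, ?_⟩
    show x • (Submodule.Quotient.mk a : A ⧸ 𝔞) = Submodule.Quotient.mk (a * x)
    rw [← Submodule.Quotient.mk_smul, smul_eq_mul, mul_comm]

/-- depth rises by one when a regular element is removed -/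
theorem extVan_quotient_of_regular (𝔞 : Ideal A) (x : A) (hx : x ∈ maximalIdeal A)
    (hreg : IsSMulRegular (A ⧸ 𝔞) x) (k : ℕ)
    (h : ExtVan A (k - 1) (A ⧸ (𝔞 ⊔ Ideal.span {x}))) : ExtVan A k (A ⧸ 𝔞) := by
  rcases subsingleton_or_nontrivial (A ⧸ 𝔞) with hs | hn
  · exact extVan_of_subsingleton k _
  · apply extVan_of_le_depth
    have h1 := le_depth_of_extVan _ _ h
    rw [← depth_congr (quotSMulTopQuotientEquiv 𝔞 x)] at h1
    rw [← depth_quotSMulTop_add_one A (A ⧸ 𝔞) hx hreg]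
    calc (k : ℕ∞) ≤ ((k - 1 : ℕ) : ℕ∞) + 1 := by
          have : k ≤ (k - 1) + 1 := by omega
          exact_mod_cast this
      _ ≤ _ := by gcongr

end local_

section cm

variable {S : Type u} [CommRing S] [IsNoetherianRing S] (J : Ideal S)
  (q : Ideal (S ⧸ J)) [q.IsPrime]

/-- a local ring of `S/J` is Cohen–Macaulay as soon as its depth over the local ring of `S` is
at least its dimension -/
theorem isCMLocal_of_extVan (k : ℕ)
    (hdepth : ExtVan (Localization.AtPrime (q.comap (Ideal.Quotient.mk J))) k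
      (Localization.AtPrime (q.comap (Ideal.Quotient.mk J)) ⧸
        J.map (algebraMap S (Localization.AtPrime (q.comap (Ideal.Quotient.mk J))))))
    (hdim : ringKrullDim (Localization.AtPrime (q.comap (Ideal.Quotient.mk J)) ⧸
        J.map (algebraMap S (Localization.AtPrime (q.comap (Ideal.Quotient.mk J))))) ≤ k) :
    LocCoh.IsCohenMacaulayLocalRing (Localization.AtPrime q) := by
  set A := Localization.AtPrime (q.comap (Ideal.Quotient.mk J)) with hA
  set B := A ⧸ J.map (algebraMap S A) with hB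
  let e1 : Localization.AtPrime q ≃+* B :=
    Groth.Agent.Lib.Helper49.CMQuot.localizationQuotientEquiv J q
  have : IsLocalRing B := e1.isLocalRing
  have : IsLocalHom (algebraMap A B) :=
    IsLocalHom.of_surjective _ Ideal.Quotient.mk_surjective
  have h1 : LocCoh.depth A B = LocCoh.depth B B :=
    Groth.Agent.Lib.Helper29.DepthFinite.depth_eq_of_isLocalHom A B B
  have h2 : LocCoh.depth (Localization.AtPrime q) (Localization.AtPrime q) = LocCoh.depth B B :=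
    Groth.Agent.Lib.Helper49.Serre.depth_eq_of_ringEquiv e1
  have h3 : ringKrullDim (Localization.AtPrime q) = ringKrullDim B :=
    ringKrullDim_eq_of_ringEquiv e1
  have h4 := le_depth_of_extVan _ _ hdepth
  have h5 := depth_le_supportDim B B
  rw [Module.supportDim_self_eq_ringKrullDim] at h5
  refine LocCoh.IsCohenMacaulayLocalRing.mk ?_
  rw [Module.supportDim_self_eq_ringKrullDim, h3, h2]
  apply le_antisymm
  · rw [← h1]
    exact hdim.trans (by exact_mod_cast h4)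
  · exact h5

end cm

end Groth.Agent.Lib.Helper28.CMAux
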