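import Groth.Agent.Lib.Helper49.CMQuot
import Groth.Agent.Lib.Helper28.CMAux2

/-!
# Cohen–Macaulay rings: quotient by a nonzerodivisor, transport along ring isomorphisms (helper28)
-/

set_option autoImplicit false
set_option linter.style.haveILetI false

universe u

namespace Groth.Agent.Lib.Helper28.CMRingAux

open IsLocalRing Groth.Agent.Lib.Helper49.CMQuot

theorem isCohenMacaulayRing_of_ringEquiv {A B : Type u} [CommRing A] [CommRing B] (e : A ≃+* B)
    (hB : LocCoh.IsCohenMacaulayRing B) : LocCoh.IsCohenMacaulayRing A := by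
  haveI : IsNoetherianRing B := hB.toIsNoetherian
  haveI : IsNoetherianRing A := isNoetherianRing_of_ringEquiv B e.symm
  refine LocCoh.IsCohenMacaulayRing.mk ?_
  intro p _
  set q : Ideal B := p.comap (e.symm : B →+* A) with hq
  haveI hqp : q.IsPrime := Ideal.IsPrime.comap _
  have H : p.primeCompl.map e.toMonoidHom = q.primeCompl := by
    ext b
    constructor
    · rintro ⟨a, ha, rfl⟩
      show e a ∉ q
      rw [hq, Ideal.mem_comap]
      show ¬ e.symm (e a) ∈ p
      rw [RingEquiv.symm_apply_apply]
      exact ha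
    · intro hb
      refine ⟨e.symm b, ?_, ?_⟩
      · exact hb
      · show e (e.symm b) = b
        rw [RingEquiv.apply_symm_apply]
  let e' : Localization.AtPrime p ≃+* Localization.AtPrime q :=
    IsLocalization.ringEquivOfRingEquiv (Localization.AtPrime p) (Localization.AtPrime q) e H
  have hq' := hB.isCohenMacaulayLocalRing_localization q
  have h1 := hq'.supportDim_eq_depth
  rw [Module.supportDim_self_eq_ringKrullDim] at h1
  refine LocCoh.IsCohenMacaulayLocalRing.mk ?_
  rw [Module.supportDim_self_eq_ringKrullDim]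
  exact isCM_of_ringEquiv e' h1

theorem isCohenMacaulayRing_quotient_span {R : Type u} [CommRing R]
    (hR : LocCoh.IsCohenMacaulayRing R) (y : R) (hy : y ∈ nonZeroDivisors R) :
    LocCoh.IsCohenMacaulayRing (R ⧸ Ideal.span {y}) := by
  haveI : IsNoetherianRing R := hR.toIsNoetherian
  refine LocCoh.IsCohenMacaulayRing.mk ?_
  intro q _
  set P : Ideal R := q.comap (Ideal.Quotient.mk (Ideal.span {y})) with hP
  set A := Localization.AtPrime P with hA
  have hAcm : LocCoh.IsCohenMacaulayLocalRing A := hR.isCohenMacaulayLocalRing_localization P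
  set y' : A := algebraMap R A y with hy'
  have hyP : y ∈ P := by
    show Ideal.Quotient.mk (Ideal.span {y}) y ∈ q
    have h0 : Ideal.Quotient.mk (Ideal.span {y}) y = 0 :=
      Ideal.Quotient.eq_zero_iff_mem.2 (Ideal.subset_span (Set.mem_singleton y))
    rw [h0]
    exact zero_mem _
  have hy'm : y' ∈ maximalIdeal A := (IsLocalization.AtPrime.to_map_mem_maximal_iff A P y).2 hyP
  have hy'nzd : y' ∈ nonZeroDivisors A :=
    IsLocalization.map_nonZeroDivisors_le P.primeCompl A (Submonoid.mem_map_of_mem _ hy)
  have hy'reg : IsSMulRegular A y' := by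
    intro a b hab
    have h1 : y' * (a - b) = 0 := by
      rw [mul_sub, sub_eq_zero]
      exact hab
    have h2 := (mem_nonZeroDivisors_iff.1 hy'nzd).1 (a - b) h1
    exact sub_eq_zero.1 h2
  let e1 : Localization.AtPrime q ≃+* A ⧸ (Ideal.span {y}).map (algebraMap R A) :=
    localizationQuotientEquiv (Ideal.span {y}) q
  have hmap : (Ideal.span {y}).map (algebraMap R A) = Ideal.span {y'} := by
    rw [Ideal.map_span, Set.image_singleton]
  let e2 : Localization.AtPrime q ≃+* A ⧸ Ideal.span {y'} :=
    e1.trans (Ideal.quotEquivOfEq hmap)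
  haveI : IsLocalRing (A ⧸ Ideal.span {y'}) := e2.isLocalRing
  have hcm := isCM_quotient_span_of_isSMulRegular A hAcm.supportDim_eq_depth hy'm hy'reg
  refine LocCoh.IsCohenMacaulayLocalRing.mk ?_
  rw [Module.supportDim_self_eq_ringKrullDim]
  exact isCM_of_ringEquiv e2 hcm

end Groth.Agent.Lib.Helper28.CMRingAux
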