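import Groth.Agent.Lib.Helper28.CMAux3

/-!
# Local rings of quotients at the image of a prime (helper28)

For a prime `P ⊇ I` of `S`, the local ring of `S/I` at `P/I` is `S_P / I S_P`.
-/

set_option autoImplicit false
set_option linter.style.haveILetI false
universe u

namespace Groth.Agent.Lib.Helper28.CMAux

open CategoryTheory Abelian IsLocalRing Pointwise
open Groth.Agent.Lib.Helper29 Groth.Agent.Lib.Helper29.DepthExt Groth.Agent.Lib.Helper29.DepthLib
open Groth.Agent.Lib.Helper29.CMLib

section locP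

variable {S : Type u} [CommRing S] (P : Ideal S) [P.IsPrime] (I : Ideal S)

theorem comap_map_mk_eq (hIP : I ≤ P) :
    (P.map (Ideal.Quotient.mk I)).comap (Ideal.Quotient.mk I) = P := by
  rw [Ideal.comap_map_of_surjective' _ Ideal.Quotient.mk_surjective, Ideal.mk_ker]
  exact sup_eq_left.2 hIP

theorem isPrime_map_mk (hIP : I ≤ P) : (P.map (Ideal.Quotient.mk I)).IsPrime := by
  apply Ideal.map_isPrime_of_surjective Ideal.Quotient.mk_surjective
  rw [Ideal.mk_ker]
  exact hIP

theorem algebraMapSubmonoid_primeCompl_eq' (hIP : I ≤ P) [(P.map (Ideal.Quotient.mk I)).IsPrime] :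
    Algebra.algebraMapSubmonoid (S ⧸ I) P.primeCompl =
      (P.map (Ideal.Quotient.mk I)).primeCompl := by
  ext x
  constructor
  · rintro ⟨a, ha, rfl⟩
    intro hmem
    apply ha
    have : a ∈ (P.map (Ideal.Quotient.mk I)).comap (Ideal.Quotient.mk I) := hmem
    rwa [comap_map_mk_eq P I hIP] at this
  · intro hx
    obtain ⟨a, rfl⟩ := Ideal.Quotient.mk_surjective x
    refine ⟨a, ?_, rfl⟩
    intro ha
    exact hx (Ideal.mem_map_of_mem _ ha)

theorem isLocalization_QP (hIP : I ≤ P) [(P.map (Ideal.Quotient.mk I)).IsPrime] :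
    IsLocalization.AtPrime (QP P I) (P.map (Ideal.Quotient.mk I)) := by
  have h : IsLocalization (Algebra.algebraMapSubmonoid (S ⧸ I) P.primeCompl) (QP P I) :=
    inferInstance
  rw [algebraMapSubmonoid_primeCompl_eq' P I hIP] at h
  exact h

/-- `(S/I)_{P/I} ≃ S_P / I S_P` -/
noncomputable def locEquivQP (hIP : I ≤ P) [(P.map (Ideal.Quotient.mk I)).IsPrime] :
    Localization.AtPrime (P.map (Ideal.Quotient.mk I)) ≃+* QP P I :=
  haveI := isLocalization_QP P I hIP
  (IsLocalization.algEquiv (P.map (Ideal.Quotient.mk I)).primeCompl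
    (Localization.AtPrime (P.map (Ideal.Quotient.mk I))) (QP P I)).toRingEquiv

theorem ringKrullDim_QP_eq' (hIP : I ≤ P) [(P.map (Ideal.Quotient.mk I)).IsPrime] :
    ringKrullDim (QP P I) = ringKrullDim (Localization.AtPrime (P.map (Ideal.Quotient.mk I))) :=
  (ringKrullDim_eq_of_ringEquiv (locEquivQP P I hIP)).symm

theorem ringKrullDim_QP_le (hIP : I ≤ P) [(P.map (Ideal.Quotient.mk I)).IsPrime] :
    ringKrullDim (QP P I) ≤ ringKrullDim (S ⧸ I) := by
  rw [ringKrullDim_QP_eq' P I hIP,
    IsLocalization.AtPrime.ringKrullDim_eq_height (P.map (Ideal.Quotient.mk I))]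
  exact Ideal.height_le_ringKrullDim_of_ne_top Ideal.IsPrime.ne_top'

/-- monotonicity in the ideal -/
theorem ringKrullDim_QP_anti {I J : Ideal S} (h : I ≤ J) :
    ringKrullDim (QP P J) ≤ ringKrullDim (QP P I) :=
  ringKrullDim_le_of_surjective
    (Ideal.Quotient.factor (Ideal.map_mono h)) (Ideal.Quotient.factor_surjective _)

variable [IsNoetherianRing S]

theorem depth_QP_eq' (hIP : I ≤ P) [(P.map (Ideal.Quotient.mk I)).IsPrime] :
    LocCoh.depth (Localization.AtPrime P) (QP P I) =
      LocCoh.depth (Localization.AtPrime (P.map (Ideal.Quotient.mk I)))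
        (Localization.AtPrime (P.map (Ideal.Quotient.mk I))) := by
  set A := Localization.AtPrime P with hA
  set B := A ⧸ I.map (algebraMap S A) with hB
  let e1 : Localization.AtPrime (P.map (Ideal.Quotient.mk I)) ≃+* B := locEquivQP P I hIP
  have : IsLocalRing B := e1.isLocalRing
  have : IsLocalHom (algebraMap A B) :=
    IsLocalHom.of_surjective _ Ideal.Quotient.mk_surjective
  have h1 : LocCoh.depth A B = LocCoh.depth B B :=
    Groth.Agent.Lib.Helper29.DepthFinite.depth_eq_of_isLocalHom A B B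
  have h2 : LocCoh.depth (Localization.AtPrime (P.map (Ideal.Quotient.mk I)))
      (Localization.AtPrime (P.map (Ideal.Quotient.mk I))) = LocCoh.depth B B :=
    Groth.Agent.Lib.Helper49.Serre.depth_eq_of_ringEquiv e1
  rw [h1, h2]

/-- if `S/I` is Cohen–Macaulay then `S_P/IS_P` has depth at least any lower bound of its dimension -/
theorem extVan_QP_of_isCM (hIP : I ≤ P) (hcm : LocCoh.IsCohenMacaulayRing (S ⧸ I)) (n : ℕ)
    (hn : (n : WithBot ℕ∞) ≤ ringKrullDim (QP P I)) :
    ExtVan (Localization.AtPrime P) n (QP P I) := by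
  haveI := isPrime_map_mk P I hIP
  apply extVan_of_le_depth
  have h1 := (hcm.isCohenMacaulayLocalRing_localization
    (P.map (Ideal.Quotient.mk I))).supportDim_eq_depth
  rw [Module.supportDim_self_eq_ringKrullDim, ← ringKrullDim_QP_eq' P I hIP,
    ← depth_QP_eq' P I hIP] at h1
  rw [h1] at hn
  exact_mod_cast hn

/-- the local ring at `P/I` is Cohen–Macaulay as soon as the depth of `S_P/IS_P` is at least its
dimension -/
theorem isCMLocal_of_extVan' (hIP : I ≤ P) [(P.map (Ideal.Quotient.mk I)).IsPrime] (k : ℕ)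
    (hdepth : ExtVan (Localization.AtPrime P) k (QP P I))
    (hdim : ringKrullDim (QP P I) ≤ k) :
    LocCoh.IsCohenMacaulayLocalRing (Localization.AtPrime (P.map (Ideal.Quotient.mk I))) ∧
      ringKrullDim (Localization.AtPrime (P.map (Ideal.Quotient.mk I))) = k := by
  set A := Localization.AtPrime P with hA
  set B := A ⧸ I.map (algebraMap S A) with hB
  set L := Localization.AtPrime (P.map (Ideal.Quotient.mk I)) with hL
  let e1 : L ≃+* B := locEquivQP P I hIP
  have : IsLocalRing B := e1.isLocalRing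
  have h2 : LocCoh.depth L L = LocCoh.depth A B := (depth_QP_eq' P I hIP).symm
  have h3 : ringKrullDim L = ringKrullDim B := ringKrullDim_eq_of_ringEquiv e1
  have h4 := le_depth_of_extVan _ _ hdepth
  have h5 := depth_le_supportDim L L
  rw [Module.supportDim_self_eq_ringKrullDim] at h5
  have h6 : ringKrullDim L ≤ ((LocCoh.depth L L : ℕ∞) : WithBot ℕ∞) := by
    rw [h3, h2]
    exact hdim.trans (by exact_mod_cast h4)
  have h7 : ringKrullDim L = ((LocCoh.depth L L : ℕ∞) : WithBot ℕ∞) := le_antisymm h6 h5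
  refine ⟨LocCoh.IsCohenMacaulayLocalRing.mk ?_, ?_⟩
  · rw [Module.supportDim_self_eq_ringKrullDim]
    exact h7
  · apply le_antisymm
    · rw [h3]
      exact hdim
    · rw [h7, h2]
      exact_mod_cast h4

end locP

end Groth.Agent.Lib.Helper28.CMAux
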