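import Groth.Agent.Lib.Helper28.RootPos

/-!
Action of automorphisms and of the Weyl group of a root datum on sets of roots.
-/

set_option autoImplicit false

namespace Groth.Agent.Lib.Helper28

open RootPairing Module Submodule Set RootD

variable {ι M N : Type*} [AddCommGroup M] [AddCommGroup N] (P : RootPairing ι ℤ M N)

section Aut

lemma aut_smul_def (u : P.Aut) (m : M) : u • m = u.weightMap m := rfl

lemma aut_root (u : P.Aut) (i : ι) : P.root (u • i) = u • P.root i :=
  Equiv.root_indexEquiv_eq_smul P i u

lemma aut_pairing_weightMap (u : P.Aut) (m : M) (n : N) :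
    P.toLinearMap (u.weightMap m) n = P.toLinearMap m (u.coweightMap n) := by
  have := Hom.weight_coweight_transpose_apply P P n u.toHom
  have h2 := congrArg (fun f => f m) this
  simpa using h2

lemma aut_coweightMap_coroot_smul (u : P.Aut) (i : ι) :
    u.coweightMap (P.coroot (u • i)) = P.coroot i := by
  have := Hom.coroot_coweightMap_apply P P (u • i) u.toHom
  rw [this]
  congr 1
  exact u.indexEquiv.symm_apply_apply i

/-- Automorphisms preserve the pairing between roots and coroots. -/
lemma aut_toLinearMap_smul (u : P.Aut) (m : M) (i : ι) :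
    P.toLinearMap (u • m) (P.coroot (u • i)) = P.toLinearMap m (P.coroot i) := by
  rw [aut_smul_def, aut_pairing_weightMap, aut_coweightMap_coroot_smul]

lemma aut_pairing (u : P.Aut) (i j : ι) : P.pairing (u • i) (u • j) = P.pairing i j := by
  change P.toLinearMap (P.root (u • i)) (P.coroot (u • j)) = P.toLinearMap (P.root i) (P.coroot j)
  rw [aut_root, aut_toLinearMap_smul]

lemma aut_smul_neg (u : P.Aut) (i : ι) :
    u • (P.reflectionPerm i i) = P.reflectionPerm (u • i) (u • i) := by
  apply P.root.injective
  rw [aut_root, root_neg, root_neg, aut_root, smul_neg]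

lemma aut_smul_mem_natSpan (u : P.Aut) {S : Set ι} {x : M} (hx : x ∈ natSpan P S) :
    u • x ∈ natSpan P ((fun i : ι => u • i) '' S) := by
  induction hx using AddSubmonoid.closure_induction with
  | mem x hx =>
    obtain ⟨i, hi, rfl⟩ := hx
    rw [← aut_root]
    exact root_mem_natSpan P (Set.mem_image_of_mem _ hi)
  | zero => rw [smul_zero]; exact zero_mem _
  | add x y _ _ hx hy => rw [smul_add]; exact add_mem hx hy

lemma aut_image_image (u v : P.Aut) (S : Set ι) :
    (fun i : ι => u • i) '' ((fun i : ι => v • i) '' S) = (fun i : ι => (u * v) • i) '' S := by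
  rw [Set.image_image]
  simp only [mul_smul]

lemma aut_image_one (S : Set ι) : (fun i : ι => (1 : P.Aut) • i) '' S = S := by
  simp

lemma aut_smul_mem_natSpan_iff (u : P.Aut) {S : Set ι} {x : M} :
    u • x ∈ natSpan P ((fun i : ι => u • i) '' S) ↔ x ∈ natSpan P S := by
  refine ⟨fun h => ?_, aut_smul_mem_natSpan P u⟩
  have := aut_smul_mem_natSpan P u⁻¹ h
  rwa [aut_image_image, inv_mul_cancel, aut_image_one, inv_smul_smul] at this

/-- Automorphisms carry simple systems to simple systems. -/
lemma aut_isSimpleSys (u : P.Aut) {Δ : Set ι} (hΔ : IsSimpleSys P Δ) :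
    IsSimpleSys P ((fun i : ι => u • i) '' Δ) where
  linInd := by
    refine LinearIndepOn.image_of_comp (fun i : ι => u • i) P.root ?_
    have h1 : (P.root ∘ fun i : ι => u • i) = (Equiv.weightEquiv P P u : M →ₗ[ℤ] M) ∘ P.root := by
      ext i
      simp only [Function.comp_apply]
      rw [aut_root]
      rfl
    rw [h1]
    exact hΔ.linInd.map_injOn _ (Equiv.weightEquiv P P u).injective.injOn
  mem_or_neg_mem := by
    intro i
    obtain ⟨j, rfl⟩ : ∃ j, i = u • j := ⟨u⁻¹ • i, by simp⟩
    rcases hΔ.mem_or_neg_mem j with h | h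
    · left
      rw [aut_root]
      exact aut_smul_mem_natSpan P u h
    · right
      rw [aut_root, ← smul_neg]
      exact aut_smul_mem_natSpan P u h

/-- Automorphisms carry positive systems to positive systems. -/
lemma aut_isPosSys (u : P.Aut) {S : Set ι} (hS : IsPosSys P S) :
    IsPosSys P ((fun i : ι => u • i) '' S) where
  disjoint := by
    rintro - ⟨i, hi, rfl⟩ ⟨j, hj, hj'⟩
    dsimp only at hj'
    rw [← aut_smul_neg] at hj'
    have := MulAction.injective u hj'
    exact hS.disjoint hi (this ▸ hj)
  cover := by
    intro i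
    obtain ⟨j, rfl⟩ : ∃ j, i = u • j := ⟨u⁻¹ • i, by simp⟩
    rcases hS.cover j with h | h
    · exact Or.inl (Set.mem_image_of_mem _ h)
    · right
      rw [← aut_smul_neg]
      exact Set.mem_image_of_mem _ h
  sat := by
    intro k n hn hk
    obtain ⟨j, rfl⟩ : ∃ j, k = u • j := ⟨u⁻¹ • k, by simp⟩
    refine Set.mem_image_of_mem _ (hS.sat n hn ?_)
    rw [aut_root, smul_comm n u] at hk
    exact (aut_smul_mem_natSpan_iff P u).mp hk

lemma aut_image_posOf (u : P.Aut) (Δ : Set ι) :
    (fun i : ι => u • i) '' (posOf P Δ) = posOf P ((fun i : ι => u • i) '' Δ) := by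
  ext k
  obtain ⟨j, rfl⟩ : ∃ j, k = u • j := ⟨u⁻¹ • k, by simp⟩
  constructor
  · rintro ⟨i, hi, hij⟩
    have : i = j := MulAction.injective u hij
    subst this
    change P.root (u • i) ∈ natSpan P ((fun i : ι => u • i) '' Δ)
    rw [aut_root]
    exact aut_smul_mem_natSpan P u hi
  · intro h
    refine Set.mem_image_of_mem _ ?_
    change P.root (u • j) ∈ natSpan P ((fun i : ι => u • i) '' Δ) at h
    rw [aut_root] at h
    exact (aut_smul_mem_natSpan_iff P u).mp h

end Aut

section SimpleReflection

variable {P}

/-- A simple reflection maps a positive root to a positive root, unless that root is a multiple of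
the simple root. -/
lemma reflectionPerm_mem_posOf_or {Δ : Set ι} (hΔ : IsSimpleSys P Δ) {i k : ι} (hi : i ∈ Δ)
    (hk : k ∈ posOf P Δ) :
    P.reflectionPerm i k ∈ posOf P Δ ∨ ∃ n : ℕ, P.root k = n • P.root i := by
  classical
  rcases hΔ.mem_or_neg_mem (P.reflectionPerm i k) with h | h
  · exact Or.inl h
  · right
    obtain ⟨c, hc, hck⟩ := (mem_natSpan_iff P Δ _).mp hk
    obtain ⟨d, hd, hdk⟩ := (mem_natSpan_iff P Δ _).mp h
    rw [P.root_reflectionPerm, P.reflection_apply_root] at hdk
    have hsum : natToInt c + natToInt d = Finsupp.single i (P.pairing k i) := by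
      refine intCoeff_unique P hΔ.linInd ?_ ?_ ?_
      · intro j hj
        have := Finsupp.support_add hj
        rw [support_natToInt, support_natToInt] at this
        rcases Finset.mem_union.mp this with h | h
        · exact hc h
        · exact hd h
      · intro j hj
        have := Finsupp.support_single_subset hj
        rw [Finset.mem_singleton] at this
        rw [this]; exact hi
      · rw [map_add, linearCombination_natToInt, linearCombination_natToInt, hck, hdk]
        simp
    have hc' : c = Finsupp.single i (c i) := by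
      ext j
      by_cases hj : j = i
      · subst hj; simp
      · rw [Finsupp.single_apply, if_neg (Ne.symm hj)]
        have := DFunLike.congr_fun hsum j
        rw [Finsupp.add_apply, natToInt_apply, natToInt_apply, Finsupp.single_apply,
          if_neg (Ne.symm hj)] at this
        omega
    refine ⟨c i, ?_⟩
    rw [← hck]
    conv_lhs => rw [hc']
    simp

lemma pairing_pos_iff [Finite ι] (i j : ι) : 0 < P.pairing i j ↔ 0 < P.pairing j i := by
  have := P.zero_lt_pairingIn_iff' ℤ (i := i) (j := j)
  rwa [pairingIn_int, pairingIn_int] at this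

/-- If a root `k` is a natural multiple `n • αᵢ` of a root then `n = 1` or `n = 2`. -/
lemma eq_one_or_two_of_root_eq_nsmul {i k : ι} {n : ℕ} (h : P.root k = n • P.root i) :
    n = 1 ∨ n = 2 := by
  have h1 := congrArg (P.coroot' k) h
  rw [map_nsmul, P.root_coroot'_eq_pairing, P.root_coroot'_eq_pairing, P.pairing_same,
    nsmul_eq_mul] at h1
  have hdvd : (n : ℤ) ∣ 2 := ⟨_, h1⟩
  have hdvd' : n ∣ 2 := by exact_mod_cast hdvd
  have hle := Nat.le_of_dvd (by norm_num) hdvd'
  have hn0 : n ≠ 0 := by
    rintro rfl
    simp at h1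
  omega

lemma reflection_smul_idx (i k : ι) : Equiv.reflection P i • k = P.reflectionPerm i k := rfl

variable [Finite ι]

/-- Induction principle for positive roots: every positive root is obtained from simple roots by
successively adding simple roots. -/
lemma posOf_induction {Δ : Set ι} (hΔ : IsSimpleSys P Δ) {p : ι → Prop} (hs : ∀ i ∈ Δ, p i)
    (hadd : ∀ k l j, l ∈ posOf P Δ → j ∈ Δ → P.root k = P.root l + P.root j → p l → p k) :
    ∀ k ∈ posOf P Δ, p k := by
  classical
  intro k hk
  obtain ⟨c, hc, hck⟩ := (mem_natSpan_iff P Δ _).mp hk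
  generalize hN : c.sum (fun _ n => n) = n
  induction n using Nat.strong_induction_on generalizing k c with
  | _ n ih =>
    by_cases hkΔ : k ∈ Δ
    · exact hs k hkΔ
    · obtain ⟨j, hj, -, l, hl, hkl⟩ := exists_simple_add_of_mem_posOf hΔ hk hkΔ
      obtain ⟨d, hd, hdl⟩ := (mem_natSpan_iff P Δ _).mp hl
      have hcd : c = d + Finsupp.single j 1 := by
        refine natCoeff_unique P hΔ.linInd hc ?_ ?_
        · intro x hx
          have := Finsupp.support_add hx
          rcases Finset.mem_union.mp this with h | h
          · exact hd h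
          · have := Finsupp.support_single_subset h
            rw [Finset.mem_singleton] at this
            rw [this]; exact hj
        · rw [map_add, hck, hdl, hkl]; simp
      have hlt : d.sum (fun _ n => n) < n := by
        rw [← hN, hcd, Finsupp.sum_add_index' (by simp) (by simp)]
        simp
      exact hadd k l j hl hj hkl (ih _ hlt l hl d hd hdl rfl)

/-- If `S` is a positive system and `P'` a closed set of roots containing each root or its opposite,
some element of the Weyl group maps `S` into `P'`. -/
theorem exists_weylGroup_image_subset {S : Set ι} (hS : IsPosSys P S) {P' : Set ι}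
    (hP2 : ∀ i : ι, i ∈ P' ∨ P.reflectionPerm i i ∈ P') (hcl : IsClosedSub P P') :
    ∃ g : P.Aut, g ∈ P.weylGroup ∧ (fun i : ι => g • i) '' S ⊆ P' := by
  generalize hn : (S \ P').ncard = n
  induction n using Nat.strong_induction_on generalizing S with
  | _ n ih =>
    by_cases hsub : S ⊆ P'
    · exact ⟨1, one_mem _, by rwa [aut_image_one]⟩
    · have hΔ := isSimpleSys_indec hS
      have hSeq : S = posOf P (indec P S) := IsPosSys_eq_posOf hS hΔ (indec_subset S)
      obtain ⟨δ, hδ, hδP⟩ : ∃ δ ∈ indec P S, δ ∉ P' := by
        by_contra hcon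
        push Not at hcon
        apply hsub
        intro k hk
        apply mem_of_root_mem_natSpan_of_isClosedSub P hcl
        exact natSpan_mono P hcon (root_mem_natSpan_indec hS hk)
      have hnegδ : P.reflectionPerm δ δ ∈ P' := (hP2 δ).resolve_left hδP
      set S₁ : Set ι := (fun i : ι => Equiv.reflection P δ • i) '' S with hS₁def
      have hS₁ : IsPosSys P S₁ := aut_isPosSys P _ hS
      have hsub₁ : S₁ \ P' ⊆ S \ P' := by
        rintro x ⟨⟨k, hk, rfl⟩, hx⟩
        refine ⟨?_, hx⟩
        dsimp only at hx ⊢
        rw [reflection_smul_idx] at hx ⊢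
        rw [hSeq] at hk
        rcases reflectionPerm_mem_posOf_or hΔ hδ hk with h | ⟨m, hm⟩
        · rw [hSeq]; exact h
        · exfalso
          apply hx
          apply mem_of_root_mem_natSpan_of_isClosedSub P hcl
          rw [P.root_reflectionPerm, hm, map_nsmul, P.reflection_apply_self, ← root_neg]
          exact AddSubmonoid.nsmul_mem _ (root_mem_natSpan P hnegδ) m
      have hne : S₁ \ P' ≠ S \ P' := by
        intro heq
        have hδ1 : δ ∈ S₁ \ P' := heq ▸ ⟨hδ.1, hδP⟩
        obtain ⟨k, hk, hkδ⟩ := hδ1.1
        dsimp only at hkδ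
        rw [reflection_smul_idx] at hkδ
        have : k = P.reflectionPerm δ δ := by
          have h2 := P.reflectionPerm_self δ k
          rw [hkδ] at h2
          exact h2.symm
        exact hS.disjoint hδ.1 (this ▸ hk)
      have hlt : (S₁ \ P').ncard < n := by
        rw [← hn]
        exact Set.ncard_lt_ncard (lt_of_le_of_ne hsub₁ hne) (Set.toFinite _)
      obtain ⟨g₁, hg₁, hg₁S⟩ := ih _ hlt hS₁ rfl
      refine ⟨g₁ * Equiv.reflection P δ, mul_mem hg₁ (P.reflection_mem_weylGroup δ), ?_⟩
      rwa [← aut_image_image]

/-- The Weyl group acts transitively on positive systems. -/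
theorem exists_weylGroup_image_eq_posSys {S S' : Set ι} (hS : IsPosSys P S) (hS' : IsPosSys P S') :
    ∃ g : P.Aut, g ∈ P.weylGroup ∧ (fun i : ι => g • i) '' S = S' := by
  have hcl : IsClosedSub P S' := by
    intro i j k hi hj hk
    refine hS'.sat 1 one_pos ?_
    rw [one_smul, hk]
    exact add_mem (root_mem_natSpan P hi) (root_mem_natSpan P hj)
  obtain ⟨g, hg, hgS⟩ := exists_weylGroup_image_subset hS hS'.cover hcl
  refine ⟨g, hg, Set.Subset.antisymm hgS ?_⟩
  have hgpos := aut_isPosSys P g hS
  intro k hk
  rcases hgpos.cover k with h | h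
  · exact h
  · exact absurd (hgS h) (hS'.disjoint hk)

/-- The Weyl group acts transitively on simple systems. -/
theorem exists_weylGroup_image_eq_simpleSys {Δ Δ' : Set ι} (hΔ : IsSimpleSys P Δ)
    (hΔ' : IsSimpleSys P Δ') :
    ∃ g : P.Aut, g ∈ P.weylGroup ∧ (fun i : ι => g • i) '' Δ = Δ' := by
  obtain ⟨g, hg, hgS⟩ := exists_weylGroup_image_eq_posSys (isPosSys_posOf hΔ) (isPosSys_posOf hΔ')
  refine ⟨g, hg, ?_⟩
  refine simpleSys_eq_of_subset_posSys (isPosSys_posOf hΔ') (aut_isSimpleSys P g hΔ) hΔ' ?_
    subset_posOf
  rw [← hgS]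
  exact Set.image_mono subset_posOf

end SimpleReflection

section Faithful

variable {P} [Finite ι]

/-- An element of the root lattice killed by all coroots vanishes. -/
lemma eq_zero_of_mem_span_of_forall_coroot {x : M} (hx : x ∈ span ℤ (range P.root))
    (h : ∀ i, P.toLinearMap x (P.coroot i) = 0) : x = 0 := by
  have : Fintype ι := Fintype.ofFinite ι
  refine P.eq_zero_of_mem_rootSpan_of_rootForm_self_eq_zero hx ?_
  rw [P.rootForm_apply_apply]
  refine Finset.sum_eq_zero fun i _ => ?_
  have : P.coroot' i x = 0 := h i
  rw [this, mul_zero]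

/-- An element with a positive multiple in the root lattice, killed by all coroots, vanishes. -/
lemma eq_zero_of_nsmul_mem_span_of_forall_coroot {x : M} {n : ℕ} (hn : 0 < n)
    (hx : n • x ∈ span ℤ (range P.root)) (h : ∀ i, P.toLinearMap x (P.coroot i) = 0) : x = 0 := by
  have h0 : n • x = 0 := by
    refine eq_zero_of_mem_span_of_forall_coroot hx fun i => ?_
    rw [map_nsmul, LinearMap.smul_apply, h i, smul_zero]
  have := isAddTorsionFree_weight P
  exact (nsmul_eq_zero_iff_right hn.ne').mp h0

/-- An automorphism fixing every root index fixes every element having a positive multiple of its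
displacement in the root lattice. -/
lemma aut_smul_eq_self_of_fix {u : P.Aut} (hfix : ∀ i : ι, u • i = i) {m : M} {n : ℕ} (hn : 0 < n)
    (hm : n • (u • m - m) ∈ span ℤ (range P.root)) : u • m = m := by
  rw [← sub_eq_zero]
  refine eq_zero_of_nsmul_mem_span_of_forall_coroot hn hm fun i => ?_
  rw [map_sub, LinearMap.sub_apply, sub_eq_zero]
  conv_lhs => rw [← hfix i]
  exact aut_toLinearMap_smul P u m i

omit [Finite ι] in
lemma aut_eq_one_of_forall_smul_eq {u : P.Aut} (h : ∀ m : M, u • m = m) : u = 1 := by
  apply Equiv.weightHom_injective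
  ext m
  exact h m

omit [Finite ι] in
/-- Elements of the Weyl group move every weight by an element of the root lattice. -/
lemma weylGroup_smul_sub_mem_span {g : P.Aut} (hg : g ∈ P.weylGroup) (m : M) :
    g • m - m ∈ span ℤ (range P.root) := by
  induction hg using weylGroup.induction generalizing m with
  | mem i =>
    rw [Equiv.reflection_smul, P.reflection_apply, sub_sub_cancel_left]
    exact Submodule.neg_mem _ (Submodule.smul_mem _ _ (Submodule.subset_span (mem_range_self i)))
  | one => simp
  | mul x y hx hy ihx ihy =>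
    have : (x * y) • m - m = (x • (y • m) - y • m) + (y • m - m) := by rw [mul_smul]; abel
    rw [this]
    exact Submodule.add_mem _ (ihx _) (ihy _)

/-- The Weyl group acts faithfully on the set of roots. -/
lemma weylGroup_eq_one_of_fix {g : P.Aut} (hg : g ∈ P.weylGroup) (hfix : ∀ i : ι, g • i = i) :
    g = 1 :=
  aut_eq_one_of_forall_smul_eq fun m =>
    aut_smul_eq_self_of_fix hfix one_pos (by rw [one_smul]; exact weylGroup_smul_sub_mem_span hg m)

end Faithful

end Groth.Agent.Lib.Helper28
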