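import Groth.Agent.Lib.Helper28.RootWeyl
import Groth.Agent.S5457
import Mathlib.Algebra.Order.Group.PiLex

set_option autoImplicit false
open RootPairing RootD

namespace Groth.Agent.Lib.Helper28

variable {ι M N : Type*} [AddCommGroup M] [AddCommGroup N] (P : RootPairing ι ℤ M N) [Finite ι]

/-- A root datum has a positive system. -/
theorem exists_isPosSys : ∃ S : Set ι, IsPosSys P S := by
  classical
  have : Fintype ι := Fintype.ofFinite ι
  let e : ι ≃ Fin (Fintype.card ι) := Fintype.equivFin ι
  let φ : M →+ Lex (Fin (Fintype.card ι) → ℤ) :=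
    AddMonoidHom.mk' (fun m => toLex (fun j => P.toLinearMap m (P.coroot (e.symm j)))) (by
      intro a b
      rw [← toLex_add]
      congr 1
      ext j
      simp)
  have hφ : ∀ i : ι, 0 < φ (P.root i) ∨ φ (P.root i) < 0 := by
    intro i
    have hne : φ (P.root i) ≠ 0 := by
      intro h0
      have := congrFun (congrArg ofLex h0) (e i)
      simp only [φ, AddMonoidHom.mk'_apply, ofLex_toLex, Equiv.symm_apply_apply,
        P.root_coroot_eq_pairing, P.pairing_same] at this
      change (2 : ℤ) = 0 at this
      norm_num at this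
    rcases lt_or_gt_of_ne hne with h | h
    · exact Or.inr h
    · exact Or.inl h
  exact ⟨_, Groth.Agent.S5457.result P φ hφ⟩

theorem exists_isSimpleSys : ∃ Δ : Set ι, IsSimpleSys P Δ := by
  obtain ⟨S, hS⟩ := exists_isPosSys P
  exact ⟨_, isSimpleSys_indec hS⟩


end Groth.Agent.Lib.Helper28
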