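import Mathlib

set_option autoImplicit false
set_option linter.unusedSectionVars false
open LieAlgebra LieModule

namespace Groth.Agent.Lib.Helper28.AdjVar

variable {ι : Type*} {K : Type*} {L : Type*} [Fintype ι] [Field K] [CharZero K]
    [IsAlgClosed K] [LieRing L] [LieAlgebra K L] [FiniteDimensional K L] [LieAlgebra.IsSimple K L]
    {H : LieSubalgebra K L} [H.IsCartanSubalgebra] (b : LieAlgebra.Basis ι H)

/-- root space as a plain submodule -/
abbrev RS (H : LieSubalgebra K L) [H.IsCartanSubalgebra] (χ : H → K) : Submodule K L :=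
  (rootSpace H χ : Submodule K L)

lemma iSupIndep_RS : iSupIndep (RS H) :=
  LieSubmodule.iSupIndep_toSubmodule.mpr <| iSupIndep_genWeightSpace K H L

lemma e_mem (i : ι) : b.e i ∈ rootSpace H (b.baseSupp i) :=
  (mem_genWeightSpace _ _ _).mpr fun x ↦ ⟨1, by simp⟩

lemma f_mem (i : ι) : b.f i ∈ rootSpace H (-b.baseSupp i) :=
  (mem_genWeightSpace _ _ _).mpr fun x ↦ ⟨1, by simp [← eq_neg_iff_add_eq_zero]⟩

lemma h_mem (i : ι) : b.h i ∈ H := (b.h' i).property

lemma lie_h_f' (i : ι) (x : H) : ⁅(x : L), b.f i⁆ = -(b.baseSupp i x • b.f i) := by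
  have := b.baseSupp_apply_smul_f i x
  rw [this, neg_neg]; rfl

lemma lie_h_e' (i : ι) (x : H) : ⁅(x : L), b.e i⁆ = b.baseSupp i x • b.e i := by
  have := b.baseSupp_apply_smul_e i x
  rw [this]; rfl

/-- the smallest submodule containing `v` and stable under all `ad (f i)` -/
def fClosure (v : L) : Submodule K L :=
  sInf {N | v ∈ N ∧ ∀ i, ∀ x ∈ N, ⁅b.f i, x⁆ ∈ N}

lemma mem_fClosure_self (v : L) : v ∈ fClosure b v := by
  simp only [fClosure, Submodule.mem_sInf]; intro N hN; exact hN.1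

lemma f_lie_mem_fClosure {v x : L} (i : ι) (hx : x ∈ fClosure b v) :
    ⁅b.f i, x⁆ ∈ fClosure b v := by
  simp only [fClosure, Submodule.mem_sInf] at hx ⊢
  intro N hN; exact hN.2 i x (hx N hN)

lemma fClosure_le {v : L} {N : Submodule K L} (hv : v ∈ N)
    (hN : ∀ i, ∀ x ∈ N, ⁅b.f i, x⁆ ∈ N) : fClosure b v ≤ N := sInf_le ⟨hv, hN⟩

lemma cartan_lie_mem_fClosure {v : L} (hv : ∀ h : H, ⁅(h : L), v⁆ ∈ fClosure b v)
    {x : L} (hx : x ∈ fClosure b v) (h : H) : ⁅(h : L), x⁆ ∈ fClosure b v := by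
  let N : Submodule K L :=
    { carrier := {x | x ∈ fClosure b v ∧ ∀ h : H, ⁅(h : L), x⁆ ∈ fClosure b v}
      add_mem' := fun {x y} hx hy => ⟨add_mem hx.1 hy.1, fun h => by
        rw [lie_add]; exact add_mem (hx.2 h) (hy.2 h)⟩
      zero_mem' := ⟨zero_mem _, fun h => by simp⟩
      smul_mem' := fun c x hx => ⟨Submodule.smul_mem _ c hx.1, fun h => by
        rw [lie_smul]; exact Submodule.smul_mem _ c (hx.2 h)⟩ }
  have hle : fClosure b v ≤ N := by
    apply fClosure_le
    · exact ⟨mem_fClosure_self b v, hv⟩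
    · rintro i x ⟨hx1, hx2⟩
      refine ⟨f_lie_mem_fClosure b i hx1, fun h => ?_⟩
      rw [leibniz_lie, lie_h_f', neg_lie, smul_lie]
      exact add_mem (neg_mem (Submodule.smul_mem _ _ (f_lie_mem_fClosure b i hx1)))
        (f_lie_mem_fClosure b i (hx2 h))
  exact (hle hx).2 h

lemma e_lie_mem_fClosure {v : L} (hv : ∀ h : H, ⁅(h : L), v⁆ ∈ fClosure b v)
    (hev : ∀ i, ⁅b.e i, v⁆ = 0)
    {x : L} (hx : x ∈ fClosure b v) (i : ι) : ⁅b.e i, x⁆ ∈ fClosure b v := by
  classical
  let N : Submodule K L :=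
    { carrier := {x | x ∈ fClosure b v ∧ ∀ i, ⁅b.e i, x⁆ ∈ fClosure b v}
      add_mem' := fun {x y} hx hy => ⟨add_mem hx.1 hy.1, fun h => by
        rw [lie_add]; exact add_mem (hx.2 h) (hy.2 h)⟩
      zero_mem' := ⟨zero_mem _, fun h => by simp⟩
      smul_mem' := fun c x hx => ⟨Submodule.smul_mem _ c hx.1, fun h => by
        rw [lie_smul]; exact Submodule.smul_mem _ c (hx.2 h)⟩ }
  have hle : fClosure b v ≤ N := by
    apply fClosure_le
    · exact ⟨mem_fClosure_self b v, fun i => by rw [hev i]; exact zero_mem _⟩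
    · rintro k x ⟨hx1, hx2⟩
      refine ⟨f_lie_mem_fClosure b k hx1, fun i => ?_⟩
      rw [leibniz_lie]
      refine add_mem ?_ (f_lie_mem_fClosure b k (hx2 i))
      by_cases hik : i = k
      · subst hik
        rw [(b.sl2 i).lie_e_f]
        exact cartan_lie_mem_fClosure b hv hx1 (b.h' i)
      · rw [b.lie_e_f_ne i k hik, zero_lie]; exact zero_mem _
  exact (hle hx).2 i

/-- the stabiliser of a subspace as a Lie subalgebra -/
def stab (F : Submodule K L) : LieSubalgebra K L :=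
  { carrier := {y | ∀ x ∈ F, ⁅y, x⁆ ∈ F}
    add_mem' := fun {y z} hy hz x hx => by rw [add_lie]; exact add_mem (hy x hx) (hz x hx)
    zero_mem' := fun x _ => by simp
    smul_mem' := fun c y hy x hx => by rw [smul_lie]; exact Submodule.smul_mem _ c (hy x hx)
    lie_mem' := fun {y z} hy hz x hx => by
      rw [lie_lie]; exact sub_mem (hy _ (hz x hx)) (hz _ (hy x hx)) }

lemma mem_stab {F : Submodule K L} {y : L} : y ∈ stab F ↔ ∀ x ∈ F, ⁅y, x⁆ ∈ F := Iff.rfl

lemma fClosure_eq_top {v : L} (hv0 : v ≠ 0) (hv : ∀ h : H, ⁅(h : L), v⁆ ∈ fClosure b v)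
    (hev : ∀ i, ⁅b.e i, v⁆ = 0) : fClosure b v = ⊤ := by
  have hstab : stab (fClosure b v) = ⊤ := by
    rw [eq_top_iff, ← b.span_ef, LieSubalgebra.lieSpan_le]
    rintro y (⟨i, rfl⟩ | ⟨i, rfl⟩)
    · exact fun x hx => e_lie_mem_fClosure b hv hev hx i
    · exact fun x hx => f_lie_mem_fClosure b i hx
  let I : LieIdeal K L :=
    { fClosure b v with
      lie_mem := fun {y x} hx => by
        have : y ∈ stab (fClosure b v) := by rw [hstab]; trivial
        exact this x hx }
  rcases LieAlgebra.IsSimple.eq_bot_or_eq_top I with h | h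
  · exfalso
    have : v ∈ I := mem_fClosure_self b v
    rw [h] at this
    exact hv0 (by simpa using this)
  · have : (I : Submodule K L) = ⊤ := by rw [h]; rfl
    exact this

end Groth.Agent.Lib.Helper28.AdjVar
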