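import Mathlib

set_option autoImplicit false
set_option linter.unusedSectionVars false
open LieAlgebra LieModule

namespace Groth.Agent.Lib.Helper28.AdjVar

section Abstract

variable {K : Type*} {𝔤 : Type*} [Field K] [CharZero K] [LieRing 𝔤] [LieAlgebra K 𝔤]

/-- an ideal containing `e` of an `sl₂`-triple contains the triple -/
lemma sl2_mem_of_e_mem {h e f : 𝔤} (t : IsSl2Triple h e f) (J : LieIdeal K 𝔤) (he : e ∈ J) :
    h ∈ J ∧ f ∈ J := by
  have hh : h ∈ J := by rw [← t.lie_e_f]; exact lie_mem_left K 𝔤 J e f he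
  refine ⟨hh, ?_⟩
  have h1 : ⁅h, f⁆ ∈ J := lie_mem_left K 𝔤 J h f hh
  rw [t.lie_lie_smul_f K] at h1
  have h2 := J.smul_mem (-(2⁻¹ : K)) h1
  rw [smul_neg, neg_smul, neg_neg, smul_smul, inv_mul_cancel₀ two_ne_zero, one_smul] at h2
  exact h2

/-- a solvable ideal does not contain `e` of an `sl₂`-triple -/
lemma e_notMem_of_isSolvable {h e f : 𝔤} (t : IsSl2Triple h e f) (J : LieIdeal K 𝔤)
    [hJ : IsSolvable J] : e ∉ J := by
  intro he
  obtain ⟨hh, hf⟩ := sl2_mem_of_e_mem t J he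
  obtain ⟨k, hk⟩ := IsSolvable.solvable K J
  rw [LieIdeal.derivedSeries_eq_bot_iff] at hk
  have key : ∀ k, e ∈ derivedSeriesOfIdeal K 𝔤 k J ∧ f ∈ derivedSeriesOfIdeal K 𝔤 k J ∧
      h ∈ derivedSeriesOfIdeal K 𝔤 k J := by
    intro k
    induction k with
    | zero => exact ⟨he, hf, hh⟩
    | succ k ih =>
      rw [derivedSeriesOfIdeal_succ]
      obtain ⟨h1, h2, h3⟩ := ih
      refine ⟨?_, ?_, ?_⟩
      · have h4 : ⁅h, e⁆ ∈ ⁅derivedSeriesOfIdeal K 𝔤 k J, derivedSeriesOfIdeal K 𝔤 k J⁆ :=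
          LieSubmodule.lie_mem_lie h3 h1
        rw [t.lie_h_e_smul K] at h4
        have h5 := Submodule.smul_mem (⁅derivedSeriesOfIdeal K 𝔤 k J, derivedSeriesOfIdeal K 𝔤 k J⁆ : LieIdeal K 𝔤).toSubmodule (2⁻¹ : K) h4
        rwa [smul_smul, inv_mul_cancel₀ two_ne_zero, one_smul] at h5
      · have h4 : ⁅h, f⁆ ∈ ⁅derivedSeriesOfIdeal K 𝔤 k J, derivedSeriesOfIdeal K 𝔤 k J⁆ :=
          LieSubmodule.lie_mem_lie h3 h2
        rw [t.lie_lie_smul_f K] at h4
        have h5 := Submodule.smul_mem (⁅derivedSeriesOfIdeal K 𝔤 k J, derivedSeriesOfIdeal K 𝔤 k J⁆ : LieIdeal K 𝔤).toSubmodule (-(2⁻¹ : K)) h4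
        rwa [smul_neg, neg_smul, neg_neg, smul_smul, inv_mul_cancel₀ two_ne_zero, one_smul] at h5
      · rw [← t.lie_e_f]
        exact LieSubmodule.lie_mem_lie h1 h2
  have := (key k).1
  rw [hk] at this
  exact t.e_ne_zero (by simpa using this)

/-- if a Lie algebra is spanned modulo an abelian ideal `I` by an `sl₂`-triple, its radical is
`I` -/
theorem radical_eq_of_sl2 [IsNoetherian K 𝔤] {h e f : 𝔤} (t : IsSl2Triple h e f)
    (I : LieIdeal K 𝔤) (hI : ∀ x ∈ I, ∀ y ∈ I, ⁅x, y⁆ = 0)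
    (hsp : ∀ z : 𝔤, ∃ a c d : K, z - (a • e + c • f + d • h) ∈ I) :
    LieAlgebra.radical K 𝔤 = I := by
  have hIab : IsLieAbelian I := ⟨fun x y => Subtype.ext (hI x x.2 y y.2)⟩
  have hIle : I ≤ radical K 𝔤 := (LieIdeal.solvable_iff_le_radical K 𝔤 I).mp inferInstance
  refine le_antisymm ?_ hIle
  have he : e ∉ radical K 𝔤 := e_notMem_of_isSolvable t _
  have heh : ⁅e, h⁆ = -((2 : K) • e) := by rw [← lie_skew, t.lie_h_e_smul K]
  intro z hz
  obtain ⟨a, c, d, hzI⟩ := hsp z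
  have hs : a • e + c • f + d • h ∈ radical K 𝔤 := by
    have := sub_mem hz (hIle hzI)
    simpa using this
  have h1 : ⁅e, a • e + c • f + d • h⁆ = c • h - (2 * d) • e := by
    simp only [lie_add, lie_smul, lie_self, t.lie_e_f, heh, smul_zero, zero_add, smul_neg,
      smul_smul]
    rw [mul_comm, sub_eq_add_neg]
  have h2 : ⁅e, c • h - (2 * d) • e⁆ = -((2 * c) • e) := by
    simp only [lie_sub, lie_smul, lie_self, heh, smul_zero, sub_zero, smul_neg, smul_smul]
    rw [mul_comm]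
  have hm1 : c • h - (2 * d) • e ∈ radical K 𝔤 := by
    rw [← h1]; exact lie_mem_right K 𝔤 _ e _ hs
  have hm2 : (2 * c) • e ∈ radical K 𝔤 := by
    have := lie_mem_right K 𝔤 (radical K 𝔤) e _ hm1
    rw [h2] at this
    simpa using this
  have smul_e : ∀ r : K, r • e ∈ radical K 𝔤 → r = 0 := by
    intro r hr
    by_contra hr0
    apply he
    have := (radical K 𝔤).smul_mem r⁻¹ hr
    rwa [smul_smul, inv_mul_cancel₀ hr0, one_smul] at this
  have hc : c = 0 := by
    have := smul_e _ hm2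
    simpa using this
  have hd : d = 0 := by
    rw [hc, zero_smul, zero_sub] at hm1
    have := smul_e _ (by simpa using hm1)
    simpa using this
  have ha : a = 0 := by
    rw [hc, hd, zero_smul, zero_smul, add_zero, add_zero] at hs
    exact smul_e _ hs
  rw [ha, hc, hd] at hzI
  simpa using hzI

end Abstract

end Groth.Agent.Lib.Helper28.AdjVar
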