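import Groth.Agent.Lib.Helper28.AdjVar10
import Groth.Agent.Lib.Helper28.AdjVar1

set_option autoImplicit false
set_option linter.unusedSectionVars false
open LieAlgebra LieModule

namespace Groth.Agent.Lib.Helper28.AdjVar

section FiveDim

variable {K : Type*} {L : Type*} [Field K] [CharZero K] [LieRing L] [LieAlgebra K L]

lemma forall_fin5 {P : Fin 5 → Prop} (h0 : P 0) (h1 : P 1) (h2 : P 2) (h3 : P 3) (h4 : P 4) :
    ∀ i, P i := by
  intro i; fin_cases i <;> assumption

/-- `y` stabilises the span of a family if it maps each member into the span -/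
lemma mem_stab_span {ι : Type*} (v : ι → L) (y : L)
    (h : ∀ i, ⁅y, v i⁆ ∈ Submodule.span K (Set.range v)) :
    y ∈ stab (Submodule.span K (Set.range v)) := by
  intro x hx
  induction hx using Submodule.span_induction with
  | mem x hx => obtain ⟨i, rfl⟩ := hx; exact h i
  | zero => simp
  | add x z _ _ hx hz => rw [lie_add]; exact add_mem hx hz
  | smul c x _ hx => rw [lie_smul]; exact Submodule.smul_mem _ c hx

/-- the intersection of a subspace with its stabiliser is a Lie subalgebra -/
def stabInf (V : Submodule K L) : LieSubalgebra K L :=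
  { V ⊓ (stab V).toSubmodule with
    lie_mem' := fun {x y} hx hy => ⟨hx.2 y hy.1, (stab V).lie_mem hx.2 hy.2⟩ }

lemma mem_stabInf {V : Submodule K L} {x : L} : x ∈ stabInf V ↔ x ∈ V ∧ x ∈ stab V := Iff.rfl

variable [FiniteDimensional K L]

theorem five_dim_main {h e f X Y : L} {μ : K} (t : IsSl2Triple h e f)
    (heX : ⁅e, X⁆ = 0) (hfX : ⁅f, X⁆ = Y) (heY : ⁅e, Y⁆ = μ • X) (hfY : ⁅f, Y⁆ = 0)
    (hhX : ⁅h, X⁆ = μ • X) (hXY : ⁅X, Y⁆ = 0)
    (hli : LinearIndependent K ![e, f, h, X, Y])
    (A : LieSubalgebra K L) (G : Set L) (hA : A = LieSubalgebra.lieSpan K L G)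
    (hG : ∀ g ∈ G, ∃ a c x : K, g = a • e + c • f + x • X)
    (heG : e ∈ G) (hfG : f ∈ G) (hXG : X ∈ G) :
    Module.finrank K A = 5 ∧ Module.finrank K (LieAlgebra.radical K A) = 2 ∧
      (LieAlgebra.radical K A).toSubmodule.map (A.incl : A →ₗ⁅K⁆ L).toLinearMap =
        Submodule.span K (Set.range ![X, Y]) := by
  set v : Fin 5 → L := ![e, f, h, X, Y] with hv
  set V : Submodule K L := Submodule.span K (Set.range v) with hV
  set R : Submodule K L := Submodule.span K (Set.range ![X, Y]) with hR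
  have heh : ⁅e, h⁆ = -((2 : K) • e) := by rw [← lie_skew, t.lie_h_e_smul K]
  have hfh : ⁅f, h⁆ = (2 : K) • f := by rw [← lie_skew, t.lie_lie_smul_f K, neg_neg]
  have hfe : ⁅f, e⁆ = -h := by rw [← lie_skew, t.lie_e_f]
  have hXe : ⁅X, e⁆ = 0 := by rw [← lie_skew, heX, neg_zero]
  have hXf : ⁅X, f⁆ = -Y := by rw [← lie_skew, hfX]
  have hXh : ⁅X, h⁆ = -(μ • X) := by rw [← lie_skew, hhX]
  have hYX : ⁅Y, X⁆ = 0 := by rw [← lie_skew, hXY, neg_zero]
  have hvV : ∀ i, v i ∈ V := fun i => Submodule.subset_span (Set.mem_range_self i)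
  have heV : e ∈ V := hvV 0
  have hfV : f ∈ V := hvV 1
  have hhV : h ∈ V := hvV 2
  have hXV : X ∈ V := hvV 3
  have hYV : Y ∈ V := hvV 4
  have hXR : X ∈ R := Submodule.subset_span ⟨0, rfl⟩
  have hYR : Y ∈ R := Submodule.subset_span ⟨1, rfl⟩
  -- stabiliser facts
  have he_st : e ∈ stab V := by
    apply mem_stab_span
    apply forall_fin5
    · change ⁅e, e⁆ ∈ V; rw [lie_self]; exact zero_mem _
    · change ⁅e, f⁆ ∈ V; rw [t.lie_e_f]; exact hhV
    · change ⁅e, h⁆ ∈ V; rw [heh]; exact neg_mem (Submodule.smul_mem _ _ heV)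
    · change ⁅e, X⁆ ∈ V; rw [heX]; exact zero_mem _
    · change ⁅e, Y⁆ ∈ V; rw [heY]; exact Submodule.smul_mem _ _ hXV
  have hf_st : f ∈ stab V := by
    apply mem_stab_span
    apply forall_fin5
    · change ⁅f, e⁆ ∈ V; rw [hfe]; exact neg_mem hhV
    · change ⁅f, f⁆ ∈ V; rw [lie_self]; exact zero_mem _
    · change ⁅f, h⁆ ∈ V; rw [hfh]; exact Submodule.smul_mem _ _ hfV
    · change ⁅f, X⁆ ∈ V; rw [hfX]; exact hYV
    · change ⁅f, Y⁆ ∈ V; rw [hfY]; exact zero_mem _
  have hX_st : X ∈ stab V := by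
    apply mem_stab_span
    apply forall_fin5
    · change ⁅X, e⁆ ∈ V; rw [hXe]; exact zero_mem _
    · change ⁅X, f⁆ ∈ V; rw [hXf]; exact neg_mem hYV
    · change ⁅X, h⁆ ∈ V; rw [hXh]; exact neg_mem (Submodule.smul_mem _ _ hXV)
    · change ⁅X, X⁆ ∈ V; rw [lie_self]; exact zero_mem _
    · change ⁅X, Y⁆ ∈ V; rw [hXY]; exact zero_mem _
  -- `A = V`
  have hAle : A ≤ stabInf V := by
    rw [hA, LieSubalgebra.lieSpan_le]
    intro g hg
    obtain ⟨a, c, x, rfl⟩ := hG g hg
    have h1 : e ∈ stabInf V := ⟨heV, he_st⟩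
    have h2 : f ∈ stabInf V := ⟨hfV, hf_st⟩
    have h3 : X ∈ stabInf V := ⟨hXV, hX_st⟩
    exact add_mem (add_mem ((stabInf V).smul_mem a h1) ((stabInf V).smul_mem c h2))
      ((stabInf V).smul_mem x h3)
  have heA : e ∈ A := by rw [hA]; exact LieSubalgebra.subset_lieSpan heG
  have hfA : f ∈ A := by rw [hA]; exact LieSubalgebra.subset_lieSpan hfG
  have hXA : X ∈ A := by rw [hA]; exact LieSubalgebra.subset_lieSpan hXG
  have hhA : h ∈ A := by rw [← t.lie_e_f]; exact A.lie_mem heA hfA
  have hYA : Y ∈ A := by rw [← hfX]; exact A.lie_mem hfA hXA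
  have hAV : A.toSubmodule = V := by
    apply le_antisymm
    · intro x hx; exact (hAle hx).1
    · rw [hV, Submodule.span_le, Set.range_subset_iff]
      apply forall_fin5
      · exact heA
      · exact hfA
      · exact hhA
      · exact hXA
      · exact hYA
  have hRA : R ≤ A.toSubmodule := by
    rw [hR, Submodule.span_le, Set.range_subset_iff]
    intro i; fin_cases i
    · exact hXA
    · exact hYA
  have hfin5 : Module.finrank K A = 5 := by
    change Module.finrank K A.toSubmodule = 5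
    rw [hAV, hV, finrank_span_eq_card hli]; simp
  have hfin2 : Module.finrank K R = 2 := by
    have hli2 : LinearIndependent K ![X, Y] := by
      have := hli.comp ![3, 4] (by decide)
      convert this using 1
      funext i; fin_cases i <;> rfl
    rw [hR, finrank_span_eq_card hli2]; simp
  -- `R` is stable under `A`
  have hRst : ∀ y ∈ A, y ∈ stab R := by
    have h1 : e ∈ stab R := by
      apply mem_stab_span
      intro i; fin_cases i
      · change ⁅e, X⁆ ∈ R; rw [heX]; exact zero_mem _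
      · change ⁅e, Y⁆ ∈ R; rw [heY]; exact Submodule.smul_mem _ _ hXR
    have h2 : f ∈ stab R := by
      apply mem_stab_span
      intro i; fin_cases i
      · change ⁅f, X⁆ ∈ R; rw [hfX]; exact hYR
      · change ⁅f, Y⁆ ∈ R; rw [hfY]; exact zero_mem _
    have h3 : X ∈ stab R := by
      apply mem_stab_span
      intro i; fin_cases i
      · change ⁅X, X⁆ ∈ R; rw [lie_self]; exact zero_mem _
      · change ⁅X, Y⁆ ∈ R; rw [hXY]; exact zero_mem _
    have : A ≤ stab R := by
      rw [hA, LieSubalgebra.lieSpan_le]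
      intro g hg
      obtain ⟨a, c, x, rfl⟩ := hG g hg
      exact add_mem (add_mem ((stab R).smul_mem a h1) ((stab R).smul_mem c h2))
        ((stab R).smul_mem x h3)
    exact fun y hy => this hy
  -- `R` is abelian
  have hRab : ∀ x ∈ R, ∀ y ∈ R, ⁅x, y⁆ = 0 := by
    have key : ∀ x ∈ R, ∀ i, ⁅x, ![X, Y] i⁆ = 0 := by
      intro x hx
      induction hx using Submodule.span_induction with
      | mem x hx =>
        obtain ⟨k, rfl⟩ := hx
        intro i
        fin_cases k <;> fin_cases i
        · exact lie_self X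
        · exact hXY
        · exact hYX
        · exact lie_self Y
      | zero => intro i; simp
      | add x z _ _ hx hz => intro i; rw [add_lie, hx i, hz i, add_zero]
      | smul c x _ hx => intro i; rw [smul_lie, hx i, smul_zero]
    intro x hx y hy
    induction hy using Submodule.span_induction with
    | mem y hy => obtain ⟨i, rfl⟩ := hy; exact key x hx i
    | zero => simp
    | add y z _ _ hy hz => rw [lie_add, hy, hz, add_zero]
    | smul c y _ hy => rw [lie_smul, hy, smul_zero]
  -- the ideal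
  let I : LieIdeal K A :=
    { R.comap A.toSubmodule.subtype with
      lie_mem := fun {x m} hm => by
        change ((⁅x, m⁆ : A) : L) ∈ R
        rw [LieSubalgebra.coe_bracket]
        exact hRst x x.2 m hm }
  have hImem : ∀ z : A, z ∈ I ↔ (z : L) ∈ R := fun z => Iff.rfl
  have t' : IsSl2Triple (⟨h, hhA⟩ : A) ⟨e, heA⟩ ⟨f, hfA⟩ :=
    { h_ne_zero := fun h0 => t.h_ne_zero (congrArg Subtype.val h0)
      lie_e_f := Subtype.ext t.lie_e_f
      lie_h_e_nsmul := Subtype.ext (by
        rw [LieSubalgebra.coe_bracket]; simpa using t.lie_h_e_nsmul)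
      lie_h_f_nsmul := Subtype.ext (by
        rw [LieSubalgebra.coe_bracket]; simpa using t.lie_h_f_nsmul) }
  have hrad : LieAlgebra.radical K A = I := by
    apply radical_eq_of_sl2 t' I
    · intro x hx y hy
      apply Subtype.ext
      rw [LieSubalgebra.coe_bracket]
      exact hRab x hx y hy
    · intro z
      have hz : (z : L) ∈ V := by rw [← hAV]; exact z.2
      obtain ⟨c, hc⟩ := (Submodule.mem_span_range_iff_exists_fun K).mp hz
      rw [Fin.sum_univ_five] at hc
      refine ⟨c 0, c 1, c 2, ?_⟩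
      rw [hImem]
      have : ((z - (c 0 • (⟨e, heA⟩ : A) + c 1 • (⟨f, hfA⟩ : A) + c 2 • (⟨h, hhA⟩ : A)) : A) : L)
          = c 3 • X + c 4 • Y := by
        push_cast
        rw [← hc]
        change c 0 • e + c 1 • f + c 2 • h + c 3 • X + c 4 • Y - (c 0 • e + c 1 • f + c 2 • h) = _
        abel
      rw [this]
      exact add_mem (Submodule.smul_mem _ _ hXR) (Submodule.smul_mem _ _ hYR)
  have hmap : (LieAlgebra.radical K A).toSubmodule.map (A.incl : A →ₗ⁅K⁆ L).toLinearMap = R := by
    rw [hrad]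
    change (R.comap A.toSubmodule.subtype).map A.toSubmodule.subtype = R
    rw [Submodule.map_comap_subtype, inf_eq_right]
    exact hRA
  refine ⟨hfin5, ?_, hmap⟩
  have hinj : Function.Injective (A.incl : A →ₗ⁅K⁆ L).toLinearMap := by
    intro x y hxy; exact Subtype.ext hxy
  have := (Submodule.equivMapOfInjective _ hinj (LieAlgebra.radical K A).toSubmodule).finrank_eq
  rw [hmap, hfin2] at this
  exact this

end FiveDim

end Groth.Agent.Lib.Helper28.AdjVar
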