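import Groth.Agent.Lib.Helper28.AdjVar9
import Groth.Agent.Lib.Helper28.AdjVar11

set_option autoImplicit false
set_option linter.unusedSectionVars false
open LieAlgebra LieModule

namespace Groth.Agent.Lib.Helper28.AdjVar

lemma injective_fin5 {α : Type*} (w : Fin 5 → α) (h01 : w 0 ≠ w 1) (h02 : w 0 ≠ w 2)
    (h03 : w 0 ≠ w 3) (h04 : w 0 ≠ w 4) (h12 : w 1 ≠ w 2) (h13 : w 1 ≠ w 3) (h14 : w 1 ≠ w 4)
    (h23 : w 2 ≠ w 3) (h24 : w 2 ≠ w 4) (h34 : w 3 ≠ w 4) : Function.Injective w := by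
  intro a c hac
  fin_cases a <;> fin_cases c <;>
    first
    | rfl
    | exact absurd hac h01 | exact absurd hac h02 | exact absurd hac h03 | exact absurd hac h04
    | exact absurd hac h12 | exact absurd hac h13 | exact absurd hac h14
    | exact absurd hac h23 | exact absurd hac h24 | exact absurd hac h34
    | exact absurd hac.symm h01 | exact absurd hac.symm h02 | exact absurd hac.symm h03
    | exact absurd hac.symm h04
    | exact absurd hac.symm h12 | exact absurd hac.symm h13 | exact absurd hac.symm h14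
    | exact absurd hac.symm h23 | exact absurd hac.symm h24 | exact absurd hac.symm h34

variable {ι : Type*} {K : Type*} {L : Type*} [Fintype ι] [Field K] [CharZero K]
    [IsAlgClosed K] [LieRing L] [LieAlgebra K L] [FiniteDimensional K L] [LieAlgebra.IsSimple K L]
    {H : LieSubalgebra K L} [H.IsCartanSubalgebra] {b : LieAlgebra.Basis ι H}
    {ρ : Module.Dual K H} {j : ι}

lemma ne_of_apply_ne {χ ψ : H → K} (x : H) (h : χ x ≠ ψ x) : χ ≠ ψ :=
  fun e => h (congr_fun e x)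

namespace Setup

theorem conic_line (S : Setup b ρ j) (A : LieSubalgebra K L)
    (hA : A = LieSubalgebra.lieSpan K L
      ((rootSpace H (⇑ρ : H → K) : Set L) ∪ (rootSpace H (-⇑ρ : H → K) : Set L) ∪
        (rootSpace H (⇑ρ - ⇑(b.baseSupp j) : H → K) : Set L))) :
    Module.finrank K A = 5 ∧ Module.finrank K (LieAlgebra.radical K A) = 2 ∧
      (LieAlgebra.radical K A).toSubmodule.map (A.incl : A →ₗ⁅K⁆ L).toLinearMap =
        (rootSpace H (⇑ρ - ⇑(b.baseSupp j) : H → K) : Submodule K L) ⊔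
          (rootSpace H (-⇑(b.baseSupp j) : H → K) : Submodule K L) := by
  classical
  have _i : IsAddTorsionFree L := .of_isTorsionFree K L
  have hβwt : (⇑ρ - ⇑(b.baseSupp j) : H → K) = wt b ρ (Pi.single j 1) := coe_sub_eq ρ j
  have hβne : rootSpace H (⇑ρ - ⇑(b.baseSupp j) : H → K) ≠ ⊥ := by
    rw [hβwt]; exact S.ne_bot_single_j
  have hβ0 : (⇑ρ - ⇑(b.baseSupp j) : H → K) ≠ 0 := by rw [hβwt]; exact S.wt_single_j_ne_zero
  have hρnz : S.rhoW.IsNonZero := by
    intro hz
    apply S.rho_ne_zero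
    funext x
    exact congr_fun hz x
  obtain ⟨h, e, f, t, he, hf⟩ := IsKilling.exists_isSl2Triple_of_weight_isNonZero hρnz
  have hh : h = ((IsKilling.coroot S.rhoW : H) : L) := t.h_eq_coroot hρnz he hf
  rw [coe_rhoW] at he hf
  obtain ⟨X, hX, hX0⟩ := exists_ne_zero_mem hβne
  have hαne : rootSpace H (-⇑(b.baseSupp j) : H → K) ≠ ⊥ := by
    intro h0
    have := f_mem b j
    rw [h0] at this
    exact (b.sl2 j).f_ne_zero (by simpa using this)
  have hYmem : ⁅f, X⁆ ∈ rootSpace H (-⇑(b.baseSupp j) : H → K) := by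
    have := lie_mem_genWeightSpace_of_mem_genWeightSpace hf hX
    have e1 : (-⇑ρ + (⇑ρ - ⇑(b.baseSupp j)) : H → K) = -⇑(b.baseSupp j) := by abel
    rwa [e1] at this
  have h2ρ : rootSpace H (⇑ρ + (⇑ρ - ⇑(b.baseSupp j)) : H → K) = ⊥ := S.two_rho_sub_eq_bot
  have heX : ⁅e, X⁆ = 0 := by
    have this : ⁅e, X⁆ ∈ rootSpace H (⇑ρ + (⇑ρ - ⇑(b.baseSupp j)) : H → K) :=
      lie_mem_genWeightSpace_of_mem_genWeightSpace he hX
    rw [h2ρ] at this
    simpa using this
  have hfY : ⁅f, ⁅f, X⁆⁆ = 0 := by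
    have this : ⁅f, ⁅f, X⁆⁆ ∈ rootSpace H (-⇑ρ + -⇑(b.baseSupp j) : H → K) :=
      lie_mem_genWeightSpace_of_mem_genWeightSpace hf hYmem
    rw [S.neg_rho_sub_eq_bot] at this
    simpa using this
  have hXY : ⁅X, ⁅f, X⁆⁆ = 0 := by
    have this : ⁅X, ⁅f, X⁆⁆ ∈
        rootSpace H ((⇑ρ - ⇑(b.baseSupp j)) + -⇑(b.baseSupp j) : H → K) :=
      lie_mem_genWeightSpace_of_mem_genWeightSpace hX hYmem
    have e1 : ((⇑ρ - ⇑(b.baseSupp j)) + -⇑(b.baseSupp j) : H → K) = wt b ρ (Pi.single j 2) := by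
      funext x
      simp only [wt_apply, Pi.add_apply, Pi.sub_apply, Pi.neg_apply, sum_single_mul]
      push_cast; ring
    rw [e1, S.eq_bot_single_j_two] at this
    simpa using this
  have hhX : ⁅h, X⁆ = (⇑ρ - ⇑(b.baseSupp j) : H → K) (IsKilling.coroot S.rhoW) • X := by
    rw [hh]; exact lie_cartan_eq_smul hX _
  have heY : ⁅e, ⁅f, X⁆⁆ = (⇑ρ - ⇑(b.baseSupp j) : H → K) (IsKilling.coroot S.rhoW) • X := by
    rw [leibniz_lie, t.lie_e_f, heX, lie_zero, add_zero, hhX]
  -- the chain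
  let βW : Weight K H L := ⟨(⇑ρ - ⇑(b.baseSupp j) : H → K), hβne⟩
  obtain ⟨m, hm, hn⟩ := chain_top S.rhoW βW hρnz h2ρ
  have hm' : (⇑ρ - ⇑(b.baseSupp j) : H → K) (IsKilling.coroot S.rhoW) = (m : K) := hm
  have hm1 : 1 ≤ m := by
    have := (hn (-1)).mp (by
      have e1 : ((-1 : ℤ) • ⇑S.rhoW + ⇑βW : H → K) = -⇑(b.baseSupp j) := by
        change (-1 : ℤ) • ⇑ρ + (⇑ρ - ⇑(b.baseSupp j)) = -⇑(b.baseSupp j)
        funext x
        simp only [Pi.add_apply, Pi.sub_apply, Pi.neg_apply, neg_smul, one_smul]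
        ring
      rw [e1]; exact hαne)
    omega
  have hμ0 : (⇑ρ - ⇑(b.baseSupp j) : H → K) (IsKilling.coroot S.rhoW) ≠ 0 := by
    rw [hm']; exact_mod_cast (by omega : m ≠ 0)
  have hY0 : ⁅f, X⁆ ≠ 0 := by
    intro h0
    rw [h0, lie_zero] at heY
    exact hX0 ((smul_eq_zero.mp heY.symm).resolve_left hμ0)
  -- values of the weights
  have v1 : ρ (b.h' j) = 1 := S.hj
  have v3 : b.baseSupp j (b.h' j) = 2 := by
    rw [b.baseSupp_apply_h', b.A_diag_eq_two]; norm_num
  have w1 : ρ (IsKilling.coroot S.rhoW) = 2 := IsKilling.root_apply_coroot hρnz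
  have hhmem : h ∈ rootSpace H (0 : H → K) := by
    rw [hh]; exact toLieSubmodule_le_rootSpace_zero K L H (IsKilling.coroot S.rhoW).2
  -- linear independence
  have hχinj : Function.Injective
      (![(⇑ρ : H → K), -⇑ρ, 0, ⇑ρ - ⇑(b.baseSupp j), -⇑(b.baseSupp j)] : Fin 5 → (H → K)) := by
    apply injective_fin5
    · exact ne_of_apply_ne (b.h' j) (by
        change ρ (b.h' j) ≠ -ρ (b.h' j); rw [v1]; norm_num)
    · exact ne_of_apply_ne (b.h' j) (by
        change ρ (b.h' j) ≠ 0; rw [v1]; norm_num)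
    · exact ne_of_apply_ne (b.h' j) (by
        change ρ (b.h' j) ≠ ρ (b.h' j) - b.baseSupp j (b.h' j); rw [v1, v3]; norm_num)
    · exact ne_of_apply_ne (b.h' j) (by
        change ρ (b.h' j) ≠ -b.baseSupp j (b.h' j); rw [v1, v3]; norm_num)
    · exact ne_of_apply_ne (b.h' j) (by
        change -ρ (b.h' j) ≠ 0; rw [v1]; norm_num)
    · exact ne_of_apply_ne (IsKilling.coroot S.rhoW) (by
        change -ρ (IsKilling.coroot S.rhoW) ≠
          (⇑ρ - ⇑(b.baseSupp j) : H → K) (IsKilling.coroot S.rhoW)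
        rw [hm', w1]
        intro h2
        have : ((m + 2 : ℕ) : K) = 0 := by push_cast; linear_combination -h2
        have := Nat.cast_eq_zero.mp this
        omega)
    · exact ne_of_apply_ne (b.h' j) (by
        change -ρ (b.h' j) ≠ -b.baseSupp j (b.h' j); rw [v1, v3]; norm_num)
    · exact ne_of_apply_ne (b.h' j) (by
        change (0 : K) ≠ ρ (b.h' j) - b.baseSupp j (b.h' j); rw [v1, v3]; norm_num)
    · exact ne_of_apply_ne (b.h' j) (by
        change (0 : K) ≠ -b.baseSupp j (b.h' j); rw [v3]; norm_num)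
    · exact ne_of_apply_ne (b.h' j) (by
        change ρ (b.h' j) - b.baseSupp j (b.h' j) ≠ -b.baseSupp j (b.h' j); rw [v1, v3]; norm_num)
  have hind := (iSupIndep_RS (H := H)).comp hχinj
  have hli : LinearIndependent K ![e, f, h, X, ⁅f, X⁆] := by
    apply hind.linearIndependent
    · apply forall_fin5
      · exact he
      · exact hf
      · exact hhmem
      · exact hX
      · exact hYmem
    · apply forall_fin5
      · exact t.e_ne_zero
      · exact t.f_ne_zero
      · exact t.h_ne_zero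
      · exact hX0
      · exact hY0
  -- one-dimensionality
  have d1 : Module.finrank K (RS H (⇑ρ : H → K)) = 1 := finrank_RS_eq_one S.hρ S.rho_ne_zero
  have d2 : Module.finrank K (RS H (-⇑ρ : H → K)) = 1 :=
    finrank_RS_eq_one (neg_ne_bot S.hρ) (neg_ne_zero.mpr S.rho_ne_zero)
  have d3 : Module.finrank K (RS H (⇑ρ - ⇑(b.baseSupp j) : H → K)) = 1 :=
    finrank_RS_eq_one hβne hβ0
  have hα0 : (-⇑(b.baseSupp j) : H → K) ≠ 0 := by
    intro h0
    have := congr_fun h0 (b.h' j)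
    rw [Pi.neg_apply, v3] at this
    norm_num at this
  have d4 : Module.finrank K (RS H (-⇑(b.baseSupp j) : H → K)) = 1 :=
    finrank_RS_eq_one hαne hα0
  obtain ⟨r1, r2, r3⟩ := five_dim_main t heX rfl heY hfY hhX hXY hli A _ hA
    (by
      rintro g ((hg | hg) | hg)
      · obtain ⟨s, rfl⟩ := exists_smul_of_finrank_one d1 he t.e_ne_zero hg
        exact ⟨s, 0, 0, by simp⟩
      · obtain ⟨s, rfl⟩ := exists_smul_of_finrank_one d2 hf t.f_ne_zero hg
        exact ⟨0, s, 0, by simp⟩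
      · obtain ⟨s, rfl⟩ := exists_smul_of_finrank_one d3 hX hX0 hg
        exact ⟨0, 0, s, by simp⟩)
    (Or.inl (Or.inl he)) (Or.inl (Or.inr hf)) (Or.inr hX)
  refine ⟨r1, r2, ?_⟩
  rw [r3]
  apply le_antisymm
  · rw [Submodule.span_le, Set.range_subset_iff]
    intro i; fin_cases i
    · exact Submodule.mem_sup_left hX
    · exact Submodule.mem_sup_right hYmem
  · apply sup_le
    · intro w hw
      obtain ⟨s, rfl⟩ := exists_smul_of_finrank_one d3 hX hX0 hw
      exact Submodule.smul_mem _ _ (Submodule.subset_span ⟨0, rfl⟩)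
    · intro w hw
      obtain ⟨s, rfl⟩ := exists_smul_of_finrank_one d4 hYmem hY0 hw
      exact Submodule.smul_mem _ _ (Submodule.subset_span ⟨1, rfl⟩)

end Setup

end Groth.Agent.Lib.Helper28.AdjVar
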