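import Groth.Agent.Lib.Helper28.AdjVar1

set_option autoImplicit false
set_option linter.unusedSectionVars false
open LieAlgebra LieModule

namespace Groth.Agent.Lib.Helper28.AdjVar

variable {ι : Type*} {K : Type*} {L : Type*} [Fintype ι] [Field K] [CharZero K]
    [IsAlgClosed K] [LieRing L] [LieAlgebra K L] [FiniteDimensional K L] [LieAlgebra.IsSimple K L]
    {H : LieSubalgebra K L} [H.IsCartanSubalgebra] (b : LieAlgebra.Basis ι H)

/-- the function `χ - Σ n_i α_i` -/
noncomputable def below (χ : H → K) (n : ι → ℕ) : H → K := fun h => χ h - ∑ i, (n i : K) * b.baseSupp i h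

lemma below_zero (χ : H → K) : below b χ 0 = χ := by
  funext h; simp [below]

lemma neg_add_below [DecidableEq ι] (χ : H → K) (n : ι → ℕ) (k : ι) :
    (-⇑(b.baseSupp k)) + below b χ n = below b χ (n + Pi.single k 1) := by
  funext h
  simp only [below, Pi.add_apply, Pi.neg_apply, Nat.cast_add, add_mul, Finset.sum_add_distrib]
  have : ∑ i, ((Pi.single k 1 : ι → ℕ) i : K) * b.baseSupp i h = b.baseSupp k h := by
    rw [Finset.sum_eq_single k]
    · simp
    · intro i _ hik; simp [hik]
    · intro hk; exact absurd (Finset.mem_univ k) hk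
  rw [this]; ring

lemma lie_cartan_eq_smul {v : L} {χ : H → K} (hv : v ∈ rootSpace H χ) (h : H) :
    ⁅(h : L), v⁆ = χ h • v :=
  LieAlgebra.IsKilling.lie_eq_smul_of_mem_rootSpace hv h

theorem exists_below_of_highest {v : L} {χ : H → K} (hv0 : v ≠ 0) (hv : v ∈ rootSpace H χ)
    (hev : ∀ i, ⁅b.e i, v⁆ = 0) {μ : H → K} (hμ : rootSpace H μ ≠ ⊥) :
    ∃ n : ι → ℕ, μ = below b χ n := by
  classical
  have hH : ∀ h : H, ⁅(h : L), v⁆ ∈ fClosure b v := fun h => by
    rw [lie_cartan_eq_smul hv h]; exact Submodule.smul_mem _ _ (mem_fClosure_self b v)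
  have htop := fClosure_eq_top b hv0 hH hev
  have hle : fClosure b v ≤ ⨆ n : ι → ℕ, RS H (below b χ n) := by
    apply fClosure_le
    · apply Submodule.mem_iSup_of_mem (0 : ι → ℕ)
      rw [below_zero]; exact hv
    · intro k x hx
      induction hx using Submodule.iSup_induction' with
      | mem n y hy =>
        apply Submodule.mem_iSup_of_mem (n + Pi.single k 1)
        have := lie_mem_genWeightSpace_of_mem_genWeightSpace (f_mem b k) hy
        rw [neg_add_below] at this
        exact this
      | zero => simp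
      | add y z _ _ hy hz => rw [lie_add]; exact add_mem hy hz
  rw [htop, top_le_iff] at hle
  have h2 : ⨆ μ ∈ Set.range (below b χ), RS H μ = ⊤ := by
    rw [iSup_range]; exact hle
  have hμ' : RS H μ ≠ ⊥ := by
    intro h; apply hμ
    exact (LieSubmodule.toSubmodule_eq_bot _).mp h
  obtain ⟨n, hn⟩ := (iSupIndep_RS (H := H)).mem_of_biSup_eq_top h2 hμ'
  exact ⟨n, hn.symm⟩


/-- `χ - Σ c_k α_k` as a function on `H`, with integer coefficients -/
noncomputable def wt (χ : H → K) (c : ι → ℤ) : H → K :=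
  fun h => χ h - ∑ k, (c k : K) * b.baseSupp k h

lemma wt_apply (χ : H → K) (c : ι → ℤ) (h : H) :
    wt b χ c h = χ h - ∑ k, (c k : K) * b.baseSupp k h := rfl

lemma wt_zero (χ : H → K) : wt b χ 0 = χ := by
  funext h; simp [wt]

lemma below_eq_wt (χ : H → K) (n : ι → ℕ) : below b χ n = wt b χ (fun k => (n k : ℤ)) := by
  funext h; simp [below, wt]

lemma coeff_eq_zero_of_sum_eq_zero (c : ι → K)
    (hc : ∀ h : H, ∑ i, c i * b.baseSupp i h = 0) : c = 0 := by
  have := Fintype.linearIndependent_iff.mp b.linearIndependent_baseSupp c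
    (by ext h; simpa using hc h)
  exact funext this

lemma wt_injective {χ : H → K} {c c' : ι → ℤ} (h : wt b χ c = wt b χ c') : c = c' := by
  have h0 : (fun k => ((c k : K) - (c' k : K))) = 0 := by
    apply coeff_eq_zero_of_sum_eq_zero b
    intro x
    have := congr_fun h x
    simp only [wt] at this
    simp only [sub_mul, Finset.sum_sub_distrib]
    linear_combination -this
  funext k
  have := congr_fun h0 k
  simp only [Pi.zero_apply, sub_eq_zero] at this
  exact_mod_cast this

lemma sum_single_mul [DecidableEq ι] (k : ι) (z : ℤ) (g : ι → K) :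
    ∑ i, (((Pi.single k z : ι → ℤ) i : ℤ) : K) * g i = (z : K) * g k := by
  rw [Finset.sum_eq_single k]
  · simp
  · intro i _ hik; simp [hik]
  · intro hk; exact absurd (Finset.mem_univ k) hk

lemma wt_add (χ : H → K) (c c' : ι → ℤ) : wt b (wt b χ c) c' = wt b χ (c + c') := by
  funext h
  simp only [wt, Pi.add_apply, Int.cast_add, add_mul, Finset.sum_add_distrib]
  ring

lemma add_wt [DecidableEq ι] (χ : H → K) (c : ι → ℤ) (k : ι) :
    ⇑(b.baseSupp k) + wt b χ c = wt b χ (c - Pi.single k 1) := by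
  funext h
  simp only [wt, Pi.add_apply, Pi.sub_apply, Int.cast_sub, sub_mul, Finset.sum_sub_distrib,
    sum_single_mul]
  simp; ring

lemma neg_add_wt [DecidableEq ι] (χ : H → K) (c : ι → ℤ) (k : ι) :
    (-⇑(b.baseSupp k)) + wt b χ c = wt b χ (c + Pi.single k 1) := by
  funext h
  simp only [wt, Pi.add_apply, Pi.neg_apply, Int.cast_add, add_mul, Finset.sum_add_distrib,
    sum_single_mul]
  simp; ring

lemma e_lie_mem_wt [DecidableEq ι] {χ : H → K} {c : ι → ℤ} {x : L}
    (hx : x ∈ rootSpace H (wt b χ c)) (k : ι) :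
    ⁅b.e k, x⁆ ∈ rootSpace H (wt b χ (c - Pi.single k 1)) := by
  have := lie_mem_genWeightSpace_of_mem_genWeightSpace (e_mem b k) hx
  rwa [add_wt] at this

lemma f_lie_mem_wt [DecidableEq ι] {χ : H → K} {c : ι → ℤ} {x : L}
    (hx : x ∈ rootSpace H (wt b χ c)) (k : ι) :
    ⁅b.f k, x⁆ ∈ rootSpace H (wt b χ (c + Pi.single k 1)) := by
  have := lie_mem_genWeightSpace_of_mem_genWeightSpace (f_mem b k) hx
  rwa [neg_add_wt] at this

end Groth.Agent.Lib.Helper28.AdjVar
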