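import Groth.Agent.Lib.Helper28.AdjVar2

set_option autoImplicit false
set_option linter.unusedSectionVars false
open LieAlgebra LieModule

namespace Groth.Agent.Lib.Helper28.AdjVar

variable {ι : Type*} {K : Type*} {L : Type*} [Fintype ι] [Field K] [CharZero K]
    [IsAlgClosed K] [LieRing L] [LieAlgebra K L] [FiniteDimensional K L] [LieAlgebra.IsSimple K L]
    {H : LieSubalgebra K L} [H.IsCartanSubalgebra] (b : LieAlgebra.Basis ι H)

/-- the simple root `α_k` as a weight -/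
noncomputable def aw (k : ι) : Weight K H L :=
  ((b.baseSupportEquiv k : b.base.support) : H.root)

lemma coe_aw (k : ι) : (⇑(aw b k) : H → K) = ⇑(b.baseSupp k) := rfl

lemma coroot_aw (k : ι) : IsKilling.coroot (aw b k) = b.h' k := b.coroot_eq_h' k

lemma aw_isNonZero (k : ι) : (aw b k).IsNonZero :=
  LieSubalgebra.isNonZero_coe_root ((b.baseSupportEquiv k : b.base.support) : H.root)

/-- root strings in the direction of a simple root, through a weight `β` with `β + α_k` not a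
weight. -/
lemma chain_simple (k : ι) (β : Weight K H L)
    (htop : rootSpace H (⇑(b.baseSupp k) + ⇑β) = ⊥) :
    ∃ m : ℕ, β (b.h' k) = (m : K) ∧
      ∀ n : ℤ, (rootSpace H (n • ⇑(b.baseSupp k) + ⇑β) ≠ ⊥ ↔ (n ≤ 0 ∧ -n ≤ m)) := by
  have hα := aw_isNonZero b k
  have h1 := IsKilling.rootSpace_zsmul_add_ne_bot_iff (aw b k) β hα
  have htop0 : chainTopCoeff (aw b k) β = 0 := by
    by_contra hne
    have : rootSpace H ((1 : ℤ) • ⇑(aw b k) + ⇑β) ≠ ⊥ := by
      rw [h1]; constructor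
      · have : 1 ≤ chainTopCoeff (⇑(aw b k)) β := Nat.one_le_iff_ne_zero.mpr hne
        exact_mod_cast this
      · have : (0 : ℤ) ≤ chainBotCoeff (⇑(aw b k)) β := Int.natCast_nonneg _
        linarith
    rw [one_smul, coe_aw] at this
    exact this htop
  refine ⟨chainBotCoeff (aw b k) β, ?_, fun n => ?_⟩
  · have := IsKilling.apply_coroot_eq_cast (aw b k) β
    rw [coroot_aw, htop0] at this
    rw [this]; simp
  · have := h1 n
    rw [htop0] at this
    rw [coe_aw] at this ⊢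
    rw [this]; simp


/-- the standing hypotheses of the AdjVar statements -/
structure Setup (b : LieAlgebra.Basis ι H) (ρ : Module.Dual K H) (j : ι) : Prop where
  hρ : rootSpace H ρ ≠ ⊥
  htop : ∀ i, rootSpace H (ρ + b.baseSupp i) = ⊥
  hN : ∀ i, ρ (b.h' i) ≠ 0 ↔ i = j
  hj : ρ (b.h' j) = 1

variable {b} {ρ : Module.Dual K H} {j : ι}

namespace Setup

lemma coe_add_eq [DecidableEq ι] (ρ : Module.Dual K H) (i : ι) :
    (⇑(ρ + b.baseSupp i) : H → K) = wt b ρ (-Pi.single i 1) := by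
  funext h
  simp only [wt, LinearMap.add_apply, Pi.neg_apply, Int.cast_neg, neg_mul,
    Finset.sum_neg_distrib, sum_single_mul]
  simp

lemma htop' [DecidableEq ι] (S : Setup b ρ j) (i : ι) :
    rootSpace H (wt b ρ (-Pi.single i 1)) = ⊥ := by
  rw [← coe_add_eq]; exact S.htop i

lemma e_lie_eq_zero (S : Setup b ρ j) {v : L} (hv : v ∈ rootSpace H ρ) (i : ι) :
    ⁅b.e i, v⁆ = 0 := by
  classical
  have hv' : v ∈ rootSpace H (wt b ρ 0) := by rw [wt_zero]; exact hv
  have := e_lie_mem_wt b hv' i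
  rw [zero_sub, S.htop' i] at this
  simpa using this

lemma exists_wt (S : Setup b ρ j) {μ : H → K} (hμ : rootSpace H μ ≠ ⊥) :
    ∃ c : ι → ℤ, (∀ k, 0 ≤ c k) ∧ μ = wt b ρ c := by
  obtain ⟨v, hv, hv0⟩ : ∃ v ∈ rootSpace H ρ, v ≠ 0 := by
    have := S.hρ
    rw [Ne, LieSubmodule.eq_bot_iff] at this
    push Not at this
    exact this
  obtain ⟨n, hn⟩ := exists_below_of_highest b hv0 hv (S.e_lie_eq_zero hv) hμ
  exact ⟨fun k => (n k : ℤ), fun k => Int.natCast_nonneg _, by rw [hn, below_eq_wt]⟩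

lemma nonneg_of_ne_bot (S : Setup b ρ j) {c : ι → ℤ} (h : rootSpace H (wt b ρ c) ≠ ⊥) (k : ι) :
    0 ≤ c k := by
  obtain ⟨c', hc', he⟩ := S.exists_wt h
  rw [wt_injective b he]; exact hc' k

lemma eq_bot_of_neg (S : Setup b ρ j) {c : ι → ℤ} {k : ι} (hk : c k < 0) :
    rootSpace H (wt b ρ c) = ⊥ := by
  by_contra h
  exact absurd (S.nonneg_of_ne_bot h k) (not_le.mpr hk)

lemma eq_zero_of_highest (S : Setup b ρ j) {c : ι → ℤ} {v : L} (hv0 : v ≠ 0)
    (hv : v ∈ rootSpace H (wt b ρ c)) (hev : ∀ i, ⁅b.e i, v⁆ = 0) : c = 0 := by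
  have hne : rootSpace H (wt b ρ c) ≠ ⊥ := by
    intro h; rw [h] at hv; exact hv0 (by simpa using hv)
  have hc := S.nonneg_of_ne_bot hne
  obtain ⟨n, hn⟩ := exists_below_of_highest b hv0 hv hev S.hρ
  rw [below_eq_wt, wt_add] at hn
  have h0 : (0 : ι → ℤ) = c + fun k => (n k : ℤ) := by
    apply wt_injective b (χ := ⇑ρ)
    rw [wt_zero]; exact hn
  funext k
  have h1 := congr_fun h0 k
  have h2 := hc k
  have h3 : (0 : ℤ) ≤ (n k : ℤ) := Int.natCast_nonneg _
  simp only [Pi.zero_apply, Pi.add_apply] at h1 ⊢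
  omega

end Setup

end Groth.Agent.Lib.Helper28.AdjVar
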