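import Groth.Agent.Lib.Helper28.AdjVar3

set_option autoImplicit false
set_option linter.unusedSectionVars false
open LieAlgebra LieModule

namespace Groth.Agent.Lib.Helper28.AdjVar

variable {ι : Type*} {K : Type*} {L : Type*} [Fintype ι] [Field K] [CharZero K]
    [IsAlgClosed K] [LieRing L] [LieAlgebra K L] [FiniteDimensional K L] [LieAlgebra.IsSimple K L]
    {H : LieSubalgebra K L} [H.IsCartanSubalgebra] {b : LieAlgebra.Basis ι H}
    {ρ : Module.Dual K H} {j : ι}

lemma finrank_RS_eq_one {χ : H → K} (h : rootSpace H χ ≠ ⊥) (h0 : χ ≠ 0) :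
    Module.finrank K (RS H χ) = 1 := by
  let α : Weight K H L := ⟨χ, h⟩
  have hα : α.IsNonZero := by
    intro hz
    apply h0
    funext x
    exact congr_fun hz x
  exact IsKilling.finrank_rootSpace_eq_one α hα

lemma le_of_inf_ne_bot_of_finrank_one {W R : Submodule K L} (h1 : Module.finrank K R = 1)
    (h : W ⊓ R ≠ ⊥) : R ≤ W := by
  have hle : W ⊓ R ≤ R := inf_le_right
  have hpos : 0 < Module.finrank K ↥(W ⊓ R) := by
    rw [Module.finrank_pos_iff]
    exact (Submodule.nontrivial_iff_ne_bot).mpr h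
  have : W ⊓ R = R := Submodule.eq_of_le_of_finrank_le hle (by omega)
  rw [← this]; exact inf_le_left

namespace Setup

lemma rho_ne_zero (S : Setup b ρ j) : (⇑ρ : H → K) ≠ 0 := by
  intro h
  have := congr_fun h (b.h' j)
  rw [S.hj] at this
  simp at this

/-- the weight of `ρ` -/
noncomputable def rhoW (S : Setup b ρ j) : Weight K H L := ⟨ρ, S.hρ⟩

lemma coe_rhoW (S : Setup b ρ j) : (⇑S.rhoW : H → K) = ⇑ρ := rfl

lemma zsmul_add_eq [DecidableEq ι] (χ : H → K) (c : ι → ℤ) (k : ι) (n : ℤ) :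
    n • ⇑(b.baseSupp k) + wt b χ c = wt b χ (c - Pi.single k n) := by
  funext h
  simp only [wt, Pi.add_apply, Pi.smul_apply, Pi.sub_apply, Int.cast_sub, sub_mul,
    Finset.sum_sub_distrib, sum_single_mul]
  simp only [zsmul_eq_mul]
  ring

lemma chain_rho [DecidableEq ι] (S : Setup b ρ j) (k : ι) :
    ∃ m : ℕ, ρ (b.h' k) = (m : K) ∧
      ∀ n : ℤ, (rootSpace H (wt b ρ (Pi.single k n)) ≠ ⊥ ↔ (0 ≤ n ∧ n ≤ m)) := by
  have htop : rootSpace H (⇑(b.baseSupp k) + ⇑S.rhoW) = ⊥ := by
    have := S.htop k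
    rw [add_comm] at this
    exact this
  obtain ⟨m, hm, hn⟩ := chain_simple b k S.rhoW htop
  refine ⟨m, hm, fun n => ?_⟩
  have := hn (-n)
  have e : (-n) • ⇑(b.baseSupp k) + ⇑S.rhoW = wt b ρ (Pi.single k n) := by
    rw [coe_rhoW]
    funext h
    simp only [wt, Pi.add_apply, Pi.smul_apply, sum_single_mul]
    simp only [zsmul_eq_mul]
    push_cast
    ring
  rw [e, neg_neg] at this
  rw [this]
  constructor
  · rintro ⟨h1, h2⟩; exact ⟨by omega, h2⟩
  · rintro ⟨h1, h2⟩; exact ⟨by omega, h2⟩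

lemma ne_bot_single_j [DecidableEq ι] (S : Setup b ρ j) :
    rootSpace H (wt b ρ (Pi.single j 1)) ≠ ⊥ := by
  obtain ⟨m, hm, hn⟩ := S.chain_rho j
  rw [S.hj] at hm
  have hm1 : m = 1 := by exact_mod_cast hm.symm
  rw [hn 1, hm1]; simp

lemma eq_bot_single_j_two [DecidableEq ι] (S : Setup b ρ j) :
    rootSpace H (wt b ρ (Pi.single j 2)) = ⊥ := by
  obtain ⟨m, hm, hn⟩ := S.chain_rho j
  rw [S.hj] at hm
  have hm1 : m = 1 := by exact_mod_cast hm.symm
  by_contra h
  have := (hn 2).mp h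
  rw [hm1] at this
  omega

lemma eq_bot_single_of_ne [DecidableEq ι] (S : Setup b ρ j) {i : ι} (hi : i ≠ j) :
    rootSpace H (wt b ρ (Pi.single i 1)) = ⊥ := by
  obtain ⟨m, hm, hn⟩ := S.chain_rho i
  have h0 : ρ (b.h' i) = 0 := by
    by_contra h
    exact hi ((S.hN i).mp h)
  rw [h0] at hm
  have hm1 : m = 0 := by exact_mod_cast hm.symm
  by_contra h
  have := (hn 1).mp h
  rw [hm1] at this
  omega

lemma A_eq_zero_symm (b : LieAlgebra.Basis ι H) (i k : ι) (h : b.A i k = 0) : b.A k i = 0 := by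
  let ri : H.root := (b.baseSupportEquiv i : b.base.support)
  let rk : H.root := (b.baseSupportEquiv k : b.base.support)
  have h1 : (IsKilling.rootSystem H).pairing ri rk = (b.A i k : K) := by
    rw [IsKilling.rootSystem_pairing_apply]
    have : IsKilling.coroot rk.1 = b.h' k := b.coroot_eq_h' k
    rw [this]
    exact b.baseSupp_apply_h' i k
  have h2 : (IsKilling.rootSystem H).pairing rk ri = (b.A k i : K) := by
    rw [IsKilling.rootSystem_pairing_apply]
    have : IsKilling.coroot ri.1 = b.h' i := b.coroot_eq_h' i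
    rw [this]
    exact b.baseSupp_apply_h' k i
  have h3 := ((IsKilling.rootSystem H).pairing_eq_zero_iff' (i := ri) (j := rk)).mp
    (by rw [h1, h]; simp)
  rw [h2] at h3
  exact_mod_cast h3

lemma eq_bot_of_A_eq_zero [DecidableEq ι] (S : Setup b ρ j) {i : ι} (hi : i ≠ j)
    (hA : b.A i j = 0) : rootSpace H (wt b ρ (Pi.single j 1 + Pi.single i 1)) = ⊥ := by
  let β : Weight K H L := ⟨wt b ρ (Pi.single j 1), S.ne_bot_single_j⟩
  have htop : rootSpace H (⇑(b.baseSupp i) + ⇑β) = ⊥ := by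
    change rootSpace H (⇑(b.baseSupp i) + wt b ρ (Pi.single j 1)) = ⊥
    rw [add_wt]
    apply S.eq_bot_of_neg (k := i)
    simp [hi]
  obtain ⟨m, hm, hn⟩ := chain_simple b i β htop
  have h0 : ρ (b.h' i) = 0 := by
    by_contra h
    exact hi ((S.hN i).mp h)
  have hAji := A_eq_zero_symm b i j hA
  have hβ : β (b.h' i) = 0 := by
    change wt b ρ (Pi.single j 1) (b.h' i) = 0
    rw [wt_apply, sum_single_mul, h0, b.baseSupp_apply_h', hAji]
    simp
  rw [hβ] at hm
  have hm0 : m = 0 := by exact_mod_cast hm.symm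
  by_contra h
  have h1 := (hn (-1)).not.mpr (by rw [hm0]; omega)
  apply h1
  change rootSpace H ((-1 : ℤ) • ⇑(b.baseSupp i) + wt b ρ (Pi.single j 1)) ≠ ⊥
  rw [zsmul_add_eq, Pi.single_neg, sub_neg_eq_add]
  exact h

lemma wt_single_j_ne_zero [DecidableEq ι] (S : Setup b ρ j) :
    wt b ρ (Pi.single j 1) ≠ 0 := by
  have _i : IsAddTorsionFree L := .of_isTorsionFree K L
  intro h
  have := congr_fun h (b.h' j)
  rw [wt_apply, sum_single_mul, S.hj, b.baseSupp_apply_h', b.A_diag_eq_two] at this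
  norm_num at this

lemma wt_pair_ne_zero [DecidableEq ι] (S : Setup b ρ j) {i : ι} (hi : i ≠ j) :
    wt b ρ (Pi.single j 1 + Pi.single i 1) ≠ 0 := by
  intro h
  have he : wt b ρ (Pi.single i 1) = ⇑(b.baseSupp j) := by
    funext x
    have := congr_fun h x
    simp only [wt_apply, Pi.add_apply, Int.cast_add, add_mul, Finset.sum_add_distrib,
      sum_single_mul, Pi.zero_apply] at this ⊢
    linear_combination this
  have := S.eq_bot_single_of_ne hi
  rw [he] at this
  have hm := e_mem b j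
  rw [this] at hm
  exact (b.sl2 j).e_ne_zero (by simpa using hm)

end Setup

end Groth.Agent.Lib.Helper28.AdjVar
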