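import Groth.Agent.Lib.Helper28.AdjVar4

set_option autoImplicit false
set_option linter.unusedSectionVars false
open LieAlgebra LieModule

namespace Groth.Agent.Lib.Helper28.AdjVar

variable {ι : Type*} {K : Type*} {L : Type*} [Fintype ι] [Field K] [CharZero K]
    [IsAlgClosed K] [LieRing L] [LieAlgebra K L] [FiniteDimensional K L] [LieAlgebra.IsSimple K L]
    {H : LieSubalgebra K L} [H.IsCartanSubalgebra] {b : LieAlgebra.Basis ι H}
    {ρ : Module.Dual K H} {j : ι}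

namespace Setup

theorem peel [DecidableEq ι] (S : Setup b ρ j) (W : Submodule K L)
    (hH : ∀ h : H, ∀ w ∈ W, ⁅(h : L), w⁆ ∈ W) (he : ∀ k, ∀ w ∈ W, ⁅b.e k, w⁆ ∈ W)
    (T : Set (ι → ℤ)) (hWT : ¬ W ≤ ⨆ c ∈ T, RS H (wt b ρ c)) :
    ∃ c, c ∉ T ∧ W ⊓ RS H (wt b ρ c) ≠ ⊥ ∧ (c = 0 ∨ ∃ k, c - Pi.single k 1 ∈ T) := by
  have step1 : ∃ c, c ∉ T ∧ W ⊓ RS H (wt b ρ c) ≠ ⊥ := by
    by_contra hcon
    push Not at hcon
    apply hWT
    let W' : LieSubmodule K H L := { W with lie_mem := fun {x m} hm => hH x m hm }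
    have hdec := LieModule.eq_iSup_inf_genWeightSpace (K := K) (L := H) (M := L) W'
    have hW : W = (W' : Submodule K L) := rfl
    have hle : (W' : Submodule K L) ≤ ⨆ c ∈ T, RS H (wt b ρ c) := by
      conv_lhs => rw [hdec]
      rw [LieSubmodule.iSup_toSubmodule]
      apply iSup_le
      intro χ
      obtain ⟨c, -, hc⟩ := S.exists_wt χ.genWeightSpace_ne_bot
      rw [LieSubmodule.inf_toSubmodule]
      by_cases hcT : c ∈ T
      · refine le_trans ?_ (le_biSup _ hcT)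
        rw [← hc]; exact inf_le_right
      · have := hcon c hcT
        rw [← hc] at this
        change W ⊓ RS H χ ≤ _
        rw [this]; exact bot_le
    rw [hW]; exact hle
  obtain ⟨c0, hc0T, hc0⟩ := step1
  have key : ∀ N : ℕ, ∀ c : ι → ℤ, c ∉ T → W ⊓ RS H (wt b ρ c) ≠ ⊥ → (∑ k, c k).toNat = N →
      ∃ c, c ∉ T ∧ W ⊓ RS H (wt b ρ c) ≠ ⊥ ∧ (c = 0 ∨ ∃ k, c - Pi.single k 1 ∈ T) := by
    intro N
    induction N using Nat.strong_induction_on with
    | _ N ih =>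
      intro c hcT hc hN
      by_cases hc00 : c = 0
      · exact ⟨c, hcT, hc, Or.inl hc00⟩
      obtain ⟨w, hw, hw0⟩ := (Submodule.ne_bot_iff _).mp hc
      have hwW : w ∈ W := hw.1
      have hwR : w ∈ rootSpace H (wt b ρ c) := hw.2
      have : ∃ k, ⁅b.e k, w⁆ ≠ 0 := by
        by_contra hall
        push Not at hall
        exact hc00 (S.eq_zero_of_highest hw0 hwR hall)
      obtain ⟨k, hk⟩ := this
      have hmem := e_lie_mem_wt b hwR k
      have hne : W ⊓ RS H (wt b ρ (c - Pi.single k 1)) ≠ ⊥ := by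
        rw [Submodule.ne_bot_iff]
        exact ⟨_, ⟨he k w hwW, hmem⟩, hk⟩
      by_cases hT' : c - Pi.single k 1 ∈ T
      · exact ⟨c, hcT, hc, Or.inr ⟨k, hT'⟩⟩
      · set c' : ι → ℤ := c - Pi.single k 1 with hc'
        have hnn : ∀ l, 0 ≤ c' l := S.nonneg_of_ne_bot (by
          intro h; rw [h] at hmem; exact hk (by simpa using hmem))
        have hsum : ∑ l, c' l = ∑ l, c l - 1 := by
          simp [hc', Finset.sum_sub_distrib]
        have hsum0 : 0 ≤ ∑ l, c' l := Finset.sum_nonneg (fun l _ => hnn l)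
        apply ih ((∑ l, c' l).toNat) ?_ _ hT' hne rfl
        rw [← hN]; omega
  exact key _ c0 hc0T hc0 rfl

lemma RS_rho_le [DecidableEq ι] (S : Setup b ρ j) (W : Submodule K L)
    (hH : ∀ h : H, ∀ w ∈ W, ⁅(h : L), w⁆ ∈ W) (he : ∀ k, ∀ w ∈ W, ⁅b.e k, w⁆ ∈ W)
    (hW : W ≠ ⊥) : RS H ρ ≤ W := by
  obtain ⟨c, -, hc, h | ⟨k, hk⟩⟩ := S.peel W hH he ∅ (by simpa using hW)
  · subst h
    rw [wt_zero] at hc
    exact le_of_inf_ne_bot_of_finrank_one (finrank_RS_eq_one S.hρ S.rho_ne_zero) hc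
  · exact absurd hk (Set.notMem_empty _)

lemma ne_bot_of_inf_ne_bot {W : Submodule K L} {χ : H → K} (h : W ⊓ RS H χ ≠ ⊥) :
    rootSpace H χ ≠ ⊥ := by
  intro h0
  apply h
  have : RS H χ = ⊥ := by rw [RS, h0]; rfl
  rw [this, inf_bot_eq]

lemma RS_single_j_le [DecidableEq ι] (S : Setup b ρ j) (W : Submodule K L)
    (hH : ∀ h : H, ∀ w ∈ W, ⁅(h : L), w⁆ ∈ W) (he : ∀ k, ∀ w ∈ W, ⁅b.e k, w⁆ ∈ W)
    (hW : ¬ W ≤ RS H ρ) : RS H (wt b ρ (Pi.single j 1)) ≤ W := by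
  obtain ⟨c, hc0, hc, h | ⟨k, hk⟩⟩ := S.peel W hH he {0} (by
    rw [iSup_singleton, wt_zero]; exact hW)
  · exact absurd h hc0
  · have hck : c = Pi.single k 1 := by
      have : c - Pi.single k 1 = 0 := hk
      exact sub_eq_zero.mp this
    subst hck
    have hne := ne_bot_of_inf_ne_bot hc
    have hkj : k = j := by
      by_contra hkj
      exact hne (S.eq_bot_single_of_ne hkj)
    subst hkj
    exact le_of_inf_ne_bot_of_finrank_one (finrank_RS_eq_one hne S.wt_single_j_ne_zero) hc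

lemma exists_third [DecidableEq ι] (S : Setup b ρ j) (W : Submodule K L)
    (hH : ∀ h : H, ∀ w ∈ W, ⁅(h : L), w⁆ ∈ W) (he : ∀ k, ∀ w ∈ W, ⁅b.e k, w⁆ ∈ W)
    (hW : ¬ W ≤ RS H ρ ⊔ RS H (wt b ρ (Pi.single j 1))) :
    ∃ i, i ≠ j ∧ b.A i j ≠ 0 ∧ rootSpace H (wt b ρ (Pi.single j 1 + Pi.single i 1)) ≠ ⊥ ∧
      RS H (wt b ρ (Pi.single j 1 + Pi.single i 1)) ≤ W := by
  obtain ⟨c, hcT, hc, h | ⟨k, hk⟩⟩ := S.peel W hH he {0, Pi.single j 1} (by
    rw [iSup_pair, wt_zero]; exact hW)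
  · subst h; exact absurd (Set.mem_insert _ _) hcT
  · have hne := ne_bot_of_inf_ne_bot hc
    rcases hk with hk | hk
    · exfalso
      have hck : c = Pi.single k 1 := sub_eq_zero.mp hk
      subst hck
      have hkj : k = j := by
        by_contra hkj
        exact hne (S.eq_bot_single_of_ne hkj)
      subst hkj
      exact hcT (Set.mem_insert_of_mem _ rfl)
    · have hck : c = Pi.single j 1 + Pi.single k 1 := by
        have : c - Pi.single k 1 = Pi.single j 1 := hk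
        rw [← this]; abel
      subst hck
      have hkj : k ≠ j := by
        rintro rfl
        apply hne
        have : (Pi.single k 1 + Pi.single k 1 : ι → ℤ) = Pi.single k 2 := by
          rw [← Pi.single_add]; rfl
        rw [this]
        exact S.eq_bot_single_j_two
      refine ⟨k, hkj, fun hA => hne (S.eq_bot_of_A_eq_zero hkj hA), hne, ?_⟩
      exact le_of_inf_ne_bot_of_finrank_one (finrank_RS_eq_one hne (S.wt_pair_ne_zero hkj)) hc

end Setup

lemma disjoint_RS {χ₁ χ₂ : H → K} (h : χ₁ ≠ χ₂) : Disjoint (RS H χ₁) (RS H χ₂) :=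
  (iSupIndep_RS (H := H)).pairwiseDisjoint h

lemma disjoint_RS_sup {χ₁ χ₂ χ₃ : H → K} (h1 : χ₁ ≠ χ₃) (h2 : χ₂ ≠ χ₃) :
    Disjoint (RS H χ₁ ⊔ RS H χ₂) (RS H χ₃) := by
  have := (iSupIndep_RS (H := H)) χ₃
  refine (this.mono_right ?_).symm
  apply sup_le
  · exact le_biSup (RS H) h1
  · exact le_biSup (RS H) h2

lemma finrank_sup_RS {χ₁ χ₂ : H → K} (h : χ₁ ≠ χ₂) :
    Module.finrank K ↥(RS H χ₁ ⊔ RS H χ₂) =
      Module.finrank K (RS H χ₁) + Module.finrank K (RS H χ₂) := by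
  have := Submodule.finrank_sup_add_finrank_inf_eq (RS H χ₁) (RS H χ₂)
  rw [(disjoint_RS h).eq_bot, finrank_bot, add_zero] at this
  exact this

lemma finrank_sup_sup_RS {χ₁ χ₂ χ₃ : H → K} (h12 : χ₁ ≠ χ₂) (h13 : χ₁ ≠ χ₃) (h23 : χ₂ ≠ χ₃) :
    Module.finrank K ↥(RS H χ₁ ⊔ RS H χ₂ ⊔ RS H χ₃) =
      Module.finrank K (RS H χ₁) + Module.finrank K (RS H χ₂) + Module.finrank K (RS H χ₃) := by
  have := Submodule.finrank_sup_add_finrank_inf_eq (RS H χ₁ ⊔ RS H χ₂) (RS H χ₃)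
  rw [(disjoint_RS_sup h13 h23).eq_bot, finrank_bot, add_zero, finrank_sup_RS h12] at this
  exact this

end Groth.Agent.Lib.Helper28.AdjVar
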