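import Groth.Agent.Lib.Helper28.AdjVar5

set_option autoImplicit false
set_option linter.unusedSectionVars false
open LieAlgebra LieModule

namespace Groth.Agent.Lib.Helper28.AdjVar

variable {ι : Type*} {K : Type*} {L : Type*} [Fintype ι] [Field K] [CharZero K]
    [IsAlgClosed K] [LieRing L] [LieAlgebra K L] [FiniteDimensional K L] [LieAlgebra.IsSimple K L]
    {H : LieSubalgebra K L} [H.IsCartanSubalgebra] {b : LieAlgebra.Basis ι H}
    {ρ : Module.Dual K H} {j : ι}

lemma coe_sub_eq [DecidableEq ι] (ρ : Module.Dual K H) (j : ι) :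
    (⇑ρ - ⇑(b.baseSupp j) : H → K) = wt b ρ (Pi.single j 1) := by
  funext h
  simp only [wt, Pi.sub_apply, sum_single_mul]
  simp

lemma coe_sub_sub_eq [DecidableEq ι] (ρ : Module.Dual K H) (j i : ι) :
    (⇑ρ - ⇑(b.baseSupp j) - ⇑(b.baseSupp i) : H → K) =
      wt b ρ (Pi.single j 1 + Pi.single i 1) := by
  funext h
  simp only [wt, Pi.sub_apply, Pi.add_apply, Int.cast_add, add_mul,
    Finset.sum_add_distrib, sum_single_mul]
  simp; ring

lemma e_mem_borel (b : LieAlgebra.Basis ι H) (k : ι) :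
    b.e k ∈ H.toSubmodule ⊔ (b.borelUpper : Submodule K L) := by
  apply Submodule.mem_sup_right
  change b.e k ∈ LieSubalgebra.lieSpan K L (Set.range b.e)
  exact LieSubalgebra.subset_lieSpan (Set.mem_range_self k)

lemma cartan_mem_borel (b : LieAlgebra.Basis ι H) (h : H) :
    (h : L) ∈ H.toSubmodule ⊔ (b.borelUpper : Submodule K L) :=
  Submodule.mem_sup_left h.property

/-- stability under `H` and all `e k` implies stability under the Borel subalgebra -/
lemma borel_stable_of (b : LieAlgebra.Basis ι H) (W : Submodule K L)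
    (hH : ∀ h : H, ∀ w ∈ W, ⁅(h : L), w⁆ ∈ W) (he : ∀ k, ∀ w ∈ W, ⁅b.e k, w⁆ ∈ W) :
    ∀ x ∈ H.toSubmodule ⊔ (b.borelUpper : Submodule K L), ∀ w ∈ W, ⁅x, w⁆ ∈ W := by
  have h1 : H.toSubmodule ≤ (stab W).toSubmodule := fun x hx => by
    intro w hw; exact hH ⟨x, hx⟩ w hw
  have h2 : (b.borelUpper : Submodule K L) ≤ (stab W).toSubmodule := by
    have : LieSubalgebra.lieSpan K L (Set.range b.e) ≤ stab W := by
      rw [LieSubalgebra.lieSpan_le]
      rintro _ ⟨k, rfl⟩
      exact he k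
    exact this
  intro x hx
  exact (sup_le h1 h2) hx

namespace Setup

lemma rootSpace_lie_mem {χ : H → K} (h : H) {w : L} (hw : w ∈ RS H χ) : ⁅(h : L), w⁆ ∈ RS H χ :=
  (rootSpace H χ).lie_mem (x := h) hw

theorem twoDim_iff (S : Setup b ρ j) (W : Submodule K L) :
    (Module.finrank K W = 2 ∧
        ∀ x ∈ H.toSubmodule ⊔ (b.borelUpper : Submodule K L), ∀ w ∈ W, ⁅x, w⁆ ∈ W) ↔
      W = (rootSpace H ρ : Submodule K L) ⊔ (rootSpace H (ρ - b.baseSupp j) : Submodule K L) := by
  classical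
  rw [coe_sub_eq]
  have hne : (⇑ρ : H → K) ≠ wt b ρ (Pi.single j 1) := by
    intro h
    have h1 : wt b ρ 0 = wt b ρ (Pi.single j 1) := by rw [wt_zero]; exact h
    have := congr_fun (wt_injective b h1) j
    simp at this
  have hfr : Module.finrank K ↥(RS H ρ ⊔ RS H (wt b ρ (Pi.single j 1))) = 2 := by
    rw [finrank_sup_RS hne, finrank_RS_eq_one S.hρ S.rho_ne_zero,
      finrank_RS_eq_one S.ne_bot_single_j S.wt_single_j_ne_zero]
  constructor
  · rintro ⟨hW, hst⟩
    have hH : ∀ h : H, ∀ w ∈ W, ⁅(h : L), w⁆ ∈ W := fun h => hst _ (cartan_mem_borel b h)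
    have he : ∀ k, ∀ w ∈ W, ⁅b.e k, w⁆ ∈ W := fun k => hst _ (e_mem_borel b k)
    have hW0 : W ≠ ⊥ := by
      rintro rfl
      rw [finrank_bot] at hW; omega
    have h1 := S.RS_rho_le W hH he hW0
    have h2 : ¬ W ≤ RS H ρ := by
      intro hle
      have := Submodule.finrank_mono hle
      rw [hW, finrank_RS_eq_one S.hρ S.rho_ne_zero] at this
      omega
    have h3 := S.RS_single_j_le W hH he h2
    exact (Submodule.eq_of_le_of_finrank_eq (sup_le h1 h3) (by rw [hfr, hW])).symm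
  · rintro rfl
    refine ⟨hfr, ?_⟩
    apply borel_stable_of b
    · intro h w hw
      obtain ⟨w1, hw1, w2, hw2, rfl⟩ := Submodule.mem_sup.mp hw
      rw [lie_add]
      exact add_mem (Submodule.mem_sup_left (rootSpace_lie_mem h hw1))
        (Submodule.mem_sup_right (rootSpace_lie_mem h hw2))
    · intro k w hw
      obtain ⟨w1, hw1, w2, hw2, rfl⟩ := Submodule.mem_sup.mp hw
      rw [lie_add, S.e_lie_eq_zero hw1 k, zero_add]
      have hmem := e_lie_mem_wt b hw2 k
      by_cases hkj : k = j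
      · subst hkj
        rw [sub_self, wt_zero] at hmem
        exact Submodule.mem_sup_left hmem
      · rw [S.eq_bot_of_neg (k := k) (by simp [hkj])] at hmem
        have : ⁅b.e k, w2⁆ = 0 := by simpa using hmem
        rw [this]; exact zero_mem _

theorem threeDim_eq (S : Setup b ρ j) (W : Submodule K L) (hW : Module.finrank K W = 3)
    (hst : ∀ x ∈ H.toSubmodule ⊔ (b.borelUpper : Submodule K L), ∀ w ∈ W, ⁅x, w⁆ ∈ W) :
    (rootSpace H ρ : Submodule K L) ⊔ (rootSpace H (ρ - b.baseSupp j) : Submodule K L) ≤ W ∧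
      ∃ i : ι, i ≠ j ∧ b.A i j ≠ 0 ∧
        W = (rootSpace H ρ : Submodule K L) ⊔ (rootSpace H (ρ - b.baseSupp j) : Submodule K L) ⊔
          (rootSpace H (ρ - b.baseSupp j - b.baseSupp i) : Submodule K L) := by
  classical
  rw [coe_sub_eq]
  have hne : (⇑ρ : H → K) ≠ wt b ρ (Pi.single j 1) := by
    intro h
    have h1 : wt b ρ 0 = wt b ρ (Pi.single j 1) := by rw [wt_zero]; exact h
    have := congr_fun (wt_injective b h1) j
    simp at this
  have hfr : Module.finrank K ↥(RS H ρ ⊔ RS H (wt b ρ (Pi.single j 1))) = 2 := by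
    rw [finrank_sup_RS hne, finrank_RS_eq_one S.hρ S.rho_ne_zero,
      finrank_RS_eq_one S.ne_bot_single_j S.wt_single_j_ne_zero]
  have hH : ∀ h : H, ∀ w ∈ W, ⁅(h : L), w⁆ ∈ W := fun h => hst _ (cartan_mem_borel b h)
  have he : ∀ k, ∀ w ∈ W, ⁅b.e k, w⁆ ∈ W := fun k => hst _ (e_mem_borel b k)
  have hW0 : W ≠ ⊥ := by
    rintro rfl
    rw [finrank_bot] at hW; omega
  have h1 := S.RS_rho_le W hH he hW0
  have h2 : ¬ W ≤ RS H ρ := by
    intro hle
    have := Submodule.finrank_mono hle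
    rw [hW, finrank_RS_eq_one S.hρ S.rho_ne_zero] at this
    omega
  have h3 := S.RS_single_j_le W hH he h2
  have h4 : ¬ W ≤ RS H ρ ⊔ RS H (wt b ρ (Pi.single j 1)) := by
    intro hle
    have := Submodule.finrank_mono hle
    rw [hW, hfr] at this
    omega
  obtain ⟨i, hij, hA, hne3, hle3⟩ := S.exists_third W hH he h4
  refine ⟨sup_le h1 h3, i, hij, hA, ?_⟩
  rw [sub_eq_neg_add (wt b (⇑ρ) (Pi.single j 1)), neg_add_wt]
  have hne13 : (⇑ρ : H → K) ≠ wt b ρ (Pi.single j 1 + Pi.single i 1) := by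
    intro h
    have h1 : wt b ρ 0 = wt b ρ (Pi.single j 1 + Pi.single i 1) := by rw [wt_zero]; exact h
    have := congr_fun (wt_injective b h1) j
    simp [hij] at this
  have hne23 : wt b ρ (Pi.single j 1) ≠ wt b ρ (Pi.single j 1 + Pi.single i 1) := by
    intro h
    have := congr_fun (wt_injective b h) i
    simp [hij] at this
  refine (Submodule.eq_of_le_of_finrank_eq (sup_le (sup_le h1 h3) hle3) ?_).symm
  rw [finrank_sup_sup_RS hne hne13 hne23, finrank_RS_eq_one S.hρ S.rho_ne_zero,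
    finrank_RS_eq_one S.ne_bot_single_j S.wt_single_j_ne_zero,
    finrank_RS_eq_one hne3 (S.wt_pair_ne_zero hij), hW]

end Setup

end Groth.Agent.Lib.Helper28.AdjVar
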