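import Groth.Agent.Lib.Helper28.AdjVar6

set_option autoImplicit false
set_option linter.unusedSectionVars false
open LieAlgebra LieModule QuadraticMap

namespace Groth.Agent.Lib.Helper28.AdjVar

section quad

variable {K V : Type*} [Field K] [AddCommGroup V] [Module K V]

lemma polarize (q : QuadraticForm K V) (A : V →ₗ[K] V) (c : K)
    (h : ∀ w, polar q (A w) w = c * q w) (w w' : V) :
    polar q (A w) w' + polar q (A w') w = c * polar q w w' := by
  have h1 := h (w + w')
  rw [map_add, polar_add_left, polar_add_right, polar_add_right, h w, h w'] at h1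
  have e : q (w + w') = q w + q w' + polar q w w' := by simp [polar]
  rw [e] at h1
  linear_combination h1

lemma quad_final [CharZero K] (q : QuadraticForm K V) (x y z : V)
    (hspan : ∀ w : V, ∃ t s r : K, w = t • x + s • y + r • z)
    (hxy : polar q x y = 0) (hxz : polar q x z = 0) (hyz : polar q y z = 0)
    (hy : q y = 0) (hz : q z = 0) :
    ∃ (ℓ : Module.Dual K V) (c : K), ∀ w : V, q w = c * ℓ w ^ 2 := by
  refine ⟨polarBilin q x, (4 * q x)⁻¹, fun w => ?_⟩
  obtain ⟨t, s, r, rfl⟩ := hspan w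
  have h1 : q (t • x + s • y + r • z) = t * t * q x := by
    rw [QuadraticMap.map_add (⇑q) (t • x + s • y), QuadraticMap.map_add (⇑q) (t • x),
      polar_add_left]
    simp only [QuadraticMap.map_smul, polar_smul_left, polar_smul_right, hxy, hxz, hyz, hy, hz,
      smul_eq_mul]
    ring
  have h2 : polarBilin q x (t • x + s • y + r • z) = 2 * t * q x := by
    change polar q x (t • x + s • y + r • z) = _
    rw [polar_add_right, polar_add_right]
    simp only [polar_smul_right, hxy, hxz, polar_self, smul_eq_mul]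
    simp; ring
  rw [h1, h2]
  by_cases hq : q x = 0
  · rw [hq]; simp
  · field_simp
    ring

end quad

variable {ι : Type*} {K : Type*} {L : Type*} [Fintype ι] [Field K] [CharZero K]
    [IsAlgClosed K] [LieRing L] [LieAlgebra K L] [FiniteDimensional K L] [LieAlgebra.IsSimple K L]
    {H : LieSubalgebra K L} [H.IsCartanSubalgebra] {b : LieAlgebra.Basis ι H}
    {ρ : Module.Dual K H} {j : ι}

namespace Setup

theorem threeDim_wt [DecidableEq ι] (S : Setup b ρ j) (W : Submodule K L)
    (hW : Module.finrank K W = 3)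
    (hst : ∀ x ∈ H.toSubmodule ⊔ (b.borelUpper : Submodule K L), ∀ w ∈ W, ⁅x, w⁆ ∈ W) :
    ∃ i : ι, i ≠ j ∧ b.A i j ≠ 0 ∧
      rootSpace H (wt b ρ (Pi.single j 1 + Pi.single i 1)) ≠ ⊥ ∧
        W = RS H ρ ⊔ RS H (wt b ρ (Pi.single j 1)) ⊔
          RS H (wt b ρ (Pi.single j 1 + Pi.single i 1)) := by
  have hne : (⇑ρ : H → K) ≠ wt b ρ (Pi.single j 1) := by
    intro h
    have h1 : wt b ρ 0 = wt b ρ (Pi.single j 1) := by rw [wt_zero]; exact h
    have := congr_fun (wt_injective b h1) j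
    simp at this
  have hfr : Module.finrank K ↥(RS H ρ ⊔ RS H (wt b ρ (Pi.single j 1))) = 2 := by
    rw [finrank_sup_RS hne, finrank_RS_eq_one S.hρ S.rho_ne_zero,
      finrank_RS_eq_one S.ne_bot_single_j S.wt_single_j_ne_zero]
  have hH : ∀ h : H, ∀ w ∈ W, ⁅(h : L), w⁆ ∈ W := fun h => hst _ (cartan_mem_borel b h)
  have he : ∀ k, ∀ w ∈ W, ⁅b.e k, w⁆ ∈ W := fun k => hst _ (e_mem_borel b k)
  have hW0 : W ≠ ⊥ := by
    rintro rfl
    rw [finrank_bot] at hW; omega
  have h1 := S.RS_rho_le W hH he hW0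
  have h2 : ¬ W ≤ RS H ρ := by
    intro hle
    have := Submodule.finrank_mono hle
    rw [hW, finrank_RS_eq_one S.hρ S.rho_ne_zero] at this
    omega
  have h3 := S.RS_single_j_le W hH he h2
  have h4 : ¬ W ≤ RS H ρ ⊔ RS H (wt b ρ (Pi.single j 1)) := by
    intro hle
    have := Submodule.finrank_mono hle
    rw [hW, hfr] at this
    omega
  obtain ⟨i, hij, hA, hne3, hle3⟩ := S.exists_third W hH he h4
  refine ⟨i, hij, hA, hne3, ?_⟩
  have hne13 : (⇑ρ : H → K) ≠ wt b ρ (Pi.single j 1 + Pi.single i 1) := by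
    intro h
    have h1 : wt b ρ 0 = wt b ρ (Pi.single j 1 + Pi.single i 1) := by rw [wt_zero]; exact h
    have := congr_fun (wt_injective b h1) j
    simp [hij] at this
  have hne23 : wt b ρ (Pi.single j 1) ≠ wt b ρ (Pi.single j 1 + Pi.single i 1) := by
    intro h
    have := congr_fun (wt_injective b h) i
    simp [hij] at this
  refine (Submodule.eq_of_le_of_finrank_eq (sup_le (sup_le h1 h3) hle3) ?_).symm
  rw [finrank_sup_sup_RS hne hne13 hne23, finrank_RS_eq_one S.hρ S.rho_ne_zero,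
    finrank_RS_eq_one S.ne_bot_single_j S.wt_single_j_ne_zero,
    finrank_RS_eq_one hne3 (S.wt_pair_ne_zero hij), hW]

end Setup

/-- a nonzero vector spans a one-dimensional root space -/
lemma exists_smul_of_finrank_one {χ : H → K} (h1 : Module.finrank K (RS H χ) = 1) {v : L}
    (hv : v ∈ RS H χ) (hv0 : v ≠ 0) {w : L} (hw : w ∈ RS H χ) : ∃ t : K, w = t • v := by
  have hv' : (⟨v, hv⟩ : RS H χ) ≠ 0 := fun h => hv0 (congrArg Subtype.val h)
  obtain ⟨t, ht⟩ := (finrank_eq_one_iff_of_nonzero' _ hv').mp h1 ⟨w, hw⟩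
  exact ⟨t, (congrArg Subtype.val ht).symm⟩

lemma exists_ne_zero_mem {χ : H → K} (h : rootSpace H χ ≠ ⊥) : ∃ v ∈ RS H χ, v ≠ 0 := by
  rw [Ne, LieSubmodule.eq_bot_iff] at h
  push Not at h
  exact h

end Groth.Agent.Lib.Helper28.AdjVar
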