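import Groth.Agent.Lib.Helper28.AdjVar7

set_option autoImplicit false
set_option linter.unusedSectionVars false
open LieAlgebra LieModule QuadraticMap

namespace Groth.Agent.Lib.Helper28.AdjVar

variable {ι : Type*} {K : Type*} {L : Type*} [Fintype ι] [Field K] [CharZero K]
    [IsAlgClosed K] [LieRing L] [LieAlgebra K L] [FiniteDimensional K L] [LieAlgebra.IsSimple K L]
    {H : LieSubalgebra K L} [H.IsCartanSubalgebra] {b : LieAlgebra.Basis ι H}
    {ρ : Module.Dual K H} {j : ι}

lemma rel_of_hq (W : Submodule K L)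
    (hst : ∀ x ∈ H.toSubmodule ⊔ (b.borelUpper : Submodule K L), ∀ w ∈ W, ⁅x, w⁆ ∈ W)
    (q : QuadraticForm K W)
    (hq : ∀ (x : L) (hx : x ∈ H.toSubmodule ⊔ (b.borelUpper : Submodule K L)), ∃ c : K, ∀ w : W,
      QuadraticMap.polar q ⟨⁅x, (w : L)⁆, hst x hx w w.property⟩ w = c * q w)
    (x : L) (hx : x ∈ H.toSubmodule ⊔ (b.borelUpper : Submodule K L)) :
    ∃ c : K, ∀ (w w' u u' : W), (u : L) = ⁅x, (w : L)⁆ → (u' : L) = ⁅x, (w' : L)⁆ →
      polar q u w' + polar q u' w = c * polar q w w' := by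
  obtain ⟨c, hc⟩ := hq x hx
  refine ⟨c, fun w w' u u' hu hu' => ?_⟩
  let A : W →ₗ[K] W := (LieAlgebra.ad K L x).restrict (fun w hw => hst x hx w hw)
  have hA : ∀ w : W, A w = ⟨⁅x, (w : L)⁆, hst x hx w w.property⟩ := fun w => rfl
  have key := polarize q A c (fun w => by rw [hA]; exact hc w) w w'
  have e1 : u = A w := Subtype.ext (by rw [hu, hA])
  have e2 : u' = A w' := Subtype.ext (by rw [hu', hA])
  rw [e1, e2]; exact key

lemma hrel (W : Submodule K L)
    (hst : ∀ x ∈ H.toSubmodule ⊔ (b.borelUpper : Submodule K L), ∀ w ∈ W, ⁅x, w⁆ ∈ W)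
    (q : QuadraticForm K W)
    (hq : ∀ (x : L) (hx : x ∈ H.toSubmodule ⊔ (b.borelUpper : Submodule K L)), ∃ c : K, ∀ w : W,
      QuadraticMap.polar q ⟨⁅x, (w : L)⁆, hst x hx w w.property⟩ w = c * q w)
    {u u' v v' : W} {du du' dv dv' : ι → ℤ}
    (hu : (u : L) ∈ rootSpace H (wt b ρ du)) (hu' : (u' : L) ∈ rootSpace H (wt b ρ du'))
    (hv : (v : L) ∈ rootSpace H (wt b ρ dv)) (hv' : (v' : L) ∈ rootSpace H (wt b ρ dv'))
    (h1 : polar q u u' ≠ 0) (h2 : polar q v v' ≠ 0) : du + du' = dv + dv' := by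
  apply wt_injective b (χ := ⇑ρ)
  funext h
  obtain ⟨c, hc⟩ := rel_of_hq W hst q hq (h : L) (cartan_mem_borel b h)
  have r1 := hc u u' (wt b ρ du h • u) (wt b ρ du' h • u')
    (by rw [lie_cartan_eq_smul hu h]; rfl) (by rw [lie_cartan_eq_smul hu' h]; rfl)
  have r2 := hc v v' (wt b ρ dv h • v) (wt b ρ dv' h • v')
    (by rw [lie_cartan_eq_smul hv h]; rfl) (by rw [lie_cartan_eq_smul hv' h]; rfl)
  rw [polar_smul_left, polar_smul_left, polar_comm (⇑q) u' u, smul_eq_mul, smul_eq_mul,
    ← add_mul] at r1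
  rw [polar_smul_left, polar_smul_left, polar_comm (⇑q) v' v, smul_eq_mul, smul_eq_mul,
    ← add_mul] at r2
  have e1 := mul_right_cancel₀ h1 r1
  have e2 := mul_right_cancel₀ h2 r2
  have e3 : wt b ρ du h + wt b ρ du' h = wt b ρ dv h + wt b ρ dv' h := by rw [e1, e2]
  simp only [wt_apply, Pi.add_apply, Int.cast_add, add_mul, Finset.sum_add_distrib] at e3 ⊢
  linear_combination e3

namespace Setup

theorem quadForm (S : Setup b ρ j) (W : Submodule K L) (hW : Module.finrank K W = 3)
    (hst : ∀ x ∈ H.toSubmodule ⊔ (b.borelUpper : Submodule K L), ∀ w ∈ W, ⁅x, w⁆ ∈ W)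
    (q : QuadraticForm K W)
    (hq : ∀ (x : L) (hx : x ∈ H.toSubmodule ⊔ (b.borelUpper : Submodule K L)), ∃ c : K, ∀ w : W,
      QuadraticMap.polar q ⟨⁅x, (w : L)⁆, hst x hx w w.property⟩ w = c * q w) :
    ∃ (ℓ : Module.Dual K W) (c : K), ∀ w : W, q w = c * ℓ w ^ 2 := by
  classical
  obtain ⟨i, hij, hA, hne3, hWeq⟩ := S.threeDim_wt W hW hst
  have hf0 := finrank_RS_eq_one S.hρ S.rho_ne_zero
  have hf1 := finrank_RS_eq_one S.ne_bot_single_j S.wt_single_j_ne_zero
  have hf2 := finrank_RS_eq_one hne3 (S.wt_pair_ne_zero hij)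
  obtain ⟨v0, hv0, hv0n⟩ := exists_ne_zero_mem S.hρ
  obtain ⟨v1, hv1, hv1n⟩ := exists_ne_zero_mem S.ne_bot_single_j
  obtain ⟨v2, hv2, hv2n⟩ := exists_ne_zero_mem hne3
  have hle0 : RS H ρ ≤ W := by rw [hWeq]; exact le_sup_of_le_left le_sup_left
  have hle1 : RS H (wt b ρ (Pi.single j 1)) ≤ W := by
    rw [hWeq]; exact le_sup_of_le_left le_sup_right
  have hle2 : RS H (wt b ρ (Pi.single j 1 + Pi.single i 1)) ≤ W := by
    rw [hWeq]; exact le_sup_right
  have hv0' : v0 ∈ rootSpace H (wt b ρ 0) := by rw [wt_zero]; exact hv0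
  let x0 : W := ⟨v0, hle0 hv0⟩
  let x1 : W := ⟨v1, hle1 hv1⟩
  let x2 : W := ⟨v2, hle2 hv2⟩
  -- spanning
  have hspan : ∀ w : W, ∃ t s r : K, w = t • x0 + s • x1 + r • x2 := by
    intro w
    have hw : (w : L) ∈ RS H ρ ⊔ RS H (wt b ρ (Pi.single j 1)) ⊔
        RS H (wt b ρ (Pi.single j 1 + Pi.single i 1)) := by rw [← hWeq]; exact w.property
    obtain ⟨u, hu, w2, hw2, e⟩ := Submodule.mem_sup.mp hw
    obtain ⟨w0, hw0, w1, hw1, e'⟩ := Submodule.mem_sup.mp hu
    obtain ⟨t, ht⟩ := exists_smul_of_finrank_one hf0 hv0 hv0n hw0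
    obtain ⟨s, hs⟩ := exists_smul_of_finrank_one hf1 hv1 hv1n hw1
    obtain ⟨r, hr⟩ := exists_smul_of_finrank_one hf2 hv2 hv2n hw2
    refine ⟨t, s, r, Subtype.ext ?_⟩
    simp only [Submodule.coe_add, Submodule.coe_smul, x0, x1, x2]
    rw [← e, ← e', ht, hs, hr]
  -- structure constants
  have hmem1 : ⁅b.e j, v1⁆ ∈ RS H ρ := by
    have := e_lie_mem_wt b hv1 j
    rwa [sub_self, wt_zero] at this
  obtain ⟨a, ha⟩ := exists_smul_of_finrank_one hf0 hv0 hv0n hmem1
  have ha0 : a ≠ 0 := by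
    rintro rfl
    rw [zero_smul] at ha
    have hall : ∀ k, ⁅b.e k, v1⁆ = 0 := by
      intro k
      by_cases hk : k = j
      · subst hk; exact ha
      · have := e_lie_mem_wt b hv1 k
        rw [S.eq_bot_of_neg (k := k) (by simp [hk])] at this
        simpa using this
    have := congr_fun (S.eq_zero_of_highest hv1n hv1 hall) j
    simp at this
  have hej2 : ⁅b.e j, v2⁆ = 0 := by
    have := e_lie_mem_wt b hv2 j
    rw [add_sub_cancel_left, S.eq_bot_single_of_ne hij] at this
    simpa using this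
  have hmem2 : ⁅b.e i, v2⁆ ∈ RS H (wt b ρ (Pi.single j 1)) := by
    have := e_lie_mem_wt b hv2 i
    rwa [add_sub_cancel_right] at this
  obtain ⟨a', ha'⟩ := exists_smul_of_finrank_one hf1 hv1 hv1n hmem2
  have ha'0 : a' ≠ 0 := by
    rintro rfl
    rw [zero_smul] at ha'
    have hall : ∀ k, ⁅b.e k, v2⁆ = 0 := by
      intro k
      by_cases hk : k = j
      · subst hk; exact hej2
      by_cases hk' : k = i
      · subst hk'; exact ha'
      · have := e_lie_mem_wt b hv2 k
        rw [S.eq_bot_of_neg (k := k) (by simp [hk, hk'])] at this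
        simpa using this
    have := congr_fun (S.eq_zero_of_highest hv2n hv2 hall) j
    simp [hij] at this
  have two_ne : (2 : K) ≠ 0 := two_ne_zero
  -- off-diagonal vanishing
  have C01 : polar q x0 x1 = 0 := by
    by_contra hne
    have h11 : polar q x1 x1 = 0 := by
      by_contra h11
      have := hrel W hst q hq (u := x0) (u' := x1) (v := x1) (v' := x1) hv0' hv1 hv1 hv1 hne h11
      have := congr_fun this j
      simp at this
    obtain ⟨c, hc⟩ := rel_of_hq W hst q hq (b.e j) (e_mem_borel b j)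
    have := hc x1 x1 (a • x0) (a • x0) (by simpa [x0, x1] using ha.symm)
      (by simpa [x0, x1] using ha.symm)
    rw [h11, mul_zero, polar_smul_left, smul_eq_mul, ← two_mul] at this
    rcases mul_eq_zero.mp this with h | h
    · exact two_ne h
    · rcases mul_eq_zero.mp h with h | h
      · exact ha0 h
      · exact hne h
  have C02 : polar q x0 x2 = 0 := by
    by_contra hne
    have h12 : polar q x1 x2 = 0 := by
      by_contra h12
      have := hrel W hst q hq (u := x0) (u' := x2) (v := x1) (v' := x2) hv0' hv2 hv1 hv2 hne h12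
      have := congr_fun this j
      simp [hij] at this
    obtain ⟨c, hc⟩ := rel_of_hq W hst q hq (b.e j) (e_mem_borel b j)
    have := hc x1 x2 (a • x0) 0 (by simpa [x0, x1] using ha.symm)
      (by simpa [x2] using hej2.symm)
    rw [h12, mul_zero, polar_smul_left, smul_eq_mul, polar_zero_left, add_zero] at this
    rcases mul_eq_zero.mp this with h | h
    · exact ha0 h
    · exact hne h
  have C12 : polar q x1 x2 = 0 := by
    by_contra hne
    have h22 : polar q x2 x2 = 0 := by
      by_contra h22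
      have := hrel W hst q hq (u := x1) (u' := x2) (v := x2) (v' := x2) hv1 hv2 hv2 hv2 hne h22
      have := congr_fun this i
      simp [hij] at this
    obtain ⟨c, hc⟩ := rel_of_hq W hst q hq (b.e i) (e_mem_borel b i)
    have := hc x2 x2 (a' • x1) (a' • x1) (by simpa [x1, x2] using ha'.symm)
      (by simpa [x1, x2] using ha'.symm)
    rw [h22, mul_zero, polar_smul_left, smul_eq_mul, ← two_mul] at this
    rcases mul_eq_zero.mp this with h | h
    · exact two_ne h
    · rcases mul_eq_zero.mp h with h | h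
      · exact ha'0 h
      · exact hne h
  -- diagonal: at most one nonzero
  have self_ne : ∀ x : W, q x ≠ 0 → polar q x x ≠ 0 := by
    intro x hx
    rw [polar_self]
    simpa using hx
  have D01 : q x0 ≠ 0 → q x1 = 0 := by
    intro h0
    by_contra h1
    have := hrel W hst q hq (u := x0) (u' := x0) (v := x1) (v' := x1) hv0' hv0' hv1 hv1
      (self_ne _ h0) (self_ne _ h1)
    have := congr_fun this j
    simp at this
  have D02 : q x0 ≠ 0 → q x2 = 0 := by
    intro h0
    by_contra h2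
    have := hrel W hst q hq (u := x0) (u' := x0) (v := x2) (v' := x2) hv0' hv0' hv2 hv2
      (self_ne _ h0) (self_ne _ h2)
    have := congr_fun this j
    simp [hij] at this
  have D12 : q x1 ≠ 0 → q x2 = 0 := by
    intro h1
    by_contra h2
    have := hrel W hst q hq (u := x1) (u' := x1) (v := x2) (v' := x2) hv1 hv1 hv2 hv2
      (self_ne _ h1) (self_ne _ h2)
    have := congr_fun this i
    simp [hij] at this
  by_cases h0 : q x0 = 0
  · by_cases h1 : q x1 = 0
    · -- x2 is the distinguished vector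
      refine quad_final q x2 x0 x1 (fun w => ?_) (by rw [polar_comm]; exact C02)
        (by rw [polar_comm]; exact C12) C01 h0 h1
      obtain ⟨t, s, r, e⟩ := hspan w
      exact ⟨r, t, s, by rw [e]; abel⟩
    · refine quad_final q x1 x0 x2 (fun w => ?_) (by rw [polar_comm]; exact C01) C12 C02 h0
        (D12 h1)
      obtain ⟨t, s, r, e⟩ := hspan w
      exact ⟨s, t, r, by rw [e]; abel⟩
  · exact quad_final q x0 x1 x2 hspan C01 C02 C12 (D01 h0) (D02 h0)

end Setup

end Groth.Agent.Lib.Helper28.AdjVar
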