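import Groth.Agent.Lib.Helper28.AdjVar8

set_option autoImplicit false
set_option linter.unusedSectionVars false
open LieAlgebra LieModule

namespace Groth.Agent.Lib.Helper28.AdjVar

variable {ι : Type*} {K : Type*} {L : Type*} [Fintype ι] [Field K] [CharZero K]
    [IsAlgClosed K] [LieRing L] [LieAlgebra K L] [FiniteDimensional K L] [LieAlgebra.IsSimple K L]
    {H : LieSubalgebra K L} [H.IsCartanSubalgebra] {b : LieAlgebra.Basis ι H}
    {ρ : Module.Dual K H} {j : ι}

/-- the negative of a weight is a weight -/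
lemma neg_ne_bot {χ : H → K} (h : rootSpace H χ ≠ ⊥) : rootSpace H (-χ) ≠ ⊥ := by
  let α : Weight K H L := ⟨χ, h⟩
  exact (-α).genWeightSpace_ne_bot

lemma eq_bot_of_neg_eq_bot {χ : H → K} (h : rootSpace H χ = ⊥) : rootSpace H (-χ) = ⊥ := by
  by_contra h'
  have := neg_ne_bot h'
  rw [neg_neg] at this
  exact this h

/-- root strings in the direction of a root `α`, through a weight `β` with `β + α` not a
weight. -/
lemma chain_top (α β : Weight K H L) (hα : α.IsNonZero)
    (htop : rootSpace H (⇑α + ⇑β) = ⊥) :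
    ∃ m : ℕ, β (IsKilling.coroot α) = (m : K) ∧
      ∀ n : ℤ, (rootSpace H (n • ⇑α + ⇑β) ≠ ⊥ ↔ (n ≤ 0 ∧ -n ≤ m)) := by
  have h1 := IsKilling.rootSpace_zsmul_add_ne_bot_iff α β hα
  have htop0 : chainTopCoeff α β = 0 := by
    by_contra hne
    have : rootSpace H ((1 : ℤ) • ⇑α + ⇑β) ≠ ⊥ := by
      rw [h1]; constructor
      · have : 1 ≤ chainTopCoeff (⇑α) β := Nat.one_le_iff_ne_zero.mpr hne
        exact_mod_cast this
      · have : (0 : ℤ) ≤ chainBotCoeff (⇑α) β := Int.natCast_nonneg _
        linarith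
    rw [one_smul] at this
    exact this htop
  refine ⟨chainBotCoeff α β, ?_, fun n => ?_⟩
  · have := IsKilling.apply_coroot_eq_cast α β
    rw [htop0] at this
    rw [this]; simp
  · have := h1 n
    rw [htop0] at this
    rw [this]; simp

namespace Setup

lemma zero_ne_bot (b : LieAlgebra.Basis ι H) (j : ι) : rootSpace H (0 : H → K) ≠ ⊥ := by
  intro h
  have h1 : (b.h j) ∈ rootSpace H (0 : H → K) :=
    toLieSubmodule_le_rootSpace_zero K L H (h_mem b j)
  rw [h] at h1
  exact (b.sl2 j).h_ne_zero (by simpa using h1)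

/-- `2ρ - α_j` is not a weight -/
lemma two_rho_sub_eq_bot [DecidableEq ι] (S : Setup b ρ j) :
    rootSpace H (⇑ρ + (⇑ρ - ⇑(b.baseSupp j))) = ⊥ := by
  obtain ⟨c, hc, h0⟩ := S.exists_wt (zero_ne_bot b j)
  have e : (⇑ρ + (⇑ρ - ⇑(b.baseSupp j)) : H → K) = wt b ρ (Pi.single j 1 - c) := by
    funext h
    have := congr_fun h0 h
    simp only [wt_apply, Pi.zero_apply] at this
    simp only [wt_apply, Pi.add_apply, Pi.sub_apply, Int.cast_sub, sub_mul,
      Finset.sum_sub_distrib, sum_single_mul]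
    simp only [Int.cast_one, one_mul]
    linear_combination -this
  rw [e]
  by_contra hne
  have hn := S.nonneg_of_ne_bot hne
  have hck : ∀ k, k ≠ j → c k = 0 := by
    intro k hk
    have := hn k
    have := hc k
    simp only [Pi.sub_apply, Pi.single_apply, if_neg hk] at *
    omega
  have hcj : c j = 0 ∨ c j = 1 := by
    have := hn j
    have := hc j
    simp only [Pi.sub_apply, Pi.single_eq_same] at *
    omega
  have _i : IsAddTorsionFree L := .of_isTorsionFree K L
  have h1 := congr_fun h0 (b.h' j)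
  rw [wt_apply, S.hj, Finset.sum_eq_single j] at h1
  · rw [b.baseSupp_apply_h', b.A_diag_eq_two] at h1
    rcases hcj with h | h <;> rw [h] at h1 <;> norm_num at h1
  · intro k _ hk; rw [hck k hk]; simp
  · intro hk; exact absurd (Finset.mem_univ j) hk

/-- `-ρ - α_j` is not a weight -/
lemma neg_rho_sub_eq_bot (S : Setup b ρ j) :
    rootSpace H (-⇑ρ + -⇑(b.baseSupp j)) = ⊥ := by
  have := eq_bot_of_neg_eq_bot (S.htop j)
  rw [neg_add] at this
  exact this

end Setup

end Groth.Agent.Lib.Helper28.AdjVar
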