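import Mathlib
import Groth.Prelude.Def_VecGrp

set_option autoImplicit false

universe u

open CategoryTheory AlgebraicGeometry

namespace Groth.Agent.Lib.Helper28.AffPt

variable {k : Type u} [CommRing k]

/-- The `k`-algebra structure on the global sections of a scheme over `Spec k`. -/
@[reducible] noncomputable def gammaAlg (X : Over (Spec (CommRingCat.of k))) : Algebra k Γ(X.left, ⊤) :=
  (X.hom.appTop.hom.comp (Scheme.ΓSpecIso (CommRingCat.of k)).inv.hom).toAlgebra

theorem gammaAlg_algebraMap (X : Over (Spec (CommRingCat.of k))) (c : k) :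
    letI := gammaAlg X
    algebraMap k Γ(X.left, ⊤) c = X.hom.appTop ((Scheme.ΓSpecIso (CommRingCat.of k)).inv c) := rfl

section Ev

variable {X Y : Over (Spec (CommRingCat.of k))} {B B' : Type u} [CommRing B] [Algebra k B]
  [CommRing B'] [Algebra k B']

/-- evaluation of a global function at a `B`-point. -/
noncomputable def ev (g : VecGrp.pt k B ⟶ X) : Γ(X.left, ⊤) →+* B :=
  (Scheme.ΓSpecIso (CommRingCat.of B)).hom.hom.comp g.left.appTop.hom

theorem ev_apply (g : VecGrp.pt k B ⟶ X) (f : Γ(X.left, ⊤)) :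
    ev g f = (Scheme.ΓSpecIso (CommRingCat.of B)).hom (g.left.appTop f) := rfl

theorem ev_comp (g : VecGrp.pt k B ⟶ X) (ψ : X ⟶ Y) (f : Γ(Y.left, ⊤)) :
    ev (g ≫ ψ) f = ev g (ψ.left.appTop f) := by
  simp only [ev_apply, Over.comp_left, Scheme.Hom.comp_appTop]
  rfl

theorem ev_ptMap (φ : B →ₐ[k] B') (g : VecGrp.pt k B ⟶ X) (f : Γ(X.left, ⊤)) :
    ev (VecGrp.ptMap φ ≫ g) f = φ (ev g f) := by
  have := Scheme.ΓSpecIso_naturality (CommRingCat.ofHom φ.toRingHom)
  exact congrArg (fun m => m.hom (g.left.appTop f)) this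

theorem ev_algebraMap (g : VecGrp.pt k B ⟶ X) (c : k) :
    letI := gammaAlg X
    ev g (algebraMap k Γ(X.left, ⊤) c) = algebraMap k B c := by
  rw [gammaAlg_algebraMap, ev_apply]
  have hw : g.left ≫ X.hom = Spec.map (CommRingCat.ofHom (algebraMap k B)) := Over.w g
  have h1 : g.left.appTop (X.hom.appTop ((Scheme.ΓSpecIso (CommRingCat.of k)).inv c)) =
      (Spec.map (CommRingCat.ofHom (algebraMap k B))).appTop
        ((Scheme.ΓSpecIso (CommRingCat.of k)).inv c) := by
    rw [← hw, Scheme.Hom.comp_appTop]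
    rfl
  rw [h1]
  have := Scheme.ΓSpecIso_naturality (CommRingCat.ofHom (algebraMap k B))
  have h2 := congrArg (fun m => m.hom ((Scheme.ΓSpecIso (CommRingCat.of k)).inv c)) this
  refine h2.trans ?_
  show algebraMap k B ((Scheme.ΓSpecIso (CommRingCat.of k)).hom
    ((Scheme.ΓSpecIso (CommRingCat.of k)).inv c)) = algebraMap k B c
  congr 1
  exact congrArg (fun m => m.hom c) (Scheme.ΓSpecIso (CommRingCat.of k)).inv_hom_id

/-- evaluation as an algebra map. -/
noncomputable def evAlg (g : VecGrp.pt k B ⟶ X) :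
    letI := gammaAlg X
    Γ(X.left, ⊤) →ₐ[k] B :=
  letI := gammaAlg X
  { ev g with commutes' := fun c => ev_algebraMap g c }

theorem evAlg_apply (g : VecGrp.pt k B ⟶ X) (f : Γ(X.left, ⊤)) :
    letI := gammaAlg X
    evAlg g f = ev g f := rfl

end Ev

section Univ

variable (X : Over (Spec (CommRingCat.of k))) [IsAffine X.left]

/-- the universal point of an affine scheme over `k`. -/
noncomputable def uPt :
    letI := gammaAlg X
    VecGrp.pt k Γ(X.left, ⊤) ⟶ X :=
  letI := gammaAlg X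
  Over.homMk (X.left.isoSpec.inv) (by
    change X.left.isoSpec.inv ≫ X.hom = Spec.map (CommRingCat.ofHom (algebraMap k Γ(X.left, ⊤)))
    have h1 : (CommRingCat.ofHom (algebraMap k Γ(X.left, ⊤))) =
        (Scheme.ΓSpecIso (CommRingCat.of k)).inv ≫ X.hom.appTop := rfl
    rw [h1, Spec.map_comp, ← Scheme.isoSpec_Spec_inv, Scheme.isoSpec_inv_naturality])

theorem uPt_left :
    letI := gammaAlg X
    (uPt X).left = X.left.isoSpec.inv := rfl

theorem ev_uPt (f : Γ(X.left, ⊤)) :
    letI := gammaAlg X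
    ev (uPt X) f = f := by
  letI := gammaAlg X
  rw [ev_apply, uPt_left]
  have h1 : X.left.isoSpec.inv.appTop ≫ (Scheme.ΓSpecIso Γ(X.left, ⊤)).hom = 𝟙 _ := by
    rw [← Scheme.toSpecΓ_appTop, ← Scheme.Hom.comp_appTop, Scheme.toSpecΓ_isoSpec_inv]
    rfl
  exact congrArg (fun m => m.hom f) h1

variable {X} {B : Type u} [CommRing B] [Algebra k B]

theorem eq_ptMap_uPt (g : VecGrp.pt k B ⟶ X) :
    letI := gammaAlg X
    g = VecGrp.ptMap (evAlg g) ≫ uPt X := by
  letI := gammaAlg X
  apply Over.OverMorphism.ext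
  rw [Over.comp_left, VecGrp.ptMap_left, uPt_left]
  rw [Iso.eq_comp_inv, Scheme.isoSpec_hom, Scheme.toSpecΓ_naturality]
  have h1 : (Spec (CommRingCat.of B)).toSpecΓ = Spec.map (Scheme.ΓSpecIso (CommRingCat.of B)).hom := by
    rw [← Scheme.isoSpec_hom, Scheme.isoSpec_Spec_hom]
  erw [h1]
  rw [← Spec.map_comp]
  rfl

end Univ

end Groth.Agent.Lib.Helper28.AffPt
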