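import Groth.Agent.Lib.Helper28.SLInv1

/-!
# First fundamental theorem for `SL_d` (helper28), part 2
-/

set_option autoImplicit false
set_option linter.style.haveILetI false
set_option linter.unusedSectionVars false

universe u

namespace Groth.Agent.Lib.Helper28.Smt

open W4bk4grassmannian MvPolynomial Matrix

section top

variable {d n : ℕ}

/-- the largest element of `I(d,n)` -/
def topIdx (hdn : d ≤ n) : Idx d n :=
  ⟨fun t => ⟨n - d + t.val, by have := t.isLt; omega⟩, by
    intro a b hab
    rw [Fin.lt_def] at hab ⊢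
    show n - d + a.val < n - d + b.val
    omega⟩

lemma le_topIdx (hdn : d ≤ n) (θ : Idx d n) : θ ≤ topIdx hdn := by
  intro t
  rw [Fin.le_def]
  show (θ.1 t).val ≤ n - d + t.val
  have ht := t.isLt
  have h1 := strictMono_gap θ.1 θ.2 (d - 1 - t.val) t ⟨d - 1, by omega⟩
    (by show d - 1 = t.val + (d - 1 - t.val); omega)
  have h2 := (θ.1 ⟨d - 1, by omega⟩).isLt
  omega

end top

section ker

variable (K : Type u) [Field K] [Infinite K] {d n : ℕ}

lemma matOf_apply (A : Matrix (Fin n) (Fin d) K) :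
    matOf K (fun p : Fin n × Fin d => A p.1 p.2) = A := rfl

theorem ker_pluckerMap (hdn : d ≤ n) :
    RingHom.ker (pluckerMap K d n).toRingHom = schubertVanishing K d n (topIdx hdn) := by
  apply le_antisymm
  · intro G hG
    have hG0 : pluckerMap K d n G = 0 := hG
    unfold schubertVanishing
    rw [Ideal.mem_iInf]
    intro A
    rw [Ideal.mem_iInf]
    intro _
    rw [RingHom.mem_ker]
    show evalMinors K d n A G = 0
    rw [← matOf_apply K A, ← eval_pluckerMap, hG0, map_zero]
  · intro G hG
    rw [RingHom.mem_ker]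
    show pluckerMap K d n G = 0
    apply MvPolynomial.funext
    intro a
    rw [map_zero, eval_pluckerMap]
    unfold schubertVanishing at hG
    rw [Ideal.mem_iInf] at hG
    have h1 := hG (matOf K a)
    rw [Ideal.mem_iInf] at h1
    exact h1 (fun φ hφ => absurd (le_topIdx hdn φ) hφ)

end ker

section step2

variable (K : Type u) [Field K] [Infinite K] {d n : ℕ} (hd : 0 < d) (hdn : d < n)

include hd hdn in
theorem claimA_SL (g h : PlRing K d n) (M : ℕ)
    (hrel : g * X (iotaIdx hdn.le) ^ M - X (topIdx hdn.le) * h ∈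
      schubertVanishing K d n (topIdx hdn.le)) :
    ∃ h' : PlRing K d n, g - X (topIdx hdn.le) * h' ∈ schubertVanishing K d n (topIdx hdn.le) := by
  set w := topIdx hdn.le with hw
  set ι := iotaIdx hdn.le with hι
  have hex : ∃ φ' : Idx d n, φ' < w := by
    refine ⟨ι, lt_of_le_of_ne (iotaIdx_le _ w) ?_⟩
    intro heq
    have h1 : ((ι.1 ⟨0, hd⟩).val) = ((w.1 ⟨0, hd⟩).val) := by rw [heq]
    have h2 : (ι.1 ⟨0, hd⟩).val = 0 := rfl
    have h3 : (w.1 ⟨0, hd⟩).val = n - d + 0 := rfl
    omega
  have hT : g * X ι ^ M ∈ schubertVanishing K d n w ⊔ Ideal.span {(X w : PlRing K d n)} := by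
    have : g * X ι ^ M = (g * X ι ^ M - X w * h) + X w * h := by ring
    rw [this]
    apply Ideal.add_mem _ (Ideal.mem_sup_left hrel)
    apply Ideal.mem_sup_right
    rw [Ideal.mem_span_singleton]
    exact ⟨h, rfl⟩
  rw [schubert_sup_span_eq K hd w hex] at hT
  have hg : g ∈ ⨅ φ' ∈ divisors w, schubertVanishing K d n φ' := by
    rw [Ideal.mem_iInf]
    intro φ'
    rw [Ideal.mem_iInf]
    intro hφ'
    rw [Ideal.mem_iInf] at hT
    have h1 := hT φ'
    rw [Ideal.mem_iInf] at h1
    have h2 := h1 hφ'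
    haveI hp := isPrime_schubertVanishing K hd hdn.le φ'
    rcases hp.mem_or_mem h2 with h3 | h3
    · exact h3
    · exfalso
      have h4 := hp.mem_of_pow_mem M h3
      exact X_notMem_schubertVanishing K φ' ι (iotaIdx_le _ φ') h4
  rw [← schubert_sup_span_eq K hd w hex] at hg
  obtain ⟨j, hj, y, hy, hjy⟩ := Submodule.mem_sup.1 hg
  obtain ⟨a, rfl⟩ := Ideal.mem_span_singleton'.1 hy
  refine ⟨a, ?_⟩
  have : g - X w * a = j := by rw [← hjy]; ring
  rw [this]
  exact hj

include hd hdn in
theorem step2_SL (G₂ : PlRing K d n) (M : ℕ) : ∀ (N : ℕ) (G₁ : PlRing K d n),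
    X (iotaIdx hdn.le) ^ M * G₁ - X (topIdx hdn.le) ^ N * G₂ ∈
      schubertVanishing K d n (topIdx hdn.le) →
    ∃ H : PlRing K d n, G₁ - X (topIdx hdn.le) ^ N * H ∈
      schubertVanishing K d n (topIdx hdn.le) := by
  set w := topIdx hdn.le with hw
  set ι := iotaIdx hdn.le with hι
  set J := schubertVanishing K d n w with hJ
  haveI hprime : J.IsPrime := isPrime_schubertVanishing K hd hdn.le w
  have hXw : (X w : PlRing K d n) ∉ J := X_notMem_schubertVanishing K w w le_rfl
  intro N
  induction N with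
  | zero =>
    intro G₁ _
    exact ⟨G₁, by rw [pow_zero, one_mul, sub_self]; exact zero_mem _⟩
  | succ N ih =>
    intro G₁ h
    have h1 : G₁ * X ι ^ M - X w * (X w ^ N * G₂) ∈ J := by
      have : G₁ * X ι ^ M - X w * (X w ^ N * G₂) = X ι ^ M * G₁ - X w ^ (N + 1) * G₂ := by ring
      rw [this]
      exact h
    obtain ⟨G₁', hG₁'⟩ := claimA_SL K hd hdn G₁ _ M h1
    have h2 : X w * (X ι ^ M * G₁' - X w ^ N * G₂) ∈ J := by
      have : X w * (X ι ^ M * G₁' - X w ^ N * G₂) =
          (X ι ^ M * G₁ - X w ^ (N + 1) * G₂) - X ι ^ M * (G₁ - X w * G₁') := by ring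
      rw [this]
      exact Ideal.sub_mem _ h (Ideal.mul_mem_left _ _ hG₁')
    have h3 := (hprime.mem_or_mem h2).resolve_left hXw
    obtain ⟨H, hH⟩ := ih G₁' h3
    refine ⟨H, ?_⟩
    have : G₁ - X w ^ (N + 1) * H = (G₁ - X w * G₁') + X w * (G₁' - X w ^ N * H) := by ring
    rw [this]
    exact Ideal.add_mem _ hG₁' (Ideal.mul_mem_left _ _ hH)

end step2

section final

variable (K : Type u) [Field K] [Infinite K] {d n : ℕ}

lemma pluckerMap_X (θ : Idx d n) : pluckerMap K d n (X θ) = minor K d n θ.1 := by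
  unfold pluckerMap
  rw [aeval_X]

/-- the minors are invariant -/
theorem rightTranslate_pluckerMap (g : Matrix.SpecialLinearGroup (Fin d) K) (G : PlRing K d n) :
    rightTranslate K d n g (pluckerMap K d n G) = pluckerMap K d n G := by
  apply MvPolynomial.funext
  intro a
  rw [eval_rightTranslate, eval_pluckerMap, eval_pluckerMap]
  have h : evalMinors K d n (matOf K (fun p : Fin n × Fin d => ∑ k : Fin d, a (p.1, k) *
      (g : Matrix (Fin d) (Fin d) K) k p.2)) = evalMinors K d n (matOf K a) := by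
    apply MvPolynomial.algHom_ext
    intro θ
    unfold evalMinors
    rw [aeval_X, aeval_X]
    have h1 : (matOf K (fun p : Fin n × Fin d => ∑ k : Fin d, a (p.1, k) *
        (g : Matrix (Fin d) (Fin d) K) k p.2)).submatrix θ.1 id =
        (matOf K a).submatrix θ.1 id * (g : Matrix (Fin d) (Fin d) K) := by
      ext s t
      rw [submatrix_apply, Matrix.mul_apply]
      rfl
    rw [h1, det_mul, g.det_coe, mul_one]
  rw [h]

/-- **first fundamental theorem for `SL_d`** -/
theorem invariant_iff_mem_adjoin (hd : 0 < d) (hdn : d < n) (f : MatRing K d n) :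
    (∀ g : Matrix.SpecialLinearGroup (Fin d) K, rightTranslate K d n g f = f) ↔
      f ∈ Algebra.adjoin K (Set.range fun θ : Idx d n => minor K d n θ.1) := by
  have hadj : Algebra.adjoin K (Set.range fun θ : Idx d n => minor K d n θ.1) =
      (pluckerMap K d n).range := by
    unfold pluckerMap
    exact Algebra.adjoin_range_eq_range_aeval K _
  rw [hadj]
  constructor
  · intro hf
    set w := topIdx hdn.le with hw
    set ι := iotaIdx hdn.le with hι
    set pl := pluckerMap K d n with hpl
    have hker := ker_pluckerMap K hdn.le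
    have hmem : ∀ G : PlRing K d n, G ∈ schubertVanishing K d n w ↔ pl G = 0 := by
      intro G
      rw [← hker]
      exact Iff.rfl
    obtain ⟨N, G₁, h1⟩ := exists_mul_eq_SL K hd w f hf
    obtain ⟨M, G₂, h2⟩ := exists_mul_eq_SL K hd ι f hf
    rw [← pluckerMap_X] at h1 h2
    have h3 : X ι ^ M * G₁ - X w ^ N * G₂ ∈ schubertVanishing K d n w := by
      rw [hmem, map_sub, map_mul, map_mul, map_pow, map_pow, ← h1, ← h2]
      ring
    obtain ⟨H, hH⟩ := step2_SL K hd hdn G₂ M N G₁ h3
    have h4 : pl G₁ = pl (X w) ^ N * pl H := by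
      have := (hmem _).1 hH
      rw [map_sub, map_mul, map_pow, sub_eq_zero] at this
      exact this
    have hw0 : pl (X w) ≠ 0 := by
      rw [hpl, pluckerMap_X]
      exact minor_ne_zero K w
    have h5 : pl (X w) ^ N * (f - pl H) = 0 := by
      rw [mul_sub, h1, h4, sub_self]
    have h6 : f = pl H := sub_eq_zero.1 ((mul_eq_zero.1 h5).resolve_left (pow_ne_zero _ hw0))
    exact ⟨H, h6.symm⟩
  · rintro ⟨G, rfl⟩ g
    exact rightTranslate_pluckerMap K g G

end final

end Groth.Agent.Lib.Helper28.Smt
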