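import Groth.Agent.Lib.Helper28.BitTheta2
import Groth.Agent.Lib.Helper28.SLInv2

/-!
# The opposite cell of a general Schubert variety, and row reversal (helper28)
-/

set_option autoImplicit false
set_option linter.style.haveILetI false

universe u

namespace Groth.Agent.Lib.Helper28.Bit

open W4bk4grassmannian MvPolynomial Matrix
open Groth.Agent.Lib.Helper28.DetCell Groth.Agent.Lib.Helper28.Smt

section general

variable (K : Type u) [Field K] (d r : ℕ)

/-- the ideal of the opposite cell of `X(w)` -/
noncomputable def cellIdeal (w : Idx d (d + r)) : Ideal (CellRing K d r) :=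
  Ideal.span {f | ∃ θ : Idx d (d + r), ¬ θ ≤ w ∧ f = cellMinor K d r θ}

lemma cellMap_eq_zero_of_mem_plIdealTop [Infinite K] (f : PlRing K d (d + r))
    (hf : f ∈ plIdealTop (d := d) (n := d + r) K) : cellMap K d r f = 0 := by
  have hle : plIdealTop (d := d) (n := d + r) K ≤ RingHom.ker (cellMap K d r).toRingHom := by
    unfold plIdealTop
    rw [Ideal.span_le]
    rintro g ⟨i, j, r', -, rfl⟩
    rw [SetLike.mem_coe, RingHom.mem_ker]
    show cellMap K d r (shuffleRel K i j r') = 0
    apply MvPolynomial.funext
    intro z
    rw [eval_cellMap, evalMinors_shuffleRel, map_zero]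
  exact hle hf

variable [Infinite K] {d r}

/-- a homogeneous polynomial whose restriction to the cell lies in the cell ideal lies
in the Schubert ideal `J(w)` -/
theorem mem_of_cellMap_mem_w (hd : 0 < d) (w : Idx d (d + r)) (F : PlRing K d (d + r)) (N : ℕ)
    (hF : F.IsHomogeneous N) (h : cellMap K d r F ∈ cellIdeal K d r w) :
    F ∈ schubertVanishing K d (d + r) w := by
  classical
  set ι := iotaIdx (Nat.le_add_right d r) with hι
  haveI := isPrime_schubertVanishing K hd (Nat.le_add_right d r) w
  have hx : (X ι : PlRing K d (d + r)) ∉ schubertVanishing K d (d + r) w :=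
    X_notMem_schubertVanishing K w ι (iotaIdx_le _ w)
  have hxF : X ι * F ∈ schubertVanishing K d (d + r) w := by
    unfold schubertVanishing
    rw [Ideal.mem_iInf]
    intro A
    rw [Ideal.mem_iInf]
    intro hA
    rw [RingHom.mem_ker]
    show evalMinors K d (d + r) A (X ι * F) = 0
    rw [map_mul]
    set Atop : Matrix (Fin d) (Fin d) K := A.submatrix ι.1 id with hAtop
    have hX : evalMinors K d (d + r) A (X ι) = Atop.det := by
      unfold evalMinors
      rw [aeval_X]
    rw [hX]
    by_cases hδ : Atop.det = 0
    · rw [hδ, zero_mul]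
    · have hu : IsUnit Atop.det := IsUnit.mk0 _ hδ
      set Z₀ : Matrix (Fin r) (Fin d) K := A.submatrix (Fin.natAdd d) id * Atop⁻¹ with hZ₀
      set z : Fin r × Fin d → K := fun p => Z₀ p.1 p.2 with hz
      set C₀ : Matrix (Fin (d + r)) (Fin d) K := (cellMatrix K d r).map (eval z) with hC₀
      have hC : C₀ * Atop = A := by
        ext i j
        rw [Matrix.mul_apply]
        by_cases hi : i.val < d
        · have h1 : ∀ k : Fin d, C₀ i k = if i.val = k.val then 1 else 0 := by
            intro k
            show eval z (cellMatrix K d r i k) = _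
            unfold cellMatrix
            rw [Matrix.of_apply, dif_pos hi]
            split_ifs
            · rw [map_one]
            · rw [map_zero]
          simp only [h1]
          rw [Finset.sum_eq_single ⟨i.val, hi⟩]
          · rw [if_pos rfl, one_mul]
            show A (ι.1 ⟨i.val, hi⟩) j = A i j
            congr 1
          · intro k _ hk
            rw [if_neg, zero_mul]
            intro h'
            exact hk (Fin.ext h'.symm)
          · intro h'
            exact absurd (Finset.mem_univ _) h'
        · have hi' : i.val - d < r := by have := i.isLt; omega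
          have h1 : ∀ k : Fin d, C₀ i k = Z₀ ⟨i.val - d, hi'⟩ k := by
            intro k
            show eval z (cellMatrix K d r i k) = _
            unfold cellMatrix
            rw [Matrix.of_apply, dif_neg hi, eval_X]
          simp only [h1]
          rw [← Matrix.mul_apply]
          have h2 : Z₀ * Atop = A.submatrix (Fin.natAdd d) id :=
            Matrix.nonsing_inv_mul_cancel_right _ _ hu
          rw [h2, submatrix_apply]
          congr 1
          apply Fin.ext
          rw [Fin.val_natAdd]
          show d + (i.val - d) = i.val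
          omega
      have hminor : ∀ θ : Idx d (d + r),
          (A.submatrix θ.1 id).det = eval z (cellMinor K d r θ) * Atop.det := by
        intro θ
        rw [eval_cellMinor, ← det_mul]
        congr 1
        conv_lhs => rw [← hC]
        ext a b
        rw [submatrix_apply, Matrix.mul_apply, Matrix.mul_apply]
        rfl
      have hcomp : ∀ G : PlRing K d (d + r),
          aeval (fun θ : Idx d (d + r) => eval z (cellMinor K d r θ)) G =
            eval z (cellMap K d r G) := by
        intro G
        have h1 : (aeval (fun θ : Idx d (d + r) => eval z (cellMinor K d r θ)) :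
            PlRing K d (d + r) →ₐ[K] K) = (aeval z : CellRing K d r →ₐ[K] K).comp
              (cellMap K d r) := by
          apply MvPolynomial.algHom_ext
          intro θ
          rw [aeval_X, AlgHom.comp_apply, cellMap_X]
          rfl
        rw [h1]
        rfl
      have hev : evalMinors K d (d + r) A F = Atop.det ^ N * eval z (cellMap K d r F) := by
        have h1 : evalMinors K d (d + r) A =
            aeval (fun θ : Idx d (d + r) => eval z (cellMinor K d r θ) * Atop.det) := by
          unfold evalMinors
          congr 1
          funext θ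
          exact hminor θ
        rw [h1, aeval_mul_of_isHomogeneous F N hF, hcomp]
      have hzero : eval z (cellMap K d r F) = 0 := by
        have hle : cellIdeal K d r w ≤ RingHom.ker (eval z) := by
          unfold cellIdeal
          rw [Ideal.span_le]
          rintro _ ⟨θ, hθ, rfl⟩
          rw [SetLike.mem_coe, RingHom.mem_ker]
          have h1 := hminor θ
          have h2 : (A.submatrix θ.1 id).det = 0 := hA θ hθ
          rw [h2] at h1
          exact (mul_eq_zero.1 h1.symm).resolve_right hδ
        exact hle h
      rw [hev, hzero, mul_zero, mul_zero]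
  exact (Ideal.IsPrime.mem_or_mem inferInstance hxF).resolve_left hx

end general

section rev

variable (K : Type u) [Field K] (m n : ℕ)

/-- reversal of the rows of the generic matrix -/
noncomputable def revRow :
    MvPolynomial (Fin m × Fin n) K ≃ₐ[K] MvPolynomial (Fin m × Fin n) K :=
  MvPolynomial.renameEquiv K (Equiv.prodCongr Fin.revPerm (Equiv.refl (Fin n)))

lemma revRow_X (i : Fin m) (j : Fin n) :
    revRow K m n (X (i, j)) = X (Fin.rev i, j) := by
  unfold revRow
  rw [renameEquiv_apply, rename_X]
  rfl

lemma revRow_revRow (x : MvPolynomial (Fin m × Fin n) K) : revRow K m n (revRow K m n x) = x := by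
  have h : ((revRow K m n : MvPolynomial (Fin m × Fin n) K →ₐ[K] _).comp
      (revRow K m n : MvPolynomial (Fin m × Fin n) K →ₐ[K] _)) = AlgHom.id K _ := by
    apply MvPolynomial.algHom_ext
    rintro ⟨i, j⟩
    rw [AlgHom.comp_apply, AlgHom.id_apply]
    show revRow K m n (revRow K m n (X (i, j))) = _
    rw [revRow_X, revRow_X, Fin.rev_rev]
  exact congrArg (fun f => f x) h

lemma revRow_det {t : ℕ} (f : Fin t → Fin m) (g : Fin t → Fin n) :
    revRow K m n ((genMatrix K m n).submatrix f g).det =
      ((genMatrix K m n).submatrix (Fin.rev ∘ f) g).det := by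
  have h1 := RingHom.map_det (revRow K m n : MvPolynomial (Fin m × Fin n) K ≃ₐ[K] _).toRingEquiv.toRingHom
    ((genMatrix K m n).submatrix f g)
  refine h1.trans ?_
  congr 1
  apply Matrix.ext
  intro a b
  rw [RingHom.mapMatrix_apply, Matrix.map_apply, submatrix_apply, submatrix_apply]
  unfold genMatrix
  rw [Matrix.of_apply, Matrix.of_apply]
  exact revRow_X K m n _ _

lemma revRow_mem_minorIdeal (t : ℕ) (x : MvPolynomial (Fin m × Fin n) K)
    (hx : x ∈ CAlgX.minorIdeal (genMatrix K m n) t) :
    revRow K m n x ∈ CAlgX.minorIdeal (genMatrix K m n) t := by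
  have hle : CAlgX.minorIdeal (genMatrix K m n) t ≤
      Ideal.comap (revRow K m n : MvPolynomial (Fin m × Fin n) K ≃ₐ[K] _).toRingEquiv.toRingHom
        (CAlgX.minorIdeal (genMatrix K m n) t) := by
    unfold CAlgX.minorIdeal
    rw [Ideal.span_le]
    rintro _ ⟨⟨f, g⟩, rfl⟩
    rw [SetLike.mem_coe, Ideal.mem_comap]
    show revRow K m n ((genMatrix K m n).submatrix f g).det ∈ _
    rw [revRow_det]
    exact Ideal.subset_span ⟨(Fin.rev ∘ f, g), rfl⟩
  exact hle hx

/-- the cell map followed by the row reversal -/
noncomputable def psiR : PlRing K n (n + m) →ₐ[K] MvPolynomial (Fin m × Fin n) K :=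
  (revRow K m n : MvPolynomial (Fin m × Fin n) K →ₐ[K] _).comp (cellMap K n m)

lemma psiR_apply (F : PlRing K n (n + m)) : psiR K m n F = revRow K m n (cellMap K n m F) := rfl

lemma psiR_surjective : Function.Surjective (psiR K m n) := by
  intro y
  obtain ⟨F, hF⟩ := cellMap_surjective K n m (revRow K m n y)
  refine ⟨F, ?_⟩
  rw [psiR_apply, hF, revRow_revRow]

lemma psiR_X_iota : psiR K m n (X (iotaIdx (Nat.le_add_right n m))) = 1 := by
  rw [psiR_apply, cellMap_X, cellMinor_iota, map_one]

/-- a minor of the generic matrix is, up to sign, the image of a Plücker coordinate -/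
theorem minorOf_eq (M : MinorIdx m n) :
    ∃ ε : K, ε ≠ 0 ∧ minorOf K M = C ε * psiR K m n (X (thetaM M)) := by
  obtain ⟨u, hu, -, hdet⟩ := exists_cellMinor_eq (K := K) (d := n) (r := m) (t := M.1 + 1)
    (idx_card_le M.2.2) (Fin.rev ∘ M.2.1.1) M.2.2.1
    (Fin.rev_injective.comp M.2.1.2.injective) M.2.2.2.injective
  have hu' : u = 1 ∨ u = -1 := by
    have : (u - 1) * (u + 1) = 0 := by
      have : (u - 1) * (u + 1) = u * u - 1 := by ring
      rw [this, hu, sub_self]
    rcases mul_eq_zero.1 this with h | h
    · left
      exact sub_eq_zero.1 h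
    · right
      exact eq_neg_of_add_eq_zero_left h
  have h1 : minorOf K M = revRow K m n
      ((genMatrix K m n).submatrix (Fin.rev ∘ M.2.1.1) M.2.2.1).det := by
    rw [revRow_det]
    unfold minorOf
    congr 2
    funext a
    rw [Function.comp_apply, Function.comp_apply, Fin.rev_rev]
  rw [h1, hdet, map_mul, psiR_apply, cellMap_X]
  rcases hu' with rfl | rfl
  · refine ⟨1, one_ne_zero, ?_⟩
    rw [map_one, map_one]
    rfl
  · refine ⟨-1, neg_ne_zero.2 one_ne_zero, ?_⟩
    rw [map_neg, map_one, map_neg, map_one]
    rfl

/-- the sign of a minor -/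
noncomputable def epsM (M : MinorIdx m n) : K := Classical.choose (minorOf_eq K m n M)

lemma epsM_ne_zero (M : MinorIdx m n) : epsM K m n M ≠ 0 :=
  (Classical.choose_spec (minorOf_eq K m n M)).1

lemma minorOf_eq_epsM (M : MinorIdx m n) :
    minorOf K M = C (epsM K m n M) * psiR K m n (X (thetaM M)) :=
  (Classical.choose_spec (minorOf_eq K m n M)).2

end rev

end Groth.Agent.Lib.Helper28.Bit
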