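import Groth.Prelude.Def_W4bk4grassmannianPl
import Mathlib.Tactic.Ring
import Mathlib.Tactic.Linarith
import Mathlib.Algebra.Order.BigOperators.Group.Finset

/-!
# Standard monomial theory for the Grassmannian: basic combinatorics of the shuffle relations (helper28)

* `coord_shape`, `coord_strictMono`
* `shuffleTerm_id` : the identity shuffle contributes `X i * X j`
* `shuffleTerm_shape` : every other shuffle contributes `0` or `± X i' * X j'` with `wt i < wt i'`
-/

set_option autoImplicit false

namespace Groth.Agent.Lib.Helper28.Smt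

open W4bk4grassmannian MvPolynomial

variable {d n : ℕ}

/-- weight of a tuple: the sum of its entries -/
def wt (a : Fin d → Fin n) : ℕ := ∑ t, (a t).val

lemma sum_orderEmbOfFin {α : Type*} [LinearOrder α] (s : Finset α) {k : ℕ} (h : s.card = k)
    (f : α → ℕ) : ∑ t, f (s.orderEmbOfFin h t) = ∑ x ∈ s, f x := by
  conv_rhs => rw [← Finset.map_orderEmbOfFin_univ s h]
  rw [Finset.sum_map]
  rfl

lemma injective_of_card_image {a : Fin d → Fin n} (h : (Finset.univ.image a).card = d) :
    Function.Injective a := by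
  have h' : (Finset.univ.image a).card = (Finset.univ : Finset (Fin d)).card := by
    rw [h, Finset.card_univ, Fintype.card_fin]
  have := Finset.card_image_iff.mp h'
  intro x y hxy
  exact this (Finset.mem_coe.2 (Finset.mem_univ x)) (Finset.mem_coe.2 (Finset.mem_univ y)) hxy

lemma card_image_of_injective' {a : Fin d → Fin n} (h : Function.Injective a) :
    (Finset.univ.image a).card = d := by
  rw [Finset.card_image_of_injective _ h, Finset.card_univ, Fintype.card_fin]

lemma wt_sortIdx (a : Fin d → Fin n) (h : (Finset.univ.image a).card = d) :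
    wt (sortIdx d n a h).1 = wt a := by
  unfold wt sortIdx
  simp only
  rw [sum_orderEmbOfFin (Finset.univ.image a) h (fun x => x.val)]
  rw [Finset.sum_image]
  intro x _ y _ hxy
  exact injective_of_card_image h hxy

variable (K : Type*) [CommRing K]

/-- a signed coordinate is `0` or `±` a variable of the same weight -/
lemma coord_shape (a : Fin d → Fin n) :
    coord K d n a = 0 ∨ ∃ (θ : Idx d n) (s : ℕ), coord K d n a = (-1) ^ s * X θ ∧ wt θ.1 = wt a := by
  unfold coord
  split_ifs with h
  · right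
    exact ⟨sortIdx d n a h, invCount d n a, rfl, wt_sortIdx a h⟩
  · left; rfl

lemma invCount_strictMono (θ : Idx d n) : invCount d n θ.1 = 0 := by
  unfold invCount
  rw [Finset.card_eq_zero, Finset.filter_eq_empty_iff]
  rintro ⟨p, q⟩ _ ⟨hpq, hlt⟩
  exact absurd (θ.2 hpq) (not_lt.2 hlt.le)

lemma sortIdx_strictMono (θ : Idx d n) (h : (Finset.univ.image θ.1).card = d) :
    sortIdx d n θ.1 h = θ := by
  apply Subtype.ext
  unfold sortIdx
  simp only
  have := Finset.orderEmbOfFin_unique h (f := θ.1)
    (fun x => Finset.mem_image_of_mem _ (Finset.mem_univ x)) θ.2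
  exact this.symm

lemma coord_strictMono (θ : Idx d n) : coord K d n θ.1 = X θ := by
  unfold coord
  have h : (Finset.univ.image θ.1).card = d := card_image_of_injective' θ.2.injective
  rw [dif_pos h, invCount_strictMono, pow_zero, one_mul, sortIdx_strictMono]

/-! ### moving rows and shuffles -/

lemma movingRows_of_le (i j : Idx d n) (r : Fin d) (k : Fin (d + 1)) (h : k.val ≤ r.val) :
    movingRows i j r k = i.1 ⟨k.val, lt_of_le_of_lt h r.isLt⟩ := by
  unfold movingRows; rw [dif_pos h]

lemma movingRows_of_gt (i j : Idx d n) (r : Fin d) (k : Fin (d + 1)) (h : r.val < k.val) :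
    movingRows i j r k = j.1 ⟨k.val - 1, by have := k.isLt; omega⟩ := by
  unfold movingRows; rw [dif_neg (by omega)]

lemma movingRows_strictMono (i j : Idx d n) (r : Fin d) (hp : i.1 r < j.1 r) :
    StrictMono (movingRows i j r) := by
  intro k l hkl
  have hkl' : k.val < l.val := hkl
  by_cases hl : l.val ≤ r.val
  · rw [movingRows_of_le _ _ _ _ hl, movingRows_of_le _ _ _ _ (by omega)]
    exact i.2 (by simpa using hkl')
  · have hl' : r.val < l.val := by omega
    rw [movingRows_of_gt _ _ _ _ hl']
    by_cases hk : k.val ≤ r.val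
    · rw [movingRows_of_le _ _ _ _ hk]
      have h1 : i.1 ⟨k.val, lt_of_le_of_lt hk r.isLt⟩ ≤ i.1 r :=
        i.2.monotone (by simpa [Fin.le_def] using hk)
      have h2 : j.1 r ≤ j.1 ⟨l.val - 1, by have := l.isLt; omega⟩ :=
        j.2.monotone (by simp only [Fin.le_def]; omega)
      exact lt_of_le_of_lt h1 (lt_of_lt_of_le hp h2)
    · have hk' : r.val < k.val := by omega
      rw [movingRows_of_gt _ _ _ _ hk']
      apply j.2
      simp only [Fin.lt_def]
      omega

/-- the positions of the identity shuffle -/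
def A0 (r : Fin d) : Finset (Fin (d + 1)) := Finset.Iic (Fin.castSucc r)

lemma mem_A0 (r : Fin d) (k : Fin (d + 1)) : k ∈ A0 r ↔ k.val ≤ r.val := by
  unfold A0
  rw [Finset.mem_Iic, Fin.le_def]
  rfl

lemma card_A0 (r : Fin d) : (A0 r).card = r.val + 1 := by
  unfold A0
  rw [Fin.card_Iic]
  rfl

lemma strictMono_val_le {k m : ℕ} (f : Fin k → Fin m) (hf : StrictMono f) :
    ∀ (s : ℕ) (hs : s < k), s ≤ (f ⟨s, hs⟩).val := by
  intro s
  induction s with
  | zero => intro _; exact Nat.zero_le _
  | succ s ih =>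
    intro hs
    have h1 := ih (by omega)
    have h2 : f ⟨s, by omega⟩ < f ⟨s + 1, hs⟩ := hf (by simp [Fin.lt_def])
    have h3 : (f ⟨s, by omega⟩).val < (f ⟨s + 1, hs⟩).val := h2
    omega

lemma orderEmb_ge {m k : ℕ} (A : Finset (Fin m)) (hA : A.card = k) (t : Fin k) :
    t.val ≤ (A.orderEmbOfFin hA t).val :=
  strictMono_val_le _ (A.orderEmbOfFin hA).strictMono t.val t.isLt

lemma orderEmb_A0 (r : Fin d) (hA : (A0 r).card = r.val + 1) (t : Fin (r.val + 1)) :
    (A0 r).orderEmbOfFin hA t = ⟨t.val, by have := t.isLt; have := r.isLt; omega⟩ := by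
  have h := Finset.orderEmbOfFin_unique hA
    (f := fun t : Fin (r.val + 1) => (⟨t.val, by have := t.isLt; have := r.isLt; omega⟩ : Fin (d + 1)))
    (fun x => by rw [mem_A0]; have := x.isLt; simp only; omega)
    (fun x y hxy => by
      have : x.val < y.val := hxy
      exact Fin.lt_def.2 this)
  exact (congrFun h t).symm

lemma eq_A0_of_orderEmb (r : Fin d) (A : Finset (Fin (d + 1))) (hA : A.card = r.val + 1)
    (h : ∀ t : Fin (r.val + 1), (A.orderEmbOfFin hA t).val = t.val) : A = A0 r := by
  rw [← Finset.image_orderEmbOfFin_univ A hA]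
  ext k
  rw [Finset.mem_image, mem_A0]
  constructor
  · rintro ⟨t, _, rfl⟩
    rw [h t]
    have := t.isLt
    omega
  · intro hk
    refine ⟨⟨k.val, by omega⟩, Finset.mem_univ _, ?_⟩
    apply Fin.ext
    rw [h]

lemma exists_orderEmb_gt (r : Fin d) (A : Finset (Fin (d + 1))) (hA : A.card = r.val + 1)
    (hne : A ≠ A0 r) : ∃ t : Fin (r.val + 1), t.val < (A.orderEmbOfFin hA t).val := by
  by_contra hcon
  simp only [not_exists, not_lt] at hcon
  apply hne
  apply eq_A0_of_orderEmb r A hA
  intro t
  exact le_antisymm (hcon t) (orderEmb_ge A hA t)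

lemma le_shuffleI (i j : Idx d n) (r : Fin d) (hp : i.1 r < j.1 r) (A : Finset (Fin (d + 1)))
    (hA : A.card = r.val + 1) (t : Fin d) : i.1 t ≤ shuffleI i j r A hA t := by
  unfold shuffleI
  split_ifs with h
  · have h1 : i.1 t = movingRows i j r ⟨t.val, by have := t.isLt; omega⟩ := by
      rw [movingRows_of_le _ _ _ _ h]
    rw [h1]
    apply (movingRows_strictMono i j r hp).monotone
    rw [Fin.le_def]
    exact orderEmb_ge A hA ⟨t.val, by omega⟩
  · exact le_rfl

lemma wt_lt_wt_shuffleI (i j : Idx d n) (r : Fin d) (hp : i.1 r < j.1 r)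
    (A : Finset (Fin (d + 1))) (hA : A.card = r.val + 1) (hne : A ≠ A0 r) :
    wt i.1 < wt (shuffleI i j r A hA) := by
  unfold wt
  apply Finset.sum_lt_sum
  · intro t _
    exact le_shuffleI i j r hp A hA t
  · obtain ⟨t, ht⟩ := exists_orderEmb_gt r A hA hne
    have htd : t.val < d := by have := t.isLt; have := r.isLt; omega
    refine ⟨⟨t.val, htd⟩, Finset.mem_univ _, ?_⟩
    have htr : t.val ≤ r.val := by have := t.isLt; omega
    unfold shuffleI
    rw [dif_pos htr]
    have h1 : i.1 ⟨t.val, htd⟩ = movingRows i j r ⟨t.val, by omega⟩ := by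
      rw [movingRows_of_le _ _ _ _ htr]
    rw [h1]
    apply movingRows_strictMono i j r hp
    rw [Fin.lt_def]
    exact ht

/-- shape of the non-identity terms of a shuffle relation at a pivot -/
lemma shuffleTerm_shape (i j : Idx d n) (r : Fin d) (hp : i.1 r < j.1 r)
    (A : Finset (Fin (d + 1))) (hne : A ≠ A0 r) :
    shuffleTerm K i j r A = 0 ∨ ∃ (i' j' : Idx d n) (s : ℕ),
      shuffleTerm K i j r A = (-1) ^ s * (X i' * X j') ∧ wt i.1 < wt i'.1 := by
  unfold shuffleTerm
  split_ifs with hA
  · rcases coord_shape K (shuffleI i j r A hA) with h1 | ⟨i', s1, h1, hw1⟩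
    · left; rw [h1]; ring
    · rcases coord_shape K (shuffleJ i j r A hA) with h2 | ⟨j', s2, h2, _⟩
      · left; rw [h2]; ring
      · right
        refine ⟨i', j', shuffleSign r A + s1 + s2, ?_, ?_⟩
        · rw [h1, h2]; ring
        · rw [hw1]
          exact wt_lt_wt_shuffleI i j r hp A hA hne
  · left; rfl

/-! ### the identity shuffle -/

lemma shuffleI_A0 (i j : Idx d n) (r : Fin d) (hA : (A0 r).card = r.val + 1) :
    shuffleI i j r (A0 r) hA = i.1 := by
  funext t
  unfold shuffleI
  split_ifs with h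
  · rw [orderEmb_A0, movingRows_of_le _ _ _ _ (by simpa using h)]
  · rfl

lemma mem_A0_compl (r : Fin d) (k : Fin (d + 1)) : k ∈ (A0 r)ᶜ ↔ r.val < k.val := by
  rw [Finset.mem_compl, mem_A0]; omega

lemma orderEmb_A0_compl (r : Fin d) (hC : (A0 r)ᶜ.card = d - r.val) (s : Fin (d - r.val)) :
    (A0 r)ᶜ.orderEmbOfFin hC s = ⟨r.val + 1 + s.val, by have := s.isLt; have := r.isLt; omega⟩ := by
  have h := Finset.orderEmbOfFin_unique hC
    (f := fun s : Fin (d - r.val) =>
      (⟨r.val + 1 + s.val, by have := s.isLt; have := r.isLt; omega⟩ : Fin (d + 1)))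
    (fun x => by rw [mem_A0_compl]; simp only; omega)
    (fun x y hxy => by
      have : x.val < y.val := hxy
      exact Fin.lt_def.2 (by simp only; omega))
  exact (congrFun h s).symm

lemma shuffleJ_A0 (i j : Idx d n) (r : Fin d) (hA : (A0 r).card = r.val + 1) :
    shuffleJ i j r (A0 r) hA = j.1 := by
  funext t
  unfold shuffleJ
  split_ifs with h
  · rfl
  · rw [orderEmb_A0_compl, movingRows_of_gt _ _ _ _ (by simp only; omega)]
    have : (⟨r.val + 1 + (t.val - r.val) - 1, by have := t.isLt; omega⟩ : Fin d) = t := by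
      apply Fin.ext
      simp only
      omega
    exact congrArg j.1 this

lemma shuffleSign_A0 (r : Fin d) : shuffleSign r (A0 r) = 0 := by
  unfold shuffleSign
  have h1 : (A0 r).sum (fun a => a.val) = ∑ t : Fin (r.val + 1), t.val := by
    rw [← sum_orderEmbOfFin (A0 r) (card_A0 r) (fun a => a.val)]
    apply Finset.sum_congr rfl
    intro t _
    rw [orderEmb_A0]
  rw [h1, Fin.sum_univ_eq_sum_range (fun t => t) (r.val + 1), Finset.sum_range_id]
  have : (r.val + 1) * (r.val + 1 - 1) / 2 = r.val * (r.val + 1) / 2 := by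
    rw [Nat.add_sub_cancel, mul_comm]
  rw [this, Nat.sub_self]

/-- the identity shuffle contributes `X i * X j` -/
lemma shuffleTerm_A0 (i j : Idx d n) (r : Fin d) :
    shuffleTerm K i j r (A0 r) = X i * X j := by
  unfold shuffleTerm
  rw [dif_pos (card_A0 r), shuffleI_A0, shuffleJ_A0, shuffleSign_A0, coord_strictMono,
    coord_strictMono]
  ring

/-- decomposition of a shuffle relation -/
lemma shuffleRel_eq (i j : Idx d n) (r : Fin d) :
    shuffleRel K i j r = X i * X j +
      ∑ A ∈ (Finset.univ : Finset (Finset (Fin (d + 1)))).erase (A0 r), shuffleTerm K i j r A := by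
  unfold shuffleRel
  rw [← Finset.add_sum_erase _ _ (Finset.mem_univ (A0 r)), shuffleTerm_A0]

end Groth.Agent.Lib.Helper28.Smt
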