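import Groth.Agent.Lib.Helper28.DetCell
import Groth.Agent.Lib.Helper28.SmtBasic

/-!
# Counting lemmas for increasing tuples (helper28)
-/

set_option autoImplicit false

namespace Groth.Agent.Lib.Helper28.Bit

open W4bk4grassmannian
open Groth.Agent.Lib.Helper28.DetCell Groth.Agent.Lib.Helper28.Smt

section cnt

variable {k k' N : ℕ}

/-- the number of entries of `f` below `x` -/
def cnt (f : Fin k → Fin N) (x : ℕ) : ℕ := (Finset.univ.filter fun i => (f i).val < x).card

lemma cnt_le (f : Fin k → Fin N) (x : ℕ) : cnt f x ≤ k := by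
  unfold cnt
  have := Finset.card_filter_le (Finset.univ : Finset (Fin k)) (fun i => (f i).val < x)
  rwa [Finset.card_univ, Fintype.card_fin] at this

lemma cnt_top (f : Fin k → Fin N) (x : ℕ) (hx : N ≤ x) : cnt f x = k := by
  unfold cnt
  rw [Finset.filter_true_of_mem, Finset.card_univ, Fintype.card_fin]
  intro i _
  exact lt_of_lt_of_le (f i).isLt hx

lemma lt_cnt_iff (f : Fin k → Fin N) (hf : StrictMono f) (x : ℕ) (j : Fin k) :
    j.val < cnt f x ↔ (f j).val < x := by
  constructor
  · intro h
    by_contra hj
    have hsub : (Finset.univ.filter fun i => (f i).val < x) ⊆ Finset.Iio j := by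
      intro i hi
      rw [Finset.mem_filter] at hi
      rw [Finset.mem_Iio]
      apply hf.lt_iff_lt.1
      rw [Fin.lt_def]
      omega
    have := Finset.card_le_card hsub
    rw [Fin.card_Iio] at this
    unfold cnt at h
    omega
  · intro h
    have hsub : Finset.Iic j ⊆ (Finset.univ.filter fun i => (f i).val < x) := by
      intro i hi
      rw [Finset.mem_Iic] at hi
      rw [Finset.mem_filter]
      refine ⟨Finset.mem_univ _, ?_⟩
      have := Fin.le_def.1 (hf.monotone hi)
      omega
    have := Finset.card_le_card hsub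
    rw [Fin.card_Iic] at this
    unfold cnt
    omega

lemma cnt_le_self (f : Fin k → Fin N) (hf : StrictMono f) (x : ℕ) : cnt f x ≤ x := by
  by_contra h
  rw [not_le] at h
  have hk := cnt_le f x
  have h1 := (lt_cnt_iff f hf x ⟨x, by omega⟩).1 h
  have h2 := strictMono_val_le f hf x (by omega)
  omega

/-- the comparison of increasing tuples (of possibly different lengths) by counting -/
theorem ge_iff_cnt (f : Fin k → Fin N) (f' : Fin k' → Fin N) (hf : StrictMono f)
    (hf' : StrictMono f') :
    (k ≤ k' ∧ ∀ (j : Fin k) (j' : Fin k'), j.val = j'.val → f' j' ≤ f j) ↔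
      ∀ x, x ≤ N → cnt f x ≤ cnt f' x := by
  constructor
  · rintro ⟨hk, h⟩ x _
    by_contra hc
    rw [not_le] at hc
    have h1 := cnt_le f x
    have h2 := (lt_cnt_iff f hf x ⟨cnt f' x, by omega⟩).1 hc
    have h3 := h ⟨cnt f' x, by omega⟩ ⟨cnt f' x, by omega⟩ rfl
    have h4 := Fin.le_def.1 h3
    have h5 := (lt_cnt_iff f' hf' x ⟨cnt f' x, by omega⟩).2 (by omega)
    exact lt_irrefl _ h5
  · intro h
    refine ⟨?_, ?_⟩
    · have := h N le_rfl
      rwa [cnt_top f N le_rfl, cnt_top f' N le_rfl] at this
    · intro j j' hjj'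
      have h1 := (lt_cnt_iff f hf ((f j).val + 1) j).2 (Nat.lt_succ_self _)
      have h2 := h ((f j).val + 1) (f j).isLt
      have h3 := (lt_cnt_iff f' hf' ((f j).val + 1) j').1 (by omega)
      rw [Fin.le_def]
      omega

/-- counting the elements of `Fin (a + b)` with a property -/
lemma card_filter_fin_add (a b : ℕ) (P : Fin (a + b) → Prop) [DecidablePred P] :
    (Finset.univ.filter P).card =
      (Finset.univ.filter fun j : Fin a => P (Fin.castAdd b j)).card +
        (Finset.univ.filter fun y : Fin b => P (Fin.natAdd a y)).card := by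
  rw [Finset.card_filter, Finset.card_filter, Finset.card_filter, Fin.sum_univ_add]

end cnt

section theta

variable {d r t : ℕ}

open Classical in
theorem cnt_thetaOf (htd : t ≤ d) (f : Fin t → Fin r) (g : Fin t → Fin d)
    (hf : Function.Injective f) (hg : Function.Injective g) (x : ℕ) :
    cnt (thetaOf htd f g hf hg).1 x =
      (Finset.univ.filter fun j : Fin d => j.val < x ∧ j ∉ Set.range g).card +
        (Finset.univ.filter fun y : Fin r => d + y.val < x ∧ y ∈ Set.range f).card := by
  set θ := thetaOf htd f g hf hg with hθ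
  have hrange : Set.range θ.1 = ↑(thetaSet f g) := range_thetaOf htd f g hf hg
  have h1 : cnt θ.1 x =
      (Finset.univ.filter fun y : Fin (d + r) => y.val < x ∧ y ∈ thetaSet f g).card := by
    unfold cnt
    rw [← Finset.card_image_of_injective _ θ.2.injective]
    congr 1
    ext y
    rw [Finset.mem_image, Finset.mem_filter]
    constructor
    · rintro ⟨i, hi, rfl⟩
      rw [Finset.mem_filter] at hi
      refine ⟨Finset.mem_univ _, hi.2, ?_⟩
      rw [← Finset.mem_coe, ← hrange]
      exact ⟨i, rfl⟩
    · rintro ⟨_, hy1, hy2⟩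
      rw [← Finset.mem_coe, ← hrange] at hy2
      obtain ⟨i, rfl⟩ := hy2
      exact ⟨i, Finset.mem_filter.2 ⟨Finset.mem_univ _, hy1⟩, rfl⟩
  rw [h1, card_filter_fin_add]
  congr 1
  · apply congrArg
    apply Finset.filter_congr
    intro j _
    rw [mem_thetaSet_castAdd, Fin.val_castAdd]
  · apply congrArg
    apply Finset.filter_congr
    intro y _
    rw [mem_thetaSet_natAdd, Fin.val_natAdd]

end theta

end Groth.Agent.Lib.Helper28.Bit
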