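import Groth.Agent.Lib.Helper28.BitCell

/-!
# The determinantal ideals as cell ideals (helper28)
-/

set_option autoImplicit false
set_option linter.style.haveILetI false

universe u

namespace Groth.Agent.Lib.Helper28.Bit

open W4bk4grassmannian MvPolynomial Matrix
open Groth.Agent.Lib.Helper28.DetCell Groth.Agent.Lib.Helper28.Smt

variable (K : Type u) [Field K] (m n : ℕ)

lemma cellIdeal_phi (hn : 0 < n) {t : ℕ} (ht : 0 < t) (htn : t ≤ n) (htm : t ≤ m) :
    cellIdeal K n m (phiIdx n m t ht htn htm) = CAlgX.minorIdeal (genMatrix K m n) t := by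
  unfold cellIdeal
  rw [← span_cellMinor_eq_minorIdeal K n m t hn ht htn]
  congr 1
  ext f
  simp only [Set.mem_ofPred_eq]
  constructor
  · rintro ⟨θ, hθ, rfl⟩
    refine ⟨θ, ?_, rfl⟩
    rw [le_phiIdx_iff hn ht htn htm] at hθ
    omega
  · rintro ⟨θ, hθ, rfl⟩
    refine ⟨θ, ?_, rfl⟩
    rw [le_phiIdx_iff hn ht htn htm]
    omega

lemma cellIdeal_top : cellIdeal K n m (topIdx (Nat.le_add_right n m)) = ⊥ := by
  unfold cellIdeal
  rw [Ideal.span_eq_bot]
  rintro _ ⟨θ, hθ, rfl⟩
  exact absurd (le_topIdx _ θ) hθ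

lemma minorIdeal_eq_bot {t : ℕ} (ht : min m n < t) :
    CAlgX.minorIdeal (genMatrix K m n) t = ⊥ := by
  unfold CAlgX.minorIdeal
  rw [Ideal.span_eq_bot]
  rintro _ ⟨⟨f, g⟩, rfl⟩
  show ((genMatrix K m n).submatrix f g).det = 0
  by_cases hf : Function.Injective f
  · have h1 := Fintype.card_le_of_injective f hf
    rw [Fintype.card_fin, Fintype.card_fin] at h1
    have hg : ¬ Function.Injective g := by
      intro hg
      have h2 := Fintype.card_le_of_injective g hg
      rw [Fintype.card_fin, Fintype.card_fin] at h2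
      omega
    rw [Function.Injective] at hg
    push Not at hg
    obtain ⟨a, b, hab, hne⟩ := hg
    exact det_zero_of_column_eq hne (fun k => by rw [submatrix_apply, submatrix_apply, hab])
  · rw [Function.Injective] at hf
    push Not at hf
    obtain ⟨a, b, hab, hne⟩ := hf
    exact det_zero_of_row_eq hne (funext fun k => by rw [submatrix_apply, submatrix_apply, hab])

theorem hI1_phi (hn : 0 < n) {t : ℕ} (ht : 0 < t) (htn : t ≤ n) (htm : t ≤ m)
    (F : PlRing K n (n + m)) (h : psiR K m n F ∈ CAlgX.minorIdeal (genMatrix K m n) t) :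
    cellMap K n m F ∈ cellIdeal K n m (phiIdx n m t ht htn htm) := by
  have h1 := revRow_mem_minorIdeal K m n t _ h
  rw [psiR_apply, revRow_revRow] at h1
  rw [cellIdeal_phi K m n hn ht htn htm]
  exact h1

theorem hI2_phi (hn : 0 < n) {t : ℕ} (ht : 0 < t) (htn : t ≤ n) (htm : t ≤ m)
    (θ : Idx n (n + m)) (hθ : ¬ θ ≤ phiIdx n m t ht htn htm) :
    psiR K m n (X θ) ∈ CAlgX.minorIdeal (genMatrix K m n) t := by
  rw [psiR_apply, cellMap_X]
  apply revRow_mem_minorIdeal
  rw [← cellIdeal_phi K m n hn ht htn htm]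
  unfold cellIdeal
  exact Ideal.subset_span ⟨θ, hθ, rfl⟩

theorem hI1_top (F : PlRing K n (n + m)) (h : psiR K m n F ∈ (⊥ : Ideal _)) :
    cellMap K n m F ∈ cellIdeal K n m (topIdx (Nat.le_add_right n m)) := by
  rw [cellIdeal_top, Ideal.mem_bot]
  rw [Ideal.mem_bot, psiR_apply] at h
  exact (map_eq_zero_iff _ (revRow K m n).injective).1 h

end Groth.Agent.Lib.Helper28.Bit
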