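import Groth.Agent.Lib.Helper28.BitIdeal

/-!
# Standard bitableaux: padded chains (helper28)
-/

set_option autoImplicit false
set_option linter.style.haveILetI false

universe u

namespace Groth.Agent.Lib.Helper28.Bit

open W4bk4grassmannian MvPolynomial Matrix
open Groth.Agent.Lib.Helper28.DetCell Groth.Agent.Lib.Helper28.Smt

variable {m n : ℕ}

/-- the index type of the standard bitableaux -/
abbrev BitIdx (m n : ℕ) (P : MinorIdx m n → Prop) : Type :=
  Σ k : ℕ, {c : Fin k → MinorIdx m n // (∀ i, P (c i)) ∧ ∀ i j, i < j → MinorGE (c i) (c j)}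

variable {P : MinorIdx m n → Prop}

/-- the padded antitone chain of Plücker indices of a standard bitableau -/
def pad (c : BitIdx m n P) (N : ℕ) (j : Fin N) : Idx n (n + m) :=
  if h : j.val < c.1 then thetaM (c.2.1 ⟨c.1 - 1 - j.val, by omega⟩)
  else iotaIdx (Nat.le_add_right n m)

lemma pad_antitone (c : BitIdx m n P) (N : ℕ) : Antitone (pad c N) := by
  intro j j' hjj'
  have hjj : j.val ≤ j'.val := hjj'
  unfold pad
  by_cases h' : j'.val < c.1
  · have h : j.val < c.1 := lt_of_le_of_lt hjj h'
    rw [dif_pos h, dif_pos h']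
    by_cases heq : j.val = j'.val
    · have : (⟨c.1 - 1 - j'.val, by omega⟩ : Fin c.1) = ⟨c.1 - 1 - j.val, by omega⟩ :=
        Fin.ext (by show c.1 - 1 - j'.val = c.1 - 1 - j.val; omega)
      rw [this]
    · rw [thetaM_le_iff_minorGE]
      apply c.2.2.2
      rw [Fin.lt_def]
      show c.1 - 1 - j'.val < c.1 - 1 - j.val
      omega
  · rw [dif_neg h']
    exact iotaIdx_le _ _

lemma pad_le (w : Idx n (n + m)) (hP : ∀ M, P M ↔ thetaM M ≤ w) (c : BitIdx m n P) (N : ℕ)
    (j : Fin N) : pad c N j ≤ w := by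
  unfold pad
  split_ifs
  · exact (hP _).1 (c.2.2.1 _)
  · exact iotaIdx_le _ _

lemma pad_injective (hn : 0 < n) (c c' : BitIdx m n P) (N : ℕ) (h1 : c.1 ≤ N) (h2 : c'.1 ≤ N)
    (h : pad c N = pad c' N) : c = c' := by
  have aux : ∀ (c c' : BitIdx m n P), c.1 ≤ N → c'.1 ≤ N → pad c N = pad c' N →
      ¬ c.1 < c'.1 := by
    intro c c' _ h2 h hlt
    have h3 := congrFun h ⟨c.1, by omega⟩
    unfold pad at h3
    rw [dif_neg (lt_irrefl _), dif_pos hlt] at h3
    exact thetaM_ne_iota hn _ h3.symm
  have hk : c.1 = c'.1 := by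
    have a1 := aux c c' h1 h2 h
    have a2 := aux c' c h2 h1 h.symm
    omega
  obtain ⟨k, c, hc⟩ := c
  obtain ⟨k', c', hc'⟩ := c'
  have hk' : k = k' := hk
  subst hk'
  have hcc : c = c' := by
    funext i
    have hi := i.isLt
    have h3 := congrFun h ⟨k - 1 - i.val, by have : k ≤ N := h1; omega⟩
    unfold pad at h3
    have hlt : k - 1 - i.val < k := by omega
    rw [dif_pos hlt, dif_pos hlt] at h3
    have h4 := thetaM_injective h3
    have e : (⟨k - 1 - (k - 1 - i.val), by omega⟩ : Fin k) = i :=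
      Fin.ext (by show k - 1 - (k - 1 - i.val) = i.val; omega)
    simp only [e] at h4
    exact h4
  subst hcc
  rfl

variable (K : Type u) [Field K]

lemma psiR_pad (c : BitIdx m n P) (N : ℕ) (hN : c.1 ≤ N) :
    psiR K m n (chainMon K (pad c N)) = ∏ i : Fin c.1, psiR K m n (X (thetaM (c.2.1 i))) := by
  set k := c.1 with hk
  let G : ℕ → MvPolynomial (Fin m × Fin n) K := fun j =>
    if h : j < k then psiR K m n (X (thetaM (c.2.1 ⟨k - 1 - j, by omega⟩))) else 1
  let H : ℕ → MvPolynomial (Fin m × Fin n) K := fun i =>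
    if h : i < k then psiR K m n (X (thetaM (c.2.1 ⟨i, h⟩))) else 1
  have h1 : psiR K m n (chainMon K (pad c N)) = ∏ j : Fin N, G j.val := by
    unfold chainMon
    rw [map_prod]
    apply Finset.prod_congr rfl
    intro j _
    unfold pad
    by_cases h : j.val < k
    · rw [dif_pos h]
      show _ = (if h : j.val < k then _ else 1)
      rw [dif_pos h]
    · rw [dif_neg h, psiR_X_iota]
      show _ = (if h : j.val < k then _ else 1)
      rw [dif_neg h]
  rw [h1, Fin.prod_univ_eq_prod_range G N]
  have hNk : N = k + (N - k) := by omega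
  rw [hNk, Finset.prod_range_add]
  have h2 : ∏ x ∈ Finset.range (N - k), G (k + x) = 1 := by
    apply Finset.prod_eq_one
    intro x _
    show (if h : k + x < k then _ else 1) = 1
    rw [dif_neg (by omega)]
  rw [h2, mul_one]
  have h3 : ∏ j ∈ Finset.range k, G j = ∏ j ∈ Finset.range k, H (k - 1 - j) := by
    apply Finset.prod_congr rfl
    intro j hj
    rw [Finset.mem_range] at hj
    show (if h : j < k then _ else 1) = (if h : k - 1 - j < k then _ else 1)
    rw [dif_pos hj, dif_pos (by omega)]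
  rw [h3, Finset.prod_range_reflect H k, ← Fin.prod_univ_eq_prod_range H k]
  apply Finset.prod_congr rfl
  intro i _
  show (if h : i.val < k then _ else 1) = _
  rw [dif_pos i.isLt]

end Groth.Agent.Lib.Helper28.Bit
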