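import Groth.Agent.Lib.Helper28.BitMain1

/-!
# Standard bitableaux: linear independence (helper28)
-/

set_option autoImplicit false
set_option linter.style.haveILetI false

universe u

namespace Groth.Agent.Lib.Helper28.Bit

open W4bk4grassmannian MvPolynomial Matrix
open Groth.Agent.Lib.Helper28.DetCell Groth.Agent.Lib.Helper28.Smt

variable (K : Type u) [Field K] {m n : ℕ} {P : MinorIdx m n → Prop}

/-- the product of the signs of the minors of a bitableau -/
noncomputable def epsC (c : BitIdx m n P) : K := ∏ i : Fin c.1, epsM K m n (c.2.1 i)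

lemma epsC_ne_zero (c : BitIdx m n P) : epsC K c ≠ 0 := by
  unfold epsC
  rw [Finset.prod_ne_zero_iff]
  intro i _
  exact epsM_ne_zero K m n _

lemma prod_minorOf (c : BitIdx m n P) :
    (∏ i : Fin c.1, minorOf K (c.2.1 i)) =
      C (epsC K c) * ∏ i : Fin c.1, psiR K m n (X (thetaM (c.2.1 i))) := by
  unfold epsC
  rw [map_prod, ← Finset.prod_mul_distrib]
  apply Finset.prod_congr rfl
  intro i _
  exact minorOf_eq_epsM K m n _

lemma chainMon_isHomogeneous {d N k : ℕ} (c : Fin k → Idx d N) :
    (chainMon K c).IsHomogeneous k := by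
  unfold chainMon
  have := MvPolynomial.IsHomogeneous.prod (Finset.univ : Finset (Fin k))
    (fun i => (X (c i) : PlRing K d N)) (fun _ => 1) (fun i _ => isHomogeneous_X K (c i))
  rwa [Finset.sum_const, Finset.card_univ, Fintype.card_fin, smul_eq_mul, mul_one] at this

variable [Infinite K]

theorem bit_indep (hn : 0 < n) (w : Idx n (n + m)) (hP : ∀ M, P M ↔ thetaM M ≤ w)
    (I : Ideal (MvPolynomial (Fin m × Fin n) K))
    (hI1 : ∀ F, psiR K m n F ∈ I → cellMap K n m F ∈ cellIdeal K n m w) :
    LinearIndependent K (fun c : BitIdx m n P =>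
      Ideal.Quotient.mk I (Finset.univ.prod fun i => minorOf K (c.2.1 i))) := by
  classical
  rw [linearIndependent_iff']
  intro s g hsum c₀ hc₀
  set N := s.sup (fun c => c.1) with hN
  have hle : ∀ c ∈ s, c.1 ≤ N := fun c hc => Finset.le_sup (f := fun c : BitIdx m n P => c.1) hc
  -- the sum lies in `I`
  have hmem : (∑ c ∈ s, g c • ∏ i : Fin c.1, minorOf K (c.2.1 i)) ∈ I := by
    rw [← Ideal.Quotient.eq_zero_iff_mem, map_sum, ← hsum]
    apply Finset.sum_congr rfl
    intro c _
    rfl
  -- the homogeneous lift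
  set F : PlRing K n (n + m) := ∑ c ∈ s, (g c * epsC K c) • chainMon K (pad c N) with hF
  have hFhom : F.IsHomogeneous N := by
    rw [← mem_homogeneousSubmodule]
    apply Submodule.sum_mem
    intro c _
    apply Submodule.smul_mem
    rw [mem_homogeneousSubmodule]
    exact chainMon_isHomogeneous K _
  have hpsiF : psiR K m n F = ∑ c ∈ s, g c • ∏ i : Fin c.1, minorOf K (c.2.1 i) := by
    rw [hF, map_sum]
    apply Finset.sum_congr rfl
    intro c hc
    rw [map_smul, psiR_pad K c N (hle c hc), prod_minorOf, smul_eq_C_mul, smul_eq_C_mul, map_mul]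
    ring
  have hFmem : F ∈ schubertVanishing K n (n + m) w := by
    apply mem_of_cellMap_mem_w K hn w F N hFhom
    apply hI1
    rw [hpsiF]
    exact hmem
  have hev := evW_eq_zero_of_mem K w F hFmem
  rw [hF, map_sum] at hev
  have hev' : ∑ c ∈ s.attach, (g c.1 * epsC K c.1) • evW K w (chainMon K (pad c.1 N)) = 0 := by
    rw [← hev, ← Finset.sum_attach s]
    apply Finset.sum_congr rfl
    intro c _
    rw [map_smul]
  have hinj : Function.Injective fun c : {c // c ∈ s} =>
      (⟨N, pad c.1 N⟩ : Σ k : ℕ, Fin k → Idx n (n + m)) := by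
    intro c c' h
    simp only [Sigma.mk.injEq, heq_eq_eq, true_and] at h
    apply Subtype.ext
    exact pad_injective hn c.1 c'.1 N (hle _ c.2) (hle _ c'.2) h
  have key := indep K hn w (fun _ : {c // c ∈ s} => N) (fun c => pad c.1 N)
    (fun c => pad_antitone c.1 N) hinj s.attach (fun c => g c.1 * epsC K c.1) hev'
    ⟨c₀, hc₀⟩ (Finset.mem_attach _ _) (fun j => pad_le w hP c₀ N j)
  exact (mul_eq_zero.1 key).resolve_right (epsC_ne_zero K c₀)

end Groth.Agent.Lib.Helper28.Bit
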