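import Groth.Agent.Lib.Helper28.BitMain2

/-!
# Standard bitableaux: spanning, and the basis theorem (helper28)
-/

set_option autoImplicit false
set_option linter.style.haveILetI false

universe u

namespace Groth.Agent.Lib.Helper28.Bit

open W4bk4grassmannian MvPolynomial Matrix
open Groth.Agent.Lib.Helper28.DetCell Groth.Agent.Lib.Helper28.Smt

variable (K : Type u) [Field K] {m n : ℕ} {P : MinorIdx m n → Prop}

/-- an antitone chain without `ι` comes from a standard bitableau -/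
lemma exists_bitIdx (hn : 0 < n) (w : Idx n (n + m)) (hP : ∀ M, P M ↔ thetaM M ≤ w)
    {N : ℕ} (c : Fin N → Idx n (n + m)) (hanti : Antitone c) (hw : ∀ j, c j ≤ w)
    (hne : ∀ j, c j ≠ iotaIdx (Nat.le_add_right n m)) :
    ∃ (x : BitIdx m n P) (ε : K), ε ≠ 0 ∧
      (∏ i : Fin x.1, minorOf K (x.2.1 i)) = C ε * psiR K m n (chainMon K c) := by
  choose M hM using fun j => exists_thetaM hn (c j) (hne j)
  let x : BitIdx m n P := ⟨N, fun i => M (Fin.rev i), by
    refine ⟨fun i => (hP _).2 ?_, fun i j hij => ?_⟩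
    · rw [hM]
      exact hw _
    · rw [← thetaM_le_iff_minorGE, hM, hM]
      apply hanti
      rw [Fin.rev_le_rev]
      exact hij.le⟩
  refine ⟨x, epsC K x, epsC_ne_zero K x, ?_⟩
  rw [prod_minorOf]
  congr 1
  unfold chainMon
  rw [map_prod]
  show ∏ i : Fin N, psiR K m n (X (thetaM (M (Fin.rev i)))) = _
  have h1 : ∀ i : Fin N, psiR K m n (X (thetaM (M (Fin.rev i)))) =
      (fun j => psiR K m n (X (c j))) (Fin.revPerm i) := by
    intro i
    rw [hM]
    rfl
  rw [Finset.prod_congr rfl (fun i _ => h1 i)]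
  exact Equiv.prod_comp Fin.revPerm (fun j => psiR K m n (X (c j)))

/-- stripping the copies of `ι` from an antitone chain -/
lemma exists_strip (w : Idx n (n + m)) :
    ∀ (N : ℕ) (c : Fin N → Idx n (n + m)), Antitone c → (∀ j, c j ≤ w) →
      ∃ (N' : ℕ) (c' : Fin N' → Idx n (n + m)), Antitone c' ∧ (∀ j, c' j ≤ w) ∧
        (∀ j, c' j ≠ iotaIdx (Nat.le_add_right n m)) ∧
        psiR K m n (chainMon K c') = psiR K m n (chainMon K c) := by
  intro N
  induction N with
  | zero =>
    intro c hanti hw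
    exact ⟨0, c, hanti, hw, fun j => j.elim0, rfl⟩
  | succ N ih =>
    intro c hanti hw
    by_cases hlast : c (Fin.last N) = iotaIdx (Nat.le_add_right n m)
    · obtain ⟨N', c', h1, h2, h3, h4⟩ := ih (fun j => c (Fin.castSucc j))
        (fun a b hab => hanti (Fin.castSucc_le_castSucc_iff.2 hab)) (fun j => hw _)
      refine ⟨N', c', h1, h2, h3, ?_⟩
      rw [h4]
      unfold chainMon
      rw [Fin.prod_univ_castSucc, map_mul, hlast, psiR_X_iota, mul_one]
    · refine ⟨N + 1, c, hanti, hw, ?_, rfl⟩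
      intro j hj
      apply hlast
      apply le_antisymm _ (iotaIdx_le _ _)
      rw [← hj]
      exact hanti (Fin.le_last j)

variable [Infinite K]

theorem bit_span (hn : 0 < n) (w : Idx n (n + m)) (hP : ∀ M, P M ↔ thetaM M ≤ w)
    (I : Ideal (MvPolynomial (Fin m × Fin n) K))
    (hI2 : ∀ θ : Idx n (n + m), ¬ θ ≤ w → psiR K m n (X θ) ∈ I) :
    Submodule.span K (Set.range fun c : BitIdx m n P =>
      Ideal.Quotient.mk I (Finset.univ.prod fun i => minorOf K (c.2.1 i))) = ⊤ := by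
  classical
  rw [eq_top_iff]
  intro y _
  obtain ⟨g, rfl⟩ := Ideal.Quotient.mk_surjective y
  obtain ⟨F, rfl⟩ := psiR_surjective K m n g
  obtain ⟨a, ha⟩ := exists_expansion K F
  have h0 := cellMap_eq_zero_of_mem_plIdealTop K n m _ ha
  have h1 : psiR K m n F = psiR K m n (a.sum fun c b => b • chainMon K c.2.1) := by
    have : psiR K m n (F - (a.sum fun c b => b • chainMon K c.2.1)) = 0 := by
      rw [psiR_apply, h0, map_zero]
    rw [map_sub, sub_eq_zero] at this
    exact this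
  rw [h1]
  unfold Finsupp.sum
  rw [map_sum, map_sum]
  apply Submodule.sum_mem
  intro c _
  rw [map_smul]
  have hsm : Ideal.Quotient.mk I (a c • psiR K m n (chainMon K c.2.1)) =
      a c • Ideal.Quotient.mk I (psiR K m n (chainMon K c.2.1)) := rfl
  rw [hsm]
  apply Submodule.smul_mem
  by_cases hw : ∀ j, c.2.1 j ≤ w
  · obtain ⟨N', c', h1, h2, h3, h4⟩ := exists_strip K w c.1 c.2.1 c.2.2 hw
    obtain ⟨x, ε, hε, hx⟩ := exists_bitIdx K hn w hP c' h1 h2 h3
    have h5 : psiR K m n (chainMon K c.2.1) = ε⁻¹ • ∏ i : Fin x.1, minorOf K (x.2.1 i) := by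
      rw [hx, h4, smul_eq_C_mul, ← mul_assoc, ← map_mul, inv_mul_cancel₀ hε, map_one, one_mul]
    rw [h5]
    have hsm' : Ideal.Quotient.mk I (ε⁻¹ • ∏ i : Fin x.1, minorOf K (x.2.1 i)) =
        ε⁻¹ • Ideal.Quotient.mk I (∏ i : Fin x.1, minorOf K (x.2.1 i)) := rfl
    rw [hsm']
    apply Submodule.smul_mem
    exact Submodule.subset_span ⟨x, rfl⟩
  · rw [not_forall] at hw
    obtain ⟨j, hj⟩ := hw
    have h6 : psiR K m n (chainMon K c.2.1) ∈ I := by
      unfold chainMon
      rw [map_prod, ← Finset.mul_prod_erase Finset.univ _ (Finset.mem_univ j)]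
      exact I.mul_mem_right _ (hI2 _ hj)
    rw [Ideal.Quotient.eq_zero_iff_mem.2 h6]
    exact Submodule.zero_mem _

/-- **standard bitableaux form a basis** (abstract form) -/
theorem bit_main (hn : 0 < n) (w : Idx n (n + m)) (hP : ∀ M, P M ↔ thetaM M ≤ w)
    (I : Ideal (MvPolynomial (Fin m × Fin n) K))
    (hI1 : ∀ F, psiR K m n F ∈ I → cellMap K n m F ∈ cellIdeal K n m w)
    (hI2 : ∀ θ : Idx n (n + m), ¬ θ ≤ w → psiR K m n (X θ) ∈ I) :
    LinearIndependent K (fun c : (Σ k : ℕ, {c : Fin k → MinorIdx m n //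
        (∀ i, P (c i)) ∧ ∀ i j, i < j → MinorGE (c i) (c j)}) =>
        Ideal.Quotient.mk I (Finset.univ.prod fun i => minorOf K (c.2.1 i))) ∧
      Submodule.span K (Set.range fun c : (Σ k : ℕ, {c : Fin k → MinorIdx m n //
        (∀ i, P (c i)) ∧ ∀ i j, i < j → MinorGE (c i) (c j)}) =>
        Ideal.Quotient.mk I (Finset.univ.prod fun i => minorOf K (c.2.1 i))) = ⊤ :=
  ⟨bit_indep K hn w hP I hI1, bit_span K hn w hP I hI2⟩

end Groth.Agent.Lib.Helper28.Bit
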