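import Groth.Agent.Lib.Helper73.DimField
import Mathlib.RingTheory.Ideal.KrullsHeightTheorem
import Mathlib.RingTheory.KrullDimension.NonZeroDivisors

/-!
# Auxiliary dimension lemmas (helper28)

* `dim_le_quotient_add_one`: for a domain `A` of finite type over a field and a non-unit `x`,
  `dim A ≤ dim A/(x) + 1`.
* `ringKrullDim_quotient_inf_le`, `ringKrullDim_quotient_finset_inf_le`: the dimension of
  `S/(I ∩ J)` is at most the maximum of the dimensions of `S/I` and `S/J`.
-/

set_option autoImplicit false

universe u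

namespace Groth.Agent.Lib.Helper28.DimAux

open Groth.Agent.Lib.Helper73.DimFormula

theorem dim_le_quotient_add_one (k : Type u) [Field k] (A : Type u) [CommRing A] [IsDomain A]
    [Algebra k A] [Algebra.FiniteType k A] (x : A) (hx : ¬ IsUnit x) :
    ringKrullDim A ≤ ringKrullDim (A ⧸ Ideal.span {x}) + 1 := by
  obtain ⟨n, -, hdim, hmax, -⟩ := exists_trdeg_eq_ringKrullDim k A
  obtain ⟨m, hm, hxm⟩ := exists_max_ideal_of_mem_nonunits (show x ∈ nonunits A from hx)
  have := hm
  have : IsNoetherianRing A := Algebra.FiniteType.isNoetherianRing k A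
  have h := Ideal.height_le_ringKrullDim_quotient_add_one (r := x) (p := m) hxm
  rw [hdim]
  rw [hmax m] at h
  exact_mod_cast h

theorem ringKrullDim_quotient_inf_le {S : Type*} [CommRing S] (I J : Ideal S) (n : WithBot ℕ∞)
    (hI : ringKrullDim (S ⧸ I) ≤ n) (hJ : ringKrullDim (S ⧸ J) ≤ n) :
    ringKrullDim (S ⧸ (I ⊓ J)) ≤ n := by
  rw [ringKrullDim_quotient] at hI hJ ⊢
  unfold Order.krullDim
  apply iSup_le
  intro l
  have hhead : I ⊓ J ≤ l.head.1.asIdeal := by
    have := l.head.2
    rwa [PrimeSpectrum.mem_zeroLocus, SetLike.coe_subset_coe] at this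
  have key : ∀ (I' : Ideal S), I' ≤ l.head.1.asIdeal →
      (l.length : WithBot ℕ∞) ≤ Order.krullDim (PrimeSpectrum.zeroLocus (R := S) I') := by
    intro I' hI'
    let l' : LTSeries (PrimeSpectrum.zeroLocus (R := S) I') :=
      { length := l.length
        toFun := fun i => ⟨(l i).1, by
          rw [PrimeSpectrum.mem_zeroLocus, SetLike.coe_subset_coe]
          have h1 : l.head ≤ l i := LTSeries.head_le l i
          exact hI'.trans h1⟩
        step := fun i => l.step i }
    exact Order.LTSeries.length_le_krullDim l'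
  rcases (Ideal.IsPrime.inf_le l.head.1.isPrime).1 hhead with h | h
  · exact (key I h).trans hI
  · exact (key J h).trans hJ

theorem ringKrullDim_quotient_finset_inf_le {S : Type*} [CommRing S] {ι : Type*} (s : Finset ι)
    (I : ι → Ideal S) (n : WithBot ℕ∞) (h : ∀ i ∈ s, ringKrullDim (S ⧸ I i) ≤ n) :
    ringKrullDim (S ⧸ s.inf I) ≤ n := by
  classical
  induction s using Finset.induction_on with
  | empty =>
    rw [Finset.inf_empty]
    have : Subsingleton (S ⧸ (⊤ : Ideal S)) := Ideal.Quotient.subsingleton_iff.2 rfl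
    rw [ringKrullDim_eq_bot_of_subsingleton]
    exact bot_le
  | insert a s ha ih =>
    rw [Finset.inf_insert]
    apply ringKrullDim_quotient_inf_le
    · exact h a (Finset.mem_insert_self a s)
    · exact ih (fun i hi => h i (Finset.mem_insert_of_mem hi))

end Groth.Agent.Lib.Helper28.DimAux
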