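import Groth.Agent.Lib.Helper28.SmtPrime
import Groth.Agent.Lib.Helper28.DimAux
import Groth.Agent.S11268

/-!
# The dimension of the cone over a Schubert variety (helper28)

`ringKrullDim (S/J(w)) = codeg w + 1`, by induction on `codeg w` using
`J(w) + (X_w) = ⋂_{φ divisor of w} J(φ)`.
-/

set_option autoImplicit false

universe u

namespace Groth.Agent.Lib.Helper28.Smt

open W4bk4grassmannian MvPolynomial

variable {d n : ℕ}

/-- `J(τ) + (X_τ)` is the intersection of the ideals of the Schubert divisors -/
theorem schubert_sup_span_eq (K : Type*) [CommRing K] [IsDomain K] [Infinite K] (hd : 0 < d)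
    (τ : Idx d n) (hτ : ∃ φ : Idx d n, φ < τ) :
    schubertVanishing K d n τ ⊔ Ideal.span {(X τ : PlRing K d n)} =
      ⨅ φ ∈ divisors τ, schubertVanishing K d n φ := by
  classical
  set I := schubertVanishing K d n τ ⊔ Ideal.span {(X τ : PlRing K d n)} with hIdef
  have hI : plIdealTop (d := d) (n := n) K ≤ I :=
    (plIdealTop_le_schubertVanishing K τ).trans le_sup_left
  have hIle : I ≤ ⨅ φ ∈ divisors τ, schubertVanishing K d n φ := by
    rw [le_iInf_iff]
    intro φ
    rw [le_iInf_iff]
    intro hφ
    have hlt : φ < τ := hφ.1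
    apply sup_le
    · exact schubertVanishing_mono K hlt.le
    · rw [Ideal.span_le, Set.singleton_subset_iff]
      exact X_mem_schubertVanishing K φ τ (not_le_of_gt hlt)
  apply le_antisymm hIle
  intro f hf
  apply mem_of_mem_iInf K hd (divisors τ) I hI hIle (fun c => ∀ k, c.2.1 k < τ) _ _ f hf
  · intro c hc
    simp only [not_forall] at hc
    obtain ⟨k, hk⟩ := hc
    apply chainMon_mem_of_mem K I c.2.1 k
    by_cases hle : c.2.1 k ≤ τ
    · have heq : c.2.1 k = τ := eq_of_le_of_not_lt hle hk
      rw [heq]
      exact Ideal.mem_sup_right (Ideal.subset_span rfl)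
    · exact Ideal.mem_sup_left (X_mem_schubertVanishing K τ _ hle)
  · rintro ⟨m, c, hc⟩ hP
    cases m with
    | zero =>
      obtain ⟨φ', hφ'⟩ := hτ
      obtain ⟨φ, hφ, -⟩ := Groth.Agent.S11268.result d n φ' τ hφ'
      exact ⟨φ, hφ, fun k => k.elim0⟩
    | succ m =>
      obtain ⟨φ, hφ, hle⟩ := Groth.Agent.S11268.result d n (c 0) τ (hP 0)
      exact ⟨φ, hφ, fun k => (hc (Fin.zero_le k)).trans hle⟩

section dim

variable (K : Type u) [Field K] [Infinite K]

/-- modulo `J(ι) + (X_ι)` every polynomial is a constant -/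
lemma exists_const_of_iota (hdn : d ≤ n) (f : PlRing K d n) :
    ∃ c : K, f - C c ∈ schubertVanishing K d n (iotaIdx hdn) ⊔
      Ideal.span {(X (iotaIdx hdn) : PlRing K d n)} := by
  have hX : ∀ θ : Idx d n, (X θ : PlRing K d n) ∈ schubertVanishing K d n (iotaIdx hdn) ⊔
      Ideal.span {(X (iotaIdx hdn) : PlRing K d n)} := by
    intro θ
    by_cases h : θ = iotaIdx hdn
    · rw [h]
      exact Ideal.mem_sup_right (Ideal.subset_span rfl)
    · apply Ideal.mem_sup_left
      apply X_mem_schubertVanishing
      intro hle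
      exact h (le_antisymm hle (iotaIdx_le hdn θ))
  induction f using MvPolynomial.induction_on with
  | C a => exact ⟨a, by rw [sub_self]; exact zero_mem _⟩
  | add p q hp hq =>
    obtain ⟨c1, h1⟩ := hp
    obtain ⟨c2, h2⟩ := hq
    refine ⟨c1 + c2, ?_⟩
    have : p + q - C (c1 + c2) = (p - C c1) + (q - C c2) := by rw [C_add]; ring
    rw [this]
    exact Ideal.add_mem _ h1 h2
  | mul_X p θ _ =>
    refine ⟨0, ?_⟩
    rw [C_0, sub_zero]
    exact Ideal.mul_mem_left _ _ (hX θ)

theorem ringKrullDim_schubert (hd : 0 < d) (hdn : d ≤ n) : ∀ (N : ℕ) (w : Idx d n),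
    codeg w = N →
    ringKrullDim (PlRing K d n ⧸ schubertVanishing K d n w) = ((N + 1 : ℕ) : WithBot ℕ∞) := by
  classical
  intro N
  induction N using Nat.strong_induction_on with
  | _ N ih =>
  intro w hw
  set J := schubertVanishing K d n w with hJ
  haveI hJprime : J.IsPrime := isPrime_schubertVanishing K hd hdn w
  haveI : IsDomain (PlRing K d n ⧸ J) := Ideal.Quotient.isDomain J
  haveI : Algebra.FiniteType K (PlRing K d n ⧸ J) :=
    Algebra.FiniteType.of_surjective (Ideal.Quotient.mkₐ K J) (Ideal.Quotient.mkₐ_surjective K J)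
  set x : PlRing K d n ⧸ J := Ideal.Quotient.mk J (X w) with hx
  set I := J ⊔ Ideal.span {(X w : PlRing K d n)} with hI
  -- the double quotient
  have hmap : (Ideal.span {(X w : PlRing K d n)}).map (Ideal.Quotient.mk J) = Ideal.span {x} := by
    rw [Ideal.map_span, Set.image_singleton]
  let e : ((PlRing K d n ⧸ J) ⧸ Ideal.span {x}) ≃+* (PlRing K d n ⧸ I) :=
    (Ideal.quotEquivOfEq hmap.symm).trans (DoubleQuot.quotQuotEquivQuotSup J _)
  have hdime : ringKrullDim ((PlRing K d n ⧸ J) ⧸ Ideal.span {x}) =
      ringKrullDim (PlRing K d n ⧸ I) := ringKrullDim_eq_of_ringEquiv e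
  -- `I` is a proper ideal
  have hIle : I ≤ RingHom.ker (constantCoeff : PlRing K d n →+* K) := by
    apply sup_le (schubertVanishing_le_ker_constantCoeff K hd w)
    rw [Ideal.span_le, Set.singleton_subset_iff, SetLike.mem_coe, RingHom.mem_ker,
      constantCoeff_X]
  have hIne : I ≠ ⊤ := by
    intro h
    have h1 : (1 : PlRing K d n) ∈ RingHom.ker (constantCoeff : PlRing K d n →+* K) :=
      hIle (h ▸ Submodule.mem_top)
    rw [RingHom.mem_ker, map_one] at h1
    exact one_ne_zero h1
  haveI : Nontrivial (PlRing K d n ⧸ I) := Ideal.Quotient.nontrivial_iff.2 hIne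
  -- the dimension of the quotient by `I`
  have hdimI : ringKrullDim (PlRing K d n ⧸ I) = (N : WithBot ℕ∞) := by
    by_cases hex : ∃ φ : Idx d n, φ < w
    · have hIeq : I = ⨅ φ ∈ divisors w, schubertVanishing K d n φ :=
        schubert_sup_span_eq K hd w hex
      have hdiv : ∀ φ ∈ divisors w,
          ringKrullDim (PlRing K d n ⧸ schubertVanishing K d n φ) = (N : WithBot ℕ∞) := by
        intro φ hφ
        have h1 : codeg φ + 1 = N := by rw [← hw]; exact hφ.2
        have h2 := ih (codeg φ) (by omega) φ rfl
        rw [h2, h1]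
      apply le_antisymm
      · set s : Finset (Idx d n) := Finset.univ.filter (fun φ => φ ∈ divisors w) with hs
        have hinf : I = s.inf (fun φ => schubertVanishing K d n φ) := by
          rw [hIeq, Finset.inf_eq_iInf]
          apply iInf_congr
          intro φ
          have : φ ∈ s ↔ φ ∈ divisors w := by
            rw [hs, Finset.mem_filter]
            exact ⟨fun h => h.2, fun h => ⟨Finset.mem_univ _, h⟩⟩
          rw [this]
        rw [hinf]
        apply DimAux.ringKrullDim_quotient_finset_inf_le
        intro φ hφ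
        rw [hs, Finset.mem_filter] at hφ
        exact (hdiv φ hφ.2).le
      · obtain ⟨φ', hφ'⟩ := hex
        obtain ⟨φ₀, hφ₀, -⟩ := Groth.Agent.S11268.result d n φ' w hφ'
        have hle : I ≤ schubertVanishing K d n φ₀ := by
          rw [hIeq]
          exact iInf₂_le φ₀ hφ₀
        have := ringKrullDim_le_of_surjective (Ideal.Quotient.factor hle)
          (Ideal.Quotient.factor_surjective hle)
        rw [hdiv φ₀ hφ₀] at this
        exact this
    · simp only [not_exists] at hex
      have hwι : w = iotaIdx hdn := eq_iotaIdx_of_forall_not_lt hdn w hex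
      have hN : N = 0 := by rw [← hw, hwι, codeg_iotaIdx]
      rw [hN]
      apply le_antisymm
      · have hsurj : Function.Surjective (algebraMap K (PlRing K d n ⧸ I)) := by
          intro y
          obtain ⟨f, rfl⟩ := Ideal.Quotient.mk_surjective y
          have hc := exists_const_of_iota K hdn f
          obtain ⟨c, hc⟩ := hc
          refine ⟨c, ?_⟩
          have hc' : f - C c ∈ I := by
            rw [hI, hJ, hwι]
            exact hc
          rw [← Ideal.Quotient.eq] at hc'
          rw [hc']
          rfl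
        have := ringKrullDim_le_of_surjective _ hsurj
        rw [ringKrullDim_eq_zero_of_field] at this
        exact_mod_cast this
      · exact_mod_cast ringKrullDim_nonneg_of_nontrivial (R := PlRing K d n ⧸ I)
  -- `x` is a nonzero non-unit
  have hx0 : x ≠ 0 := by
    rw [hx, Ne, Ideal.Quotient.eq_zero_iff_mem]
    exact X_notMem_schubertVanishing K w w le_rfl
  have hxunit : ¬ IsUnit x := by
    intro hu
    have h1 : Ideal.span {x} = ⊤ := Ideal.span_singleton_eq_top.2 hu
    haveI : Subsingleton ((PlRing K d n ⧸ J) ⧸ Ideal.span {x}) :=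
      Ideal.Quotient.subsingleton_iff.2 h1
    have := e.symm.injective.subsingleton
    exact not_subsingleton (PlRing K d n ⧸ I) this
  apply le_antisymm
  · have h1 := DimAux.dim_le_quotient_add_one K (PlRing K d n ⧸ J) x hxunit
    rw [hdime, hdimI] at h1
    exact_mod_cast h1
  · have h1 := ringKrullDim_quotient_succ_le_of_nonZeroDivisor
      (mem_nonZeroDivisors_of_ne_zero hx0)
    rw [hdime, hdimI] at h1
    exact_mod_cast h1

end dim

end Groth.Agent.Lib.Helper28.Smt
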