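import Groth.Agent.Lib.Helper28.SmtCoord
import Mathlib.LinearAlgebra.Alternating.Basic
import Mathlib.LinearAlgebra.StdBasis
import Mathlib.LinearAlgebra.Matrix.Determinant.Basic

/-!
# The shuffle (Plücker) relations hold for the minors of a matrix (helper28)
-/

set_option autoImplicit false

namespace Groth.Agent.Lib.Helper28.Smt

open W4bk4grassmannian MvPolynomial Function

variable {d : ℕ} {K : Type*} [CommRing K]

section glue

variable (r : Fin d) (α β : Fin d → (Fin d → K))

/-- rows `w` in the first `r+1` places, the rows `α` after -/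
def glue1 (w : Fin (r.val + 1) → (Fin d → K)) : Fin d → (Fin d → K) :=
  fun t => if h : t.val ≤ r.val then w ⟨t.val, Nat.lt_succ_of_le h⟩ else α t

/-- rows `β` in the first `r` places, the rows `w` after -/
def glue2 (w : Fin (d - r.val) → (Fin d → K)) : Fin d → (Fin d → K) :=
  fun t => if h : t.val < r.val then β t else w ⟨t.val - r.val, by have := t.isLt; omega⟩

lemma glue1_update (w : Fin (r.val + 1) → (Fin d → K)) (s : Fin (r.val + 1)) (z : Fin d → K) :
    glue1 r α (update w s z) =
      update (glue1 r α w) ⟨s.val, by have := s.isLt; have := r.isLt; omega⟩ z := by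
  funext t
  unfold glue1
  by_cases h : t.val ≤ r.val
  · rw [dif_pos h]
    by_cases hts : t.val = s.val
    · have h1 : (⟨t.val, Nat.lt_succ_of_le h⟩ : Fin (r.val + 1)) = s := Fin.ext hts
      have h2 : t = ⟨s.val, by have := s.isLt; have := r.isLt; omega⟩ := Fin.ext hts
      rw [h1, update_self, h2, update_self]
    · have h1 : (⟨t.val, Nat.lt_succ_of_le h⟩ : Fin (r.val + 1)) ≠ s := fun e => hts (Fin.ext_iff.1 e)
      have h2 : t ≠ ⟨s.val, by have := s.isLt; have := r.isLt; omega⟩ := fun e => hts (Fin.ext_iff.1 e)
      rw [update_of_ne h1, update_of_ne h2, dif_pos h]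
  · have h2 : t ≠ ⟨s.val, by have := s.isLt; have := r.isLt; omega⟩ := by
      intro e
      have := Fin.ext_iff.1 e
      have := s.isLt
      simp only at *
      omega
    rw [dif_neg h, update_of_ne h2, dif_neg h]

lemma glue2_update (w : Fin (d - r.val) → (Fin d → K)) (s : Fin (d - r.val)) (z : Fin d → K) :
    glue2 r β (update w s z) =
      update (glue2 r β w) ⟨r.val + s.val, by have := s.isLt; omega⟩ z := by
  funext t
  unfold glue2
  by_cases h : t.val < r.val
  · have h2 : t ≠ ⟨r.val + s.val, by have := s.isLt; omega⟩ := by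
      intro e
      have := Fin.ext_iff.1 e
      simp only at *
      omega
    rw [dif_pos h, update_of_ne h2, dif_pos h]
  · rw [dif_neg h]
    by_cases hts : t.val - r.val = s.val
    · have h1 : (⟨t.val - r.val, by have := t.isLt; omega⟩ : Fin (d - r.val)) = s := Fin.ext hts
      have h2 : t = ⟨r.val + s.val, by have := s.isLt; omega⟩ := Fin.ext (by simp only; omega)
      rw [h1, update_self, h2, update_self]
    · have h1 : (⟨t.val - r.val, by have := t.isLt; omega⟩ : Fin (d - r.val)) ≠ s :=
        fun e => hts (Fin.ext_iff.1 e)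
      have h2 : t ≠ ⟨r.val + s.val, by have := s.isLt; omega⟩ := by
        intro e
        have := Fin.ext_iff.1 e
        simp only at *
        omega
      rw [update_of_ne h1, update_of_ne h2, dif_neg h]

/-- determinant with the rows `w` first -/
noncomputable def D1 (w : Fin (r.val + 1) → (Fin d → K)) : K := Matrix.det (Matrix.of (glue1 r α w))
/-- determinant with the rows `w` last -/
noncomputable def D2 (w : Fin (d - r.val) → (Fin d → K)) : K := Matrix.det (Matrix.of (glue2 r β w))

lemma D1_update_add (w : Fin (r.val + 1) → (Fin d → K)) (s : Fin (r.val + 1)) (x y : Fin d → K) :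
    D1 r α (update w s (x + y)) = D1 r α (update w s x) + D1 r α (update w s y) := by
  unfold D1
  rw [glue1_update, glue1_update, glue1_update]
  exact Matrix.det_updateRow_add (Matrix.of (glue1 r α w)) _ x y

lemma D1_update_smul (w : Fin (r.val + 1) → (Fin d → K)) (s : Fin (r.val + 1)) (c : K)
    (x : Fin d → K) :
    D1 r α (update w s (c • x)) = c * D1 r α (update w s x) := by
  unfold D1
  rw [glue1_update, glue1_update]
  exact Matrix.det_updateRow_smul (Matrix.of (glue1 r α w)) _ c x

lemma D2_update_add (w : Fin (d - r.val) → (Fin d → K)) (s : Fin (d - r.val)) (x y : Fin d → K) :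
    D2 r β (update w s (x + y)) = D2 r β (update w s x) + D2 r β (update w s y) := by
  unfold D2
  rw [glue2_update, glue2_update, glue2_update]
  exact Matrix.det_updateRow_add (Matrix.of (glue2 r β w)) _ x y

lemma D2_update_smul (w : Fin (d - r.val) → (Fin d → K)) (s : Fin (d - r.val)) (c : K)
    (x : Fin d → K) :
    D2 r β (update w s (c • x)) = c * D2 r β (update w s x) := by
  unfold D2
  rw [glue2_update, glue2_update]
  exact Matrix.det_updateRow_smul (Matrix.of (glue2 r β w)) _ c x

lemma D1_eq_zero (w : Fin (r.val + 1) → (Fin d → K)) (s s' : Fin (r.val + 1)) (hne : s ≠ s')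
    (h : w s = w s') : D1 r α w = 0 := by
  unfold D1
  have hs : s.val ≤ r.val := by have := s.isLt; omega
  have hs' : s'.val ≤ r.val := by have := s'.isLt; omega
  refine Matrix.det_zero_of_row_eq
    (i := (⟨s.val, by have := r.isLt; omega⟩ : Fin d))
    (j := (⟨s'.val, by have := r.isLt; omega⟩ : Fin d)) ?_ ?_
  · intro e
    apply hne
    apply Fin.ext
    have := congrArg Fin.val e
    simpa using this
  · show glue1 r α w _ = glue1 r α w _
    unfold glue1
    rw [dif_pos hs, dif_pos hs']
    exact h

lemma D2_eq_zero (w : Fin (d - r.val) → (Fin d → K)) (s s' : Fin (d - r.val)) (hne : s ≠ s')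
    (h : w s = w s') : D2 r β w = 0 := by
  unfold D2
  refine Matrix.det_zero_of_row_eq
    (i := (⟨r.val + s.val, by have := s.isLt; omega⟩ : Fin d))
    (j := (⟨r.val + s'.val, by have := s'.isLt; omega⟩ : Fin d)) ?_ ?_
  · intro e
    apply hne
    apply Fin.ext
    have := Fin.ext_iff.1 e
    simp only at this
    omega
  · show glue2 r β w _ = glue2 r β w _
    unfold glue2
    rw [dif_neg (by simp only; omega), dif_neg (by simp only; omega)]
    have e1 : (⟨r.val + s.val - r.val, by have := s.isLt; omega⟩ : Fin (d - r.val)) = s :=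
      Fin.ext (by simp only; omega)
    have e2 : (⟨r.val + s'.val - r.val, by have := s'.isLt; omega⟩ : Fin (d - r.val)) = s' :=
      Fin.ext (by simp only; omega)
    rw [e1, e2]
    exact h

end glue

section psi

variable (r : Fin d) (α β : Fin d → (Fin d → K))

lemma card_compl_of_card {A : Finset (Fin (d + 1))} (hA : A.card = r.val + 1) :
    Aᶜ.card = d - r.val := by
  rw [Finset.card_compl, hA, Fintype.card_fin]; omega

/-- one term of the shuffle sum, as a function of the `d + 1` moving vectors -/
noncomputable def term (u : Fin (d + 1) → (Fin d → K)) (A : Finset (Fin (d + 1))) : K :=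
  if hA : A.card = r.val + 1 then
    (-1) ^ shuffleSign r A * D1 r α (u ∘ A.orderEmbOfFin hA) *
      D2 r β (u ∘ Aᶜ.orderEmbOfFin (card_compl_of_card r hA))
  else 0

/-- the shuffle sum -/
noncomputable def Psi (u : Fin (d + 1) → (Fin d → K)) : K :=
  ∑ A : Finset (Fin (d + 1)), term r α β u A

lemma term_update (u : Fin (d + 1) → (Fin d → K)) (k : Fin (d + 1)) (A : Finset (Fin (d + 1)))
    (hA : A.card = r.val + 1) :
    (∃ s, ∀ z, term r α β (update u k z) A = (-1) ^ shuffleSign r A *
        D1 r α (update (u ∘ A.orderEmbOfFin hA) s z) *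
          D2 r β (u ∘ Aᶜ.orderEmbOfFin (card_compl_of_card r hA))) ∨
    (∃ s, ∀ z, term r α β (update u k z) A = (-1) ^ shuffleSign r A *
        D1 r α (u ∘ A.orderEmbOfFin hA) *
          D2 r β (update (u ∘ Aᶜ.orderEmbOfFin (card_compl_of_card r hA)) s z)) := by
  by_cases hk : k ∈ A
  · left
    have hk' : k ∈ Set.range (A.orderEmbOfFin hA) := by
      rw [Finset.range_orderEmbOfFin]; exact hk
    obtain ⟨s, rfl⟩ := hk'
    refine ⟨s, fun z => ?_⟩
    unfold term
    rw [dif_pos hA, update_comp_eq_of_injective u (A.orderEmbOfFin hA).injective s z,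
      update_comp_eq_of_forall_ne u z]
    intro x hx
    have h1 : (Aᶜ.orderEmbOfFin (card_compl_of_card r hA)) x ∈ Aᶜ := Finset.orderEmbOfFin_mem _ _ _
    rw [hx] at h1
    exact (Finset.mem_compl.1 h1) hk
  · right
    have hkc : k ∈ Aᶜ := Finset.mem_compl.2 hk
    have hk' : k ∈ Set.range (Aᶜ.orderEmbOfFin (card_compl_of_card r hA)) := by
      rw [Finset.range_orderEmbOfFin]; exact hkc
    obtain ⟨s, rfl⟩ := hk'
    refine ⟨s, fun z => ?_⟩
    unfold term
    rw [dif_pos hA,
      update_comp_eq_of_injective u (Aᶜ.orderEmbOfFin (card_compl_of_card r hA)).injective s z,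
      update_comp_eq_of_forall_ne u z]
    intro x hx
    have h1 : (A.orderEmbOfFin hA) x ∈ A := Finset.orderEmbOfFin_mem _ _ _
    rw [hx] at h1
    exact hk h1

lemma term_update_add (u : Fin (d + 1) → (Fin d → K)) (k : Fin (d + 1)) (x y : Fin d → K)
    (A : Finset (Fin (d + 1))) :
    term r α β (update u k (x + y)) A =
      term r α β (update u k x) A + term r α β (update u k y) A := by
  by_cases hA : A.card = r.val + 1
  · rcases term_update r α β u k A hA with ⟨s, hs⟩ | ⟨s, hs⟩
    · rw [hs, hs, hs, D1_update_add]; ring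
    · rw [hs, hs, hs, D2_update_add]; ring
  · unfold term
    rw [dif_neg hA, dif_neg hA, dif_neg hA, add_zero]

lemma term_update_smul (u : Fin (d + 1) → (Fin d → K)) (k : Fin (d + 1)) (c : K) (x : Fin d → K)
    (A : Finset (Fin (d + 1))) :
    term r α β (update u k (c • x)) A = c * term r α β (update u k x) A := by
  by_cases hA : A.card = r.val + 1
  · rcases term_update r α β u k A hA with ⟨s, hs⟩ | ⟨s, hs⟩
    · rw [hs, hs, D1_update_smul]; ring
    · rw [hs, hs, D2_update_smul]; ring
  · unfold term
    rw [dif_neg hA, dif_neg hA, mul_zero]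

lemma Psi_update_add (u : Fin (d + 1) → (Fin d → K)) (k : Fin (d + 1)) (x y : Fin d → K) :
    Psi r α β (update u k (x + y)) = Psi r α β (update u k x) + Psi r α β (update u k y) := by
  unfold Psi
  rw [← Finset.sum_add_distrib]
  exact Finset.sum_congr rfl fun A _ => term_update_add r α β u k x y A

lemma Psi_update_smul (u : Fin (d + 1) → (Fin d → K)) (k : Fin (d + 1)) (c : K) (x : Fin d → K) :
    Psi r α β (update u k (c • x)) = c * Psi r α β (update u k x) := by
  unfold Psi
  rw [Finset.mul_sum]
  exact Finset.sum_congr rfl fun A _ => term_update_smul r α β u k c x A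

/-! ### vanishing on adjacent equal vectors -/

section adjacent

variable (p q : Fin (d + 1)) (hpq : q.val = p.val + 1)

include hpq in
lemma swap_lt {x y : Fin (d + 1)} (hxy : x < y) (h : ¬ (x = p ∧ y = q)) :
    Equiv.swap p q x < Equiv.swap p q y := by
  have hxy' : x.val < y.val := hxy
  rw [Fin.lt_def]
  rw [Equiv.swap_apply_def, Equiv.swap_apply_def]
  by_cases hx1 : x = p
  · have hy1 : y ≠ q := fun e => h ⟨hx1, e⟩
    have hy2 : y ≠ p := fun e => by rw [hx1, e] at hxy'; omega
    rw [if_pos hx1, if_neg hy2, if_neg hy1]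
    have : y.val ≠ q.val := fun e => hy1 (Fin.ext e)
    rw [hx1] at hxy'
    omega
  · rw [if_neg hx1]
    by_cases hx2 : x = q
    · rw [if_pos hx2]
      have hy2 : y ≠ p := fun e => by rw [hx2, e] at hxy'; omega
      have hy1 : y ≠ q := fun e => by rw [hx2, e] at hxy'; omega
      rw [if_neg hy2, if_neg hy1]
      rw [hx2] at hxy'
      omega
    · rw [if_neg hx2]
      have hxp : x.val ≠ p.val := fun e => hx1 (Fin.ext e)
      have hxq : x.val ≠ q.val := fun e => hx2 (Fin.ext e)
      by_cases hy1 : y = p
      · rw [if_pos hy1]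
        rw [hy1] at hxy'
        omega
      · rw [if_neg hy1]
        by_cases hy2 : y = q
        · rw [if_pos hy2]
          rw [hy2] at hxy'
          omega
        · rw [if_neg hy2]
          exact hxy'

/-- the involution on position sets -/
def swapSet (A : Finset (Fin (d + 1))) : Finset (Fin (d + 1)) :=
  A.map (Equiv.swap p q).toEmbedding

lemma mem_swapSet (A : Finset (Fin (d + 1))) (x : Fin (d + 1)) :
    x ∈ swapSet p q A ↔ Equiv.swap p q x ∈ A := by
  unfold swapSet
  rw [Finset.mem_map_equiv, Equiv.symm_swap]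

lemma swapSet_swapSet (A : Finset (Fin (d + 1))) : swapSet p q (swapSet p q A) = A := by
  ext x
  rw [mem_swapSet, mem_swapSet, Equiv.swap_apply_self]

lemma card_swapSet (A : Finset (Fin (d + 1))) : (swapSet p q A).card = A.card := by
  unfold swapSet; rw [Finset.card_map]

lemma swapSet_compl (A : Finset (Fin (d + 1))) : (swapSet p q A)ᶜ = swapSet p q Aᶜ := by
  ext x
  rw [Finset.mem_compl, mem_swapSet, mem_swapSet, Finset.mem_compl]

lemma swapSet_eq_self (A : Finset (Fin (d + 1))) (h : p ∈ A ↔ q ∈ A) : swapSet p q A = A := by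
  ext x
  rw [mem_swapSet, Equiv.swap_apply_def]
  by_cases hx1 : x = p
  · rw [if_pos hx1, hx1]; exact h.symm
  · rw [if_neg hx1]
    by_cases hx2 : x = q
    · rw [if_pos hx2, hx2]; exact h
    · rw [if_neg hx2]

include hpq in
lemma orderEmb_swapSet (A : Finset (Fin (d + 1))) {k : ℕ} (hA : A.card = k)
    (hA' : (swapSet p q A).card = k) (h : ¬ (p ∈ A ∧ q ∈ A)) :
    ⇑((swapSet p q A).orderEmbOfFin hA') = Equiv.swap p q ∘ A.orderEmbOfFin hA := by
  symm
  apply Finset.orderEmbOfFin_unique hA'
  · intro x
    rw [mem_swapSet, Function.comp_apply, Equiv.swap_apply_self]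
    exact Finset.orderEmbOfFin_mem _ _ _
  · intro x y hxy
    apply swap_lt p q hpq ((A.orderEmbOfFin hA).strictMono hxy)
    rintro ⟨h1, h2⟩
    apply h
    rw [← h1, ← h2]
    exact ⟨Finset.orderEmbOfFin_mem _ _ _, Finset.orderEmbOfFin_mem _ _ _⟩

lemma comp_swap (u : Fin (d + 1) → (Fin d → K)) (hu : u p = u q) : u ∘ Equiv.swap p q = u := by
  funext x
  rw [Function.comp_apply, Equiv.swap_apply_def]
  by_cases hx1 : x = p
  · rw [if_pos hx1, hx1, hu]
  · rw [if_neg hx1]
    by_cases hx2 : x = q
    · rw [if_pos hx2, hx2, hu]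
    · rw [if_neg hx2]

lemma orderEmb_congr {A B : Finset (Fin (d + 1))} (h : A = B) {k : ℕ} (hA : A.card = k)
    (hB : B.card = k) : ⇑(A.orderEmbOfFin hA) = ⇑(B.orderEmbOfFin hB) := by
  subst h; rfl

lemma sum_val_ge (A : Finset (Fin (d + 1))) (hA : A.card = r.val + 1) :
    r.val * (r.val + 1) / 2 ≤ A.sum (fun a => a.val) := by
  rw [← sum_orderEmbOfFin A hA (fun a => a.val)]
  have h1 : ∑ t : Fin (r.val + 1), t.val ≤ ∑ t : Fin (r.val + 1), (A.orderEmbOfFin hA t).val :=
    Finset.sum_le_sum fun t _ => orderEmb_ge A hA t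
  rw [Fin.sum_univ_eq_sum_range (fun t => t) (r.val + 1), Finset.sum_range_id] at h1
  have : (r.val + 1) * (r.val + 1 - 1) / 2 = r.val * (r.val + 1) / 2 := by
    rw [Nat.add_sub_cancel, mul_comm]
  rw [this] at h1
  exact h1

include hpq in
lemma sum_swapSet (A : Finset (Fin (d + 1))) (hp : p ∈ A) (hq : q ∉ A) :
    (swapSet p q A).sum (fun a => a.val) = A.sum (fun a => a.val) + 1 := by
  unfold swapSet
  rw [Finset.sum_map, ← Finset.add_sum_erase A _ hp, ← Finset.add_sum_erase A (fun a => a.val) hp]
  have h1 : ((Equiv.swap p q).toEmbedding p).val = p.val + 1 := by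
    rw [Equiv.coe_toEmbedding, Equiv.swap_apply_left]; exact hpq
  have h2 : ∑ x ∈ A.erase p, ((Equiv.swap p q).toEmbedding x).val = ∑ x ∈ A.erase p, x.val := by
    apply Finset.sum_congr rfl
    intro x hx
    rw [Finset.mem_erase] at hx
    have hxq : x ≠ q := fun e => hq (e ▸ hx.2)
    rw [Equiv.coe_toEmbedding, Equiv.swap_apply_of_ne_of_ne hx.1 hxq]
  rw [h1, h2]
  ring

include hpq in
lemma neg_one_pow_shuffleSign_swap (A : Finset (Fin (d + 1))) (hA : A.card = r.val + 1)
    (hp : p ∈ A) (hq : q ∉ A) :
    (-1 : K) ^ shuffleSign r (swapSet p q A) = -(-1) ^ shuffleSign r A := by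
  unfold shuffleSign
  rw [sum_swapSet p q hpq A hp hq]
  have := sum_val_ge r A hA
  rw [Nat.sub_add_comm this, pow_succ]
  ring

include hpq in
lemma term_swapSet_of_mem (u : Fin (d + 1) → (Fin d → K)) (hu : u p = u q)
    (A : Finset (Fin (d + 1))) (hp : p ∈ A) (hq : q ∉ A) :
    term r α β u (swapSet p q A) = -term r α β u A := by
  by_cases hA : A.card = r.val + 1
  · have hA' : (swapSet p q A).card = r.val + 1 := by rw [card_swapSet]; exact hA
    unfold term
    rw [dif_pos hA, dif_pos hA']
    have e1 : u ∘ ⇑((swapSet p q A).orderEmbOfFin hA') = u ∘ ⇑(A.orderEmbOfFin hA) := by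
      rw [orderEmb_swapSet p q hpq A hA hA' (fun h => hq h.2), ← Function.comp_assoc,
        comp_swap p q u hu]
    have hC' : (swapSet p q Aᶜ).card = d - r.val := by
      rw [card_swapSet]; exact card_compl_of_card r hA
    have e2 : u ∘ ⇑((swapSet p q A)ᶜ.orderEmbOfFin (card_compl_of_card r hA'))
        = u ∘ ⇑(Aᶜ.orderEmbOfFin (card_compl_of_card r hA)) := by
      rw [orderEmb_congr (swapSet_compl p q A) (card_compl_of_card r hA') hC',
        orderEmb_swapSet p q hpq Aᶜ (card_compl_of_card r hA) hC'
          (fun h => (Finset.mem_compl.1 h.1) hp), ← Function.comp_assoc, comp_swap p q u hu]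
    rw [e1, e2, neg_one_pow_shuffleSign_swap r p q hpq A hA hp hq]
    ring
  · have hA' : ¬ (swapSet p q A).card = r.val + 1 := by rw [card_swapSet]; exact hA
    unfold term
    rw [dif_neg hA, dif_neg hA', neg_zero]

include hpq in
lemma term_eq_zero_of_mem_mem (u : Fin (d + 1) → (Fin d → K)) (hu : u p = u q)
    (A : Finset (Fin (d + 1))) (hp : p ∈ A) (hq : q ∈ A) : term r α β u A = 0 := by
  by_cases hA : A.card = r.val + 1
  · unfold term
    rw [dif_pos hA]
    have hp' : p ∈ Set.range (A.orderEmbOfFin hA) := by
      rw [Finset.range_orderEmbOfFin]; exact hp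
    have hq' : q ∈ Set.range (A.orderEmbOfFin hA) := by
      rw [Finset.range_orderEmbOfFin]; exact hq
    obtain ⟨s, hs⟩ := hp'
    obtain ⟨s', hs'⟩ := hq'
    have hne : s ≠ s' := by
      intro e
      rw [e, hs'] at hs
      have := congrArg Fin.val hs
      omega
    rw [D1_eq_zero r α _ s s' hne (by simp only [Function.comp_apply, hs, hs', hu])]
    ring
  · unfold term
    rw [dif_neg hA]

include hpq in
lemma term_eq_zero_of_notMem_notMem (u : Fin (d + 1) → (Fin d → K)) (hu : u p = u q)
    (A : Finset (Fin (d + 1))) (hp : p ∉ A) (hq : q ∉ A) : term r α β u A = 0 := by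
  by_cases hA : A.card = r.val + 1
  · unfold term
    rw [dif_pos hA]
    have hp' : p ∈ Set.range (Aᶜ.orderEmbOfFin (card_compl_of_card r hA)) := by
      rw [Finset.range_orderEmbOfFin]; exact Finset.mem_coe.2 (Finset.mem_compl.2 hp)
    have hq' : q ∈ Set.range (Aᶜ.orderEmbOfFin (card_compl_of_card r hA)) := by
      rw [Finset.range_orderEmbOfFin]; exact Finset.mem_coe.2 (Finset.mem_compl.2 hq)
    obtain ⟨s, hs⟩ := hp'
    obtain ⟨s', hs'⟩ := hq'
    have hne : s ≠ s' := by
      intro e
      rw [e, hs'] at hs
      have := congrArg Fin.val hs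
      omega
    rw [D2_eq_zero r β _ s s' hne (by simp only [Function.comp_apply, hs, hs', hu])]
    ring
  · unfold term
    rw [dif_neg hA]

include hpq in
/-- the shuffle sum vanishes when two adjacent vectors are equal -/
theorem Psi_eq_zero_of_adjacent (u : Fin (d + 1) → (Fin d → K)) (hu : u p = u q) :
    Psi r α β u = 0 := by
  unfold Psi
  apply Finset.sum_ninvolution (swapSet p q)
  · intro A
    by_cases hp : p ∈ A
    · by_cases hq : q ∈ A
      · rw [swapSet_eq_self p q A ⟨fun _ => hq, fun _ => hp⟩,
          term_eq_zero_of_mem_mem r α β p q hpq u hu A hp hq, add_zero]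
      · rw [term_swapSet_of_mem r α β p q hpq u hu A hp hq, add_neg_cancel]
    · by_cases hq : q ∈ A
      · have hp' : p ∈ swapSet p q A := by
          rw [mem_swapSet, Equiv.swap_apply_left]; exact hq
        have hq' : q ∉ swapSet p q A := by
          rw [mem_swapSet, Equiv.swap_apply_right]; exact hp
        have := term_swapSet_of_mem r α β p q hpq u hu (swapSet p q A) hp' hq'
        rw [swapSet_swapSet] at this
        rw [this, neg_add_cancel]
      · rw [swapSet_eq_self p q A ⟨fun h => absurd h hp, fun h => absurd h hq⟩,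
          term_eq_zero_of_notMem_notMem r α β p q hpq u hu A hp hq, add_zero]
  · intro A hne hA
    by_cases hp : p ∈ A
    · by_cases hq : q ∈ A
      · exact hne (term_eq_zero_of_mem_mem r α β p q hpq u hu A hp hq)
      · have : p ∈ swapSet p q A := by rw [hA]; exact hp
        rw [mem_swapSet, Equiv.swap_apply_left] at this
        exact hq this
    · by_cases hq : q ∈ A
      · have : q ∈ swapSet p q A := by rw [hA]; exact hq
        rw [mem_swapSet, Equiv.swap_apply_right] at this
        exact hp this
      · exact hne (term_eq_zero_of_notMem_notMem r α β p q hpq u hu A hp hq)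
  · intro A; exact Finset.mem_univ _
  · intro A; exact swapSet_swapSet p q A

end adjacent

end psi

/-! ### from adjacent to arbitrary repetitions -/

section alt

variable {m : ℕ} {V : Type*} [AddCommGroup V] (F : (Fin m → V) → K)

lemma F_swap_adjacent
    (hadd : ∀ (u : Fin m → V) (k : Fin m) (x y : V),
      F (update u k (x + y)) = F (update u k x) + F (update u k y))
    (hadj : ∀ (u : Fin m → V) (p q : Fin m), q.val = p.val + 1 → u p = u q → F u = 0)
    (u : Fin m → V) (p q : Fin m) (hpq : q.val = p.val + 1) :
    F (u ∘ Equiv.swap p q) = -F u := by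
  have hne : p ≠ q := by
    intro e; rw [e] at hpq; omega
  have h0 : F (update (update u p (u p + u q)) q (u p + u q)) = 0 := by
    apply hadj _ p q hpq
    rw [update_self, update_of_ne hne, update_self]
  rw [hadd] at h0
  have c1 : update (update u p (u p + u q)) q (u p) = update (update u q (u p)) p (u p + u q) :=
    update_comm hne _ _ _
  have c2 : update (update u p (u p + u q)) q (u q) = update (update u q (u q)) p (u p + u q) :=
    update_comm hne _ _ _
  rw [c1, c2, hadd, hadd] at h0
  have e1 : F (update (update u q (u p)) p (u p)) = 0 := by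
    apply hadj _ p q hpq
    rw [update_self, update_of_ne hne.symm, update_self]
  have e4 : F (update (update u q (u q)) p (u q)) = 0 := by
    apply hadj _ p q hpq
    rw [update_self, update_of_ne hne.symm, update_self]
  have e3 : update (update u q (u q)) p (u p) = u := by
    rw [update_eq_self, update_eq_self]
  have e2 : update (update u q (u p)) p (u q) = u ∘ Equiv.swap p q := by
    funext x
    rw [Function.comp_apply, Equiv.swap_apply_def]
    by_cases hx1 : x = p
    · rw [if_pos hx1, hx1, update_self]
    · rw [if_neg hx1, update_of_ne hx1]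
      by_cases hx2 : x = q
      · rw [if_pos hx2, hx2, update_self]
      · rw [if_neg hx2, update_of_ne hx2]
  rw [e1, e4, e3, e2] at h0
  have : F (u ∘ Equiv.swap p q) + F u = 0 := by
    rw [← h0]; ring
  exact eq_neg_of_add_eq_zero_left this

lemma F_eq_zero_of_eq
    (hadd : ∀ (u : Fin m → V) (k : Fin m) (x y : V),
      F (update u k (x + y)) = F (update u k x) + F (update u k y))
    (hadj : ∀ (u : Fin m → V) (p q : Fin m), q.val = p.val + 1 → u p = u q → F u = 0) :
    ∀ (g : ℕ) (u : Fin m → V) (p q : Fin m), q.val = p.val + g + 1 → u p = u q → F u = 0 := by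
  intro g
  induction g with
  | zero => intro u p q hpq hu; exact hadj u p q (by omega) hu
  | succ g ih =>
    intro u p q hpq hu
    have hq' : q.val - 1 < m := by have := q.isLt; omega
    let q' : Fin m := ⟨q.val - 1, hq'⟩
    have hq'q : q.val = q'.val + 1 := by simp only [q']; omega
    have hpq' : q'.val = p.val + g + 1 := by simp only [q']; omega
    have hsw := F_swap_adjacent F hadd hadj u q' q hq'q
    have hpne1 : p ≠ q' := by
      intro e; rw [e] at hpq'; omega
    have hpne2 : p ≠ q := by
      intro e; rw [e] at hpq; omega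
    have h0 : F (u ∘ Equiv.swap q' q) = 0 := by
      apply ih _ p q' hpq'
      rw [Function.comp_apply, Function.comp_apply, Equiv.swap_apply_of_ne_of_ne hpne1 hpne2,
        Equiv.swap_apply_left]
      exact hu
    rw [h0] at hsw
    exact neg_eq_zero.1 hsw.symm

end alt

/-! ### the alternating map and its vanishing -/

section final

variable (r : Fin d) (α β : Fin d → (Fin d → K))

lemma Psi_eq_zero_of_eq (u : Fin (d + 1) → (Fin d → K)) (i j : Fin (d + 1)) (hu : u i = u j)
    (hij : i ≠ j) : Psi r α β u = 0 := by
  have key := F_eq_zero_of_eq (Psi r α β) (Psi_update_add r α β)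
    (fun u p q hpq hu => Psi_eq_zero_of_adjacent r α β p q hpq u hu)
  rcases lt_or_gt_of_ne hij with h | h
  · have h' : i.val < j.val := h
    exact key (j.val - i.val - 1) u i j (by omega) hu
  · have h' : j.val < i.val := h
    exact key (i.val - j.val - 1) u j i (by omega) hu.symm

/-- the shuffle sum as an alternating map -/
noncomputable def PsiAlt : (Fin d → K) [⋀^Fin (d + 1)]→ₗ[K] K :=
  { toFun := Psi r α β
    map_update_add' := by
      intro inst u k x y
      have : inst = instDecidableEqFin (d + 1) := Subsingleton.elim _ _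
      subst this
      exact Psi_update_add r α β u k x y
    map_update_smul' := by
      intro inst u k c x
      have : inst = instDecidableEqFin (d + 1) := Subsingleton.elim _ _
      subst this
      rw [Psi_update_smul r α β u k c x, smul_eq_mul]
    map_eq_zero_of_eq' := by
      intro u i j hu hij
      exact Psi_eq_zero_of_eq r α β u i j hu hij }

/-- **Plücker relation**: the shuffle sum of `d + 1` vectors in `K^d` vanishes. -/
theorem Psi_eq_zero (u : Fin (d + 1) → (Fin d → K)) : Psi r α β u = 0 := by
  have h : PsiAlt r α β = 0 := by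
    apply Module.Basis.ext_alternating (Pi.basisFun K (Fin d))
    intro v hv
    exfalso
    have := Fintype.card_le_of_injective v hv
    simp at this
  have := congrArg (fun f => f u) h
  exact this

end final

/-! ### the shuffle relations vanish on minors -/

section minors

variable {n : ℕ} (A : Matrix (Fin n) (Fin d) K)

lemma det_submatrix_shuffleI (i j : Idx d n) (r : Fin d) (S : Finset (Fin (d + 1)))
    (hS : S.card = r.val + 1) :
    (A.submatrix (shuffleI i j r S hS) id).det =
      D1 r (fun t => A (i.1 t)) ((fun k => A (movingRows i j r k)) ∘ S.orderEmbOfFin hS) := by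
  unfold D1
  congr 1
  ext t c
  simp only [Matrix.submatrix_apply, id_eq, Matrix.of_apply]
  unfold shuffleI glue1
  split_ifs with h
  · rfl
  · rfl

lemma det_submatrix_shuffleJ (i j : Idx d n) (r : Fin d) (S : Finset (Fin (d + 1)))
    (hS : S.card = r.val + 1) :
    (A.submatrix (shuffleJ i j r S hS) id).det =
      D2 r (fun t => A (j.1 t))
        ((fun k => A (movingRows i j r k)) ∘ Sᶜ.orderEmbOfFin (card_compl_of_card r hS)) := by
  unfold D2
  congr 1
  ext t c
  simp only [Matrix.submatrix_apply, id_eq, Matrix.of_apply]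
  unfold shuffleJ glue2
  split_ifs with h
  · rfl
  · rfl

/-- **the shuffle relations hold for the minors of any matrix** -/
theorem evalMinors_shuffleRel (i j : Idx d n) (r : Fin d) :
    evalMinors K d n A (shuffleRel K i j r) = 0 := by
  unfold shuffleRel
  rw [map_sum]
  rw [← Psi_eq_zero r (fun t => A (i.1 t)) (fun t => A (j.1 t))
    (fun k => A (movingRows i j r k))]
  unfold Psi
  apply Finset.sum_congr rfl
  intro S _
  unfold shuffleTerm term
  split_ifs with hS
  · rw [map_mul, map_mul, map_pow, map_neg, map_one, evalMinors_coord, evalMinors_coord,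
      det_submatrix_shuffleI, det_submatrix_shuffleJ]
  · rw [map_zero]

end minors

end Groth.Agent.Lib.Helper28.Smt
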