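import Groth.Agent.Lib.Helper28.SmtBasic
import Mathlib.Data.Multiset.Sort
import Mathlib.RingTheory.Ideal.Quotient.Operations

/-!
# Straightening: standard monomials span modulo the shuffle relations (helper28)
-/

set_option autoImplicit false

namespace Groth.Agent.Lib.Helper28.Smt

open W4bk4grassmannian MvPolynomial

variable {d n : ℕ}

lemma idx_le_iff (a b : Idx d n) : a ≤ b ↔ ∀ t, a.1 t ≤ b.1 t := Iff.rfl

lemma wt_le_of_le {a b : Idx d n} (h : a ≤ b) : wt a.1 ≤ wt b.1 := by
  unfold wt
  exact Finset.sum_le_sum fun t _ => h t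

lemma eq_of_le_of_wt_le {a b : Idx d n} (h : a ≤ b) (hw : wt b.1 ≤ wt a.1) : a = b := by
  have heq : ∑ t, (a.1 t).val = ∑ t, (b.1 t).val := le_antisymm (wt_le_of_le h) hw
  have := (Finset.sum_eq_sum_iff_of_le (f := fun t : Fin d => (a.1 t).val)
    (g := fun t : Fin d => (b.1 t).val) (s := Finset.univ)
    (fun t _ => (h t : (a.1 t).val ≤ (b.1 t).val))).1 heq
  apply Subtype.ext
  funext t
  exact Fin.ext (this t (Finset.mem_univ t))

lemma wt_lt_bound (a : Fin d → Fin n) : wt a ≤ d * n := by
  unfold wt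
  calc ∑ t, (a t).val ≤ ∑ _t : Fin d, n := Finset.sum_le_sum fun t _ => (a t).isLt.le
    _ = d * n := by simp

variable (K : Type*) [CommRing K]

/-- the monomial of a multiset of indices -/
noncomputable def mon (S : Multiset (Idx d n)) : PlRing K d n := (S.map X).prod

lemma mon_cons (a : Idx d n) (S : Multiset (Idx d n)) : mon K (a ::ₘ S) = X a * mon K S := by
  unfold mon; rw [Multiset.map_cons, Multiset.prod_cons]

lemma mon_zero : mon K (0 : Multiset (Idx d n)) = 1 := by
  unfold mon; simp

/-- the potential used for termination -/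
def pot (S : Multiset (Idx d n)) : ℕ := (S.map fun a => 3 ^ wt a.1).sum

lemma pot_cons (a : Idx d n) (S : Multiset (Idx d n)) : pot (a ::ₘ S) = 3 ^ wt a.1 + pot S := by
  unfold pot; rw [Multiset.map_cons, Multiset.sum_cons]

lemma pot_le (S : Multiset (Idx d n)) : pot S ≤ Multiset.card S * 3 ^ (d * n) := by
  induction S using Multiset.induction_on with
  | empty => simp [pot]
  | cons a S ih =>
    rw [pot_cons, Multiset.card_cons, add_mul, one_mul, add_comm]
    exact add_le_add ih (Nat.pow_le_pow_right (by norm_num) (wt_lt_bound a.1))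

/-- the span of the classes of the standard monomials -/
noncomputable def stdSpan : Submodule K (PlRing K d n ⧸ plIdealTop (d := d) (n := n) K) :=
  Submodule.span K (Set.range fun c : (Σ m : ℕ, {c : Fin m → Idx d n // Antitone c}) =>
    Ideal.Quotient.mk (plIdealTop (d := d) (n := n) K) (chainMon K c.2.1))

/-- a multiset of pairwise comparable indices is the multiset of a standard monomial -/
lemma exists_chain_of_comparable (S : Multiset (Idx d n))
    (hS : ∀ a ∈ S, ∀ b ∈ S, a ≤ b ∨ b ≤ a) :
    ∃ (m : ℕ) (c : Fin m → Idx d n), Antitone c ∧ chainMon K c = mon K S := by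
  classical
  let le : Idx d n → Idx d n → Bool := fun a b => decide (wt b.1 ≤ wt a.1)
  let l := S.toList.mergeSort le
  have hperm : l.Perm S.toList := List.mergeSort_perm _ _
  have hpw : l.Pairwise (fun a b => le a b) := by
    apply List.pairwise_mergeSort
    · intro a b c hab hbc
      simp only [le, decide_eq_true_eq] at hab hbc ⊢
      exact hbc.trans hab
    · intro a b
      simp only [le, Bool.or_eq_true, decide_eq_true_eq]
      exact le_total _ _
  have hmem : ∀ a, a ∈ l ↔ a ∈ S := by
    intro a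
    rw [hperm.mem_iff, Multiset.mem_toList]
  have hcoe : (l : Multiset (Idx d n)) = S := by
    rw [← Multiset.coe_toList S]
    exact Multiset.coe_eq_coe.2 hperm
  refine ⟨l.length, fun k => l.get k, ?_, ?_⟩
  · intro k k' hkk'
    rcases eq_or_lt_of_le hkk' with h | h
    · rw [h]
    · have h1 := List.pairwise_iff_get.1 hpw k k' h
      simp only [le, decide_eq_true_eq] at h1
      rcases hS _ ((hmem _).1 (List.get_mem l k)) _ ((hmem _).1 (List.get_mem l k')) with h2 | h2
      · show l.get k' ≤ l.get k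
        rw [eq_of_le_of_wt_le h2 h1]
      · exact h2
  · unfold chainMon mon
    rw [← hcoe, Multiset.map_coe, Multiset.prod_coe]
    rw [← List.prod_ofFn]
    congr 1
    have : (fun k : Fin l.length => (X (l.get k) : PlRing K d n)) = X ∘ l.get := rfl
    rw [this, ← List.map_ofFn, List.ofFn_get]

lemma exists_pivot (a b : Idx d n) (h : ¬ b ≤ a) : ∃ r : Fin d, IsPivot a b r := by
  classical
  have hne : (Finset.univ.filter fun t : Fin d => a.1 t < b.1 t).Nonempty := by
    by_contra hcon
    rw [Finset.not_nonempty_iff_eq_empty, Finset.filter_eq_empty_iff] at hcon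
    apply h
    intro t
    exact not_lt.1 (hcon (Finset.mem_univ t))
  refine ⟨(Finset.univ.filter fun t : Fin d => a.1 t < b.1 t).min' hne, ?_, ?_⟩
  · intro t ht
    by_contra hcon
    have hmem : t ∈ Finset.univ.filter (fun t : Fin d => a.1 t < b.1 t) := by
      rw [Finset.mem_filter]
      exact ⟨Finset.mem_univ _, not_le.1 hcon⟩
    exact absurd (Finset.min'_le _ t hmem) (not_le.2 ht)
  · exact (Finset.mem_filter.1 (Finset.min'_mem _ hne)).2

lemma pow_three_lt {wa wb wa' wb' : ℕ} (h1 : wa < wa') (h2 : wb ≤ wa) :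
    3 ^ wa + 3 ^ wb < 3 ^ wa' + 3 ^ wb' := by
  have e1 : 3 ^ (wa + 1) ≤ 3 ^ wa' := Nat.pow_le_pow_right (by norm_num) h1
  have e2 : 3 ^ wb ≤ 3 ^ wa := Nat.pow_le_pow_right (by norm_num) h2
  have e3 : 0 < 3 ^ wb := by positivity
  have e4 : 0 < 3 ^ wb' := by positivity
  have e5 : 3 ^ (wa + 1) = 3 * 3 ^ wa := by rw [pow_succ]; ring
  omega

local notation "Q" => PlRing K d n ⧸ plIdealTop (d := d) (n := n) K
local notation "π" => Ideal.Quotient.mk (plIdealTop (d := d) (n := n) K)

lemma neg_one_pow_mul_mem {x : PlRing K d n ⧸ plIdealTop (d := d) (n := n) K}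
    (hx : x ∈ stdSpan (d := d) (n := n) K) (s : ℕ) :
    (-1) ^ s * x ∈ stdSpan (d := d) (n := n) K := by
  rcases neg_one_pow_eq_or (PlRing K d n ⧸ plIdealTop (d := d) (n := n) K) s with h | h
  · rw [h, one_mul]; exact hx
  · rw [h, neg_one_mul]; exact Submodule.neg_mem _ hx

/-- one straightening step -/
lemma step (m N : ℕ)
    (ih : ∀ N' < N, ∀ S : Multiset (Idx d n), Multiset.card S = m →
      m * 3 ^ (d * n) - pot S ≤ N' →
        Ideal.Quotient.mk (plIdealTop (d := d) (n := n) K) (mon K S) ∈ stdSpan (d := d) (n := n) K)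
    (S' : Multiset (Idx d n)) (a b : Idx d n) (hcard : Multiset.card (a ::ₘ b ::ₘ S') = m)
    (hN : m * 3 ^ (d * n) - pot (a ::ₘ b ::ₘ S') ≤ N)
    (hab : ¬ b ≤ a) (hw : wt b.1 ≤ wt a.1) :
    Ideal.Quotient.mk (plIdealTop (d := d) (n := n) K) (mon K (a ::ₘ b ::ₘ S'))
      ∈ stdSpan (d := d) (n := n) K := by
  classical
  obtain ⟨r, hpiv⟩ := exists_pivot a b hab
  have hrel : shuffleRel K a b r ∈ plIdealTop (d := d) (n := n) K :=
    Ideal.subset_span ⟨a, b, r, hpiv, rfl⟩
  have h0 : Ideal.Quotient.mk (plIdealTop (d := d) (n := n) K) (shuffleRel K a b r) = 0 :=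
    Ideal.Quotient.eq_zero_iff_mem.2 hrel
  rw [shuffleRel_eq, map_add, map_sum] at h0
  have h1 : Ideal.Quotient.mk (plIdealTop (d := d) (n := n) K) (X a * X b)
      = -∑ A ∈ (Finset.univ : Finset (Finset (Fin (d + 1)))).erase (A0 r),
          Ideal.Quotient.mk (plIdealTop (d := d) (n := n) K) (shuffleTerm K a b r A) :=
    eq_neg_of_add_eq_zero_left h0
  have h2 : Ideal.Quotient.mk (plIdealTop (d := d) (n := n) K) (mon K (a ::ₘ b ::ₘ S'))
      = -∑ A ∈ (Finset.univ : Finset (Finset (Fin (d + 1)))).erase (A0 r),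
          Ideal.Quotient.mk (plIdealTop (d := d) (n := n) K) (shuffleTerm K a b r A * mon K S') := by
    rw [mon_cons, mon_cons, ← mul_assoc, map_mul, h1]
    refine (neg_mul (α := PlRing K d n ⧸ plIdealTop (d := d) (n := n) K) _ _).trans ?_
    refine congrArg Neg.neg ?_
    refine (Finset.sum_mul _ _ _).trans ?_
    refine Finset.sum_congr rfl fun A _ => ?_
    exact (map_mul _ _ _).symm
  rw [h2]
  apply Submodule.neg_mem
  apply Submodule.sum_mem
  intro A hA
  have hne : A ≠ A0 r := (Finset.mem_erase.1 hA).1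
  rcases shuffleTerm_shape K a b r hpiv.2 A hne with h | ⟨a', b', s, h, hwlt⟩
  · rw [h, zero_mul, map_zero]; exact Submodule.zero_mem _
  · rw [h]
    have e : (-1 : PlRing K d n) ^ s * (X a' * X b') * mon K S'
        = (-1) ^ s * mon K (a' ::ₘ b' ::ₘ S') := by
      rw [mon_cons, mon_cons]; ring
    rw [e, map_mul, map_pow, map_neg, map_one]
    apply neg_one_pow_mul_mem
    have hcard' : Multiset.card (a' ::ₘ b' ::ₘ S') = m := by
      rw [← hcard]; simp
    have hpot : pot (a ::ₘ b ::ₘ S') < pot (a' ::ₘ b' ::ₘ S') := by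
      rw [pot_cons, pot_cons, pot_cons, pot_cons, ← add_assoc, ← add_assoc]
      exact Nat.add_lt_add_right (pow_three_lt hwlt hw) _
    have hle := pot_le (a' ::ₘ b' ::ₘ S')
    rw [hcard'] at hle
    refine ih (m * 3 ^ (d * n) - pot (a' ::ₘ b' ::ₘ S')) ?_ _ hcard' le_rfl
    omega

/-- every monomial is, modulo the shuffle relations, a combination of standard monomials -/
theorem mk_mon_mem (m : ℕ) : ∀ (N : ℕ) (S : Multiset (Idx d n)), Multiset.card S = m →
    m * 3 ^ (d * n) - pot S ≤ N →
      Ideal.Quotient.mk (plIdealTop (d := d) (n := n) K) (mon K S) ∈ stdSpan (d := d) (n := n) K := by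
  classical
  intro N
  induction N using Nat.strong_induction_on with
  | _ N ih =>
    intro S hcard hN
    by_cases hS : ∀ a ∈ S, ∀ b ∈ S, a ≤ b ∨ b ≤ a
    · obtain ⟨m', c, hc, hcm⟩ := exists_chain_of_comparable K S hS
      rw [← hcm]
      exact Submodule.subset_span ⟨⟨m', c, hc⟩, rfl⟩
    · simp only [not_forall, not_or] at hS
      obtain ⟨a, ha, b, hb, hab, hba⟩ := hS
      have hne : b ≠ a := fun h => hab (h ▸ le_rfl)
      have hb' : b ∈ S.erase a := (Multiset.mem_erase_of_ne hne).2 hb
      have hS1 : S = a ::ₘ b ::ₘ (S.erase a).erase b := by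
        rw [Multiset.cons_erase hb', Multiset.cons_erase ha]
      rcases le_total (wt b.1) (wt a.1) with hw | hw
      · rw [hS1] at hcard hN ⊢
        exact step K m N ih _ a b hcard hN hba hw
      · have hS2 : S = b ::ₘ a ::ₘ (S.erase a).erase b :=
          hS1.trans (Multiset.cons_swap _ _ _)
        rw [hS2] at hcard hN ⊢
        exact step K m N ih _ b a hcard hN hab hw

theorem mk_mon_mem' (S : Multiset (Idx d n)) :
    Ideal.Quotient.mk (plIdealTop (d := d) (n := n) K) (mon K S) ∈ stdSpan (d := d) (n := n) K :=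
  mk_mon_mem K _ _ S rfl le_rfl

/-- the standard monomials span the quotient by the shuffle relations -/
theorem stdSpan_eq_top : stdSpan (d := d) (n := n) K = ⊤ := by
  rw [eq_top_iff]
  rintro x -
  obtain ⟨p, rfl⟩ := Ideal.Quotient.mk_surjective x
  suffices h : ∀ S : Multiset (Idx d n),
      Ideal.Quotient.mk (plIdealTop (d := d) (n := n) K) (p * mon K S)
        ∈ stdSpan (d := d) (n := n) K by
    have := h 0
    rwa [mon_zero, mul_one] at this
  induction p using MvPolynomial.induction_on with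
  | C c =>
    intro S
    have : Ideal.Quotient.mk (plIdealTop (d := d) (n := n) K) (C c * mon K S)
        = c • Ideal.Quotient.mk (plIdealTop (d := d) (n := n) K) (mon K S) := by
      rw [← smul_eq_C_mul]; rfl
    rw [this]
    exact Submodule.smul_mem _ _ (mk_mon_mem' K S)
  | add p q hp hq =>
    intro S
    rw [add_mul, map_add]
    exact Submodule.add_mem _ (hp S) (hq S)
  | mul_X p i hp =>
    intro S
    have := hp (i ::ₘ S)
    rwa [mon_cons, ← mul_assoc] at this

end Groth.Agent.Lib.Helper28.Smt
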