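import Groth.Agent.Lib.Helper28.SmtLead
import Groth.Agent.Lib.Helper28.SmtStraighten
import Groth.Agent.Lib.Helper28.SmtPlucker

/-!
# Ideals of Schubert varieties via standard monomials (helper28)

Main tool `mem_of_mem_iInf`: an ideal `I` containing the shuffle relations and contained in an
intersection `⨅ w ∈ W, J(w)` of Schubert ideals is equal to it as soon as every standard monomial
either lies in `I` or lives on some `X(w)`, `w ∈ W`.
-/

set_option autoImplicit false

namespace Groth.Agent.Lib.Helper28.Smt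

open W4bk4grassmannian MvPolynomial

variable {d n : ℕ} (K : Type*) [CommRing K]

/-- chains `τ_0 ≥ τ_1 ≥ ⋯` of any length -/
abbrev Chain (d n : ℕ) : Type := Σ m : ℕ, {c : Fin m → Idx d n // Antitone c}

lemma chain_inj : Function.Injective
    fun c : Chain d n => (⟨c.1, c.2.1⟩ : Σ m : ℕ, Fin m → Idx d n) := by
  rintro ⟨m, c, hc⟩ ⟨m', c', hc'⟩ h
  simp only [Sigma.mk.injEq] at h
  obtain ⟨h1, h2⟩ := h
  subst h1
  have h3 := eq_of_heq h2
  subst h3
  rfl

lemma X_mem_schubertVanishing (w φ : Idx d n) (h : ¬ φ ≤ w) :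
    (X φ : PlRing K d n) ∈ schubertVanishing K d n w := by
  unfold schubertVanishing
  rw [Ideal.mem_iInf]
  intro A
  rw [Ideal.mem_iInf]
  intro hA
  rw [RingHom.mem_ker]
  show evalMinors K d n A (X φ) = 0
  rw [evalMinors_X]
  exact hA φ h

lemma plIdealTop_le_schubertVanishing (w : Idx d n) :
    plIdealTop (d := d) (n := n) K ≤ schubertVanishing K d n w := by
  unfold plIdealTop
  rw [Ideal.span_le]
  rintro f ⟨i, j, r, -, rfl⟩
  unfold schubertVanishing
  rw [SetLike.mem_coe, Ideal.mem_iInf]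
  intro A
  rw [Ideal.mem_iInf]
  intro _
  rw [RingHom.mem_ker]
  exact evalMinors_shuffleRel (A := A) i j r

lemma plIdealTop_le_plIdeal (w : Idx d n) :
    plIdealTop (d := d) (n := n) K ≤ plIdeal K w := by
  unfold plIdealTop plIdeal
  exact Ideal.span_mono Set.subset_union_left

lemma X_mem_plIdeal (w φ : Idx d n) (h : ¬ φ ≤ w) : (X φ : PlRing K d n) ∈ plIdeal K w := by
  unfold plIdeal
  exact Ideal.subset_span (Or.inr ⟨φ, h, rfl⟩)

lemma plIdeal_le_schubertVanishing (w : Idx d n) :
    plIdeal K w ≤ schubertVanishing K d n w := by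
  unfold plIdeal
  rw [Ideal.span_le]
  rintro f (hf | ⟨φ, hφ, rfl⟩)
  · exact plIdealTop_le_schubertVanishing K w (Ideal.subset_span hf)
  · exact X_mem_schubertVanishing K w φ hφ

lemma plIdeal_eq_sup (w : Idx d n) :
    plIdeal K w = plIdealTop (d := d) (n := n) K ⊔
      Ideal.span {f | ∃ φ : Idx d n, ¬ φ ≤ w ∧ f = (X φ : PlRing K d n)} := by
  unfold plIdeal plIdealTop
  rw [Ideal.span_union]

lemma schubertVanishing_mono {φ w : Idx d n} (h : φ ≤ w) :
    schubertVanishing K d n w ≤ schubertVanishing K d n φ := by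
  intro f hf
  unfold schubertVanishing at hf ⊢
  rw [Ideal.mem_iInf] at hf ⊢
  intro A
  have h1 := hf A
  rw [Ideal.mem_iInf] at h1 ⊢
  intro hA
  apply h1
  intro ψ hψ
  apply hA
  intro hle
  exact hψ (hle.trans h)

/-- a monomial with a factor in an ideal lies in the ideal -/
lemma chainMon_mem_of_mem (I : Ideal (PlRing K d n)) {m : ℕ} (c : Fin m → Idx d n) (k : Fin m)
    (h : (X (c k) : PlRing K d n) ∈ I) : chainMon K c ∈ I := by
  unfold chainMon
  rw [← Finset.mul_prod_erase Finset.univ _ (Finset.mem_univ k)]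
  exact I.mul_mem_right _ h

/-- every polynomial is, modulo the shuffle relations, a combination of standard monomials -/
lemma exists_expansion (f : PlRing K d n) : ∃ g : Chain d n →₀ K,
    f - (g.sum fun c a => a • chainMon K c.2.1) ∈ plIdealTop (d := d) (n := n) K := by
  have h : Ideal.Quotient.mk (plIdealTop (d := d) (n := n) K) f ∈ stdSpan (d := d) (n := n) K := by
    rw [stdSpan_eq_top]; trivial
  unfold stdSpan at h
  rw [Finsupp.mem_span_range_iff_exists_finsupp] at h
  obtain ⟨g, hg⟩ := h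
  refine ⟨g, ?_⟩
  rw [← Ideal.Quotient.eq, ← hg]
  unfold Finsupp.sum
  rw [map_sum]
  apply Finset.sum_congr rfl
  intro c _
  rfl

/-- **main tool** -/
theorem mem_of_mem_iInf [IsDomain K] [Infinite K] (hd : 0 < d) (W : Set (Idx d n))
    (I : Ideal (PlRing K d n)) (hI : plIdealTop (d := d) (n := n) K ≤ I)
    (hIle : I ≤ ⨅ w ∈ W, schubertVanishing K d n w)
    (P : Chain d n → Prop)
    (h1 : ∀ c : Chain d n, ¬ P c → chainMon K c.2.1 ∈ I)
    (h2 : ∀ c : Chain d n, P c → ∃ w ∈ W, ∀ k, c.2.1 k ≤ w)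
    (f : PlRing K d n) (hf : f ∈ ⨅ w ∈ W, schubertVanishing K d n w) : f ∈ I := by
  classical
  obtain ⟨g, hg⟩ := exists_expansion K f
  set s1 := g.support.filter (fun c => ¬ P c) with hs1
  set s2 := g.support.filter (fun c => P c) with hs2
  set f1 : PlRing K d n := ∑ c ∈ s1, g c • chainMon K c.2.1 with hf1
  set f2 : PlRing K d n := ∑ c ∈ s2, g c • chainMon K c.2.1 with hf2
  have hsum : (g.sum fun c a => a • chainMon K c.2.1) = f2 + f1 := by
    unfold Finsupp.sum
    rw [hf1, hf2, hs1, hs2, Finset.sum_filter_add_sum_filter_not]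
  have hf1I : f1 ∈ I := by
    apply Ideal.sum_mem
    intro c hc
    rw [hs1, Finset.mem_filter] at hc
    rw [smul_eq_C_mul]
    exact I.mul_mem_left _ (h1 c hc.2)
  set r := f - (g.sum fun c a => a • chainMon K c.2.1) with hr
  have hrI : r ∈ I := hI hg
  have hf2eq : f2 = f - r - f1 := by
    rw [hr, hsum]; ring
  have hf2mem : f2 ∈ ⨅ w ∈ W, schubertVanishing K d n w := by
    rw [hf2eq]
    exact Ideal.sub_mem _ (Ideal.sub_mem _ hf (hIle hrI)) (hIle hf1I)
  have hzero : ∀ c ∈ s2, g c = 0 := by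
    intro c hc
    have hPc : P c := (Finset.mem_filter.1 hc).2
    obtain ⟨w, hwW, hcw⟩ := h2 c hPc
    have hmem : f2 ∈ schubertVanishing K d n w := by
      rw [Ideal.mem_iInf] at hf2mem
      have := hf2mem w
      rw [Ideal.mem_iInf] at this
      exact this hwW
    have hev := evW_eq_zero_of_mem K w f2 hmem
    rw [hf2, map_sum] at hev
    have hev' : ∑ c ∈ s2, g c • evW K w (chainMon K c.2.1) = 0 := by
      rw [← hev]
      apply Finset.sum_congr rfl
      intro c _
      rw [map_smul]
    exact indep K hd w (fun c : Chain d n => c.1) (fun c => c.2.1) (fun c => c.2.2)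
      chain_inj s2 g hev' c hc hcw
  have hf2zero : f2 = 0 := by
    rw [hf2]
    apply Finset.sum_eq_zero
    intro c hc
    rw [hzero c hc, zero_smul]
  have : f = r + f1 := by
    rw [hf2zero] at hf2eq
    have := hf2eq
    rw [eq_comm, sub_eq_zero, sub_eq_iff_eq_add] at this
    rw [this]; ring
  rw [this]
  exact Ideal.add_mem _ hrI hf1I

/-- the shuffle relations and the vanishing coordinates generate the ideal of a Schubert variety -/
theorem plIdeal_eq_schubertVanishing' [IsDomain K] [Infinite K] (hd : 0 < d) (τ : Idx d n) :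
    plIdeal K τ = schubertVanishing K d n τ := by
  apply le_antisymm (plIdeal_le_schubertVanishing K τ)
  intro f hf
  have hle : plIdeal K τ ≤ ⨅ w ∈ ({τ} : Set (Idx d n)), schubertVanishing K d n w := by
    rw [iInf_singleton]
    exact plIdeal_le_schubertVanishing K τ
  apply mem_of_mem_iInf K hd {τ} (plIdeal K τ) (plIdealTop_le_plIdeal K τ) hle
    (fun c => ∀ k, c.2.1 k ≤ τ)
  · intro c hc
    simp only [not_forall] at hc
    obtain ⟨k, hk⟩ := hc
    exact chainMon_mem_of_mem K _ c.2.1 k (X_mem_plIdeal K τ _ hk)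
  · intro c hc
    exact ⟨τ, rfl, hc⟩
  · rw [iInf_singleton]
    exact hf

end Groth.Agent.Lib.Helper28.Smt
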