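import Groth.Agent.Lib.Helper28.DetCell
import Groth.Agent.Lib.Helper28.SmtDim
import Groth.Agent.Lib.Helper28.SmtIdeal

/-!
# Determinantal varieties as opposite cells of Schubert varieties, part 1 (helper28)

The index `φ = (t-1, …, d-1, d+r+1-t, …, d+r-1)`, the restriction map `X_θ ↦ q_θ` to the opposite
big cell, and its basic properties.
-/

set_option autoImplicit false
set_option linter.style.haveILetI false

universe u

namespace Groth.Agent.Lib.Helper28.Smt

open W4bk4grassmannian MvPolynomial Matrix
open Groth.Agent.Lib.Helper28.DetCell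

section idx

lemma strictMono_gap {k m : ℕ} (f : Fin k → Fin m) (hf : StrictMono f) :
    ∀ (s : ℕ) (a b : Fin k), b.val = a.val + s → (f a).val + s ≤ (f b).val := by
  intro s
  induction s with
  | zero =>
    intro a b hab
    have : a = b := Fin.ext (by omega)
    rw [this, add_zero]
  | succ s ih =>
    intro a b hab
    have hlt : a.val + s < k := by have := b.isLt; omega
    have h1 := ih a ⟨a.val + s, hlt⟩ rfl
    have h2 : f ⟨a.val + s, hlt⟩ < f b := hf (by rw [Fin.lt_def]; show a.val + s < b.val; omega)
    have h3 : (f ⟨a.val + s, hlt⟩).val < (f b).val := h2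
    omega

variable (d r t : ℕ)

set_option linter.unusedVariables false in
/-- the index `φ` of the Schubert variety whose opposite cell is the determinantal variety -/
def phiIdx (ht : 0 < t) (htd : t ≤ d) (htr : t ≤ r) : Idx d (d + r) :=
  ⟨fun j => if j.val ≤ d - t then ⟨t - 1 + j.val, by have := j.isLt; omega⟩
    else ⟨r + j.val, by have := j.isLt; omega⟩, by
    intro a b hab
    rw [Fin.lt_def] at hab ⊢
    show (if a.val ≤ d - t then (⟨t - 1 + a.val, _⟩ : Fin (d + r)) else ⟨r + a.val, _⟩).val <
      (if b.val ≤ d - t then (⟨t - 1 + b.val, _⟩ : Fin (d + r)) else ⟨r + b.val, _⟩).val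
    split_ifs with h1 h2 h2
    · show t - 1 + a.val < t - 1 + b.val
      omega
    · show t - 1 + a.val < r + b.val
      omega
    · omega
    · show r + a.val < r + b.val
      omega⟩

variable {d r t}

lemma phiIdx_val (ht : 0 < t) (htd : t ≤ d) (htr : t ≤ r) (j : Fin d) :
    ((phiIdx d r t ht htd htr).1 j).val = if j.val ≤ d - t then t - 1 + j.val else r + j.val := by
  show (if j.val ≤ d - t then (⟨t - 1 + j.val, _⟩ : Fin (d + r)) else ⟨r + j.val, _⟩).val = _
  split_ifs <;> rfl

lemma le_phiIdx_iff (hd : 0 < d) (ht : 0 < t) (htd : t ≤ d) (htr : t ≤ r) (θ : Idx d (d + r)) :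
    θ ≤ phiIdx d r t ht htd htr ↔ (θ.1 ⟨d - t, Nat.sub_lt hd ht⟩).val < d := by
  constructor
  · intro h
    have h1 := Fin.le_def.1 (h ⟨d - t, Nat.sub_lt hd ht⟩)
    rw [phiIdx_val, if_pos le_rfl] at h1
    dsimp only at h1
    omega
  · intro h j
    rw [Fin.le_def, phiIdx_val]
    split_ifs with hj
    · have h1 := strictMono_gap θ.1 θ.2 (d - t - j.val) j ⟨d - t, Nat.sub_lt hd ht⟩
        (by show d - t = j.val + (d - t - j.val); omega)
      omega
    · have h1 := strictMono_gap θ.1 θ.2 (d - 1 - j.val) j ⟨d - 1, by omega⟩
        (by show d - 1 = j.val + (d - 1 - j.val); have := j.isLt; omega)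
      have h2 := (θ.1 ⟨d - 1, by omega⟩).isLt
      have := j.isLt
      omega

lemma codeg_phiIdx (ht : 0 < t) (htd : t ≤ d) (htr : t ≤ r) :
    codeg (phiIdx d r t ht htd htr) = (t - 1) * (d + r - t + 1) := by
  unfold codeg
  have h1 : ∀ j : Fin d, ((phiIdx d r t ht htd htr).1 j).val - j.val =
      if j.val ≤ d - t then t - 1 else r := by
    intro j
    rw [phiIdx_val]
    split_ifs <;> omega
  rw [Finset.sum_congr rfl (fun j _ => h1 j)]
  rw [Fin.sum_univ_eq_sum_range (fun j => if j ≤ d - t then t - 1 else r) d]
  rw [Finset.sum_ite, Finset.sum_const, Finset.sum_const, smul_eq_mul, smul_eq_mul]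
  have hc1 : (Finset.filter (fun x => x ≤ d - t) (Finset.range d)) = Finset.range (d - t + 1) := by
    ext x
    rw [Finset.mem_filter, Finset.mem_range, Finset.mem_range]
    omega
  have hc2 : (Finset.filter (fun x => ¬ x ≤ d - t) (Finset.range d)).card = t - 1 := by
    have := Finset.card_filter_add_card_filter_not (s := Finset.range d)
      (fun x => x ≤ d - t)
    rw [hc1, Finset.card_range, Finset.card_range] at this
    omega
  rw [hc1, hc2, Finset.card_range]
  have h2 : d + r - t + 1 = (d - t + 1) + r := by omega
  rw [h2]
  ring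

end idx

section cellmap

variable (K : Type u) [Field K] (d r : ℕ)

/-- restriction of Plücker coordinates to the opposite big cell -/
noncomputable def cellMap : PlRing K d (d + r) →ₐ[K] CellRing K d r :=
  aeval fun θ : Idx d (d + r) => cellMinor K d r θ

lemma cellMap_X (θ : Idx d (d + r)) : cellMap K d r (X θ) = cellMinor K d r θ := by
  unfold cellMap
  rw [aeval_X]

lemma cellMinor_iota : cellMinor K d r (iotaIdx (Nat.le_add_right d r)) = 1 := by
  unfold cellMinor
  have : (cellMatrix K d r).submatrix (iotaIdx (Nat.le_add_right d r)).1 id = 1 := by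
    ext i j
    rw [submatrix_apply]
    unfold cellMatrix iotaIdx
    rw [Matrix.of_apply, dif_pos i.isLt, Matrix.one_apply]
    by_cases h : i = j
    · rw [if_pos h, if_pos (by rw [h]; rfl)]
    · rw [if_neg h, if_neg]
      intro h'
      exact h (Fin.ext h')
  rw [this, det_one]

lemma eval_cellMap (z : Fin r × Fin d → K) (f : PlRing K d (d + r)) :
    eval z (cellMap K d r f) = evalMinors K d (d + r) ((cellMatrix K d r).map (eval z)) f := by
  have h : (aeval z : CellRing K d r →ₐ[K] K).comp (cellMap K d r)
      = evalMinors K d (d + r) ((cellMatrix K d r).map (eval z)) := by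
    apply MvPolynomial.algHom_ext
    intro θ
    rw [AlgHom.comp_apply, cellMap_X]
    unfold evalMinors cellMinor
    rw [aeval_X]
    have : (aeval z : CellRing K d r →ₐ[K] K) ((cellMatrix K d r).submatrix θ.1 id).det
        = (eval z) ((cellMatrix K d r).submatrix θ.1 id).det := rfl
    rw [this, RingHom.map_det]
    rfl
  have := congrArg (fun g => g f) h
  exact this

lemma eval_cellMinor (z : Fin r × Fin d → K) (θ : Idx d (d + r)) :
    eval z (cellMinor K d r θ) = (((cellMatrix K d r).map (eval z)).submatrix θ.1 id).det := by
  rw [← cellMap_X, eval_cellMap]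
  unfold evalMinors
  rw [aeval_X]

/-- the cell map is surjective -/
theorem cellMap_surjective : Function.Surjective (cellMap K d r) := by
  classical
  rw [← AlgHom.range_eq_top, eq_top_iff, ← MvPolynomial.adjoin_range_X, Algebra.adjoin_le_iff]
  rintro _ ⟨⟨i, j⟩, rfl⟩
  rw [SetLike.mem_coe]
  by_cases hd : d = 0
  · subst hd
    exact j.elim0
  have h1 : (1 : ℕ) ≤ d := by omega
  let f : Fin 1 → Fin r := fun _ => i
  let g : Fin 1 → Fin d := fun _ => j
  have hf : Function.Injective f := fun a b _ => Subsingleton.elim a b
  have hg : Function.Injective g := fun a b _ => Subsingleton.elim a b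
  obtain ⟨u, hu, _, hdet⟩ := exists_cellMinor_eq (K := K) h1 f g hf hg
  have hX : ((genMatrix K r d).submatrix f g).det = X (i, j) := by
    rw [det_fin_one]
    rfl
  rw [hX] at hdet
  have hu' : u = 1 ∨ u = -1 := by
    have : (u - 1) * (u + 1) = 0 := by
      have : (u - 1) * (u + 1) = u * u - 1 := by ring
      rw [this, hu, sub_self]
    rcases mul_eq_zero.1 this with h | h
    · left
      exact sub_eq_zero.1 h
    · right
      exact eq_neg_of_add_eq_zero_left h
  rw [hdet]
  rcases hu' with rfl | rfl
  · rw [one_mul, ← cellMap_X]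
    exact ⟨_, rfl⟩
  · rw [neg_one_mul, ← cellMap_X, ← map_neg]
    exact ⟨_, rfl⟩

end cellmap

section scaling

lemma aeval_mul_of_isHomogeneous {σ K A : Type*} [CommRing K] [CommRing A] [Algebra K A]
    (F : MvPolynomial σ K) (N : ℕ) (hF : F.IsHomogeneous N) (c : σ → A) (δ : A) :
    aeval (fun i => c i * δ) F = δ ^ N * aeval c F := by
  have key : ∀ m ∈ F.support, aeval (fun i => c i * δ) (monomial m (coeff m F)) =
      δ ^ N * aeval c (monomial m (coeff m F)) := by
    intro m hm
    rw [aeval_monomial, aeval_monomial]
    have h1 : (m.prod fun i k => (c i * δ) ^ k) = (m.prod fun i k => c i ^ k) * δ ^ N := by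
      unfold Finsupp.prod
      simp only [mul_pow]
      rw [Finset.prod_mul_distrib, Finset.prod_pow_eq_pow_sum]
      congr 2
      exact (hF.degree_eq_sum_deg_support hm).symm
    rw [h1]
    ring
  calc aeval (fun i => c i * δ) F
      = aeval (fun i => c i * δ) (∑ m ∈ F.support, monomial m (coeff m F)) := by
        rw [← F.as_sum]
    _ = ∑ m ∈ F.support, aeval (fun i => c i * δ) (monomial m (coeff m F)) := map_sum _ _ _
    _ = ∑ m ∈ F.support, δ ^ N * aeval c (monomial m (coeff m F)) := Finset.sum_congr rfl key
    _ = δ ^ N * aeval c (∑ m ∈ F.support, monomial m (coeff m F)) := by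
        rw [map_sum, Finset.mul_sum]
    _ = δ ^ N * aeval c F := by rw [← F.as_sum]

end scaling

section key

variable (K : Type u) [Field K] [Infinite K] {d r t : ℕ} (hd : 0 < d) (ht : 0 < t) (htd : t ≤ d)
  (htr : t ≤ r)

include hd in
/-- the cell map sends the Schubert ideal `J(φ)` into the determinantal ideal -/
theorem cellMap_mem_of_mem (f : PlRing K d (d + r))
    (hf : f ∈ schubertVanishing K d (d + r) (phiIdx d r t ht htd htr)) :
    cellMap K d r f ∈ CAlgX.minorIdeal (genMatrix K r d) t := by
  rw [← plIdeal_eq_schubertVanishing' K hd] at hf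
  have hle : plIdeal K (phiIdx d r t ht htd htr) ≤
      Ideal.comap (cellMap K d r) (CAlgX.minorIdeal (genMatrix K r d) t) := by
    unfold plIdeal
    rw [Ideal.span_le]
    rintro g (⟨i, j, r', -, rfl⟩ | ⟨θ, hθ, rfl⟩)
    · rw [SetLike.mem_coe, Ideal.mem_comap]
      have : cellMap K d r (shuffleRel K i j r') = 0 := by
        apply MvPolynomial.funext
        intro z
        rw [eval_cellMap, evalMinors_shuffleRel, map_zero]
      rw [this]
      exact zero_mem _
    · rw [SetLike.mem_coe, Ideal.mem_comap, cellMap_X,
        ← span_cellMinor_eq_minorIdeal K d r t hd ht htd]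
      apply Ideal.subset_span
      refine ⟨θ, ?_, rfl⟩
      by_contra h
      exact hθ ((le_phiIdx_iff hd ht htd htr θ).2 (not_le.1 h))
  exact hle hf

include hd in
/-- a homogeneous polynomial whose restriction to the cell lies in the determinantal ideal lies
in the Schubert ideal `J(φ)` -/
theorem mem_of_cellMap_mem (F : PlRing K d (d + r)) (N : ℕ) (hF : F.IsHomogeneous N)
    (h : cellMap K d r F ∈ CAlgX.minorIdeal (genMatrix K r d) t) :
    F ∈ schubertVanishing K d (d + r) (phiIdx d r t ht htd htr) := by
  classical
  set φ := phiIdx d r t ht htd htr with hφ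
  set ι := iotaIdx (Nat.le_add_right d r) with hι
  haveI := isPrime_schubertVanishing K hd (Nat.le_add_right d r) φ
  have hx : (X ι : PlRing K d (d + r)) ∉ schubertVanishing K d (d + r) φ :=
    X_notMem_schubertVanishing K φ ι (iotaIdx_le _ φ)
  have hxF : X ι * F ∈ schubertVanishing K d (d + r) φ := by
    unfold schubertVanishing
    rw [Ideal.mem_iInf]
    intro A
    rw [Ideal.mem_iInf]
    intro hA
    rw [RingHom.mem_ker]
    show evalMinors K d (d + r) A (X ι * F) = 0
    rw [map_mul]
    set Atop : Matrix (Fin d) (Fin d) K := A.submatrix ι.1 id with hAtop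
    have hX : evalMinors K d (d + r) A (X ι) = Atop.det := by
      unfold evalMinors
      rw [aeval_X]
    rw [hX]
    by_cases hδ : Atop.det = 0
    · rw [hδ, zero_mul]
    · have hu : IsUnit Atop.det := IsUnit.mk0 _ hδ
      set Z₀ : Matrix (Fin r) (Fin d) K := A.submatrix (Fin.natAdd d) id * Atop⁻¹ with hZ₀
      set z : Fin r × Fin d → K := fun p => Z₀ p.1 p.2 with hz
      set C₀ : Matrix (Fin (d + r)) (Fin d) K := (cellMatrix K d r).map (eval z) with hC₀
      have hC : C₀ * Atop = A := by
        ext i j
        rw [Matrix.mul_apply]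
        by_cases hi : i.val < d
        · have h1 : ∀ k : Fin d, C₀ i k = if i.val = k.val then 1 else 0 := by
            intro k
            show eval z (cellMatrix K d r i k) = _
            unfold cellMatrix
            rw [Matrix.of_apply, dif_pos hi]
            split_ifs
            · rw [map_one]
            · rw [map_zero]
          simp only [h1]
          rw [Finset.sum_eq_single ⟨i.val, hi⟩]
          · rw [if_pos rfl, one_mul]
            show A (ι.1 ⟨i.val, hi⟩) j = A i j
            congr 1
          · intro k _ hk
            rw [if_neg, zero_mul]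
            intro h'
            exact hk (Fin.ext h'.symm)
          · intro h'
            exact absurd (Finset.mem_univ _) h'
        · have hi' : i.val - d < r := by have := i.isLt; omega
          have h1 : ∀ k : Fin d, C₀ i k = Z₀ ⟨i.val - d, hi'⟩ k := by
            intro k
            show eval z (cellMatrix K d r i k) = _
            unfold cellMatrix
            rw [Matrix.of_apply, dif_neg hi, eval_X]
          simp only [h1]
          rw [← Matrix.mul_apply]
          have h2 : Z₀ * Atop = A.submatrix (Fin.natAdd d) id :=
            Matrix.nonsing_inv_mul_cancel_right _ _ hu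
          rw [h2, submatrix_apply]
          congr 1
          apply Fin.ext
          rw [Fin.val_natAdd]
          show d + (i.val - d) = i.val
          omega
      have hminor : ∀ θ : Idx d (d + r),
          (A.submatrix θ.1 id).det = eval z (cellMinor K d r θ) * Atop.det := by
        intro θ
        rw [eval_cellMinor, ← det_mul]
        congr 1
        conv_lhs => rw [← hC]
        ext a b
        rw [submatrix_apply, Matrix.mul_apply, Matrix.mul_apply]
        rfl
      have hcomp : ∀ G : PlRing K d (d + r),
          aeval (fun θ : Idx d (d + r) => eval z (cellMinor K d r θ)) G =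
            eval z (cellMap K d r G) := by
        intro G
        have h1 : (aeval (fun θ : Idx d (d + r) => eval z (cellMinor K d r θ)) :
            PlRing K d (d + r) →ₐ[K] K) = (aeval z : CellRing K d r →ₐ[K] K).comp
              (cellMap K d r) := by
          apply MvPolynomial.algHom_ext
          intro θ
          rw [aeval_X, AlgHom.comp_apply, cellMap_X]
          rfl
        rw [h1]
        rfl
      have hev : evalMinors K d (d + r) A F = Atop.det ^ N * eval z (cellMap K d r F) := by
        have h1 : evalMinors K d (d + r) A =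
            aeval (fun θ : Idx d (d + r) => eval z (cellMinor K d r θ) * Atop.det) := by
          unfold evalMinors
          congr 1
          funext θ
          exact hminor θ
        rw [h1, aeval_mul_of_isHomogeneous F N hF, hcomp]
      have hzero : eval z (cellMap K d r F) = 0 := by
        have hle : CAlgX.minorIdeal (genMatrix K r d) t ≤ RingHom.ker (eval z) := by
          rw [← span_cellMinor_eq_minorIdeal K d r t hd ht htd, Ideal.span_le]
          rintro _ ⟨θ, hθ, rfl⟩
          rw [SetLike.mem_coe, RingHom.mem_ker]
          have h1 := hminor θ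
          have h2 : (A.submatrix θ.1 id).det = 0 := by
            apply hA θ
            rw [hφ, le_phiIdx_iff hd ht htd htr]
            omega
          rw [h2] at h1
          exact (mul_eq_zero.1 h1.symm).resolve_right hδ
        exact hle h
      rw [hev, hzero, mul_zero, mul_zero]
  exact (Ideal.IsPrime.mem_or_mem inferInstance hxF).resolve_left hx

end key

end Groth.Agent.Lib.Helper28.Smt
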