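import Groth.Agent.Lib.Helper28.BitCount
import Groth.Agent.Lib.Helper28.SmtDet1

/-!
# The Plücker index of a minor of the generic matrix (helper28)

`thetaM M` for a minor `M = [A | B]` of the `m × n` matrix is the index in `I(n, n + m)` with entries
the complement of `B` and `n + rev A`.  Then `M ⪰ M'` iff `thetaM M ≤ thetaM M'`.
-/

set_option autoImplicit false

namespace Groth.Agent.Lib.Helper28.Bit

open W4bk4grassmannian
open Groth.Agent.Lib.Helper28.DetCell Groth.Agent.Lib.Helper28.Smt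

variable {m n : ℕ}

lemma idx_card_le {k N : ℕ} (A : Idx k N) : k ≤ N := by
  have := Fintype.card_le_of_injective A.1 A.2.injective
  rwa [Fintype.card_fin, Fintype.card_fin] at this

/-- the Plücker index of a minor -/
def thetaM (M : MinorIdx m n) : Idx n (n + m) :=
  thetaOf (t := M.1 + 1) (idx_card_le M.2.2) (Fin.rev ∘ M.2.1.1) M.2.2.1
    (Fin.rev_injective.comp M.2.1.2.injective) M.2.2.2.injective

lemma card_filter_range {t d : ℕ} (g : Fin t → Fin d) (hg : Function.Injective g)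
    (p : Fin d → Prop) [DecidablePred p] [DecidablePred fun j => j ∈ Set.range g] :
    (Finset.univ.filter fun j => p j ∧ j ∈ Set.range g).card =
      (Finset.univ.filter fun i => p (g i)).card := by
  rw [← Finset.card_image_of_injective _ hg]
  congr 1
  ext j
  rw [Finset.mem_image, Finset.mem_filter]
  constructor
  · rintro ⟨_, hp, i, rfl⟩
    exact ⟨i, Finset.mem_filter.2 ⟨Finset.mem_univ _, hp⟩, rfl⟩
  · rintro ⟨i, hi, rfl⟩
    rw [Finset.mem_filter] at hi
    exact ⟨Finset.mem_univ _, hi.2, i, rfl⟩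

open Classical in
theorem cnt_thetaM (M : MinorIdx m n) (x : ℕ) :
    cnt (thetaM M).1 x = (min n x - cnt M.2.2.1 x) + ((M.1 + 1) - cnt M.2.1.1 (n + m - x)) := by
  unfold thetaM
  rw [cnt_thetaOf]
  congr 1
  · have h1 := Finset.card_filter_add_card_filter_not
      (s := Finset.univ.filter (fun j : Fin n => j.val < x)) (fun j => j ∈ Set.range M.2.2.1)
    rw [Finset.filter_filter, Finset.filter_filter, Fin.card_filter_val_lt,
      card_filter_range _ M.2.2.2.injective] at h1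
    unfold cnt
    omega
  · rw [card_filter_range _ (Fin.rev_injective.comp M.2.1.2.injective)]
    have h1 := Finset.card_filter_add_card_filter_not
      (s := (Finset.univ : Finset (Fin (M.1 + 1)))) (fun i => (M.2.1.1 i).val < n + m - x)
    rw [Finset.card_univ, Fintype.card_fin] at h1
    have h2 : (Finset.univ.filter fun i : Fin (M.1 + 1) =>
        n + ((Fin.rev ∘ M.2.1.1) i).val < x) =
        Finset.univ.filter fun i : Fin (M.1 + 1) => ¬ (M.2.1.1 i).val < n + m - x := by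
      apply Finset.filter_congr
      intro i _
      rw [Function.comp_apply, Fin.val_rev]
      have := (M.2.1.1 i).isLt
      omega
    rw [h2]
    unfold cnt
    omega

lemma cnt_facts {k N : ℕ} (A : Idx k N) (x : ℕ) :
    cnt A.1 x ≤ k ∧ cnt A.1 x ≤ x ∧ (N ≤ x → cnt A.1 x = k) ∧ k ≤ N :=
  ⟨cnt_le _ _, cnt_le_self _ A.2 _, cnt_top _ _, idx_card_le A⟩

theorem thetaM_le_iff (M M' : MinorIdx m n) :
    thetaM M ≤ thetaM M' ↔ (∀ x, x ≤ m → cnt M.2.1.1 x ≤ cnt M'.2.1.1 x) ∧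
      (∀ x, x ≤ n → cnt M.2.2.1 x ≤ cnt M'.2.2.1 x) := by
  have h0 : thetaM M ≤ thetaM M' ↔ (n ≤ n ∧ ∀ (j j' : Fin n), j.val = j'.val →
      (thetaM M).1 j' ≤ (thetaM M').1 j) := by
    constructor
    · intro h
      refine ⟨le_rfl, fun j j' hjj' => ?_⟩
      have : j = j' := Fin.ext hjj'
      rw [this]
      exact h j'
    · rintro ⟨_, h⟩ j
      exact h j j rfl
  rw [h0, ge_iff_cnt _ _ (thetaM M').2 (thetaM M).2]
  constructor
  · intro H
    constructor
    · intro x hx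
      have h1 := H (n + m - x) (by omega)
      rw [cnt_thetaM, cnt_thetaM] at h1
      obtain ⟨a1, a2, a3, a4⟩ := cnt_facts M.2.1 x
      obtain ⟨a1', a2', a3', a4'⟩ := cnt_facts M'.2.1 x
      obtain ⟨b1, b2, b3, b4⟩ := cnt_facts M.2.2 (n + m - x)
      obtain ⟨b1', b2', b3', b4'⟩ := cnt_facts M'.2.2 (n + m - x)
      have e1 : n + m - (n + m - x) = x := by omega
      rw [e1, b3 (by omega), b3' (by omega)] at h1
      have e2 : min n (n + m - x) = n := by omega
      rw [e2] at h1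
      omega
    · intro x hx
      have h1 := H x (by omega)
      rw [cnt_thetaM, cnt_thetaM] at h1
      obtain ⟨a1, a2, a3, a4⟩ := cnt_facts M.2.1 (n + m - x)
      obtain ⟨a1', a2', a3', a4'⟩ := cnt_facts M'.2.1 (n + m - x)
      obtain ⟨b1, b2, b3, b4⟩ := cnt_facts M.2.2 x
      obtain ⟨b1', b2', b3', b4'⟩ := cnt_facts M'.2.2 x
      rw [a3 (by omega), a3' (by omega)] at h1
      have e2 : min n x = x := by omega
      rw [e2] at h1
      omega
  · rintro ⟨HA, HB⟩ x hx
    rw [cnt_thetaM, cnt_thetaM]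
    obtain ⟨a1, a2, a3, a4⟩ := cnt_facts M.2.1 (n + m - x)
    obtain ⟨a1', a2', a3', a4'⟩ := cnt_facts M'.2.1 (n + m - x)
    obtain ⟨b1, b2, b3, b4⟩ := cnt_facts M.2.2 x
    obtain ⟨b1', b2', b3', b4'⟩ := cnt_facts M'.2.2 x
    by_cases hxn : x ≤ n
    · have h1 := HB x hxn
      rw [a3 (by omega), a3' (by omega)]
      have e2 : min n x = x := by omega
      rw [e2]
      omega
    · have h1 := HA (n + m - x) (by omega)
      rw [b3 (by omega), b3' (by omega)]
      have e2 : min n x = n := by omega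
      rw [e2]
      omega

theorem minorGE_iff (M M' : MinorIdx m n) :
    MinorGE M M' ↔ (∀ x, x ≤ m → cnt M.2.1.1 x ≤ cnt M'.2.1.1 x) ∧
      (∀ x, x ≤ n → cnt M.2.2.1 x ≤ cnt M'.2.2.1 x) := by
  rw [← ge_iff_cnt _ _ M.2.1.2 M'.2.1.2, ← ge_iff_cnt _ _ M.2.2.2 M'.2.2.2]
  unfold MinorGE
  constructor
  · rintro ⟨h1, h2⟩
    exact ⟨⟨by omega, fun j j' h => (h2 j j' h).1⟩, ⟨by omega, fun j j' h => (h2 j j' h).2⟩⟩
  · rintro ⟨⟨h1, h2⟩, ⟨_, h3⟩⟩
    exact ⟨by omega, fun j j' h => ⟨h2 j j' h, h3 j j' h⟩⟩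

theorem thetaM_le_iff_minorGE (M M' : MinorIdx m n) : thetaM M ≤ thetaM M' ↔ MinorGE M M' := by
  rw [thetaM_le_iff, minorGE_iff]

theorem thetaM_injective : Function.Injective (thetaM (m := m) (n := n)) := by
  intro M M' h
  have h1 : MinorGE M M' := (thetaM_le_iff_minorGE M M').1 (le_of_eq h)
  have h2 : MinorGE M' M := (thetaM_le_iff_minorGE M' M).1 (le_of_eq h.symm)
  obtain ⟨s, A, B⟩ := M
  obtain ⟨s', A', B'⟩ := M'
  obtain ⟨h1a, h1b⟩ := h1
  obtain ⟨h2a, h2b⟩ := h2
  have hs : s = s' := le_antisymm h1a h2a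
  subst hs
  have hA : A = A' := by
    apply Subtype.ext
    funext j
    exact le_antisymm (h2b j j rfl).1 (h1b j j rfl).1
  have hB : B = B' := by
    apply Subtype.ext
    funext j
    exact le_antisymm (h2b j j rfl).2 (h1b j j rfl).2
  rw [hA, hB]

theorem thetaM_lt_iff (M : MinorIdx m n) (j : Fin n) :
    ((thetaM M).1 j).val < n ↔ j.val < n - (M.1 + 1) := by
  rw [← lt_cnt_iff _ (thetaM M).2, cnt_thetaM]
  obtain ⟨a1, a2, a3, a4⟩ := cnt_facts M.2.1 (n + m - n)
  obtain ⟨b1, b2, b3, b4⟩ := cnt_facts M.2.2 n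
  rw [a3 (by omega), b3 le_rfl, min_self]
  omega

theorem thetaM_ne_iota (hn : 0 < n) (M : MinorIdx m n) :
    thetaM M ≠ iotaIdx (Nat.le_add_right n m) := by
  intro h
  have h1 := (thetaM_lt_iff M ⟨n - 1, by omega⟩).1 (by
    rw [h]
    show n - 1 < n
    omega)
  have h2 : n - 1 < n - (M.1 + 1) := h1
  omega

theorem thetaM_le_phiIdx_iff (hn : 0 < n) {t : ℕ} (ht : 0 < t) (htn : t ≤ n) (htm : t ≤ m)
    (M : MinorIdx m n) :
    thetaM M ≤ phiIdx n m t ht htn htm ↔ M.1 + 1 ≤ t - 1 := by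
  rw [le_phiIdx_iff hn ht htn htm, thetaM_lt_iff]
  have := idx_card_le M.2.2
  show n - t < n - (M.1 + 1) ↔ _
  omega

end Groth.Agent.Lib.Helper28.Bit
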