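import Groth.Agent.Lib.Helper28.BitTheta

/-!
# Every non-minimal Plücker index comes from a minor (helper28)
-/

set_option autoImplicit false

namespace Groth.Agent.Lib.Helper28.Bit

open W4bk4grassmannian
open Groth.Agent.Lib.Helper28.DetCell Groth.Agent.Lib.Helper28.Smt

variable {m n : ℕ}

theorem exists_thetaM (hn : 0 < n) (θ : Idx n (n + m))
    (hθ : θ ≠ iotaIdx (Nat.le_add_right n m)) : ∃ M : MinorIdx m n, thetaM M = θ := by
  classical
  obtain ⟨u, colQ, hu, hcinj, hcrange, hdet⟩ := cellMinor_eq ℤ n m θ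
  have hq : 0 < Fintype.card (QRows n m θ) := by
    rw [Fintype.card_pos_iff]
    by_contra hempty
    apply hθ
    have hall : ∀ i, (θ.1 i).val < n := fun i => by
      by_contra h
      exact hempty ⟨⟨i, h⟩⟩
    apply Subtype.ext
    funext i
    apply Fin.ext
    show (θ.1 i).val = i.val
    have h1 := idx_val_le θ i
    have h2 := strictMono_gap θ.1 θ.2 (n - 1 - i.val) i ⟨n - 1, by omega⟩
      (by show n - 1 = i.val + (n - 1 - i.val); have := i.isLt; omega)
    have h3 := hall ⟨n - 1, by omega⟩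
    have := i.isLt
    omega
  obtain ⟨s, hs⟩ : ∃ s, Fintype.card (QRows n m θ) = s + 1 :=
    ⟨Fintype.card (QRows n m θ) - 1, by omega⟩
  set SA : Finset (Fin m) := Finset.univ.image (fun x => Fin.rev (rowQ n m θ x)) with hSAdef
  set SB : Finset (Fin n) := Finset.univ.image colQ with hSBdef
  have hSA : SA.card = s + 1 := by
    have hinj : Function.Injective (fun x => Fin.rev (rowQ n m θ x)) :=
      Fin.rev_injective.comp (rowQ_injective n m θ)
    rw [hSAdef, Finset.card_image_of_injective _ hinj, Finset.card_univ, hs]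
  have hSB : SB.card = s + 1 := by
    rw [hSBdef, Finset.card_image_of_injective _ hcinj, Finset.card_univ, hs]
  set A : Idx (s + 1) m := ⟨fun i => SA.orderEmbOfFin hSA i, (SA.orderEmbOfFin hSA).strictMono⟩
    with hA
  set B : Idx (s + 1) n := ⟨fun i => SB.orderEmbOfFin hSB i, (SB.orderEmbOfFin hSB).strictMono⟩
    with hB
  have hrA : Set.range A.1 = ↑SA := Finset.range_orderEmbOfFin SA hSA
  have hrB : Set.range B.1 = ↑SB := Finset.range_orderEmbOfFin SB hSB
  refine ⟨⟨s, A, B⟩, ?_⟩
  apply Subtype.ext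
  symm
  show θ.1 = fun i => (thetaSet (Fin.rev ∘ A.1) B.1).orderEmbOfFin _ i
  have key := Finset.orderEmbOfFin_unique (s := thetaSet (Fin.rev ∘ A.1) B.1)
    (card_thetaSet (idx_card_le B) (Fin.rev ∘ A.1) B.1
      (Fin.rev_injective.comp A.2.injective) B.2.injective) (f := θ.1) ?_ θ.2
  · rw [key]
  · intro i
    by_cases h : (θ.1 i).val < n
    · have e : θ.1 i = Fin.castAdd m ⟨(θ.1 i).val, h⟩ := Fin.ext rfl
      rw [e, mem_thetaSet_castAdd, hrB, hSBdef, Finset.coe_image, Finset.coe_univ, Set.image_univ,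
        hcrange]
      intro hmem
      exact hmem i rfl
    · have e : θ.1 i = Fin.natAdd n (rowQ n m θ ⟨i, h⟩) := by
        apply Fin.ext
        rw [Fin.val_natAdd]
        show (θ.1 i).val = n + ((θ.1 i).val - n)
        omega
      rw [e, mem_thetaSet_natAdd]
      have h1 : Fin.rev (rowQ n m θ ⟨i, h⟩) ∈ Set.range A.1 := by
        rw [hrA, hSAdef, Finset.mem_coe, Finset.mem_image]
        exact ⟨⟨i, h⟩, Finset.mem_univ _, rfl⟩
      obtain ⟨a, ha⟩ := h1
      refine ⟨a, ?_⟩
      rw [Function.comp_apply, ha, Fin.rev_rev]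

end Groth.Agent.Lib.Helper28.Bit
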