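import Groth.Agent.Lib.Helper29.DepthExt
import Groth.Agent.Lib.Helper29.Depth

/-!
# Depth via vanishing of `Ext` from the residue field: the depth lemma (helper28)

`ExtVan k M`: `Ext^i(A/𝔪, M) = 0` for `i < k`.  For a finite module over a Noetherian local ring
this says `k ≤ depth M` (`extVan_iff_le_depth`).  The depth lemma (`extVan_sub`, `extVan_mid`) and
its application to `A/(𝔞 ∩ 𝔟)` (`extVan_quotient_inf`).
-/

set_option autoImplicit false
universe u

namespace Groth.Agent.Lib.Helper28.CMAux

open CategoryTheory Abelian IsLocalRing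
open Groth.Agent.Lib.Helper29 Groth.Agent.Lib.Helper29.DepthExt Groth.Agent.Lib.Helper29.DepthLib

section extvan

variable (A : Type u) [CommRing A] [IsLocalRing A]

/-- `Ext^i(A/𝔪, M) = 0` for `i < k` -/
def ExtVan (k : ℕ) (M : Type u) [AddCommGroup M] [Module A M] : Prop :=
  ∀ i : ℕ, i < k →
    Subsingleton (Ext (ModuleCat.of A (A ⧸ maximalIdeal A)) (ModuleCat.of A M) i)

variable {A}

theorem extVan_zero (M : Type u) [AddCommGroup M] [Module A M] : ExtVan A 0 M :=
  fun i hi => absurd hi (Nat.not_lt_zero i)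

theorem ExtVan.mono {k l : ℕ} (hkl : l ≤ k) {M : Type u} [AddCommGroup M] [Module A M]
    (h : ExtVan A k M) : ExtVan A l M :=
  fun i hi => h i (lt_of_lt_of_le hi hkl)

omit [IsLocalRing A] in
theorem subsingleton_ext_of_subsingleton_right (N M : Type u) [AddCommGroup N] [Module A N]
    [AddCommGroup M] [Module A M] [Subsingleton M] (i : ℕ) :
    Subsingleton (Ext (ModuleCat.of A N) (ModuleCat.of A M) i) := by
  constructor
  intro a b
  have h0 : (𝟙 (ModuleCat.of A M)) = 0 := by
    ext x
    exact Subsingleton.elim _ _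
  have h : ∀ e : Ext (ModuleCat.of A N) (ModuleCat.of A M) i, e = 0 := by
    intro e
    rw [← Ext.comp_mk₀_id e, h0, Ext.mk₀_zero, Ext.comp_zero]
  rw [h a, h b]

theorem extVan_of_subsingleton (k : ℕ) (M : Type u) [AddCommGroup M] [Module A M]
    [Subsingleton M] : ExtVan A k M :=
  fun i _ => subsingleton_ext_of_subsingleton_right _ M i

theorem ExtVan.congr {k : ℕ} {M N : Type u} [AddCommGroup M] [Module A M] [AddCommGroup N]
    [Module A N] (e : M ≃ₗ[A] N) (h : ExtVan A k M) : ExtVan A k N := by
  intro i hi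
  have := h i hi
  constructor
  intro a b
  have key : ∀ x : Ext (ModuleCat.of A (A ⧸ maximalIdeal A)) (ModuleCat.of A N) i, x = 0 := by
    intro x
    have h1 : x = (x.comp (Ext.mk₀ (ModuleCat.ofHom e.symm.toLinearMap)) (add_zero i)).comp
        (Ext.mk₀ (ModuleCat.ofHom e.toLinearMap)) (add_zero i) := by
      rw [Ext.comp_assoc_of_third_deg_zero, Ext.mk₀_comp_mk₀]
      have : ModuleCat.ofHom e.symm.toLinearMap ≫ ModuleCat.ofHom e.toLinearMap =
          𝟙 (ModuleCat.of A N) := by
        ext y
        exact e.apply_symm_apply y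
      rw [this, Ext.comp_mk₀_id]
    rw [h1, Subsingleton.elim (x.comp (Ext.mk₀ (ModuleCat.ofHom e.symm.toLinearMap)) (add_zero i)) 0,
      Ext.zero_comp]
  rw [key a, key b]

/-- the depth lemma, for the submodule -/
theorem extVan_sub {M' M M'' : Type u} [AddCommGroup M'] [Module A M']
    [AddCommGroup M] [Module A M] [AddCommGroup M''] [Module A M'']
    (f : M' →ₗ[A] M) (g : M →ₗ[A] M'') (hf : Function.Injective f) (hg : Function.Surjective g)
    (hfg : Function.Exact f g) (k : ℕ) (h : ExtVan A k M) (h'' : ExtVan A (k - 1) M'') :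
    ExtVan A k M' := by
  intro i hi
  let S := ModuleCat.shortComplexOfCompEqZero f g hfg.linearMap_comp_eq_zero
  have hS : S.ShortExact := ModuleCat.shortComplex_shortExact S hfg hf hg
  have h2 := h i hi
  constructor
  intro a b
  have key : ∀ x : Ext (ModuleCat.of A (A ⧸ maximalIdeal A)) (ModuleCat.of A M') i, x = 0 := by
    intro x
    have h0 : x.comp (Ext.mk₀ S.f) (add_zero i) = 0 := Subsingleton.elim (h := h2) _ _
    cases i with
    | zero =>
      have : Mono S.f := hS.mono_f
      apply Ext.postcomp_mk₀_injective_of_mono (ModuleCat.of A (A ⧸ maximalIdeal A)) S.f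
      rw [map_zero]
      exact h0
    | succ m =>
      obtain ⟨x₃, hx₃⟩ := Ext.covariant_sequence_exact₁ (ModuleCat.of A (A ⧸ maximalIdeal A)) hS
        x h0 (n₀ := m) rfl
      have h3 := h'' m (by omega)
      rw [← hx₃, Subsingleton.elim (h := h3) x₃ 0, Ext.zero_comp]
  rw [key a, key b]

/-- the depth lemma, for the middle term -/
theorem extVan_mid {M' M M'' : Type u} [AddCommGroup M'] [Module A M']
    [AddCommGroup M] [Module A M] [AddCommGroup M''] [Module A M'']
    (f : M' →ₗ[A] M) (g : M →ₗ[A] M'') (hf : Function.Injective f) (hg : Function.Surjective g)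
    (hfg : Function.Exact f g) (k : ℕ) (h' : ExtVan A k M') (h'' : ExtVan A k M'') :
    ExtVan A k M := by
  intro i hi
  let S := ModuleCat.shortComplexOfCompEqZero f g hfg.linearMap_comp_eq_zero
  have hS : S.ShortExact := ModuleCat.shortComplex_shortExact S hfg hf hg
  have h1 := h' i hi
  have h3 := h'' i hi
  constructor
  intro a b
  have key : ∀ x : Ext (ModuleCat.of A (A ⧸ maximalIdeal A)) (ModuleCat.of A M) i, x = 0 := by
    intro x
    obtain ⟨x₁, hx₁⟩ := Ext.covariant_sequence_exact₂ (ModuleCat.of A (A ⧸ maximalIdeal A)) hS x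
      (Subsingleton.elim (h := h3) _ _)
    rw [← hx₁, Subsingleton.elim (h := h1) x₁ 0, Ext.zero_comp]
  rw [key a, key b]

theorem extVan_prod {M N : Type u} [AddCommGroup M] [Module A M] [AddCommGroup N] [Module A N]
    (k : ℕ) (hM : ExtVan A k M) (hN : ExtVan A k N) : ExtVan A k (M × N) := by
  refine extVan_mid (LinearMap.inl A M N) (LinearMap.snd A M N) LinearMap.inl_injective
    LinearMap.snd_surjective ?_ k hM hN
  intro x
  constructor
  · intro hx
    refine ⟨x.1, ?_⟩
    ext
    · rfl
    · exact hx.symm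
  · rintro ⟨y, rfl⟩
    rfl

end extvan

section depth

variable {A : Type u} [CommRing A] [IsLocalRing A] [IsNoetherianRing A]
  (M : Type u) [AddCommGroup M] [Module A M] [Module.Finite A M]

theorem extVan_of_le_depth (k : ℕ) (h : (k : ℕ∞) ≤ LocCoh.depth A M) : ExtVan A k M := by
  rcases subsingleton_or_nontrivial M with hs | hn
  · exact extVan_of_subsingleton k M
  · intro i hi
    apply subsingleton_ext_of_lt_idealDepth (maximalIdeal A) M (maximalIdeal_smul_top_ne_top A M) i
    exact lt_of_lt_of_le (by exact_mod_cast hi) h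

theorem le_depth_of_extVan (k : ℕ) (h : ExtVan A k M) : (k : ℕ∞) ≤ LocCoh.depth A M := by
  rcases subsingleton_or_nontrivial M with hs | hn
  · have : LocCoh.depth A M = ⊤ := by
      unfold LocCoh.depth LocCoh.idealDepth
      rw [if_pos (Subsingleton.elim _ _)]
    rw [this]
    exact le_top
  · have hIM := maximalIdeal_smul_top_ne_top A M
    obtain ⟨d, hd⟩ := ENat.ne_top_iff_exists.1 (idealDepth_ne_top (maximalIdeal A) M hIM)
    have hnt := nontrivial_ext_of_idealDepth_eq (maximalIdeal A) M hIM d hd.symm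
    unfold LocCoh.depth
    rw [← hd]
    by_contra hlt
    rw [not_le] at hlt
    have hlt' : d < k := by exact_mod_cast hlt
    exact not_subsingleton _ (h d hlt')

theorem extVan_iff_le_depth (k : ℕ) : ExtVan A k M ↔ (k : ℕ∞) ≤ LocCoh.depth A M :=
  ⟨le_depth_of_extVan M k, extVan_of_le_depth M k⟩

end depth

end Groth.Agent.Lib.Helper28.CMAux
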