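import Groth.Agent.Lib.Helper28.CMAux2
import Groth.Agent.Lib.Helper28.DimAux

/-!
# Local rings of quotients: transfer lemmas (helper28)
-/

set_option autoImplicit false
set_option linter.style.haveILetI false
universe u

namespace Groth.Agent.Lib.Helper28.CMAux

open CategoryTheory Abelian IsLocalRing Pointwise
open Groth.Agent.Lib.Helper29 Groth.Agent.Lib.Helper29.DepthExt Groth.Agent.Lib.Helper29.DepthLib
open Groth.Agent.Lib.Helper29.CMLib

section basic

variable {A : Type u} [CommRing A] [IsLocalRing A]

theorem ExtVan.of_ideal_eq {𝔞 𝔟 : Ideal A} (h : 𝔞 = 𝔟) {k : ℕ} (hk : ExtVan A k (A ⧸ 𝔞)) :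
    ExtVan A k (A ⧸ 𝔟) := by
  subst h
  exact hk

theorem extVan_quotient_top {𝔞 : Ideal A} (h : 𝔞 = ⊤) (k : ℕ) : ExtVan A k (A ⧸ 𝔞) := by
  haveI : Subsingleton (A ⧸ 𝔞) := Ideal.Quotient.subsingleton_iff.2 h
  exact extVan_of_subsingleton k _

end basic

section loc

variable {S : Type u} [CommRing S]

/-- the quotient of the local ring at `P` by the extension of `I` -/
abbrev QP (P : Ideal S) [P.IsPrime] (I : Ideal S) : Type u :=
  Localization.AtPrime P ⧸ I.map (algebraMap S (Localization.AtPrime P))

theorem map_eq_top_of_not_le (P : Ideal S) [P.IsPrime] (I : Ideal S) (h : ¬ I ≤ P) :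
    I.map (algebraMap S (Localization.AtPrime P)) = ⊤ := by
  obtain ⟨x, hxI, hxP⟩ := Set.not_subset.1 h
  apply Ideal.eq_top_of_isUnit_mem _ (Ideal.mem_map_of_mem _ hxI)
  exact IsLocalization.map_units (Localization.AtPrime P) (⟨x, hxP⟩ : P.primeCompl)

theorem map_ne_top_of_le (P : Ideal S) [P.IsPrime] (I : Ideal S) (h : I ≤ P) :
    I.map (algebraMap S (Localization.AtPrime P)) ≠ ⊤ := by
  intro htop
  have h1 : I.map (algebraMap S (Localization.AtPrime P)) ≤
      P.map (algebraMap S (Localization.AtPrime P)) := Ideal.map_mono h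
  rw [htop, IsLocalization.AtPrime.map_eq_maximalIdeal P (Localization.AtPrime P)] at h1
  exact (maximalIdeal.isMaximal (Localization.AtPrime P)).ne_top (eq_top_iff.2 h1)

theorem map_finset_inf (P : Ideal S) [P.IsPrime] {ι : Type*} (F : Finset ι) (I : ι → Ideal S) :
    (F.inf I).map (algebraMap S (Localization.AtPrime P)) =
      F.inf (fun i => (I i).map (algebraMap S (Localization.AtPrime P))) := by
  classical
  induction F using Finset.induction_on with
  | empty => rw [Finset.inf_empty, Finset.inf_empty, Ideal.map_top]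
  | insert a s ha ih =>
    rw [Finset.inf_insert, Finset.inf_insert, IsLocalization.map_inf P.primeCompl, ih]

/-- transfer from primes of the quotient to primes containing the ideal -/
theorem forall_prime_of_forall_quotient (J : Ideal S) (C : ∀ (P : Ideal S) [P.IsPrime], Prop)
    (h : ∀ (q : Ideal (S ⧸ J)) [q.IsPrime], C (q.comap (Ideal.Quotient.mk J)))
    (P : Ideal S) [P.IsPrime] (hJP : J ≤ P) : C P := by
  have hker : RingHom.ker (Ideal.Quotient.mk J) ≤ P := by rw [Ideal.mk_ker]; exact hJP
  haveI : (P.map (Ideal.Quotient.mk J)).IsPrime :=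
    Ideal.map_isPrime_of_surjective Ideal.Quotient.mk_surjective hker
  have hcomap : (P.map (Ideal.Quotient.mk J)).comap (Ideal.Quotient.mk J) = P := by
    rw [Ideal.comap_map_of_surjective' _ Ideal.Quotient.mk_surjective]
    exact sup_eq_left.2 hker
  have key : ∀ (P' : Ideal S) [P'.IsPrime], P' = P → C P' → C P := by
    intro P' _ h
    subst h
    exact id
  exact key _ hcomap (h _)

/-- a nonzerodivisor modulo a prime stays one after localization -/
theorem isSMulRegular_QP (P : Ideal S) [P.IsPrime] (J : Ideal S) [J.IsPrime] (hJP : J ≤ P)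
    (x : S) (hx : x ∉ J) :
    IsSMulRegular (QP P J) (algebraMap S (Localization.AtPrime P) x) := by
  have hdisj : Disjoint (P.primeCompl : Set S) (J : Set S) := by
    rw [Set.disjoint_left]
    intro y hy hyJ
    exact hy (hJP hyJ)
  haveI hprime : (J.map (algebraMap S (Localization.AtPrime P))).IsPrime :=
    IsLocalization.isPrime_of_isPrime_disjoint P.primeCompl (Localization.AtPrime P) J
      inferInstance hdisj
  have hcomap : (J.map (algebraMap S (Localization.AtPrime P))).under S = J :=
    IsLocalization.under_map_of_isPrime_disjoint P.primeCompl (Localization.AtPrime P)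
      inferInstance hdisj
  have hxnot : algebraMap S (Localization.AtPrime P) x ∉
      J.map (algebraMap S (Localization.AtPrime P)) := by
    intro hmem
    apply hx
    rw [← hcomap]
    exact hmem
  intro a b hab
  obtain ⟨a, rfl⟩ := Ideal.Quotient.mk_surjective a
  obtain ⟨b, rfl⟩ := Ideal.Quotient.mk_surjective b
  have hab' : Ideal.Quotient.mk (J.map (algebraMap S (Localization.AtPrime P)))
      (algebraMap S (Localization.AtPrime P) x * a) =
      Ideal.Quotient.mk _ (algebraMap S (Localization.AtPrime P) x * b) := hab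
  rw [Ideal.Quotient.eq, ← mul_sub] at hab'
  rw [Ideal.Quotient.eq]
  exact (hprime.mem_or_mem hab').resolve_left hxnot

end loc

section cm

variable {S : Type u} [CommRing S] [IsNoetherianRing S] (J : Ideal S)
  (q : Ideal (S ⧸ J)) [q.IsPrime]

omit [IsNoetherianRing S] in
theorem ringKrullDim_QP_eq :
    ringKrullDim (QP (q.comap (Ideal.Quotient.mk J)) J) =
      ringKrullDim (Localization.AtPrime q) :=
  (ringKrullDim_eq_of_ringEquiv
    (Groth.Agent.Lib.Helper49.CMQuot.localizationQuotientEquiv J q)).symm

theorem depth_QP_eq :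
    LocCoh.depth (Localization.AtPrime (q.comap (Ideal.Quotient.mk J)))
      (QP (q.comap (Ideal.Quotient.mk J)) J) =
      LocCoh.depth (Localization.AtPrime q) (Localization.AtPrime q) := by
  set A := Localization.AtPrime (q.comap (Ideal.Quotient.mk J)) with hA
  set B := A ⧸ J.map (algebraMap S A) with hB
  let e1 : Localization.AtPrime q ≃+* B :=
    Groth.Agent.Lib.Helper49.CMQuot.localizationQuotientEquiv J q
  have : IsLocalRing B := e1.isLocalRing
  have : IsLocalHom (algebraMap A B) :=
    IsLocalHom.of_surjective _ Ideal.Quotient.mk_surjective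
  have h1 : LocCoh.depth A B = LocCoh.depth B B :=
    Groth.Agent.Lib.Helper29.DepthFinite.depth_eq_of_isLocalHom A B B
  have h2 : LocCoh.depth (Localization.AtPrime q) (Localization.AtPrime q) = LocCoh.depth B B :=
    Groth.Agent.Lib.Helper49.Serre.depth_eq_of_ringEquiv e1
  rw [h1, h2]

end cm

end Groth.Agent.Lib.Helper28.CMAux
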