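import Mathlib

set_option autoImplicit false
set_option linter.unusedSectionVars false
set_option linter.style.haveILetI false

namespace Groth.Agent.Lib.Helper28.CR

open scoped TensorProduct

section ZariskiCover

variable {A : Type*} [CommRing A] {ι : Type*} [Fintype ι] [DecidableEq ι] (f : ι → A)

instance zcov_etale : Algebra.Etale A (∀ i, Localization.Away (f i)) := inferInstance

theorem zcov_flat : Module.Flat A (∀ i, Localization.Away (f i)) := by
  haveI : ∀ i, Module.Flat A (Localization.Away (f i)) := fun i =>
    IsLocalization.flat (Localization.Away (f i)) (Submonoid.powers (f i))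
  let e : (Π₀ i, Localization.Away (f i)) ≃ₗ[A] (∀ i, Localization.Away (f i)) :=
    DFinsupp.linearEquivFunOnFintype
  exact Module.Flat.of_linearEquiv e.symm

theorem zcov_faithfullyFlat (hf : Ideal.span (Set.range f) = ⊤) :
    Module.FaithfullyFlat A (∀ i, Localization.Away (f i)) := by
  haveI := zcov_flat f
  apply Module.FaithfullyFlat.of_comap_surjective
  intro p
  have : ∃ j, f j ∉ p.asIdeal := by
    by_contra hcon
    push Not at hcon
    have : Ideal.span (Set.range f) ≤ p.asIdeal := by
      rw [Ideal.span_le]
      rintro _ ⟨j, rfl⟩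
      exact hcon j
    rw [hf] at this
    exact p.isPrime.ne_top (top_le_iff.mp this)
  obtain ⟨j, hj⟩ := this
  have hdisj : Disjoint (Submonoid.powers (f j) : Set A) (p.asIdeal : Set A) := by
    rw [Set.disjoint_left]
    rintro _ ⟨n, rfl⟩ hmem
    exact hj (p.isPrime.mem_of_pow_mem n hmem)
  have hprime : (p.asIdeal.map (algebraMap A (Localization.Away (f j)))).IsPrime :=
    IsLocalization.isPrime_of_isPrime_disjoint (Submonoid.powers (f j)) _ _ p.isPrime hdisj
  have hcomap : (p.asIdeal.map (algebraMap A (Localization.Away (f j)))).comap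
      (algebraMap A (Localization.Away (f j))) = p.asIdeal :=
    IsLocalization.comap_map_of_isPrime_disjoint (Submonoid.powers (f j)) _ p.isPrime hdisj
  let q : PrimeSpectrum (Localization.Away (f j)) := ⟨_, hprime⟩
  refine ⟨PrimeSpectrum.comap (Pi.evalRingHom (fun i => Localization.Away (f i)) j) q, ?_⟩
  apply PrimeSpectrum.ext
  change ((p.asIdeal.map (algebraMap A (Localization.Away (f j)))).comap
    (Pi.evalRingHom (fun i => Localization.Away (f i)) j)).comap
      (algebraMap A (∀ i, Localization.Away (f i))) = p.asIdeal
  rw [Ideal.comap_comap]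
  exact hcomap

end ZariskiCover

end Groth.Agent.Lib.Helper28.CR
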