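import Groth.Agent.Lib.Helper28.CartanMain
import Groth.Agent.Lib.Helper28.ZariskiCover

set_option autoImplicit false
set_option linter.unusedSectionVars false
set_option linter.style.haveILetI false

namespace Groth.Agent.Lib.Helper28.CR

open scoped TensorProduct

universe u

/-- the Zariski covering algebra. -/
abbrev Acov {A : Type u} [CommRing A] {ι : Type u} (f : ι → A) : Type u :=
  ∀ i, Localization.Away (f i)

section Cover

variable {A : Type u} [CommRing A] {L : Type u} [LieRing L] [LieAlgebra A L] [Module.Finite A L]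
  {ι : Type u} [Fintype ι] [DecidableEq ι] (f : ι → A) (a : ι → L)

theorem isQuasiRegular_cover
    (hreg : ∀ i, ∀ q : PrimeSpectrum A, f i ∉ q.asIdeal →
      LieAlgebra.IsRegular q.asIdeal.ResidueField ((1 : q.asIdeal.ResidueField) ⊗ₜ[A] a i)) :
    SGA3t2b.IsQuasiRegular (∀ i, Localization.Away (f i))
      ((∀ i, Localization.Away (f i)) ⊗[A] L)
      (∑ i, (Pi.single i 1 : ∀ i, Localization.Away (f i)) ⊗ₜ[A] a i) := by
  intro pp
  set e : ι → (Acov f) := fun i => Pi.single i 1 with he
  have hsum : ∑ i, e i = 1 := by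
    simp only [he]
    exact Finset.univ_sum_single (1 : (Acov f))
  have hortho : ∀ i j, i ≠ j → e i * e j = 0 := by
    intro i j hij
    funext k
    simp only [he, Pi.mul_apply, Pi.zero_apply]
    by_cases hk : k = i
    · subst hk; rw [Pi.single_eq_of_ne hij, mul_zero]
    · rw [Pi.single_eq_of_ne hk, zero_mul]
  obtain ⟨j, hj⟩ : ∃ j, e j ∉ pp.asIdeal := by
    by_contra hcon
    push Not at hcon
    have : (1 : (Acov f)) ∈ pp.asIdeal := by
      rw [← hsum]; exact Ideal.sum_mem _ (fun i _ => hcon i)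
    exact pp.isPrime.ne_top ((Ideal.eq_top_iff_one _).mpr this)
  have hothers : ∀ i, i ≠ j → e i ∈ pp.asIdeal := by
    intro i hij
    have : e i * e j ∈ pp.asIdeal := by rw [hortho i j hij]; exact Ideal.zero_mem _
    exact (pp.isPrime.mem_or_mem this).resolve_right hj
  set K := pp.asIdeal.ResidueField with hK
  have hbar0 : ∀ i, i ≠ j → algebraMap (Acov f) K (e i) = 0 := fun i hij =>
    (Ideal.algebraMap_residueField_eq_zero).mpr (hothers i hij)
  have hbar1 : algebraMap (Acov f) K (e j) = 1 := by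
    have h1 : algebraMap (Acov f) K (∑ i, e i) = 1 := by rw [hsum, map_one]
    rw [map_sum, Finset.sum_eq_single j (fun i _ hij => hbar0 i hij)
      (fun h => absurd (Finset.mem_univ j) h)] at h1
    exact h1
  -- compute 1 ⊗ a'
  have hcalc : (1 : K) ⊗ₜ[(Acov f)] (∑ i, e i ⊗ₜ[A] a i) =
      (1 : K) ⊗ₜ[(Acov f)] ((1 : (Acov f)) ⊗ₜ[A] a j) := by
    rw [TensorProduct.tmul_sum]
    have hterm : ∀ i, (1 : K) ⊗ₜ[(Acov f)] (e i ⊗ₜ[A] a i) =
        (algebraMap (Acov f) K (e i)) ⊗ₜ[(Acov f)] ((1 : (Acov f)) ⊗ₜ[A] a i) := by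
      intro i
      have : e i ⊗ₜ[A] a i = e i • ((1 : (Acov f)) ⊗ₜ[A] a i) := by
        rw [TensorProduct.smul_tmul', smul_eq_mul, mul_one]
      rw [this, ← TensorProduct.smul_tmul, Algebra.smul_def, mul_one]
    rw [Finset.sum_congr rfl (fun i _ => hterm i),
      Finset.sum_eq_single j (fun i _ hij => by rw [hbar0 i hij, TensorProduct.zero_tmul])
        (fun h => absurd (Finset.mem_univ j) h), hbar1]
  change LieAlgebra.IsRegular K ((1 : K) ⊗ₜ[(Acov f)] (∑ i, e i ⊗ₜ[A] a i))
  rw [hcalc, isRegular_fibre_baseChange (Acov f) pp.asIdeal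
    (PrimeSpectrum.comap (algebraMap A (Acov f)) pp).asIdeal rfl (a j)]
  apply hreg j
  -- f j ∉ comap pp
  intro hmem
  have hmem' : algebraMap A (Acov f) (f j) ∈ pp.asIdeal := hmem
  apply hj
  have : e j = algebraMap A (Acov f) (f j) *
      Pi.single j (IsLocalization.Away.invSelf (S := Localization.Away (f j)) (f j)) := by
    funext k
    by_cases hk : k = j
    · subst hk
      simp only [he, Pi.mul_apply, Pi.single_eq_same, Pi.algebraMap_apply]
      exact (IsLocalization.Away.mul_invSelf (f k)).symm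
    · simp only [he, Pi.mul_apply, Pi.single_eq_of_ne hk, mul_zero]
  rw [this]
  exact Ideal.mul_mem_right _ _ hmem'

end Cover

end Groth.Agent.Lib.Helper28.CR
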