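import Groth.Agent.Lib.Helper28.CartanFibre

set_option autoImplicit false
set_option linter.unusedSectionVars false
set_option linter.style.haveILetI false

namespace Groth.Agent.Lib.Helper28.CR

open LieAlgebra LinearMap Module Polynomial
open scoped TensorProduct

section Scale

variable {K L : Type*} [Field K] [LieRing L] [LieAlgebra K L] [Module.Finite K L]

theorem engel_smul (s : K) (hs : s ≠ 0) (x : L) :
    LieSubalgebra.engel K (s • x) = LieSubalgebra.engel K x := by
  ext y
  rw [LieSubalgebra.mem_engel_iff, LieSubalgebra.mem_engel_iff]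
  have : ∀ n : ℕ, ((LieAlgebra.ad K L (s • x)) ^ n) y = s ^ n • ((LieAlgebra.ad K L x) ^ n) y := by
    intro n
    rw [map_smul, _root_.smul_pow, LinearMap.smul_apply]
  constructor
  · rintro ⟨n, hn⟩
    refine ⟨n, ?_⟩
    rw [this] at hn
    exact (smul_eq_zero.mp hn).resolve_left (pow_ne_zero _ hs)
  · rintro ⟨n, hn⟩
    exact ⟨n, by rw [this, hn, smul_zero]⟩

theorem isRegular_smul (s : K) (hs : s ≠ 0) (x : L) :
    LieAlgebra.IsRegular K (s • x) ↔ LieAlgebra.IsRegular K x := by
  rw [LieAlgebra.isRegular_iff_finrank_engel_eq_rank, LieAlgebra.isRegular_iff_finrank_engel_eq_rank,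
    engel_smul s hs]

end Scale

section Lift

variable {A : Type*} [CommRing A] (M : Type*) [AddCommGroup M] [Module A M]
  (p : Ideal A) [p.IsPrime]

theorem exists_smul_eq_one_tmul (x : p.ResidueField ⊗[A] M) :
    ∃ t : A, t ∉ p ∧ ∃ a : M, (1 : p.ResidueField) ⊗ₜ[A] a = t • x := by
  induction x using TensorProduct.induction_on with
  | zero => exact ⟨1, fun h => (Ideal.ne_top_iff_one p).mp (Ideal.IsPrime.ne_top ‹_›) h, 0, by simp⟩
  | tmul c l =>
    obtain ⟨⟨r', t'⟩, hrt⟩ := IsLocalization.surj (nonZeroDivisors (A ⧸ p)) c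
    obtain ⟨r, rfl⟩ := Ideal.Quotient.mk_surjective r'
    obtain ⟨t, ht⟩ := Ideal.Quotient.mk_surjective (t' : A ⧸ p)
    have htp : t ∉ p := by
      intro h
      have : (t' : A ⧸ p) = 0 := by rw [← ht]; exact Ideal.Quotient.eq_zero_iff_mem.mpr h
      exact nonZeroDivisors.coe_ne_zero t' this
    refine ⟨t, htp, r • l, ?_⟩
    simp only at hrt
    rw [← ht, Ideal.algebraMap_quotient_residueField_mk,
      Ideal.algebraMap_quotient_residueField_mk] at hrt
    rw [TensorProduct.smul_tmul', TensorProduct.tmul_smul, TensorProduct.smul_tmul',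
      Algebra.smul_def, Algebra.smul_def, mul_one, ← hrt, mul_comm]
  | add x y hx hy =>
    obtain ⟨t₁, ht₁, a₁, h₁⟩ := hx
    obtain ⟨t₂, ht₂, a₂, h₂⟩ := hy
    refine ⟨t₁ * t₂, fun h => (Ideal.IsPrime.mem_or_mem ‹_› h).elim ht₁ ht₂,
      t₂ • a₁ + t₁ • a₂, ?_⟩
    rw [TensorProduct.tmul_add, TensorProduct.tmul_smul, TensorProduct.tmul_smul, h₁, h₂,
      smul_add, mul_smul, mul_smul, smul_comm t₂ t₁ x]

end Lift

end Groth.Agent.Lib.Helper28.CR
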