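import Groth.Agent.Lib.Helper28.CartanNil
import Groth.Agent.Lib.Helper28.CartanLift
import Groth.Prelude.Def_W4sga3xiixivxvCartan

set_option autoImplicit false
set_option linter.unusedSectionVars false
set_option linter.style.haveILetI false

namespace Groth.Agent.Lib.Helper28.CR

open LinearMap Module Polynomial
open scoped TensorProduct

section LA

variable {K V : Type*} [Field K] [AddCommGroup V] [Module K V] [Module.Finite K V]

theorem mem_of_map_mem_of_finrank_eq (φ : Module.End K V) (U : Submodule K V)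
    (hU : ∀ z ∈ U, ∃ k : ℕ, (φ ^ k) z = 0)
    (hdim : finrank K U = finrank K (φ.maxGenEigenspace 0)) (y : V) (hy : φ y ∈ U) : y ∈ U := by
  have hle : U ≤ φ.maxGenEigenspace 0 := by
    intro z hz
    rw [Module.End.mem_maxGenEigenspace]
    obtain ⟨k, hk⟩ := hU z hz
    exact ⟨k, by simpa using hk⟩
  have heq : U = φ.maxGenEigenspace 0 := Submodule.eq_of_le_of_finrank_eq hle hdim
  rw [heq, Module.End.mem_maxGenEigenspace] at hy ⊢
  obtain ⟨k, hk⟩ := hy
  refine ⟨k + 1, ?_⟩
  simp only [zero_smul, sub_zero] at hk ⊢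
  rw [pow_succ, Module.End.mul_apply]
  exact hk

end LA

section Fib

variable {A : Type*} [CommRing A] {L : Type*} [LieRing L] [LieAlgebra A L] [Module.Finite A L]
  (H : LieSubalgebra A L) (a : L) (ha : a ∈ H)

/-- `ad a` restricted to `H`. -/
noncomputable def adH : H →ₗ[A] H := (LieAlgebra.ad A H ⟨a, ha⟩ : H →ₗ[A] H)

theorem subtype_comp_adH :
    H.toSubmodule.subtype ∘ₗ adH H a ha =
      (LieAlgebra.ad A L a : L →ₗ[A] L) ∘ₗ H.toSubmodule.subtype := by
  ext h
  simp [adH]
  rfl

include ha in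
theorem map_le_comap_ad : H.toSubmodule ≤ H.toSubmodule.comap (LieAlgebra.ad A L a : L →ₗ[A] L) := by
  intro h hh
  rw [Submodule.mem_comap, LieAlgebra.ad_apply]
  exact H.lie_mem ha hh

/-- the endomorphism of `L ⧸ H` induced by `ad a`. -/
noncomputable def adQ : (L ⧸ H.toSubmodule) →ₗ[A] (L ⧸ H.toSubmodule) :=
  H.toSubmodule.mapQ H.toSubmodule (LieAlgebra.ad A L a : L →ₗ[A] L) (map_le_comap_ad H a ha)

theorem adQ_comp_mkQ :
    adQ H a ha ∘ₗ H.toSubmodule.mkQ = H.toSubmodule.mkQ ∘ₗ (LieAlgebra.ad A L a : L →ₗ[A] L) := by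
  ext y
  simp [adQ]

variable (K : Type*) [Field K] [Algebra A K]

theorem ad_one_tmul :
    LieAlgebra.ad K (K ⊗[A] L) ((1 : K) ⊗ₜ[A] a) = (LieAlgebra.ad A L a).baseChange K :=
  LieModule.toEnd_baseChange (R := A) (A := K) (L := L) (M := L) a

theorem baseChange_le_engel (hnil : IsNilpotent ((adH H a ha).baseChange K)) :
    ∀ z ∈ H.toSubmodule.baseChange K,
      ∃ k : ℕ, ((LieAlgebra.ad K (K ⊗[A] L) ((1 : K) ⊗ₜ[A] a)) ^ k) z = 0 := by
  obtain ⟨k, hk⟩ := hnil
  rintro z ⟨w, rfl⟩
  refine ⟨k, ?_⟩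
  rw [ad_one_tmul]
  have hcomm : (LieAlgebra.ad A L a).baseChange K ∘ₗ H.toSubmodule.subtype.baseChange K =
      H.toSubmodule.subtype.baseChange K ∘ₗ (adH H a ha).baseChange K := by
    rw [← LinearMap.baseChange_comp, ← LinearMap.baseChange_comp, subtype_comp_adH]
  have := LinearMap.congr_fun (Module.End.commute_pow_left_of_commute hcomm k) w
  simp only [LinearMap.comp_apply] at this
  rw [this, hk]
  simp

theorem adQ_baseChange_injective
    (hnil : IsNilpotent ((adH H a ha).baseChange K))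
    (hdim : finrank K (H.toSubmodule.baseChange K) = LieAlgebra.rank K (K ⊗[A] L))
    (hreg : LieAlgebra.IsRegular K ((1 : K) ⊗ₜ[A] a)) :
    Function.Injective ((adQ H a ha).baseChange K) := by
  rw [injective_iff_map_eq_zero]
  intro z hz
  set φ := LieAlgebra.ad K (K ⊗[A] L) ((1 : K) ⊗ₜ[A] a) with hφ
  have hsurj : Function.Surjective (H.toSubmodule.mkQ.baseChange K) := by
    rw [LinearMap.baseChange_eq_ltensor]
    exact LinearMap.lTensor_surjective K (Submodule.mkQ_surjective _)
  obtain ⟨y, rfl⟩ := hsurj z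
  have hcomm : (adQ H a ha).baseChange K ∘ₗ H.toSubmodule.mkQ.baseChange K =
      H.toSubmodule.mkQ.baseChange K ∘ₗ (LieAlgebra.ad A L a).baseChange K := by
    rw [← LinearMap.baseChange_comp, ← LinearMap.baseChange_comp, adQ_comp_mkQ]
  have h1 : H.toSubmodule.mkQ.baseChange K (φ y) = 0 := by
    have := LinearMap.congr_fun hcomm y
    simp only [LinearMap.comp_apply] at this
    rw [hφ, ad_one_tmul, ← this, hz]
  have hexact : Function.Exact (H.toSubmodule.subtype.baseChange K)
      (H.toSubmodule.mkQ.baseChange K) := by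
    rw [LinearMap.baseChange_eq_ltensor, LinearMap.baseChange_eq_ltensor]
    exact lTensor_exact K (LinearMap.exact_subtype_mkQ H.toSubmodule)
      (Submodule.mkQ_surjective _)
  have h2 : φ y ∈ H.toSubmodule.baseChange K := (hexact (φ y)).mp h1
  have hdim' : finrank K (H.toSubmodule.baseChange K) = finrank K (φ.maxGenEigenspace 0) := by
    rw [hdim, ← (LieAlgebra.isRegular_iff_finrank_engel_eq_rank K _).mp hreg]
    rfl
  have h3 : y ∈ H.toSubmodule.baseChange K :=
    mem_of_map_mem_of_finrank_eq φ _ (baseChange_le_engel H a ha K hnil) hdim' y h2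
  exact (hexact y).mpr h3

end Fib

end Groth.Agent.Lib.Helper28.CR

namespace Groth.Agent.Lib.Helper28.CR

open LinearMap Module Polynomial
open scoped TensorProduct

universe u

section Global

variable {A : Type u} [CommRing A] {L : Type u} [LieRing L] [LieAlgebra A L] [Module.Finite A L]
  [Module.Projective A L]
  (H : LieSubalgebra A L) (hH : SGA3t2b.IsCartanRel H) (a : L) (ha : a ∈ H)

include hH in
theorem adH_baseChange_isNilpotent (p : PrimeSpectrum A) :
    IsNilpotent ((adH H a ha).baseChange p.asIdeal.ResidueField) := by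
  haveI : LieRing.IsNilpotent (p.asIdeal.ResidueField ⊗[A] H) := (hH.2 p).1
  have h1 := LieModule.isNilpotent_toEnd_of_isNilpotent p.asIdeal.ResidueField
    (p.asIdeal.ResidueField ⊗[A] H) (p.asIdeal.ResidueField ⊗[A] H)
    ((1 : p.asIdeal.ResidueField) ⊗ₜ[A] (⟨a, ha⟩ : H))
  have h2 : LieModule.toEnd p.asIdeal.ResidueField (p.asIdeal.ResidueField ⊗[A] H)
      (p.asIdeal.ResidueField ⊗[A] H) ((1 : p.asIdeal.ResidueField) ⊗ₜ[A] (⟨a, ha⟩ : H)) =
      (adH H a ha).baseChange p.asIdeal.ResidueField :=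
    LieModule.toEnd_baseChange (R := A) (A := p.asIdeal.ResidueField) (L := H) (M := H) ⟨a, ha⟩
  rw [h2] at h1
  exact h1

include hH in
theorem adH_isNilpotent : IsNilpotent (adH H a ha) := by
  haveI : Module.Projective A (L ⧸ H.toSubmodule) := hH.1
  haveI : Module.Finite A H := finite_of_projective_quotient H.toSubmodule
  haveI : Module.Projective A H := projective_of_projective_quotient H.toSubmodule
  exact isNilpotent_of_fibrewise (adH H a ha) (adH_baseChange_isNilpotent H hH a ha)

include hH ha in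
theorem le_engel : H ≤ LieSubalgebra.engel A a := by
  obtain ⟨k, hk⟩ := adH_isNilpotent H hH a ha
  intro h hh
  rw [LieSubalgebra.mem_engel_iff]
  refine ⟨k, ?_⟩
  have hcomm := subtype_comp_adH H a ha
  have := LinearMap.congr_fun (Module.End.commute_pow_left_of_commute hcomm.symm k) ⟨h, hh⟩
  simp only [LinearMap.comp_apply, Submodule.subtype_apply] at this
  rw [this, hk]
  simp

include hH ha in
theorem exists_pow_smul_mem (f : A)
    (hreg : ∀ q : PrimeSpectrum A, f ∉ q.asIdeal →
      LieAlgebra.IsRegular q.asIdeal.ResidueField ((1 : q.asIdeal.ResidueField) ⊗ₜ[A] a))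
    (y : L) (hy : y ∈ LieSubalgebra.engel A a) : ∃ n : ℕ, f ^ n • y ∈ H := by
  haveI : Module.Projective A (L ⧸ H.toSubmodule) := hH.1
  rw [LieSubalgebra.mem_engel_iff] at hy
  obtain ⟨k, hk⟩ := hy
  have hinj : ∀ q : PrimeSpectrum A, f ∉ q.asIdeal →
      Function.Injective ((adQ H a ha).baseChange q.asIdeal.ResidueField) := by
    intro q hq
    apply adQ_baseChange_injective H a ha q.asIdeal.ResidueField
      (adH_baseChange_isNilpotent H hH a ha q) _ (hreg q hq)
    exact (hH.2 q).2.2
  have hz : ((adQ H a ha) ^ k) (H.toSubmodule.mkQ y) = 0 := by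
    have := LinearMap.congr_fun
      (Module.End.commute_pow_left_of_commute (adQ_comp_mkQ H a ha) k) y
    simp only [LinearMap.comp_apply] at this
    rw [this, hk, map_zero]
  obtain ⟨n, hn⟩ := exists_pow_smul_eq_zero_of_fibrewise_injective (adQ H a ha) f hinj _ k hz
  refine ⟨n, ?_⟩
  rw [← map_smul, Submodule.mkQ_apply, Submodule.Quotient.mk_eq_zero] at hn
  exact hn

include hH ha in
/-- a relative Cartan subalgebra is the Engel subalgebra of any of its quasi-regular elements. -/
theorem eq_engel (hreg : SGA3t2b.IsQuasiRegular A L a) (y : L) :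
    y ∈ H ↔ y ∈ LieSubalgebra.engel A a := by
  constructor
  · intro hy; exact le_engel H hH a ha hy
  · intro hy
    obtain ⟨n, hn⟩ := exists_pow_smul_mem H hH a ha 1 (fun q _ => hreg q) y hy
    simpa using hn

end Global

end Groth.Agent.Lib.Helper28.CR
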