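import Groth.Agent.Lib.Helper28.CartanRank

set_option autoImplicit false
set_option linter.unusedSectionVars false
set_option linter.style.haveILetI false

namespace Groth.Agent.Lib.Helper28.CR

open LieAlgebra LieModule LieSubalgebra Module Cardinal
open scoped TensorProduct

section EngelRegular

variable {K V : Type*} [Field K] [LieRing V] [LieAlgebra K V] [Module.Finite K V]

theorem engel_le_engel_of_isRegular_of_card (h : (finrank K V : Cardinal) ≤ #K) (x : V)
    (hx : LieAlgebra.IsRegular K x) (y : V) (hy : y ∈ engel K x) : engel K x ≤ engel K y := by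
  set Ex : {engel K z | z ∈ engel K x} := ⟨engel K x, x, self_mem_engel _ _, rfl⟩
  suffices IsBot Ex from @this ⟨engel K y, y, hy, rfl⟩
  apply engel_isBot_of_isMin h (engel K x) Ex le_rfl
  rintro ⟨_, y, hy, rfl⟩ hyx
  suffices finrank K (engel K x) ≤ finrank K (engel K y) by
    suffices engel K y = engel K x from this.ge
    apply LieSubalgebra.toSubmodule_injective
    exact Submodule.eq_of_le_of_finrank_le hyx this
  rw [(isRegular_iff_finrank_engel_eq_rank K x).mp hx]
  apply rank_le_finrank_engel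

theorem ad_pow_one_tmul (K' : Type*) [Field K'] [Algebra K K'] (x v : V) (k : ℕ) :
    ((LieAlgebra.ad K' (K' ⊗[K] V) ((1 : K') ⊗ₜ[K] x)) ^ k) ((1 : K') ⊗ₜ[K] v) =
      (1 : K') ⊗ₜ[K] (((LieAlgebra.ad K V x) ^ k) v) := by
  have : LieAlgebra.ad K' (K' ⊗[K] V) ((1 : K') ⊗ₜ[K] x) = (LieAlgebra.ad K V x).baseChange K' :=
    LieModule.toEnd_baseChange (R := K) (A := K') (L := V) (M := V) x
  rw [this, ← LinearMap.baseChange_pow, LinearMap.baseChange_tmul]

theorem engel_le_engel_of_isRegular (x : V)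
    (hx : LieAlgebra.IsRegular K x) (y : V) (hy : y ∈ engel K x) : engel K x ≤ engel K y := by
  set K' := AlgebraicClosure K
  have hinj : Function.Injective (algebraMap K K') := (algebraMap K K').injective
  have hx' : LieAlgebra.IsRegular K' ((1 : K') ⊗ₜ[K] x) :=
    (isRegular_baseChange K K' hinj x).mpr hx
  have hcard : (finrank K' (K' ⊗[K] V) : Cardinal) ≤ #K' :=
    natCast_le_aleph0.trans <| Cardinal.infinite_iff.mp inferInstance
  have hy' : (1 : K') ⊗ₜ[K] y ∈ engel K' ((1 : K') ⊗ₜ[K] x) := by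
    rw [mem_engel_iff] at hy ⊢
    obtain ⟨k, hk⟩ := hy
    exact ⟨k, by rw [ad_pow_one_tmul, hk, TensorProduct.tmul_zero]⟩
  have hle := engel_le_engel_of_isRegular_of_card hcard _ hx' _ hy'
  intro z hz
  have hz' : (1 : K') ⊗ₜ[K] z ∈ engel K' ((1 : K') ⊗ₜ[K] x) := by
    rw [mem_engel_iff] at hz ⊢
    obtain ⟨k, hk⟩ := hz
    exact ⟨k, by rw [ad_pow_one_tmul, hk, TensorProduct.tmul_zero]⟩
  have := hle hz'
  rw [mem_engel_iff] at this ⊢
  obtain ⟨k, hk⟩ := this
  refine ⟨k, ?_⟩
  rw [ad_pow_one_tmul] at hk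
  have hmk := Module.Flat.tensorProduct_mk_injective K V K'
  apply hmk
  simpa using hk

end EngelRegular

end Groth.Agent.Lib.Helper28.CR
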