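import Groth.Agent.Lib.Helper28.CartanRank

set_option autoImplicit false
set_option linter.unusedSectionVars false
set_option linter.style.haveILetI false

namespace Groth.Agent.Lib.Helper28.CR

open LieAlgebra LinearMap Module Polynomial
open scoped TensorProduct

section Complement

variable {R V W : Type*} [CommRing R] [Nontrivial R] [AddCommGroup V] [Module R V]
  [AddCommGroup W] [Module R W] [Module.Finite R V] [Module.Free R V]
  [Module.Finite R W] [Module.Free R W]

/-- charpoly of an endomorphism transported along a retraction. -/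
theorem charpoly_retract (i : V →ₗ[R] W) (π : W →ₗ[R] V) (h : π ∘ₗ i = LinearMap.id)
    (ψ : V →ₗ[R] V) :
    (i ∘ₗ ψ ∘ₗ π).charpoly = X ^ (finrank R W - finrank R V) * ψ.charpoly := by
  classical
  let bV := Module.Free.chooseBasis R V
  let bW := Module.Free.chooseBasis R W
  have hle : Fintype.card (Module.Free.ChooseBasisIndex R V) ≤
      Fintype.card (Module.Free.ChooseBasisIndex R W) := by
    rw [← Module.finrank_eq_card_chooseBasisIndex, ← Module.finrank_eq_card_chooseBasisIndex]
    exact LinearMap.finrank_le_finrank_of_injective (LinearMap.injective_of_comp_eq_id _ _ h)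
  rw [← LinearMap.charpoly_toMatrix (i ∘ₗ ψ ∘ₗ π) bW, ← LinearMap.charpoly_toMatrix ψ bV]
  have h1 : LinearMap.toMatrix bW bW (i ∘ₗ ψ ∘ₗ π) =
      LinearMap.toMatrix bV bW i * LinearMap.toMatrix bW bV (ψ ∘ₗ π) :=
    LinearMap.toMatrix_comp bW bV bW i (ψ ∘ₗ π)
  have h2 : LinearMap.toMatrix bV bV ψ =
      LinearMap.toMatrix bW bV (ψ ∘ₗ π) * LinearMap.toMatrix bV bW i := by
    rw [← LinearMap.toMatrix_comp bV bW bV (ψ ∘ₗ π) i, LinearMap.comp_assoc, h,
      LinearMap.comp_id]
  rw [h1, h2, Matrix.charpoly_mul_comm_of_le _ _ hle,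
    Module.finrank_eq_card_chooseBasisIndex, Module.finrank_eq_card_chooseBasisIndex]

end Complement

end Groth.Agent.Lib.Helper28.CR

namespace Groth.Agent.Lib.Helper28.CR

open LieAlgebra LinearMap Module Polynomial
open scoped TensorProduct

section Fibre

variable {A : Type*} [CommRing A] {L : Type*} [LieRing L] [LieAlgebra A L] [Module.Finite A L]

/-- `Phi i π a = i ∘ ad a ∘ π`. -/
noncomputable def Phi {n : ℕ} (i : L →ₗ[A] (Fin n → A)) (π : (Fin n → A) →ₗ[A] L) (a : L) :
    Module.End A (Fin n → A) :=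
  i ∘ₗ (LieAlgebra.ad A L a : L →ₗ[A] L) ∘ₗ π

theorem charpoly_Phi_map {n : ℕ} (i : L →ₗ[A] (Fin n → A)) (π : (Fin n → A) →ₗ[A] L)
    (h : π ∘ₗ i = LinearMap.id) (K : Type*) [Field K] [Algebra A K] (a : L) :
    (Phi i π a).charpoly.map (algebraMap A K) =
      X ^ (n - finrank K (K ⊗[A] L)) *
        (LieAlgebra.ad K (K ⊗[A] L) ((1 : K) ⊗ₜ[A] a)).charpoly := by
  haveI : Nontrivial A := (algebraMap A K).domain_nontrivial
  rw [← LinearMap.charpoly_baseChange]
  have e1 : (Phi i π a).baseChange K =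
      i.baseChange K ∘ₗ (LieAlgebra.ad K (K ⊗[A] L) ((1 : K) ⊗ₜ[A] a)) ∘ₗ π.baseChange K := by
    have : LieAlgebra.ad K (K ⊗[A] L) ((1 : K) ⊗ₜ[A] a) = (LieAlgebra.ad A L a).baseChange K :=
      LieModule.toEnd_baseChange (R := A) (A := K) (L := L) (M := L) a
    rw [this, Phi, LinearMap.baseChange_comp, LinearMap.baseChange_comp]
  have e2 : π.baseChange K ∘ₗ i.baseChange K = LinearMap.id := by
    rw [← LinearMap.baseChange_comp, h, LinearMap.baseChange_id]
  rw [e1, charpoly_retract _ _ e2]
  congr 2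
  rw [Module.finrank_baseChange]
  simp

end Fibre

end Groth.Agent.Lib.Helper28.CR

namespace Groth.Agent.Lib.Helper28.CR

open LieAlgebra LinearMap Module Polynomial
open scoped TensorProduct

section Fibre2

variable {A : Type*} [CommRing A] {L : Type*} [LieRing L] [LieAlgebra A L] [Module.Finite A L]
variable {n : ℕ} (i : L →ₗ[A] (Fin n → A)) (π : (Fin n → A) →ₗ[A] L)
    (h : π ∘ₗ i = LinearMap.id) (K : Type*) [Field K] [Algebra A K]

include h in
theorem coeff_Phi_map_add (a : L) (j : ℕ) :
    algebraMap A K ((Phi i π a).charpoly.coeff (n - finrank K (K ⊗[A] L) + j)) =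
      (LieAlgebra.ad K (K ⊗[A] L) ((1 : K) ⊗ₜ[A] a)).charpoly.coeff j := by
  rw [← Polynomial.coeff_map, charpoly_Phi_map i π h K a, add_comm, Polynomial.coeff_X_pow_mul']
  simp

include h in
theorem coeff_Phi_map_lt (a : L) (j : ℕ) (hj : j < n - finrank K (K ⊗[A] L)) :
    algebraMap A K ((Phi i π a).charpoly.coeff j) = 0 := by
  rw [← Polynomial.coeff_map, charpoly_Phi_map i π h K a, Polynomial.coeff_X_pow_mul']
  rw [if_neg (by omega)]

include h in
theorem isRegular_iff_coeff_Phi (a : L) :
    LieAlgebra.IsRegular K ((1 : K) ⊗ₜ[A] a) ↔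
      algebraMap A K ((Phi i π a).charpoly.coeff
        (n - finrank K (K ⊗[A] L) + LieAlgebra.rank K (K ⊗[A] L))) ≠ 0 := by
  rw [coeff_Phi_map_add i π h K a, LieAlgebra.isRegular_def]

include h in
theorem coeff_Phi_map_lt_rank (a : L) (j : ℕ)
    (hj : j < n - finrank K (K ⊗[A] L) + LieAlgebra.rank K (K ⊗[A] L)) :
    algebraMap A K ((Phi i π a).charpoly.coeff j) = 0 := by
  by_cases hj' : j < n - finrank K (K ⊗[A] L)
  · exact coeff_Phi_map_lt i π h K a j hj'
  · obtain ⟨j', rfl⟩ : ∃ j', j = n - finrank K (K ⊗[A] L) + j' := ⟨j - (n - finrank K (K ⊗[A] L)), by omega⟩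
    rw [coeff_Phi_map_add i π h K a]
    apply Polynomial.coeff_eq_zero_of_lt_natTrailingDegree
    refine lt_of_lt_of_le ?_ (LieAlgebra.rank_le_natTrailingDegree_charpoly_ad K _)
    omega

end Fibre2

end Groth.Agent.Lib.Helper28.CR

namespace Groth.Agent.Lib.Helper28.CR

open LieAlgebra LinearMap Module Polynomial
open scoped TensorProduct

section LocConst

variable {A : Type*} [CommRing A] (M : Type*) [AddCommGroup M] [Module A M] [Module.Finite A M]
  [Module.Projective A M]

/-- fibre dimension of a f.g. projective module is locally constant, in `basic open` form. -/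
theorem exists_basicOpen_finrank_fibre_eq (p : PrimeSpectrum A) :
    ∃ f : A, f ∉ p.asIdeal ∧ ∀ q : PrimeSpectrum A, f ∉ q.asIdeal →
      finrank q.asIdeal.ResidueField (q.asIdeal.ResidueField ⊗[A] M) =
        finrank p.asIdeal.ResidueField (p.asIdeal.ResidueField ⊗[A] M) := by
  haveI := Module.finitePresentation_of_projective A M
  have hlc := Module.isLocallyConstant_rankAtStalk (R := A) (M := M)
  have hopen : IsOpen {q : PrimeSpectrum A | Module.rankAtStalk M q = Module.rankAtStalk M p} :=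
    hlc.isOpen_fiber _
  obtain ⟨U, ⟨f, rfl⟩, hpU, hU⟩ :=
    PrimeSpectrum.isTopologicalBasis_basic_opens.exists_subset_of_mem_open
      (show p ∈ {q : PrimeSpectrum A | Module.rankAtStalk M q = Module.rankAtStalk M p} from rfl)
      hopen
  refine ⟨f, hpU, fun q hq => ?_⟩
  have := hU (show q ∈ (PrimeSpectrum.basicOpen f : Set (PrimeSpectrum A)) from hq)
  simp only [Set.mem_ofPred_eq] at this
  rw [Module.rankAtStalk_eq, Module.rankAtStalk_eq] at this
  exact this

end LocConst

end Groth.Agent.Lib.Helper28.CR
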