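import Mathlib

set_option autoImplicit false
set_option linter.unusedSectionVars false
set_option linter.style.haveILetI false

namespace Groth.Agent.Lib.Helper28.CR

open Polynomial LinearMap
open scoped TensorProduct

section Fitting

variable {B P : Type*} [CommRing B] [AddCommGroup P] [Module B P]
  (φ γ : Module.End B P) (hc : Commute φ γ) (N : ℕ) (hN : φ ^ N = φ ^ (N + 1) * γ)

include hc hN in
theorem fit_pow_eq_pow_add (j : ℕ) : φ ^ N = φ ^ (N + j) * γ ^ j := by
  induction j with
  | zero => simp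
  | succ j ih =>
    have h1 : φ ^ (N + (j + 1)) * γ ^ (j + 1) = (φ ^ (N + 1) * γ) * (φ ^ j * γ ^ j) := by
      have hc' : Commute γ (φ ^ j) := (hc.symm.pow_right j)
      calc φ ^ (N + (j + 1)) * γ ^ (j + 1)
          = φ ^ (N + 1) * φ ^ j * (γ * γ ^ j) := by rw [pow_succ' γ, ← pow_add]; congr 2; omega
        _ = φ ^ (N + 1) * (φ ^ j * γ) * γ ^ j := by simp only [mul_assoc]
        _ = φ ^ (N + 1) * (γ * φ ^ j) * γ ^ j := by rw [hc'.eq]
        _ = (φ ^ (N + 1) * γ) * (φ ^ j * γ ^ j) := by simp only [mul_assoc]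
    rw [h1, ← hN, ← mul_assoc, ← pow_add, ← ih]

include hc hN in
theorem fit_ker_pow_eq (k : ℕ) (hk : N ≤ k) : LinearMap.ker (φ ^ k) = LinearMap.ker (φ ^ N) := by
  apply le_antisymm
  · intro y hy
    rw [LinearMap.mem_ker] at hy ⊢
    obtain ⟨j, rfl⟩ : ∃ j, k = N + j := ⟨k - N, by omega⟩
    rw [fit_pow_eq_pow_add φ γ hc N hN j]
    have hc' : Commute (φ ^ (N + j)) (γ ^ j) := (hc.pow_pow _ _)
    rw [hc'.eq, Module.End.mul_apply, hy, map_zero]
  · intro y hy
    rw [LinearMap.mem_ker] at hy ⊢
    exact Module.End.pow_map_zero_of_le hk hy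

include hc hN in
theorem fit_maxGenEigenspace : φ.maxGenEigenspace 0 = LinearMap.ker (φ ^ N) := by
  ext y
  rw [Module.End.mem_maxGenEigenspace, LinearMap.mem_ker]
  simp only [zero_smul, sub_zero]
  constructor
  · rintro ⟨k, hk⟩
    have h1 : (φ ^ (max k N)) y = 0 := Module.End.pow_map_zero_of_le (le_max_left _ _) hk
    have := fit_ker_pow_eq φ γ hc N hN (max k N) (le_max_right _ _)
    have h2 : y ∈ LinearMap.ker (φ ^ (max k N)) := h1
    rw [this] at h2
    exact h2
  · intro h; exact ⟨N, h⟩

/-- the Fitting idempotent. -/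
def fitIdem : Module.End B P := φ ^ N * γ ^ N

include hc hN in
theorem fitIdem_mul_pow : fitIdem φ γ N * φ ^ N = φ ^ N := by
  have h := fit_pow_eq_pow_add φ γ hc N hN N
  have hc' : Commute (γ ^ N) (φ ^ N) := (hc.symm.pow_pow _ _)
  rw [fitIdem, mul_assoc, hc'.eq, ← mul_assoc, ← pow_add, ← h]

include hc hN in
theorem fitIdem_isIdempotent : fitIdem φ γ N * fitIdem φ γ N = fitIdem φ γ N := by
  have h := fitIdem_mul_pow φ γ hc N hN
  calc fitIdem φ γ N * fitIdem φ γ N = (fitIdem φ γ N * φ ^ N) * γ ^ N := by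
        rw [mul_assoc]; rfl
    _ = fitIdem φ γ N := by rw [h]; rfl

include hc hN in
theorem ker_fitIdem : LinearMap.ker (fitIdem φ γ N) = LinearMap.ker (φ ^ N) := by
  apply le_antisymm
  · intro y hy
    rw [LinearMap.mem_ker] at hy ⊢
    have := LinearMap.congr_fun (fitIdem_mul_pow φ γ hc N hN) y
    have hc' : Commute (fitIdem φ γ N) (φ ^ N) := by
      rw [fitIdem]
      exact ((Commute.refl φ).pow_pow _ _).mul_left ((hc.symm.pow_pow _ _))
    rw [hc'.eq, Module.End.mul_apply, hy, map_zero] at this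
    exact this.symm
  · intro y hy
    rw [LinearMap.mem_ker] at hy ⊢
    have hc' : Commute (γ ^ N) (φ ^ N) := (hc.symm.pow_pow _ _)
    rw [fitIdem, ← hc'.eq, Module.End.mul_apply, hy, map_zero]

end Fitting

section FitProj

variable {B P : Type*} [CommRing B] [AddCommGroup P] [Module B P]
  (e : Module.End B P) (he : e * e = e)

include he in
theorem projective_quot_ker_of_idem [Module.Projective B P] :
    Module.Projective B (P ⧸ LinearMap.ker e) := by
  have hsplit : (LinearMap.rangeRestrict e) ∘ₗ (LinearMap.range e).subtype = LinearMap.id := by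
    ext ⟨y, z, rfl⟩
    simp only [LinearMap.comp_apply, Submodule.subtype_apply, LinearMap.id_apply]
    change ((LinearMap.rangeRestrict e) (e z) : P) = e z
    rw [LinearMap.codRestrict_apply, ← Module.End.mul_apply, he]
  haveI : Module.Projective B (LinearMap.range e) :=
    Module.Projective.of_split (LinearMap.range e).subtype (LinearMap.rangeRestrict e) hsplit
  exact Module.Projective.of_equiv (LinearMap.quotKerEquivRange e).symm

include he in
theorem range_one_sub_idem : LinearMap.range (1 - e) = LinearMap.ker e := by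
  apply le_antisymm
  · rintro _ ⟨y, rfl⟩
    rw [LinearMap.mem_ker, LinearMap.sub_apply, map_sub, Module.End.one_apply,
      ← Module.End.mul_apply, he, sub_self]
  · intro y hy
    rw [LinearMap.mem_ker] at hy
    exact ⟨y, by rw [LinearMap.sub_apply, Module.End.one_apply, hy, sub_zero]⟩

end FitProj

end Groth.Agent.Lib.Helper28.CR
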