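import Mathlib

set_option autoImplicit false
set_option linter.unusedSectionVars false
set_option linter.style.haveILetI false

namespace Groth.Agent.Lib.Helper28.CR

open Polynomial

section LemmaF

variable {B : Type*} [CommRing B] {C : Type*} [CommRing C] [Algebra B C]

/-- local step: around one prime. -/
theorem exists_pow_smul_pow_eq (χ : B[X]) (t : C) (ht : Polynomial.aeval t χ = 0)
    (f₀ : B) (m : ℕ)
    (hlow : ∀ j < m, IsNilpotent (f₀ * χ.coeff j))
    (hmid : ∃ (e : ℕ) (u : B), f₀ ^ e = u * χ.coeff m) :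
    ∃ (k : ℕ) (N : ℕ) (c : C), algebraMap B C (f₀ ^ k) * t ^ N = t ^ (N + 1) * c := by
  obtain ⟨e, u, hu⟩ := hmid
  set D := χ.natDegree + m + 2 with hD
  have hsum : ∑ i ∈ Finset.range D, algebraMap B C (χ.coeff i) * t ^ i = 0 := by
    rw [← Polynomial.eval₂_eq_sum_range' (algebraMap B C) (by omega) t]
    exact ht
  -- multiply by f₀ * u
  set a : ℕ → C := fun i => algebraMap B C (f₀ * u * χ.coeff i) * t ^ i with ha
  have hsum' : ∑ i ∈ Finset.range D, a i = 0 := by
    have : ∑ i ∈ Finset.range D, a i =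
        algebraMap B C (f₀ * u) * ∑ i ∈ Finset.range D, algebraMap B C (χ.coeff i) * t ^ i := by
      rw [Finset.mul_sum]
      apply Finset.sum_congr rfl
      intro i _
      simp only [ha, map_mul]
      ring
    rw [this, hsum, mul_zero]
  -- split the sum
  have hsplit : ∑ i ∈ Finset.range D, a i =
      ∑ i ∈ (Finset.range D).filter (fun i => i < m), a i + a m +
        ∑ i ∈ (Finset.range D).filter (fun i => m < i), a i := by
    have hmD : m ∈ Finset.range D := Finset.mem_range.mpr (by omega)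
    rw [← Finset.sum_filter_add_sum_filter_not (Finset.range D) (fun i => i < m), add_assoc]
    congr 1
    rw [← Finset.sum_filter_add_sum_filter_not
      ((Finset.range D).filter (fun i => ¬ i < m)) (fun i => i = m)]
    congr 1
    · rw [Finset.filter_filter]
      have : (Finset.range D).filter (fun i => ¬ i < m ∧ i = m) = {m} := by
        ext i
        simp only [Finset.mem_filter, Finset.mem_singleton]
        constructor
        · rintro ⟨_, _, h⟩; exact h
        · rintro rfl; exact ⟨hmD, lt_irrefl _, rfl⟩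
      rw [this, Finset.sum_singleton]
    · rw [Finset.filter_filter]
      apply Finset.sum_congr _ (fun _ _ => rfl)
      ext i
      simp only [Finset.mem_filter]
      constructor
      · rintro ⟨h1, h2, h3⟩; exact ⟨h1, by omega⟩
      · rintro ⟨h1, h2⟩; exact ⟨h1, by omega, by omega⟩
  set T1 := ∑ i ∈ (Finset.range D).filter (fun i => i < m), a i with hT1
  have hT1nil : IsNilpotent T1 := by
    apply isNilpotent_sum
    intro i hi
    have him : i < m := (Finset.mem_filter.mp hi).2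
    have h1 : IsNilpotent (algebraMap B C (f₀ * χ.coeff i)) := (hlow i him).map _
    have : a i = algebraMap B C (f₀ * χ.coeff i) * (algebraMap B C u * t ^ i) := by
      simp only [ha, map_mul]; ring
    rw [this]
    exact (Commute.all _ _).isNilpotent_mul_right h1
  set σ := ∑ i ∈ (Finset.range D).filter (fun i => m < i),
    algebraMap B C (f₀ * u * χ.coeff i) * t ^ (i - (m + 1)) with hσ
  have hT3 : ∑ i ∈ (Finset.range D).filter (fun i => m < i), a i = t ^ (m + 1) * σ := by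
    rw [hσ, Finset.mul_sum]
    apply Finset.sum_congr rfl
    intro i hi
    have him : m < i := (Finset.mem_filter.mp hi).2
    simp only [ha]
    have : t ^ i = t ^ (m + 1) * t ^ (i - (m + 1)) := by
      rw [← pow_add]; congr 1; omega
    rw [this]; ring
  have hT2 : a m = algebraMap B C (f₀ ^ (e + 1)) * t ^ m := by
    simp only [ha]
    congr 1
    rw [pow_succ, hu]; congr 1; ring
  rw [hsplit, hT3, hT2] at hsum'
  -- relation: z t^m + t^(m+1) σ = -T1
  set z := algebraMap B C (f₀ ^ (e + 1)) with hz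
  have hrel : t ^ m * (z + t * σ) = - T1 := by
    have : T1 + z * t ^ m + t ^ (m + 1) * σ = 0 := hsum'
    rw [pow_succ] at this
    linear_combination this
  obtain ⟨k, hk⟩ := hT1nil
  have hpow : t ^ (m * k) * (z + t * σ) ^ k = 0 := by
    rw [pow_mul, ← mul_pow, hrel, neg_pow, hk, mul_zero]
  obtain ⟨w, hw⟩ := sub_dvd_pow_sub_pow (z + t * σ) z k
  have hw' : (z + t * σ) ^ k = z ^ k + t * σ * w := by
    have : (z + t * σ) ^ k - z ^ k = (z + t * σ - z) * w := hw
    rw [add_sub_cancel_left] at this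
    linear_combination this
  refine ⟨(e + 1) * k, m * k, - (σ * w), ?_⟩
  rw [hw'] at hpow
  have : algebraMap B C (f₀ ^ ((e + 1) * k)) = z ^ k := by
    rw [hz, ← map_pow, ← pow_mul]
  rw [this, pow_succ]
  linear_combination hpow

theorem exists_pow_eq_pow_succ_mul (χ : B[X]) (t : C) (ht : Polynomial.aeval t χ = 0)
    (h : ∀ p : PrimeSpectrum B, ∃ f₀ : B, f₀ ∉ p.asIdeal ∧ ∃ m : ℕ,
      ∀ q : PrimeSpectrum B, f₀ ∉ q.asIdeal →
        (∀ j < m, χ.coeff j ∈ q.asIdeal) ∧ χ.coeff m ∉ q.asIdeal) :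
    ∃ (N : ℕ) (c : C), t ^ N = t ^ (N + 1) * c := by
  -- the ideal J
  let J : Ideal B :=
    { carrier := {b | ∃ (N : ℕ) (c : C), algebraMap B C b * t ^ N = t ^ (N + 1) * c}
      zero_mem' := ⟨0, 0, by simp⟩
      add_mem' := by
        rintro b₁ b₂ ⟨N₁, c₁, h₁⟩ ⟨N₂, c₂, h₂⟩
        refine ⟨N₁ + N₂, c₁ + c₂, ?_⟩
        rw [map_add, add_mul, pow_add]
        have e1 : algebraMap B C b₁ * (t ^ N₁ * t ^ N₂) = t ^ (N₁ + 1) * c₁ * t ^ N₂ := by
          rw [← h₁]; ring
        have e2 : algebraMap B C b₂ * (t ^ N₁ * t ^ N₂) = t ^ (N₂ + 1) * c₂ * t ^ N₁ := by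
          rw [← h₂]; ring
        rw [e1, e2]; ring
      smul_mem' := by
        rintro r b ⟨N, c, hc⟩
        refine ⟨N, algebraMap B C r * c, ?_⟩
        rw [smul_eq_mul, map_mul, mul_assoc, hc]; ring }
  have hJtop : J = ⊤ := by
    by_contra hne
    obtain ⟨M, hM, hJM⟩ := Ideal.exists_le_maximal J hne
    obtain ⟨f₀, hf₀, m, hm⟩ := h ⟨M, hM.isPrime⟩
    have hlow : ∀ j < m, IsNilpotent (f₀ * χ.coeff j) := by
      intro j hj
      rw [nilpotent_iff_mem_prime]
      intro Q hQ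
      by_cases hfQ : f₀ ∈ Q
      · exact Q.mul_mem_right _ hfQ
      · exact Q.mul_mem_left _ ((hm ⟨Q, hQ⟩ hfQ).1 j hj)
    have hmid : ∃ (e : ℕ) (u : B), f₀ ^ e = u * χ.coeff m := by
      have hrad : f₀ ∈ (Ideal.span {χ.coeff m}).radical := by
        rw [Ideal.radical_eq_sInf, Ideal.mem_sInf]
        rintro Q ⟨hQ1, hQ2⟩
        by_contra hfQ
        exact (hm ⟨Q, hQ2⟩ hfQ).2 (hQ1 (Ideal.subset_span rfl))
      obtain ⟨e, he⟩ := hrad
      obtain ⟨u, hu⟩ := Ideal.mem_span_singleton'.mp he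
      exact ⟨e, u, hu.symm⟩
    obtain ⟨k, N, c, hc⟩ := exists_pow_smul_pow_eq χ t ht f₀ m hlow hmid
    have : f₀ ^ k ∈ J := ⟨N, c, hc⟩
    exact hf₀ (hM.isPrime.mem_of_pow_mem k (hJM this))
  have h1 : (1 : B) ∈ J := by rw [hJtop]; trivial
  obtain ⟨N, c, hc⟩ := h1
  exact ⟨N, c, by simpa using hc⟩

/-- polynomial form. -/
theorem exists_dvd_X_pow_sub (χ : B[X])
    (h : ∀ p : PrimeSpectrum B, ∃ f₀ : B, f₀ ∉ p.asIdeal ∧ ∃ m : ℕ,
      ∀ q : PrimeSpectrum B, f₀ ∉ q.asIdeal →
        (∀ j < m, χ.coeff j ∈ q.asIdeal) ∧ χ.coeff m ∉ q.asIdeal) :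
    ∃ (N : ℕ) (g : B[X]), χ ∣ X ^ N - X ^ (N + 1) * g := by
  have ht : Polynomial.aeval (AdjoinRoot.root χ) χ = 0 := by
    rw [AdjoinRoot.aeval_eq, AdjoinRoot.mk_self]
  obtain ⟨N, c, hc⟩ := exists_pow_eq_pow_succ_mul χ (AdjoinRoot.root χ) ht h
  obtain ⟨g, rfl⟩ := AdjoinRoot.mk_surjective c
  refine ⟨N, g, ?_⟩
  rw [← AdjoinRoot.mk_eq_zero, map_sub, map_mul, map_pow, map_pow, AdjoinRoot.mk_X, hc, sub_self]

end LemmaF

end Groth.Agent.Lib.Helper28.CR
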