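import Groth.Agent.Lib.Helper28.CartanReg
import Groth.Agent.Lib.Helper28.CartanLemmaF
import Groth.Agent.Lib.Helper28.CartanFitting
import Groth.Agent.Lib.Helper28.CartanEngelReg

set_option autoImplicit false
set_option linter.unusedSectionVars false
set_option linter.style.haveILetI false

namespace Groth.Agent.Lib.Helper28.CR

open LinearMap Module Polynomial
open scoped TensorProduct

section Transfer

variable {R P W : Type*} [CommRing R] [AddCommGroup P] [Module R P] [AddCommGroup W] [Module R W]
  (i : P →ₗ[R] W) (π : W →ₗ[R] P) (h : π ∘ₗ i = LinearMap.id) (ψ : Module.End R P)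

include h in
theorem aeval_retract_comp (p : R[X]) :
    (Polynomial.aeval (i ∘ₗ ψ ∘ₗ π) p) ∘ₗ i = i ∘ₗ (Polynomial.aeval ψ p) := by
  ext y
  rw [Polynomial.aeval_eq_sum_range, Polynomial.aeval_eq_sum_range]
  simp only [LinearMap.comp_apply, LinearMap.sum_apply, LinearMap.smul_apply, map_sum, map_smul]
  apply Finset.sum_congr rfl
  intro k _
  have := LinearMap.congr_fun (retract_pow_comp i π h ψ k) y
  simp only [LinearMap.comp_apply] at this
  rw [this]

include h in
theorem aeval_eq_zero_of_retract (p : R[X]) (hp : Polynomial.aeval (i ∘ₗ ψ ∘ₗ π) p = 0) :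
    Polynomial.aeval ψ p = 0 := by
  have h1 := aeval_retract_comp i π h ψ p
  rw [hp, LinearMap.zero_comp] at h1
  have h2 : π ∘ₗ (i ∘ₗ Polynomial.aeval ψ p) = 0 := by rw [← h1, LinearMap.comp_zero]
  rwa [← LinearMap.comp_assoc, h, LinearMap.id_comp] at h2

end Transfer

end Groth.Agent.Lib.Helper28.CR

namespace Groth.Agent.Lib.Helper28.CR

open LinearMap Module Polynomial
open scoped TensorProduct

universe u

section Main

variable {B : Type u} [CommRing B] {L : Type u} [LieRing L] [LieAlgebra B L] [Module.Finite B L]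
  [Module.Projective B L]

theorem exists_fitting_relation (a : L) (hq : SGA3t2b.IsQuasiRegular B L a)
    (hC0 : ∀ p : PrimeSpectrum B, ∃ f : B, f ∉ p.asIdeal ∧ ∀ q : PrimeSpectrum B, f ∉ q.asIdeal →
        LieAlgebra.rank q.asIdeal.ResidueField (q.asIdeal.ResidueField ⊗[B] L) =
          LieAlgebra.rank p.asIdeal.ResidueField (p.asIdeal.ResidueField ⊗[B] L)) :
    ∃ (N : ℕ) (γ : Module.End B L), Commute (LieAlgebra.ad B L a : Module.End B L) γ ∧
      (LieAlgebra.ad B L a : Module.End B L) ^ N =
        (LieAlgebra.ad B L a : Module.End B L) ^ (N + 1) * γ := by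
  obtain ⟨n, π, i, -, -, h⟩ := Module.Finite.exists_comp_eq_id_of_projective B L
  set φ : Module.End B L := LieAlgebra.ad B L a with hφ
  set χ := (Phi i π a).charpoly with hχ
  have hF : ∀ p : PrimeSpectrum B, ∃ f₀ : B, f₀ ∉ p.asIdeal ∧ ∃ m : ℕ,
      ∀ q : PrimeSpectrum B, f₀ ∉ q.asIdeal →
        (∀ j < m, χ.coeff j ∈ q.asIdeal) ∧ χ.coeff m ∉ q.asIdeal := by
    intro p
    obtain ⟨f₁, hf₁, hr⟩ := hC0 p
    obtain ⟨f₂, hf₂, hd⟩ := exists_basicOpen_finrank_fibre_eq L p
    refine ⟨f₁ * f₂, fun hmem => (p.isPrime.mem_or_mem hmem).elim hf₁ hf₂,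
      n - Module.finrank p.asIdeal.ResidueField (p.asIdeal.ResidueField ⊗[B] L) +
        LieAlgebra.rank p.asIdeal.ResidueField (p.asIdeal.ResidueField ⊗[B] L), ?_⟩
    intro q hq'
    have hq1 : f₁ ∉ q.asIdeal := fun h1 => hq' (Ideal.mul_mem_right _ _ h1)
    have hq2 : f₂ ∉ q.asIdeal := fun h1 => hq' (Ideal.mul_mem_left _ _ h1)
    rw [← hr q hq1, ← hd q hq2]
    constructor
    · intro j hj
      have := coeff_Phi_map_lt_rank i π h q.asIdeal.ResidueField a j hj
      rwa [Ideal.algebraMap_residueField_eq_zero] at this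
    · have := (isRegular_iff_coeff_Phi i π h q.asIdeal.ResidueField a).mp (hq q)
      rwa [Ne, Ideal.algebraMap_residueField_eq_zero] at this
  obtain ⟨N, g, hdvd⟩ := exists_dvd_X_pow_sub χ hF
  have hΦ : Polynomial.aeval (Phi i π a) (X ^ N - X ^ (N + 1) * g) = 0 := by
    obtain ⟨q, hq⟩ := hdvd
    rw [hq, map_mul, hχ, LinearMap.aeval_self_charpoly, zero_mul]
  have hφ0 : Polynomial.aeval φ (X ^ N - X ^ (N + 1) * g) = 0 :=
    aeval_eq_zero_of_retract i π h φ _ hΦ
  refine ⟨N, Polynomial.aeval φ g, ?_, ?_⟩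
  · have : Commute (Polynomial.aeval φ (X : B[X])) (Polynomial.aeval φ g) :=
      (Commute.all X g).map (Polynomial.aeval φ)
    rwa [Polynomial.aeval_X] at this
  · rw [map_sub, map_mul, map_pow, map_pow, Polynomial.aeval_X, sub_eq_zero] at hφ0
    exact hφ0

end Main

end Groth.Agent.Lib.Helper28.CR

namespace Groth.Agent.Lib.Helper28.CR

open LinearMap Module Polynomial
open scoped TensorProduct

universe u

section Main2

variable {B : Type u} [CommRing B] {L : Type u} [LieRing L] [LieAlgebra B L] [Module.Finite B L]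
  [Module.Projective B L]

/-- base change of the Engel subalgebra when a Fitting relation holds. -/
theorem engel_baseChange_eq (a : L) (N : ℕ) (γ : Module.End B L)
    (hc : Commute (LieAlgebra.ad B L a : Module.End B L) γ)
    (hN : (LieAlgebra.ad B L a : Module.End B L) ^ N =
        (LieAlgebra.ad B L a : Module.End B L) ^ (N + 1) * γ)
    (K : Type*) [Field K] [Algebra B K] :
    (LieSubalgebra.engel B a).toSubmodule.baseChange K =
      (LieSubalgebra.engel K ((1 : K) ⊗ₜ[B] a)).toSubmodule := by
  set φ : Module.End B L := LieAlgebra.ad B L a with hφ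
  set e := fitIdem φ γ N with he
  have hidem : e * e = e := fitIdem_isIdempotent φ γ hc N hN
  set E' := (LieSubalgebra.engel B a).toSubmodule with hE'
  have hE : E' = LinearMap.ker e := by
    rw [ker_fitIdem φ γ hc N hN, ← fit_maxGenEigenspace φ γ hc N hN]
    rfl
  -- base-changed data
  set φK : Module.End K (K ⊗[B] L) := φ.baseChange K with hφK
  set γK : Module.End K (K ⊗[B] L) := γ.baseChange K with hγK
  have hcK : Commute φK γK := by
    change φK * γK = γK * φK
    rw [hφK, hγK, ← LinearMap.baseChange_mul, ← LinearMap.baseChange_mul, hc.eq]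
  have hNK : φK ^ N = φK ^ (N + 1) * γK := by
    rw [hφK, hγK, ← LinearMap.baseChange_pow, ← LinearMap.baseChange_pow,
      ← LinearMap.baseChange_mul, ← hN]
  have heK : e.baseChange K = fitIdem φK γK N := by
    rw [he, fitIdem, fitIdem, LinearMap.baseChange_mul, LinearMap.baseChange_pow,
      LinearMap.baseChange_pow]
  have hidemK : fitIdem φK γK N * fitIdem φK γK N = fitIdem φK γK N :=
    fitIdem_isIdempotent φK γK hcK N hNK
  -- the retraction onto E'
  have hmem : ∀ y : L, (1 - e) y ∈ E' := by
    intro y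
    rw [hE, ← range_one_sub_idem e hidem]
    exact ⟨y, rfl⟩
  set ρ : L →ₗ[B] E' := LinearMap.codRestrict E' (1 - e) hmem with hρ
  have hρ1 : E'.subtype ∘ₗ ρ = 1 - e := by
    ext y; rfl
  have hρsurj : Function.Surjective ρ := by
    rintro ⟨y, hy⟩
    refine ⟨y, ?_⟩
    apply Subtype.ext
    have hy' : e y = 0 := by rw [hE] at hy; exact hy
    change (1 - e) y = y
    rw [LinearMap.sub_apply, Module.End.one_apply, hy', sub_zero]
  have hρKsurj : Function.Surjective (ρ.baseChange K) := by
    rw [LinearMap.baseChange_eq_ltensor]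
    exact LinearMap.lTensor_surjective K hρsurj
  have h1 : E'.baseChange K = LinearMap.range ((1 - e).baseChange K) := by
    rw [← hρ1, LinearMap.baseChange_comp, LinearMap.range_comp_of_range_eq_top _
      (LinearMap.range_eq_top.mpr hρKsurj)]
    rfl
  have h2 : (1 - e).baseChange K = 1 - fitIdem φK γK N := by
    rw [LinearMap.baseChange_sub, LinearMap.baseChange_one, heK]
  rw [h1, h2, range_one_sub_idem _ hidemK, ker_fitIdem φK γK hcK N hNK,
    ← fit_maxGenEigenspace φK γK hcK N hNK]
  have : LieAlgebra.ad K (K ⊗[B] L) ((1 : K) ⊗ₜ[B] a) = φK := ad_one_tmul a K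
  change _ = (LieAlgebra.ad K (K ⊗[B] L) ((1 : K) ⊗ₜ[B] a)).maxGenEigenspace 0
  rw [this]

end Main2

end Groth.Agent.Lib.Helper28.CR

namespace Groth.Agent.Lib.Helper28.CR

open LinearMap Module Polynomial
open scoped TensorProduct

universe u

section Main3

variable {B : Type u} [CommRing B] {L : Type u} [LieRing L] [LieAlgebra B L] [Module.Finite B L]
  [Module.Projective B L]

theorem isCartanRel_engel (a : L) (hq : SGA3t2b.IsQuasiRegular B L a)
    (hC0 : ∀ p : PrimeSpectrum B, ∃ f : B, f ∉ p.asIdeal ∧ ∀ q : PrimeSpectrum B, f ∉ q.asIdeal →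
        LieAlgebra.rank q.asIdeal.ResidueField (q.asIdeal.ResidueField ⊗[B] L) =
          LieAlgebra.rank p.asIdeal.ResidueField (p.asIdeal.ResidueField ⊗[B] L)) :
    SGA3t2b.IsCartanRel (LieSubalgebra.engel B a) := by
  obtain ⟨N, γ, hc, hN⟩ := exists_fitting_relation a hq hC0
  set φ : Module.End B L := LieAlgebra.ad B L a with hφ
  set e := fitIdem φ γ N with he
  have hidem : e * e = e := fitIdem_isIdempotent φ γ hc N hN
  set E := LieSubalgebra.engel B a with hEdef
  have hE : E.toSubmodule = LinearMap.ker e := by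
    rw [ker_fitIdem φ γ hc N hN, ← fit_maxGenEigenspace φ γ hc N hN]
    rfl
  have hproj : Module.Projective B (L ⧸ E.toSubmodule) := by
    haveI := projective_quot_ker_of_idem e hidem
    exact Module.Projective.of_equiv (Submodule.quotEquivOfEq _ _ hE).symm
  refine ⟨hproj, fun p => ?_⟩
  set K := p.asIdeal.ResidueField with hK
  set x : K ⊗[B] L := (1 : K) ⊗ₜ[B] a with hx
  have hxreg : LieAlgebra.IsRegular K x := hq p
  have hU : E.toSubmodule.baseChange K = (LieSubalgebra.engel K x).toSubmodule :=
    engel_baseChange_eq a N γ hc hN K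
  have hfib : SGA3t2b.fibreSubmodule p E = (LieSubalgebra.engel K x).toSubmodule := hU
  refine ⟨?_, ?_, ?_⟩
  · -- nilpotency of K ⊗ E
    haveI : Module.Projective B (L ⧸ E.toSubmodule) := hproj
    haveI : Module.Finite B E := finite_of_projective_quotient E.toSubmodule
    have hinj : Function.Injective (inclK E K) := baseChange_subtype_injective E.toSubmodule K
    have hmemU : ∀ w : K ⊗[B] E, inclK E K w ∈ LieSubalgebra.engel K x := by
      intro w
      have : inclK E K w ∈ E.toSubmodule.baseChange K := ⟨w, rfl⟩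
      rw [hU] at this
      exact this
    rw [LieAlgebra.isNilpotent_iff_forall (R := K)]
    intro w
    rw [Module.End.isNilpotent_iff_of_finite]
    intro w'
    have hle := engel_le_engel_of_isRegular x hxreg (inclK E K w) (hmemU w)
    have := hle (hmemU w')
    rw [LieSubalgebra.mem_engel_iff] at this
    obtain ⟨k, hk⟩ := this
    refine ⟨k, hinj ?_⟩
    rw [map_zero, ← inclK_ad_pow, hk]
  · intro z hz
    rw [hfib] at hz ⊢
    have : z ∈ (LieSubalgebra.engel K x).normalizer := by
      rw [LieSubalgebra.mem_normalizer_iff]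
      intro y hy
      exact hz y hy
    rw [LieSubalgebra.normalizer_engel] at this
    exact this
  · rw [hfib]
    exact (LieAlgebra.isRegular_iff_finrank_engel_eq_rank K x).mp hxreg

end Main3

end Groth.Agent.Lib.Helper28.CR
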