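import Groth.Agent.Lib.Helper28.CartanMain

set_option autoImplicit false
set_option linter.unusedSectionVars false
set_option linter.style.haveILetI false

namespace Groth.Agent.Lib.Helper28.CR

open LinearMap Module Polynomial
open scoped TensorProduct

universe u

section Main4

variable {B : Type u} [CommRing B] {L : Type u} [LieRing L] [LieAlgebra B L] [Module.Finite B L]
  [Module.Projective B L]

/-- Variant of `isCartanRel_engel` taking the projectivity and the fibre identification as input. -/
theorem isCartanRel_engel' (a : L) (hq : SGA3t2b.IsQuasiRegular B L a)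
    (hproj : Module.Projective B (L ⧸ (LieSubalgebra.engel B a).toSubmodule))
    (hU : ∀ p : PrimeSpectrum B,
      (LieSubalgebra.engel B a).toSubmodule.baseChange p.asIdeal.ResidueField =
        (LieSubalgebra.engel p.asIdeal.ResidueField
          ((1 : p.asIdeal.ResidueField) ⊗ₜ[B] a)).toSubmodule) :
    SGA3t2b.IsCartanRel (LieSubalgebra.engel B a) := by
  set E := LieSubalgebra.engel B a with hEdef
  refine ⟨hproj, fun p => ?_⟩
  set K := p.asIdeal.ResidueField with hK
  set x : K ⊗[B] L := (1 : K) ⊗ₜ[B] a with hx
  have hxreg : LieAlgebra.IsRegular K x := hq p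
  have hU' : E.toSubmodule.baseChange K = (LieSubalgebra.engel K x).toSubmodule := hU p
  have hfib : SGA3t2b.fibreSubmodule p E = (LieSubalgebra.engel K x).toSubmodule := hU'
  refine ⟨?_, ?_, ?_⟩
  · haveI : Module.Projective B (L ⧸ E.toSubmodule) := hproj
    haveI : Module.Finite B E := finite_of_projective_quotient E.toSubmodule
    have hinj : Function.Injective (inclK E K) := baseChange_subtype_injective E.toSubmodule K
    have hmemU : ∀ w : K ⊗[B] E, inclK E K w ∈ LieSubalgebra.engel K x := by
      intro w
      have : inclK E K w ∈ E.toSubmodule.baseChange K := ⟨w, rfl⟩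
      rw [hU'] at this
      exact this
    rw [LieAlgebra.isNilpotent_iff_forall (R := K)]
    intro w
    rw [Module.End.isNilpotent_iff_of_finite]
    intro w'
    have hle := engel_le_engel_of_isRegular x hxreg (inclK E K w) (hmemU w)
    have := hle (hmemU w')
    rw [LieSubalgebra.mem_engel_iff] at this
    obtain ⟨k, hk⟩ := this
    refine ⟨k, hinj ?_⟩
    rw [map_zero, ← inclK_ad_pow, hk]
  · intro z hz
    rw [hfib] at hz ⊢
    have : z ∈ (LieSubalgebra.engel K x).normalizer := by
      rw [LieSubalgebra.mem_normalizer_iff]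
      intro y hy
      exact hz y hy
    rw [LieSubalgebra.normalizer_engel] at this
    exact this
  · rw [hfib]
    exact (LieAlgebra.isRegular_iff_finrank_engel_eq_rank K x).mp hxreg

/-- fibre identification from bijectivity of `ad a` on `L ⧸ engel a`. -/
theorem engel_baseChange_eq_of_bijective (a : L)
    (hinj : ∀ z : L, ⁅a, z⁆ ∈ LieSubalgebra.engel B a → z ∈ LieSubalgebra.engel B a)
    (hsurj : ∀ y : L, ∃ z : L, ⁅a, z⁆ - y ∈ LieSubalgebra.engel B a)
    (K : Type*) [Field K] [Algebra B K] :
    (LieSubalgebra.engel B a).toSubmodule.baseChange K =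
      (LieSubalgebra.engel K ((1 : K) ⊗ₜ[B] a)).toSubmodule := by
  set E := LieSubalgebra.engel B a with hEdef
  have haE : a ∈ E := LieSubalgebra.self_mem_engel B a
  set ψ := adQ E a haE with hψ
  have hψmk : ∀ z : L, ψ (E.toSubmodule.mkQ z) = E.toSubmodule.mkQ ⁅a, z⁆ := by
    intro z
    have := LinearMap.congr_fun (adQ_comp_mkQ E a haE) z
    simpa using this
  have hbij : Function.Bijective ψ := by
    constructor
    · rw [injective_iff_map_eq_zero]
      intro w hw
      obtain ⟨z, rfl⟩ := E.toSubmodule.mkQ_surjective w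
      rw [hψmk, Submodule.mkQ_apply, Submodule.Quotient.mk_eq_zero] at hw
      rw [Submodule.mkQ_apply, Submodule.Quotient.mk_eq_zero]
      exact hinj z hw
    · intro w
      obtain ⟨y, rfl⟩ := E.toSubmodule.mkQ_surjective w
      obtain ⟨z, hz⟩ := hsurj y
      refine ⟨E.toSubmodule.mkQ z, ?_⟩
      rw [hψmk, ← sub_eq_zero, ← map_sub, Submodule.mkQ_apply, Submodule.Quotient.mk_eq_zero]
      exact hz
  let eq := LinearEquiv.ofBijective ψ hbij
  have hψKinj : Function.Injective (ψ.baseChange K) := by
    apply LinearMap.injective_of_comp_eq_id _ ((eq.symm : _ →ₗ[B] _).baseChange K)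
    rw [← LinearMap.baseChange_comp]
    have : (eq.symm : _ →ₗ[B] _) ∘ₗ ψ = LinearMap.id := by
      refine LinearMap.ext fun w => ?_
      simp only [LinearMap.comp_apply, LinearMap.id_apply, LinearEquiv.coe_coe]
      exact eq.symm_apply_apply w
    rw [this, LinearMap.baseChange_id]
  have hexact : Function.Exact (E.toSubmodule.subtype.baseChange K)
      (E.toSubmodule.mkQ.baseChange K) := by
    rw [LinearMap.baseChange_eq_ltensor, LinearMap.baseChange_eq_ltensor]
    exact lTensor_exact K (LinearMap.exact_subtype_mkQ E.toSubmodule)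
      (Submodule.mkQ_surjective _)
  have hcomm : ψ.baseChange K ∘ₗ E.toSubmodule.mkQ.baseChange K =
      E.toSubmodule.mkQ.baseChange K ∘ₗ (LieAlgebra.ad B L a).baseChange K := by
    rw [← LinearMap.baseChange_comp, ← LinearMap.baseChange_comp, adQ_comp_mkQ]
  apply le_antisymm
  · -- ⊆
    rintro _ ⟨w, rfl⟩
    change _ ∈ LieSubalgebra.engel K ((1 : K) ⊗ₜ[B] a)
    induction w using TensorProduct.induction_on with
    | zero => rw [map_zero]; exact Submodule.zero_mem _
    | add w₁ w₂ h₁ h₂ => rw [map_add]; exact Submodule.add_mem _ h₁ h₂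
    | tmul s y =>
      rw [LieSubalgebra.mem_engel_iff]
      have hy : (y : L) ∈ E := y.2
      rw [LieSubalgebra.mem_engel_iff] at hy
      obtain ⟨k, hk⟩ := hy
      refine ⟨k, ?_⟩
      rw [ad_one_tmul, ← LinearMap.baseChange_pow]
      simp only [LinearMap.baseChange_tmul, Submodule.subtype_apply]
      rw [hk, TensorProduct.tmul_zero]
  · -- ⊇
    intro v hv
    have hv' : v ∈ LieSubalgebra.engel K ((1 : K) ⊗ₜ[B] a) := hv
    rw [LieSubalgebra.mem_engel_iff] at hv'
    obtain ⟨k, hk⟩ := hv'
    rw [ad_one_tmul] at hk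
    have h1 := LinearMap.congr_fun (Module.End.commute_pow_left_of_commute hcomm k) v
    simp only [LinearMap.comp_apply] at h1
    rw [hk, map_zero] at h1
    have h2 : E.toSubmodule.mkQ.baseChange K v = 0 := by
      have hpowinj : Function.Injective ((ψ.baseChange K) ^ k) := by
        rw [Module.End.coe_pow]
        exact hψKinj.iterate k
      exact hpowinj (by rw [h1, map_zero])
    exact (hexact v).mp h2

end Main4

end Groth.Agent.Lib.Helper28.CR
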