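import Groth.Agent.Lib.Helper28.CartanSummand

set_option autoImplicit false
set_option linter.unusedSectionVars false
set_option linter.style.haveILetI false

namespace Groth.Agent.Lib.Helper28.CR

open LinearMap Module Polynomial
open scoped TensorProduct

section Retract

variable {R P W : Type*} [CommRing R] [AddCommGroup P] [Module R P] [AddCommGroup W] [Module R W]
  (i : P →ₗ[R] W) (π : W →ₗ[R] P) (h : π ∘ₗ i = LinearMap.id) (ψ : Module.End R P)

include h in
theorem retract_pow_comp (k : ℕ) : ((i ∘ₗ ψ ∘ₗ π) ^ k) ∘ₗ i = i ∘ₗ (ψ ^ k) := by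
  induction k with
  | zero => simp [Module.End.one_eq_id]
  | succ k ih =>
    rw [pow_succ, Module.End.mul_eq_comp, LinearMap.comp_assoc]
    have : (i ∘ₗ ψ ∘ₗ π) ∘ₗ i = i ∘ₗ ψ := by
      rw [LinearMap.comp_assoc, LinearMap.comp_assoc, h, LinearMap.comp_id]
    rw [this, ← LinearMap.comp_assoc, ih, LinearMap.comp_assoc, pow_succ, Module.End.mul_eq_comp]

include h in
theorem retract_pow_succ (k : ℕ) : (i ∘ₗ ψ ∘ₗ π) ^ (k + 1) = i ∘ₗ (ψ ^ (k + 1)) ∘ₗ π := by
  rw [pow_succ, Module.End.mul_eq_comp, ← LinearMap.comp_assoc, ← LinearMap.comp_assoc,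
    retract_pow_comp i π h ψ k, pow_succ, Module.End.mul_eq_comp]
  simp only [LinearMap.comp_assoc]

include h in
theorem retract_isNilpotent (hψ : IsNilpotent ψ) : IsNilpotent (i ∘ₗ ψ ∘ₗ π) := by
  obtain ⟨k, hk⟩ := hψ
  refine ⟨k + 1, ?_⟩
  rw [retract_pow_succ i π h ψ k, pow_succ, hk]
  simp

include h in
theorem pow_eq_of_retract (k : ℕ) : ψ ^ k = π ∘ₗ ((i ∘ₗ ψ ∘ₗ π) ^ k) ∘ₗ i := by
  rw [retract_pow_comp i π h ψ k, ← LinearMap.comp_assoc, h, LinearMap.id_comp]

end Retract

section N1

variable {A : Type*} [CommRing A] {P : Type*} [AddCommGroup P] [Module A P] [Module.Finite A P]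
  [Module.Projective A P]

/-- an endomorphism of a finite free module whose charpoly has nilpotent lower coefficients
is nilpotent. -/
theorem isNilpotent_of_charpoly_coeff {n : ℕ} (Ψ : Module.End A (Fin n → A))
    (hc : ∀ j < n, IsNilpotent (Ψ.charpoly.coeff j)) : IsNilpotent Ψ := by
  nontriviality A
  set g : A[X] := Ψ.charpoly - X ^ n with hg
  have hdeg : Ψ.charpoly.natDegree = n := by
    rw [LinearMap.charpoly_natDegree]; simp
  have hgn : IsNilpotent g := by
    rw [Polynomial.isNilpotent_iff]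
    intro j
    rw [hg, Polynomial.coeff_sub, Polynomial.coeff_X_pow]
    rcases lt_trichotomy j n with hj | hj | hj
    · rw [if_neg hj.ne, sub_zero]; exact hc j hj
    · subst hj
      rw [if_pos rfl]
      have : Ψ.charpoly.coeff j = 1 := by
        have := (LinearMap.charpoly_monic Ψ).coeff_natDegree
        rwa [hdeg] at this
      rw [this, sub_self]; exact IsNilpotent.zero
    · rw [if_neg hj.ne', sub_zero,
        Polynomial.coeff_eq_zero_of_natDegree_lt (by rw [hdeg]; exact hj)]
      exact IsNilpotent.zero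
  obtain ⟨m, hm⟩ := hgn
  have h1 : Polynomial.aeval Ψ g = - Ψ ^ n := by
    have := LinearMap.aeval_self_charpoly Ψ
    rw [hg, map_sub, this, map_pow, Polynomial.aeval_X, zero_sub]
  have h2 : IsNilpotent (Polynomial.aeval Ψ g) := ⟨m, by rw [← map_pow, hm, map_zero]⟩
  rw [h1] at h2
  have h3 : IsNilpotent (Ψ ^ n) := by simpa using h2.neg
  exact IsNilpotent.of_pow h3

theorem isNilpotent_of_fibrewise (ψ : Module.End A P)
    (hψ : ∀ p : PrimeSpectrum A, IsNilpotent (ψ.baseChange p.asIdeal.ResidueField)) :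
    IsNilpotent ψ := by
  obtain ⟨n, π, i, -, -, h⟩ := Module.Finite.exists_comp_eq_id_of_projective A P
  have hΨ : IsNilpotent (i ∘ₗ ψ ∘ₗ π) := by
    apply isNilpotent_of_charpoly_coeff
    intro j hj
    rw [nilpotent_iff_mem_prime]
    intro J hJ
    set p : PrimeSpectrum A := ⟨J, hJ⟩
    have hnil : IsNilpotent ((i ∘ₗ ψ ∘ₗ π).baseChange p.asIdeal.ResidueField) := by
      rw [LinearMap.baseChange_comp, LinearMap.baseChange_comp]
      apply retract_isNilpotent _ _ _ _ (hψ p)
      rw [← LinearMap.baseChange_comp, h, LinearMap.baseChange_id]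
    have hcp := hnil.charpoly_eq_X_pow_finrank
    rw [LinearMap.charpoly_baseChange] at hcp
    have hcj := congrArg (fun q => Polynomial.coeff q j) hcp
    simp only [Polynomial.coeff_map, Polynomial.coeff_X_pow] at hcj
    haveI : Nontrivial A := (algebraMap A p.asIdeal.ResidueField).domain_nontrivial
    rw [Module.finrank_baseChange] at hcj
    simp only [Module.finrank_pi, Fintype.card_fin] at hcj
    rw [if_neg hj.ne, Ideal.algebraMap_residueField_eq_zero] at hcj
    exact hcj
  obtain ⟨k, hk⟩ := hΨ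
  refine ⟨k, ?_⟩
  rw [pow_eq_of_retract i π h ψ k, hk]
  simp

end N1

end Groth.Agent.Lib.Helper28.CR

namespace Groth.Agent.Lib.Helper28.CR

open LinearMap Module Polynomial
open scoped TensorProduct

section LemmaD

variable {A : Type*} [CommRing A] {Q : Type*} [AddCommGroup Q] [Module A Q] [Module.Finite A Q]
  [Module.Projective A Q]

theorem exists_pow_smul_eq_zero_of_fibrewise_injective (ψ : Module.End A Q) (f : A)
    (hinj : ∀ q : PrimeSpectrum A, f ∉ q.asIdeal →
      Function.Injective (ψ.baseChange q.asIdeal.ResidueField))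
    (z : Q) (k : ℕ) (hz : (ψ ^ k) z = 0) : ∃ n : ℕ, f ^ n • z = 0 := by
  classical
  obtain ⟨n, π, i, -, hi, h⟩ := Module.Finite.exists_comp_eq_id_of_projective A Q
  set Ψ : Module.End A (Fin n → A) := i ∘ₗ ψ ∘ₗ π + (LinearMap.id - i ∘ₗ π) with hΨ
  have hΨi : Ψ ∘ₗ i = i ∘ₗ ψ := by
    rw [hΨ, LinearMap.add_comp, LinearMap.sub_comp, LinearMap.comp_assoc, LinearMap.comp_assoc, h,
      LinearMap.comp_id, LinearMap.id_comp, LinearMap.comp_assoc, h, LinearMap.comp_id, sub_self,
      add_zero]
  set d : A := LinearMap.det Ψ with hd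
  -- d is nonzero at every prime of D(f)
  have hdq : ∀ q : PrimeSpectrum A, f ∉ q.asIdeal → d ∉ q.asIdeal := by
    intro q hq hdmem
    set K := q.asIdeal.ResidueField
    have hdet : LinearMap.det (Ψ.baseChange K) = 0 := by
      rw [LinearMap.det_baseChange, ← hd, Ideal.algebraMap_residueField_eq_zero]
      exact hdmem
    have hker := LinearMap.bot_lt_ker_of_det_eq_zero hdet
    obtain ⟨v, hvker, hv0⟩ := SetLike.exists_of_lt hker
    apply hv0
    rw [LinearMap.mem_ker] at hvker
    have hπi : π.baseChange K ∘ₗ i.baseChange K = LinearMap.id := by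
      rw [← LinearMap.baseChange_comp, h, LinearMap.baseChange_id]
    have hΨK : Ψ.baseChange K = i.baseChange K ∘ₗ ψ.baseChange K ∘ₗ π.baseChange K +
        (LinearMap.id - i.baseChange K ∘ₗ π.baseChange K) := by
      rw [hΨ, LinearMap.baseChange_add, LinearMap.baseChange_sub, LinearMap.baseChange_comp,
        LinearMap.baseChange_comp, LinearMap.baseChange_comp, LinearMap.baseChange_id]
    have h1 : (ψ.baseChange K) (π.baseChange K v) = 0 := by
      have := congrArg (π.baseChange K) hvker
      rw [hΨK, map_zero] at this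
      simp only [LinearMap.add_apply, LinearMap.sub_apply, LinearMap.comp_apply,
        LinearMap.id_apply, map_add, map_sub] at this
      have e : ∀ w, π.baseChange K (i.baseChange K w) = w := fun w => LinearMap.congr_fun hπi w
      rw [e, e, sub_self, add_zero] at this
      exact this
    have h2 : π.baseChange K v = 0 := hinj q hq (by rw [h1, map_zero])
    rw [hΨK] at hvker
    simp only [LinearMap.add_apply, LinearMap.sub_apply, LinearMap.comp_apply,
      LinearMap.id_apply, h2, map_zero, sub_zero, zero_add] at hvker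
    simpa using hvker
  -- f ∈ radical (d)
  have hrad : f ∈ (Ideal.span {d}).radical := by
    rw [Ideal.radical_eq_sInf, Ideal.mem_sInf]
    rintro J ⟨hJ1, hJ2⟩
    by_contra hfJ
    exact hdq ⟨J, hJ2⟩ hfJ (hJ1 (Ideal.subset_span rfl))
  obtain ⟨m, hm⟩ := hrad
  obtain ⟨u, hu⟩ := Ideal.mem_span_singleton'.mp hm
  -- adjugate
  set M := LinearMap.toMatrix' Ψ with hM
  set Ψ' : Module.End A (Fin n → A) := Matrix.toLin' (Matrix.adjugate M) with hΨ'
  have hadj : Ψ' ∘ₗ Ψ = d • LinearMap.id := by
    have h1 : Ψ = Matrix.toLin' M := (Matrix.toLin'_toMatrix' Ψ).symm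
    conv_lhs => rw [h1]
    rw [hΨ', ← Matrix.toLin'_mul, Matrix.adjugate_mul, hM, LinearMap.det_toMatrix', ← hd]
    ext v j
    simp
  have hadjk : ∀ k : ℕ, (Ψ' ^ k) ∘ₗ (Ψ ^ k) = d ^ k • LinearMap.id := by
    intro k
    induction k with
    | zero => simp [Module.End.one_eq_id]
    | succ k ih =>
      rw [pow_succ, pow_succ', Module.End.mul_eq_comp, Module.End.mul_eq_comp,
        LinearMap.comp_assoc, ← LinearMap.comp_assoc (Ψ ^ k) Ψ Ψ', hadj]
      rw [LinearMap.smul_comp, LinearMap.id_comp, LinearMap.comp_smul, ih, smul_smul, pow_succ']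
  have hw : (Ψ ^ k) (i z) = 0 := by
    have := LinearMap.congr_fun (Module.End.commute_pow_left_of_commute hΨi k) z
    simp only [LinearMap.comp_apply] at this
    rw [this, hz, map_zero]
  have hdz : d ^ k • z = 0 := by
    apply hi
    rw [map_smul, map_zero]
    have := LinearMap.congr_fun (hadjk k) (i z)
    simp only [LinearMap.comp_apply, LinearMap.smul_apply, LinearMap.id_apply] at this
    rw [← this, hw, map_zero]
  refine ⟨m * k, ?_⟩
  rw [pow_mul, ← hu, mul_pow, mul_smul, hdz, smul_zero]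

end LemmaD

end Groth.Agent.Lib.Helper28.CR
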