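import Mathlib

set_option autoImplicit false
set_option linter.unusedSectionVars false
set_option linter.style.haveILetI false

namespace Groth.Agent.Lib.Helper28.CR

open LieAlgebra LinearMap Module
open scoped TensorProduct

section Equiv

variable {K L₁ L₂ : Type*} [CommRing K] [Nontrivial K]
  [LieRing L₁] [LieAlgebra K L₁] [LieRing L₂] [LieAlgebra K L₂]
  [Module.Finite K L₁] [Module.Free K L₁] [Module.Finite K L₂] [Module.Free K L₂]

theorem rank_eq_of_lieEquiv (e : L₁ ≃ₗ⁅K⁆ L₂) :
    LieAlgebra.rank K L₁ = LieAlgebra.rank K L₂ := by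
  classical
  let b₁ := Module.Free.chooseBasis K L₁
  let b₂ := b₁.map e.toLinearEquiv
  rw [LieAlgebra.rank_eq_natTrailingDegree K L₁ b₁, LieAlgebra.rank_eq_natTrailingDegree K L₂ b₂]
  congr 1
  rw [LinearMap.polyCharpoly_eq_of_basis _ b₁ b₁, LinearMap.polyCharpoly_eq_of_basis _ b₂ b₂]
  congr 3
  funext ij
  unfold LinearMap.toMvPolynomial
  congr 1
  ext ij k
  rw [LinearMap.toMatrix_apply, LinearMap.toMatrix_apply]
  rw [Basis.end_repr_apply, Basis.end_repr_apply]
  congr 2
  ext i j
  rw [LinearMap.toMatrix_apply, LinearMap.toMatrix_apply]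
  simp only [b₂, Basis.map_apply, Basis.map_repr, LieHom.coe_toLinearMap, LieAlgebra.ad_apply,
    LinearEquiv.trans_apply]
  have : ⁅e.toLinearEquiv (b₁ k), e.toLinearEquiv (b₁ j)⁆ = e.toLinearEquiv ⁅b₁ k, b₁ j⁆ := by
    simp only [LieEquiv.coe_toLinearEquiv]
    exact (e.map_lie _ _).symm
  rw [this, LinearEquiv.symm_apply_apply]

/-- conjugation formula for `ad` under a Lie equivalence. -/
theorem ad_lieEquiv (e : L₁ ≃ₗ⁅K⁆ L₂) (x : L₁) :
    LieAlgebra.ad K L₂ (e x) = e.toLinearEquiv.conj (LieAlgebra.ad K L₁ x) := by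
  ext y
  simp only [LieAlgebra.ad_apply, LinearEquiv.conj_apply, LinearMap.comp_apply,
    LinearEquiv.coe_coe, LieEquiv.coe_toLinearEquiv]
  have : y = e (e.symm y) := (e.apply_symm_apply y).symm
  conv_lhs => rw [this]
  rw [← e.map_lie]
  rfl

theorem isRegular_lieEquiv (e : L₁ ≃ₗ⁅K⁆ L₂) (x : L₁) :
    LieAlgebra.IsRegular K (e x) ↔ LieAlgebra.IsRegular K x := by
  rw [LieAlgebra.isRegular_def, LieAlgebra.isRegular_def, ad_lieEquiv, LinearEquiv.charpoly_conj,
    rank_eq_of_lieEquiv e]

end Equiv


theorem natTrailingDegree_map_inj {R S : Type*} [Semiring R] [Semiring S] (f : R →+* S)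
    (hf : Function.Injective f) (p : Polynomial R) :
    (p.map f).natTrailingDegree = p.natTrailingDegree := by
  unfold Polynomial.natTrailingDegree Polynomial.trailingDegree
  rw [Polynomial.support_map_of_injective _ hf]

section BaseChange

attribute [local instance 100] LieRing.ofAssociativeRing

variable (K K' L : Type*) [CommRing K] [CommRing K'] [Algebra K K'] [Nontrivial K] [Nontrivial K']
  [LieRing L] [LieAlgebra K L] [Module.Finite K L] [Module.Free K L]

theorem ad_baseChange_eq :
    (LieAlgebra.ad K' (K' ⊗[K] L)).toLinearMap =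
      LinearMap.tensorProduct K K' L L ∘ₗ ((LieAlgebra.ad K L).toLinearMap).baseChange K' := by
  apply TensorProduct.AlgebraTensorModule.curry_injective
  ext x y
  simp [LinearMap.tensorProduct]

theorem rank_baseChange (hinj : Function.Injective (algebraMap K K')) :
    LieAlgebra.rank K' (K' ⊗[K] L) = LieAlgebra.rank K L := by
  classical
  let b := Module.Free.chooseBasis K L
  rw [LieAlgebra.rank_eq_natTrailingDegree K L b,
    LieAlgebra.rank_eq_natTrailingDegree K' (K' ⊗[K] L) (Algebra.TensorProduct.basis K' b)]
  rw [ad_baseChange_eq, LinearMap.polyCharpoly_baseChange]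
  apply natTrailingDegree_map_inj
  exact MvPolynomial.map_injective _ hinj

variable {L}

theorem isRegular_baseChange (hinj : Function.Injective (algebraMap K K')) (x : L) :
    LieAlgebra.IsRegular K' ((1 : K') ⊗ₜ[K] x) ↔ LieAlgebra.IsRegular K x := by
  rw [LieAlgebra.isRegular_def, LieAlgebra.isRegular_def, rank_baseChange K K' L hinj]
  have : LieAlgebra.ad K' (K' ⊗[K] L) ((1 : K') ⊗ₜ[K] x) = (LieAlgebra.ad K L x).baseChange K' :=
    LieModule.toEnd_baseChange (R := K) (A := K') (L := L) (M := L) x
  rw [this, LinearMap.charpoly_baseChange, Polynomial.coeff_map]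
  rw [Ne, Ne, map_eq_zero_iff _ hinj]

end BaseChange


section Cancel

variable (R S T L : Type*) [CommRing R] [CommRing S] [CommRing T] [Algebra R S] [Algebra S T]
  [Algebra R T] [IsScalarTower R S T] [LieRing L] [LieAlgebra R L]

/-- `T ⊗[S] (S ⊗[R] L) ≃ T ⊗[R] L` as Lie algebras over `T`. -/
noncomputable def cancelLieEquiv : T ⊗[S] (S ⊗[R] L) ≃ₗ⁅T⁆ T ⊗[R] L :=
  { TensorProduct.AlgebraTensorModule.cancelBaseChange R S T T L with
    map_lie' := by
      intro x y
      simp only [AddHom.toFun_eq_coe, LinearMap.coe_toAddHom, LinearEquiv.coe_coe]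
      induction x using TensorProduct.induction_on with
      | zero => simp
      | add x₁ x₂ h₁ h₂ => rw [add_lie, map_add, map_add, add_lie, h₁, h₂]
      | tmul t z =>
        induction y using TensorProduct.induction_on with
        | zero => simp
        | add y₁ y₂ h₁ h₂ => rw [lie_add, map_add, map_add, lie_add, h₁, h₂]
        | tmul t' z' =>
          induction z using TensorProduct.induction_on with
          | zero => simp
          | add z₁ z₂ h₁ h₂ =>
            rw [TensorProduct.tmul_add, add_lie, map_add, map_add, add_lie, h₁, h₂]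
          | tmul s l =>
            induction z' using TensorProduct.induction_on with
            | zero => simp
            | add z₁ z₂ h₁ h₂ =>
              rw [TensorProduct.tmul_add, lie_add, map_add, map_add, lie_add, h₁, h₂]
            | tmul s' l' =>
              simp only [LieAlgebra.ExtendScalars.bracket_tmul,
                TensorProduct.AlgebraTensorModule.cancelBaseChange_tmul]
              congr 1
              rw [smul_mul_smul_comm] }

@[simp]
theorem cancelLieEquiv_tmul (t : T) (s : S) (l : L) :
    cancelLieEquiv R S T L (t ⊗ₜ[S] (s ⊗ₜ[R] l)) = (s • t) ⊗ₜ[R] l := by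
  change TensorProduct.AlgebraTensorModule.cancelBaseChange R S T T L (t ⊗ₜ[S] (s ⊗ₜ[R] l)) = _
  simp

end Cancel


section FieldPoint

variable {A : Type*} [CommRing A] (L : Type*) [LieRing L] [LieAlgebra A L]
  [Module.Finite A L]
variable (K : Type*) [Field K] [Algebra A K] (p : Ideal A) [p.IsPrime]

/-- the ring hom `κ(p) → K` for a field point `A → K` with kernel `p`. -/
noncomputable def resToField (hp : RingHom.ker (algebraMap A K) = p) : p.ResidueField →+* K :=
  Ideal.ResidueField.lift p (algebraMap A K) hp.ge (by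
    intro x hx
    simp only [Submonoid.mem_comap, IsUnit.mem_submonoid_iff]
    rw [isUnit_iff_ne_zero]
    intro h0
    apply hx
    rw [← hp]
    exact h0)

theorem resToField_algebraMap (hp : RingHom.ker (algebraMap A K) = p) (r : A) :
    resToField K p hp (algebraMap A p.ResidueField r) = algebraMap A K r :=
  Ideal.ResidueField.lift_algebraMap _ _ _ _ _

theorem rank_fieldPoint (hp : RingHom.ker (algebraMap A K) = p) :
    LieAlgebra.rank K (K ⊗[A] L) =
      LieAlgebra.rank p.ResidueField (p.ResidueField ⊗[A] L) := by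
  letI : Algebra p.ResidueField K := (resToField K p hp).toAlgebra
  haveI : IsScalarTower A p.ResidueField K :=
    IsScalarTower.of_algebraMap_eq (fun x => (resToField_algebraMap K p hp x).symm)
  rw [← rank_eq_of_lieEquiv (cancelLieEquiv A p.ResidueField K L)]
  exact rank_baseChange p.ResidueField K (p.ResidueField ⊗[A] L)
    (algebraMap p.ResidueField K).injective

variable {L}

theorem isRegular_fieldPoint (hp : RingHom.ker (algebraMap A K) = p) (a : L) :
    LieAlgebra.IsRegular K ((1 : K) ⊗ₜ[A] a) ↔
      LieAlgebra.IsRegular p.ResidueField ((1 : p.ResidueField) ⊗ₜ[A] a) := by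
  letI : Algebra p.ResidueField K := (resToField K p hp).toAlgebra
  haveI : IsScalarTower A p.ResidueField K :=
    IsScalarTower.of_algebraMap_eq (fun x => (resToField_algebraMap K p hp x).symm)
  rw [← isRegular_baseChange p.ResidueField K (algebraMap p.ResidueField K).injective,
    ← isRegular_lieEquiv (cancelLieEquiv A p.ResidueField K L)]
  simp

end FieldPoint

section FibreBaseChange

variable {A : Type*} [CommRing A] (L : Type*) [LieRing L] [LieAlgebra A L]
  [Module.Finite A L]
variable (A' : Type*) [CommRing A'] [Algebra A A'] (p' : Ideal A') [p'.IsPrime]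
  (p : Ideal A) [p.IsPrime]

theorem ker_algebraMap_residueField_comp :
    RingHom.ker (algebraMap A p'.ResidueField) = p'.comap (algebraMap A A') := by
  ext x
  rw [RingHom.mem_ker, IsScalarTower.algebraMap_apply A A' p'.ResidueField,
    Ideal.algebraMap_residueField_eq_zero, Ideal.mem_comap]

theorem rank_fibre_baseChange (hp : p'.comap (algebraMap A A') = p) :
    LieAlgebra.rank p'.ResidueField (p'.ResidueField ⊗[A'] (A' ⊗[A] L)) =
      LieAlgebra.rank p.ResidueField (p.ResidueField ⊗[A] L) := by
  rw [rank_eq_of_lieEquiv (cancelLieEquiv A A' p'.ResidueField L)]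
  exact rank_fieldPoint L p'.ResidueField p ((ker_algebraMap_residueField_comp A' p').trans hp)

variable {L}

theorem isRegular_fibre_baseChange (hp : p'.comap (algebraMap A A') = p) (a : L) :
    LieAlgebra.IsRegular p'.ResidueField
        ((1 : p'.ResidueField) ⊗ₜ[A'] ((1 : A') ⊗ₜ[A] a)) ↔
      LieAlgebra.IsRegular p.ResidueField ((1 : p.ResidueField) ⊗ₜ[A] a) := by
  rw [← isRegular_fieldPoint p'.ResidueField p
      ((ker_algebraMap_residueField_comp A' p').trans hp),
    ← isRegular_lieEquiv (cancelLieEquiv A A' p'.ResidueField L)]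
  simp

end FibreBaseChange


end Groth.Agent.Lib.Helper28.CR
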