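import Mathlib

set_option autoImplicit false
set_option linter.unusedSectionVars false
set_option linter.style.haveILetI false

namespace Groth.Agent.Lib.Helper28.CR

open LieAlgebra LieModule LieSubalgebra Module Cardinal

section RegInCartan

variable {K V : Type*} [Field K] [LieRing V] [LieAlgebra K V] [Module.Finite K V]

/-- A nilpotent, self-normalizing subalgebra whose dimension is the rank contains a regular
element, over an infinite field. -/
theorem exists_isRegular_mem [Infinite K] (U : LieSubalgebra K V)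
    (h1 : ∀ x ∈ U, U ≤ engel K x)
    (h2 : ∀ x : V, (∀ y ∈ U, ⁅x, y⁆ ∈ U) → x ∈ U)
    (h3 : finrank K U = LieAlgebra.rank K V) :
    ∃ x ∈ U, LieAlgebra.IsRegular K x := by
  classical
  have hLK : (finrank K V : Cardinal) ≤ #K :=
    natCast_le_aleph0.trans <| Cardinal.infinite_iff.mp ‹Infinite K›
  -- choose x₀ ∈ U with minimal Engel dimension
  have hex : ∃ n : ℕ, ∃ x ∈ U, finrank K (engel K x) = n := ⟨_, 0, U.zero_mem, rfl⟩
  obtain ⟨x₀, hx₀U, hx₀⟩ := Nat.find_spec hex
  have hminn : ∀ y ∈ U, Nat.find hex ≤ finrank K (engel K y) :=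
    fun y hy => Nat.find_min' hex ⟨y, hy, rfl⟩
  set E : {engel K x | x ∈ U} := ⟨engel K x₀, x₀, hx₀U, rfl⟩ with hE
  have hUle : U ≤ E := h1 x₀ hx₀U
  have hmin : IsMin E := by
    rintro ⟨_, y, hy, rfl⟩ hyx
    have hyx' : engel K y ≤ engel K x₀ := hyx
    have hfr : finrank K (engel K x₀) ≤ finrank K (engel K y) := by
      rw [hx₀]; exact hminn y hy
    have : engel K y = engel K x₀ := by
      apply LieSubalgebra.toSubmodule_injective
      exact Submodule.eq_of_le_of_finrank_le hyx' hfr
    exact this.ge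
  have hbot : IsBot E := engel_isBot_of_isMin hLK U E hUle hmin
  have hbot' : ∀ y ∈ U, engel K x₀ ≤ engel K y := by
    intro y hy
    exact @hbot ⟨engel K y, y, hy, rfl⟩
  -- Lie submodules over U
  let NE : LieSubmodule K U V :=
    { engel K x₀ with
      lie_mem := by rintro ⟨u, hu⟩ y hy; exact (engel K x₀).lie_mem (hUle hu) hy }
  let NU : LieSubmodule K U V :=
    { U.toSubmodule with
      lie_mem := by rintro ⟨u, hu⟩ y hy; exact U.lie_mem hu hy }
  -- NE is a nilpotent U-module
  have hnilE : LieModule.IsNilpotent U NE := by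
    rw [LieModule.isNilpotent_iff_forall' (R := K)]
    intro y
    rw [Module.End.isNilpotent_iff_of_finite]
    intro z
    have hz : (z : V) ∈ engel K (y : V) := hbot' y y.2 z.2
    rw [mem_engel_iff] at hz
    obtain ⟨k, hk⟩ := hz
    refine ⟨k, ?_⟩
    apply Subtype.ext
    rw [LieSubmodule.coe_toEnd_pow K U V NE y z k]
    exact hk
  obtain ⟨k₀, hk₀⟩ := (LieSubmodule.isNilpotent_iff_exists_lcs_eq_bot NE).mp hnilE
  have hdown : ∀ k : ℕ, NE.lcs (k + 1) ≤ NU → NE.lcs k ≤ NU := by
    intro k hk z hz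
    change z ∈ U
    apply h2
    intro y hy
    have : ⁅(⟨y, hy⟩ : U), z⁆ ∈ NE.lcs (k + 1) := by
      rw [LieSubmodule.lcs_succ]
      exact LieSubmodule.lie_mem_lie (LieSubmodule.mem_top _) hz
    have h' : ⁅y, z⁆ ∈ U := hk this
    rw [← lie_skew]
    exact U.neg_mem h'
  have hall : ∀ j : ℕ, j ≤ k₀ → NE.lcs (k₀ - j) ≤ NU := by
    intro j
    induction j with
    | zero => intro _; rw [Nat.sub_zero, hk₀]; exact bot_le
    | succ j ih =>
      intro hj
      apply hdown
      have : k₀ - (j + 1) + 1 = k₀ - j := by omega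
      rw [this]
      exact ih (by omega)
  have hEU : NE ≤ NU := by
    have := hall k₀ le_rfl
    rwa [Nat.sub_self, LieSubmodule.lcs_zero] at this
  have heq : engel K x₀ = U := by
    apply le_antisymm
    · intro z hz; exact hEU hz
    · exact hUle
  refine ⟨x₀, hx₀U, ?_⟩
  rw [LieAlgebra.isRegular_iff_finrank_engel_eq_rank, heq, h3]

end RegInCartan

end Groth.Agent.Lib.Helper28.CR
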