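import Groth.Agent.Lib.Helper28.CartanEngel
import Groth.Agent.Lib.Helper28.CartanRegIn

set_option autoImplicit false
set_option linter.unusedSectionVars false
set_option linter.style.haveILetI false

namespace Groth.Agent.Lib.Helper28.CR

open LinearMap Module Polynomial
open scoped TensorProduct

section FibreSubalgebra

variable {A : Type*} [CommRing A] {L : Type*} [LieRing L] [LieAlgebra A L]
  (H : LieSubalgebra A L) (K : Type*) [CommRing K] [Algebra A K]

/-- the base change of the inclusion of `H`. -/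
noncomputable def inclK : K ⊗[A] H →ₗ[K] K ⊗[A] L := (H.incl : H →ₗ[A] L).baseChange K

@[simp] theorem inclK_tmul (s : K) (h : H) : inclK H K (s ⊗ₜ[A] h) = s ⊗ₜ[A] (h : L) := rfl

theorem range_inclK : LinearMap.range (inclK H K) = H.toSubmodule.baseChange K := rfl

theorem inclK_eq_map (w : K ⊗[A] H) :
    inclK H K w = LieAlgebra.ExtendScalars.map (AlgHom.id A K) H.incl w := by
  induction w using TensorProduct.induction_on with
  | zero => simp
  | tmul s h => rfl
  | add x y hx hy => rw [map_add, map_add, hx, hy]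

theorem inclK_lie (w w' : K ⊗[A] H) :
    inclK H K ⁅w, w'⁆ = ⁅inclK H K w, inclK H K w'⁆ := by
  rw [inclK_eq_map, inclK_eq_map, inclK_eq_map]
  exact LieHom.map_lie _ w w'

/-- the fibre of a Lie subalgebra, as a Lie subalgebra of the base change. -/
noncomputable def fibreSubalgebra : LieSubalgebra K (K ⊗[A] L) :=
  { H.toSubmodule.baseChange K with
    lie_mem' := by
      intro x y hx hy
      have hx' : x ∈ LinearMap.range (inclK H K) := hx
      have hy' : y ∈ LinearMap.range (inclK H K) := hy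
      obtain ⟨w, rfl⟩ := hx'
      obtain ⟨w', rfl⟩ := hy'
      exact (show ⁅inclK H K w, inclK H K w'⁆ ∈ LinearMap.range (inclK H K) from
        ⟨⁅w, w'⁆, inclK_lie H K w w'⟩) }

theorem fibreSubalgebra_toSubmodule :
    (fibreSubalgebra H K).toSubmodule = H.toSubmodule.baseChange K := rfl

theorem mem_fibreSubalgebra_iff (z : K ⊗[A] L) :
    z ∈ fibreSubalgebra H K ↔ z ∈ H.toSubmodule.baseChange K := Iff.rfl

theorem mem_fibreSubalgebra_iff' (z : K ⊗[A] L) :
    z ∈ fibreSubalgebra H K ↔ ∃ w : K ⊗[A] H, inclK H K w = z := Iff.rfl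

theorem inclK_ad_pow (w w' : K ⊗[A] H) (k : ℕ) :
    ((LieAlgebra.ad K (K ⊗[A] L) (inclK H K w)) ^ k) (inclK H K w') =
      inclK H K (((LieAlgebra.ad K (K ⊗[A] H) w) ^ k) w') := by
  induction k generalizing w' with
  | zero => simp
  | succ k ih =>
    rw [pow_succ, pow_succ, Module.End.mul_apply, Module.End.mul_apply, LieAlgebra.ad_apply,
      ← inclK_lie, ih]
    rfl

theorem fibreSubalgebra_le_engel [LieRing.IsNilpotent (K ⊗[A] H)] :
    ∀ x ∈ fibreSubalgebra H K, fibreSubalgebra H K ≤ LieSubalgebra.engel K x := by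
  intro x hx z hz
  obtain ⟨w, rfl⟩ := (mem_fibreSubalgebra_iff' H K x).mp hx
  obtain ⟨w', rfl⟩ := (mem_fibreSubalgebra_iff' H K z).mp hz
  obtain ⟨k, hk⟩ := LieModule.isNilpotent_toEnd_of_isNilpotent K (K ⊗[A] H) (K ⊗[A] H) w
  rw [LieSubalgebra.mem_engel_iff]
  refine ⟨k, ?_⟩
  have : (LieAlgebra.ad K (K ⊗[A] H) w) ^ k = 0 := hk
  rw [inclK_ad_pow, this]
  simp

end FibreSubalgebra

end Groth.Agent.Lib.Helper28.CR

namespace Groth.Agent.Lib.Helper28.CR

open LinearMap Module Polynomial
open scoped TensorProduct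

universe u

section C0

variable {A : Type u} [CommRing A] {L : Type u} [LieRing L] [LieAlgebra A L] [Module.Finite A L]
  [Module.Projective A L]
  (H : LieSubalgebra A L) (hH : SGA3t2b.IsCartanRel H)

include hH in
theorem rank_eq_rankAtStalk (p : PrimeSpectrum A) :
    LieAlgebra.rank p.asIdeal.ResidueField (p.asIdeal.ResidueField ⊗[A] L) =
      Module.rankAtStalk (R := A) H.toSubmodule p := by
  haveI : Module.Projective A (L ⧸ H.toSubmodule) := hH.1
  rw [← finrank_baseChange_residueField H.toSubmodule p]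
  exact ((hH.2 p).2.2).symm

include hH in
/-- existence of a relative Cartan subalgebra forces the rank to be locally constant. -/
theorem rank_locallyConstant_of_isCartanRel (p : PrimeSpectrum A) :
    ∃ f : A, f ∉ p.asIdeal ∧ ∀ q : PrimeSpectrum A, f ∉ q.asIdeal →
      LieAlgebra.rank q.asIdeal.ResidueField (q.asIdeal.ResidueField ⊗[A] L) =
        LieAlgebra.rank p.asIdeal.ResidueField (p.asIdeal.ResidueField ⊗[A] L) := by
  haveI : Module.Projective A (L ⧸ H.toSubmodule) := hH.1
  haveI := finite_of_projective_quotient H.toSubmodule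
  haveI := projective_of_projective_quotient H.toSubmodule
  haveI := Module.finitePresentation_of_projective A H.toSubmodule
  have hlc := Module.isLocallyConstant_rankAtStalk (R := A) (M := H.toSubmodule)
  have hopen : IsOpen {q : PrimeSpectrum A |
      Module.rankAtStalk (R := A) H.toSubmodule q = Module.rankAtStalk (R := A) H.toSubmodule p} :=
    hlc.isOpen_fiber _
  obtain ⟨U, ⟨f, rfl⟩, hpU, hU⟩ :=
    PrimeSpectrum.isTopologicalBasis_basic_opens.exists_subset_of_mem_open
      (show p ∈ {q : PrimeSpectrum A | Module.rankAtStalk (R := A) H.toSubmodule q =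
        Module.rankAtStalk (R := A) H.toSubmodule p} from rfl) hopen
  refine ⟨f, hpU, fun q hq => ?_⟩
  rw [rank_eq_rankAtStalk H hH q, rank_eq_rankAtStalk H hH p]
  exact hU (show q ∈ (PrimeSpectrum.basicOpen f : Set (PrimeSpectrum A)) from hq)

include hH in
/-- over an infinite residue field, the fibre of a relative Cartan subalgebra contains the image
of an element of `H` which is regular in the fibre. -/
theorem exists_mem_isRegular_fibre (p : PrimeSpectrum A) [Infinite p.asIdeal.ResidueField] :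
    ∃ a ∈ H, LieAlgebra.IsRegular p.asIdeal.ResidueField
      ((1 : p.asIdeal.ResidueField) ⊗ₜ[A] a) := by
  set K := p.asIdeal.ResidueField
  haveI : LieRing.IsNilpotent (K ⊗[A] H) := (hH.2 p).1
  have h1 := fibreSubalgebra_le_engel H K
  have h2 : ∀ x : K ⊗[A] L, (∀ y ∈ fibreSubalgebra H K, ⁅x, y⁆ ∈ fibreSubalgebra H K) →
      x ∈ fibreSubalgebra H K := (hH.2 p).2.1
  have h3 : finrank K (fibreSubalgebra H K) = LieAlgebra.rank K (K ⊗[A] L) := (hH.2 p).2.2
  obtain ⟨x₀, hx₀U, hx₀reg⟩ := exists_isRegular_mem (fibreSubalgebra H K) h1 h2 h3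
  obtain ⟨w, rfl⟩ := (mem_fibreSubalgebra_iff' H K x₀).mp hx₀U
  obtain ⟨t, htp, h, hth⟩ := exists_smul_eq_one_tmul H p.asIdeal w
  refine ⟨(h : L), h.2, ?_⟩
  have e1 : (1 : K) ⊗ₜ[A] (h : L) = inclK H K ((1 : K) ⊗ₜ[A] h) := rfl
  rw [e1, hth, ← algebraMap_smul K t w, map_smul, isRegular_smul _ _]
  · exact hx₀reg
  · rwa [Ne, Ideal.algebraMap_residueField_eq_zero]

end C0

end Groth.Agent.Lib.Helper28.CR
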