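import Groth.Agent.Lib.Helper28.CartanFibre

set_option autoImplicit false
set_option linter.unusedSectionVars false
set_option linter.style.haveILetI false

namespace Groth.Agent.Lib.Helper28.CR

open LinearMap Module
open scoped TensorProduct

section Summand

variable {A : Type*} [CommRing A] {L : Type*} [AddCommGroup L] [Module A L]
  (H : Submodule A L)

/-- a submodule with projective quotient admits a retraction. -/
theorem exists_retraction [Module.Projective A (L ⧸ H)] :
    ∃ ρ : L →ₗ[A] H, ρ ∘ₗ H.subtype = LinearMap.id := by
  obtain ⟨s, hs⟩ := Module.projective_lifting_property H.mkQ LinearMap.id H.mkQ_surjective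
  have hmem : ∀ x : L, x - s (H.mkQ x) ∈ H := by
    intro x
    rw [← Submodule.Quotient.mk_eq_zero, Submodule.Quotient.mk_sub]
    have := LinearMap.congr_fun hs (H.mkQ x)
    simp only [LinearMap.comp_apply, LinearMap.id_apply] at this
    rw [← Submodule.mkQ_apply, ← Submodule.mkQ_apply, this, sub_self]
  refine ⟨LinearMap.codRestrict H (LinearMap.id - s ∘ₗ H.mkQ) hmem, ?_⟩
  ext ⟨x, hx⟩
  simp only [LinearMap.comp_apply, Submodule.subtype_apply, LinearMap.codRestrict_apply,
    LinearMap.sub_apply, LinearMap.id_apply, Submodule.mkQ_apply]
  rw [(Submodule.Quotient.mk_eq_zero H).mpr hx, map_zero, sub_zero]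

theorem finite_of_projective_quotient [Module.Finite A L] [Module.Projective A (L ⧸ H)] :
    Module.Finite A H := by
  obtain ⟨ρ, hρ⟩ := exists_retraction H
  exact Module.Finite.of_surjective ρ (LinearMap.surjective_of_comp_eq_id _ _ hρ)

theorem projective_of_projective_quotient [Module.Projective A L]
    [Module.Projective A (L ⧸ H)] : Module.Projective A H := by
  obtain ⟨ρ, hρ⟩ := exists_retraction H
  exact Module.Projective.of_split H.subtype ρ hρ

theorem baseChange_subtype_injective [Module.Projective A (L ⧸ H)] (K : Type*) [CommRing K]
    [Algebra A K] : Function.Injective (H.subtype.baseChange K) := by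
  obtain ⟨ρ, hρ⟩ := exists_retraction H
  apply LinearMap.injective_of_comp_eq_id _ (ρ.baseChange K)
  rw [← LinearMap.baseChange_comp, hρ, LinearMap.baseChange_id]

theorem finrank_baseChange_eq [Module.Projective A (L ⧸ H)] (K : Type*) [Field K]
    [Algebra A K] : finrank K (H.baseChange K) = finrank K (K ⊗[A] H) := by
  have e : (K ⊗[A] H) ≃ₗ[K] (H.baseChange K) :=
    LinearEquiv.ofInjective (H.subtype.baseChange K) (baseChange_subtype_injective H K)
  exact e.finrank_eq.symm

theorem finrank_baseChange_residueField [Module.Finite A L] [Module.Projective A L]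
    [Module.Projective A (L ⧸ H)] (p : PrimeSpectrum A) :
    finrank p.asIdeal.ResidueField (H.baseChange p.asIdeal.ResidueField) =
      Module.rankAtStalk (R := A) H p := by
  haveI := finite_of_projective_quotient H
  haveI := projective_of_projective_quotient H
  rw [finrank_baseChange_eq, Module.rankAtStalk_eq]

end Summand

end Groth.Agent.Lib.Helper28.CR
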