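import Mathlib.RingTheory.MvPolynomial.Homogeneous
import Mathlib.RingTheory.IntegralClosure.IntegrallyClosed
import Mathlib.RingTheory.Localization.FractionRing
import Mathlib.Algebra.Ring.GeomSum
import Mathlib.Algebra.Polynomial.Degree.Operations
import Mathlib.Algebra.Polynomial.AlgebraMap

/-!
# Dehomogenization of a graded quotient of a polynomial ring (helper28)

`S = K[X_i]`, `J ⊆ S` an ideal, `x = X i₀`, and `ψ : S → D` a surjection of `K`-algebras with
`ψ x = 1`, `J ≤ ker ψ`, such that a homogeneous polynomial killed by `ψ` lies in `J`.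
Then `ker ψ = J + (x - 1)`; if `J` is prime `D` is a domain; if `S/J` is integrally closed, so is
`D`.  Also a fraction-free criterion for integral closedness.
-/

set_option autoImplicit false

namespace Groth.Agent.Lib.Helper28.Dehomog

open MvPolynomial

section IC

variable {R : Type*} [CommRing R] [IsDomain R]

/-- fraction-free consequence of integral closedness -/
theorem dvd_of_relation [IsIntegrallyClosed R] (a b : R) (hb : b ≠ 0) (n : ℕ) (c : Fin n → R)
    (h : a ^ n + ∑ i : Fin n, c i * b ^ (n - i.val) * a ^ i.val = 0) : b ∣ a := by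
  classical
  set L := FractionRing R
  have hbL : algebraMap R L b ≠ 0 := by
    rw [Ne, map_eq_zero_iff _ (IsFractionRing.injective R L)]
    exact hb
  set y : L := algebraMap R L a / algebraMap R L b with hy
  have hby : algebraMap R L b * y = algebraMap R L a := by
    rw [hy, mul_div_cancel₀ _ hbL]
  let q : Polynomial R := Polynomial.X ^ n +
    ∑ i : Fin n, Polynomial.C (c i) * Polynomial.X ^ (i : ℕ)
  have hq : q.Monic := Polynomial.monic_X_pow_add (Polynomial.degree_sum_fin_lt c)
  have hqy : Polynomial.aeval y q = 0 := by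
    have h1 : Polynomial.aeval y q = y ^ n + ∑ i : Fin n, algebraMap R L (c i) * y ^ i.val := by
      simp only [q, map_add, map_pow, Polynomial.aeval_X, map_sum, map_mul, Polynomial.aeval_C]
    have h2 : (algebraMap R L b) ^ n * Polynomial.aeval y q = 0 := by
      rw [h1, mul_add, ← mul_pow, hby, Finset.mul_sum]
      have h3 : ∀ i : Fin n, (algebraMap R L b) ^ n * (algebraMap R L (c i) * y ^ i.val) =
          algebraMap R L (c i * b ^ (n - i.val) * a ^ i.val) := by
        intro i
        have hi : (algebraMap R L b) ^ n =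
            (algebraMap R L b) ^ (n - i.val) * (algebraMap R L b) ^ i.val := by
          rw [← pow_add]
          congr 1
          have := i.isLt
          omega
        rw [map_mul, map_mul, map_pow, map_pow, ← hby, mul_pow, hi]
        ring
      rw [Finset.sum_congr rfl (fun i _ => h3 i), ← map_sum, ← map_pow, ← map_add, h, map_zero]
    exact (mul_eq_zero.1 h2).resolve_left (pow_ne_zero _ hbL)
  have hint : IsIntegral R y := ⟨q, hq, hqy⟩
  obtain ⟨g, hg⟩ := IsIntegrallyClosed.algebraMap_eq_of_integral hint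
  refine ⟨g, ?_⟩
  apply IsFractionRing.injective R L
  rw [map_mul, hg, hby]

/-- fraction-free criterion for integral closedness -/
theorem isIntegrallyClosed_of_relation
    (H : ∀ (a b : R), b ≠ 0 → ∀ (n : ℕ) (c : Fin n → R),
      a ^ n + ∑ i : Fin n, c i * b ^ (n - i.val) * a ^ i.val = 0 → b ∣ a) :
    IsIntegrallyClosed R := by
  classical
  set L := FractionRing R
  rw [isIntegrallyClosed_iff L]
  intro x hx
  obtain ⟨p, hp, hpx⟩ := hx
  obtain ⟨a, b, hb, rfl⟩ := IsFractionRing.div_surjective R x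
  have hb0 : b ≠ 0 := nonZeroDivisors.ne_zero hb
  have hbL : algebraMap R L b ≠ 0 := by
    rw [Ne, map_eq_zero_iff _ (IsFractionRing.injective R L)]
    exact hb0
  set y : L := algebraMap R L a / algebraMap R L b with hy
  have hby : algebraMap R L b * y = algebraMap R L a := by
    rw [hy, mul_div_cancel₀ _ hbL]
  set n := p.natDegree with hn
  have hrel : a ^ n + ∑ i : Fin n, p.coeff i.val * b ^ (n - i.val) * a ^ i.val = 0 := by
    apply IsFractionRing.injective R L
    rw [map_zero, map_add, map_pow, map_sum]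
    have h1 : Polynomial.eval₂ (algebraMap R L) y p =
        ∑ i ∈ Finset.range (n + 1), algebraMap R L (p.coeff i) * y ^ i :=
      Polynomial.eval₂_eq_sum_range (algebraMap R L) y
    rw [Finset.sum_range_succ, hn, Polynomial.Monic.coeff_natDegree hp, map_one, one_mul,
      ← hn] at h1
    have h2 : (algebraMap R L b) ^ n * Polynomial.eval₂ (algebraMap R L) y p = 0 := by
      rw [hpx, mul_zero]
    rw [h1, mul_add, ← mul_pow, hby, Finset.mul_sum, Finset.sum_range] at h2
    rw [add_comm] at h2
    rw [← h2]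
    congr 1
    apply Finset.sum_congr rfl
    intro i _
    have hi : (algebraMap R L b) ^ n =
        (algebraMap R L b) ^ (n - i.val) * (algebraMap R L b) ^ i.val := by
      rw [← pow_add]
      congr 1
      have := i.isLt
      omega
    rw [map_mul, map_mul, map_pow, map_pow, ← hby, mul_pow, hi]
    ring
  obtain ⟨g, hg⟩ := H a b hb0 n (fun i => p.coeff i.val) hrel
  refine ⟨g, ?_⟩
  rw [hy, hg, map_mul, mul_div_cancel_left₀ _ hbL]

end IC

section homog

variable {σ : Type*} {K : Type*} [CommRing K] (i₀ : σ)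

/-- homogenization to degree `N` with respect to the variable `X i₀` -/
noncomputable def homog (f : MvPolynomial σ K) (N : ℕ) : MvPolynomial σ K :=
  ∑ i ∈ Finset.range (N + 1), X i₀ ^ (N - i) * homogeneousComponent i f

lemma homog_isHomogeneous (f : MvPolynomial σ K) (N : ℕ) : (homog i₀ f N).IsHomogeneous N := by
  apply IsHomogeneous.sum
  intro i hi
  rw [Finset.mem_range] at hi
  have h := (isHomogeneous_X_pow (R := K) i₀ (N - i)).mul (homogeneousComponent_isHomogeneous i f)
  rwa [Nat.sub_add_cancel (by omega)] at h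

lemma sum_range_homogeneousComponent (f : MvPolynomial σ K) (N : ℕ) (hN : f.totalDegree ≤ N) :
    ∑ i ∈ Finset.range (N + 1), homogeneousComponent i f = f := by
  conv_rhs => rw [← sum_homogeneousComponent f]
  symm
  apply Finset.sum_subset
  · intro i hi
    rw [Finset.mem_range] at hi ⊢
    omega
  · intro i _ hi'
    rw [Finset.mem_range] at hi'
    exact homogeneousComponent_eq_zero i f (by omega)

lemma map_homog {D : Type*} [CommRing D] [Algebra K D] (ψ : MvPolynomial σ K →ₐ[K] D)
    (hx : ψ (X i₀) = 1) (f : MvPolynomial σ K) (N : ℕ) (hN : f.totalDegree ≤ N) :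
    ψ (homog i₀ f N) = ψ f := by
  unfold homog
  rw [map_sum]
  have h : ∀ i ∈ Finset.range (N + 1),
      ψ (X i₀ ^ (N - i) * homogeneousComponent i f) = ψ (homogeneousComponent i f) := by
    intro i _
    rw [map_mul, map_pow, hx, one_pow, one_mul]
  rw [Finset.sum_congr rfl h, ← map_sum, sum_range_homogeneousComponent f N hN]

lemma sub_homog_mem (f : MvPolynomial σ K) (N : ℕ) (hN : f.totalDegree ≤ N) :
    f - homog i₀ f N ∈ Ideal.span {(X i₀ - 1 : MvPolynomial σ K)} := by
  have h1 : f - homog i₀ f N =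
      ∑ i ∈ Finset.range (N + 1), (1 - X i₀ ^ (N - i)) * homogeneousComponent i f := by
    nth_rewrite 1 [← sum_range_homogeneousComponent f N hN]
    unfold homog
    rw [← Finset.sum_sub_distrib]
    apply Finset.sum_congr rfl
    intro i _
    ring
  rw [h1]
  apply Ideal.sum_mem
  intro i _
  apply Ideal.mul_mem_right
  rw [Ideal.mem_span_singleton]
  have := dvd_neg.2 (sub_one_dvd_pow_sub_one (X i₀ : MvPolynomial σ K) (N - i))
  rwa [neg_sub] at this

end homog

section ident

lemma scale_identity {R : Type*} [CommRing R] (x A B : R) (N k : ℕ) (C : Fin (k + 1) → R) :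
    (x ^ N * A) ^ (k + 1) + ∑ i : Fin (k + 1),
      (C i * x ^ (N * (k - i.val))) * B ^ (k + 1 - i.val) * (x ^ N * A) ^ i.val =
      x ^ (N * k) * (x ^ N * A ^ (k + 1) +
        ∑ i : Fin (k + 1), C i * B ^ (k + 1 - i.val) * A ^ i.val) := by
  rw [mul_add, Finset.mul_sum]
  congr 1
  · ring
  · apply Finset.sum_congr rfl
    intro i _
    have hi : N * k = N * (k - i.val) + N * i.val := by
      have := i.isLt
      rw [← Nat.mul_add]
      congr 1
      omega
    rw [hi]
    ring

end ident

section dehom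

variable {σ : Type*} {K : Type*} [CommRing K] (i₀ : σ) (J : Ideal (MvPolynomial σ K))
  {D : Type*} [CommRing D] [Algebra K D] (ψ : MvPolynomial σ K →ₐ[K] D)

/-- the data of a dehomogenization -/
structure IsDehom : Prop where
  surj : Function.Surjective ψ
  map_x : ψ (X i₀) = 1
  le_ker : ∀ f ∈ J, ψ f = 0
  key : ∀ (F : MvPolynomial σ K) (N : ℕ), F.IsHomogeneous N → ψ F = 0 → F ∈ J

variable {i₀ J ψ}

theorem IsDehom.ker_eq (h : IsDehom i₀ J ψ) :
    RingHom.ker ψ.toRingHom = J ⊔ Ideal.span {(X i₀ - 1 : MvPolynomial σ K)} := by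
  apply le_antisymm
  · intro f hf
    have hf' : ψ f = 0 := hf
    have h1 : homog i₀ f f.totalDegree ∈ J := by
      apply h.key _ _ (homog_isHomogeneous i₀ f _)
      rw [map_homog i₀ ψ h.map_x f _ le_rfl, hf']
    have h2 := sub_homog_mem i₀ f f.totalDegree le_rfl
    have : f = homog i₀ f f.totalDegree + (f - homog i₀ f f.totalDegree) := by ring
    rw [this]
    exact Ideal.add_mem _ (Ideal.mem_sup_left h1) (Ideal.mem_sup_right h2)
  · apply sup_le
    · intro f hf
      exact h.le_ker f hf
    · rw [Ideal.span_le, Set.singleton_subset_iff, SetLike.mem_coe, RingHom.mem_ker]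
      show ψ (X i₀ - 1) = 0
      rw [map_sub, h.map_x, map_one, sub_self]

theorem IsDehom.noZeroDivisors (h : IsDehom i₀ J ψ) [J.IsPrime] : NoZeroDivisors D := by
  constructor
  intro a b hab
  obtain ⟨f, rfl⟩ := h.surj a
  obtain ⟨g, rfl⟩ := h.surj b
  have hF := map_homog i₀ ψ h.map_x f _ le_rfl
  have hG := map_homog i₀ ψ h.map_x g _ le_rfl
  have h1 : homog i₀ f f.totalDegree * homog i₀ g g.totalDegree ∈ J := by
    apply h.key _ _ ((homog_isHomogeneous i₀ f _).mul (homog_isHomogeneous i₀ g _))
    rw [map_mul, hF, hG, hab]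
  rcases Ideal.IsPrime.mem_or_mem inferInstance h1 with h2 | h2
  · left
    rw [← hF]
    exact h.le_ker _ h2
  · right
    rw [← hG]
    exact h.le_ker _ h2

theorem IsDehom.isDomain (h : IsDehom i₀ J ψ) [J.IsPrime] [Nontrivial D] : IsDomain D := by
  have := h.noZeroDivisors
  exact NoZeroDivisors.to_isDomain D

theorem IsDehom.isIntegrallyClosed (h : IsDehom i₀ J ψ) [J.IsPrime] [IsDomain D]
    [IsIntegrallyClosed (MvPolynomial σ K ⧸ J)] : IsIntegrallyClosed D := by
  classical
  apply isIntegrallyClosed_of_relation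
  intro a b hb n c hrel
  rcases Nat.eq_zero_or_pos n with rfl | hn
  · exfalso
    rw [pow_zero, Finset.univ_eq_empty, Finset.sum_empty, add_zero] at hrel
    exact one_ne_zero hrel
  obtain ⟨k, rfl⟩ : ∃ k, n = k + 1 := ⟨n - 1, by omega⟩
  obtain ⟨A₀, rfl⟩ := h.surj a
  obtain ⟨B₀, rfl⟩ := h.surj b
  choose C₀ hC₀ using fun i => h.surj (c i)
  set N := A₀.totalDegree + B₀.totalDegree + ∑ i, (C₀ i).totalDegree with hN
  have hNA : A₀.totalDegree ≤ N := by omega
  have hNB : B₀.totalDegree ≤ N := by omega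
  have hNC : ∀ i, (C₀ i).totalDegree ≤ N := by
    intro i
    have := Finset.single_le_sum (f := fun i => (C₀ i).totalDegree) (fun _ _ => Nat.zero_le _)
      (Finset.mem_univ i)
    omega
  set A := homog i₀ A₀ N with hA
  set B := homog i₀ B₀ N with hB
  set C : Fin (k + 1) → MvPolynomial σ K := fun i => homog i₀ (C₀ i) N with hC
  have hψA : ψ A = ψ A₀ := map_homog i₀ ψ h.map_x A₀ N hNA
  have hψB : ψ B = ψ B₀ := map_homog i₀ ψ h.map_x B₀ N hNB
  have hψC : ∀ i, ψ (C i) = c i := fun i => by
    rw [← hC₀ i]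
    exact map_homog i₀ ψ h.map_x (C₀ i) N (hNC i)
  have hAh : A.IsHomogeneous N := homog_isHomogeneous i₀ A₀ N
  have hBh : B.IsHomogeneous N := homog_isHomogeneous i₀ B₀ N
  have hCh : ∀ i, (C i).IsHomogeneous N := fun i => homog_isHomogeneous i₀ (C₀ i) N
  set x : MvPolynomial σ K := X i₀ with hx
  set F : MvPolynomial σ K :=
    x ^ N * A ^ (k + 1) + ∑ i : Fin (k + 1), C i * B ^ (k + 1 - i.val) * A ^ i.val with hF
  have hFh : F.IsHomogeneous (N + N * (k + 1)) := by
    apply IsHomogeneous.add
    · exact (isHomogeneous_X_pow i₀ N).mul (hAh.pow (k + 1))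
    · apply IsHomogeneous.sum
      intro i _
      have h1 := ((hCh i).mul (hBh.pow (k + 1 - i.val))).mul (hAh.pow i.val)
      have h2 : N + N * (k + 1 - i.val) + N * i.val = N + N * (k + 1) := by
        have := i.isLt
        rw [add_assoc, ← Nat.mul_add]
        congr 2
        omega
      rwa [h2] at h1
  have hψF : ψ F = 0 := by
    rw [hF, map_add, map_mul, map_pow, map_pow, h.map_x, one_pow, one_mul, map_sum, hψA,
      ← hrel]
    congr 1
    apply Finset.sum_congr rfl
    intro i _
    rw [map_mul, map_mul, map_pow, map_pow, hψC, hψA, hψB]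
  have hFJ : F ∈ J := h.key F _ hFh hψF
  have hid : (x ^ N * A) ^ (k + 1) + ∑ i : Fin (k + 1),
      (C i * x ^ (N * (k - i.val))) * B ^ (k + 1 - i.val) * (x ^ N * A) ^ i.val =
      x ^ (N * k) * F := scale_identity x A B N k C
  set mk := Ideal.Quotient.mk J with hmk
  have hrelR : (mk (x ^ N * A)) ^ (k + 1) + ∑ i : Fin (k + 1),
      mk (C i * x ^ (N * (k - i.val))) * (mk B) ^ (k + 1 - i.val) * (mk (x ^ N * A)) ^ i.val
      = 0 := by
    have h1 : (mk (x ^ N * A)) ^ (k + 1) + ∑ i : Fin (k + 1),
        mk (C i * x ^ (N * (k - i.val))) * (mk B) ^ (k + 1 - i.val) * (mk (x ^ N * A)) ^ i.val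
        = mk ((x ^ N * A) ^ (k + 1) + ∑ i : Fin (k + 1),
          (C i * x ^ (N * (k - i.val))) * B ^ (k + 1 - i.val) * (x ^ N * A) ^ i.val) := by
      simp only [map_add, map_pow, map_sum, map_mul]
    rw [h1, hid, Ideal.Quotient.eq_zero_iff_mem]
    exact Ideal.mul_mem_left _ _ hFJ
  have hBne : mk B ≠ 0 := by
    rw [Ne, Ideal.Quotient.eq_zero_iff_mem]
    intro hBJ
    apply hb
    rw [← hψB]
    exact h.le_ker _ hBJ
  obtain ⟨G', hG'⟩ := dvd_of_relation (mk (x ^ N * A)) (mk B) hBne (k + 1) _ hrelR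
  obtain ⟨G, rfl⟩ := Ideal.Quotient.mk_surjective G'
  have h3 : ψ (x ^ N * A - B * G) = 0 := by
    apply h.le_ker
    have h4 : mk (x ^ N * A) = mk (B * G) := by
      rw [map_mul mk B G]
      exact hG'
    exact Ideal.Quotient.eq.1 h4
  rw [map_sub, map_mul, map_pow, h.map_x, one_pow, one_mul, map_mul, hψA, hψB, sub_eq_zero] at h3
  exact ⟨ψ G, h3⟩

end dehom

end Groth.Agent.Lib.Helper28.Dehomog
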