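import Mathlib.LinearAlgebra.Matrix.Determinant.Basic
import Groth.Prelude.Def_CAlgX
import Groth.Prelude.Def_W4bk4grassmannianPl

set_option autoImplicit false

universe u

namespace Groth.Agent.Lib.Helper28.DetCell

open Matrix

section general

variable {R : Type*} [CommRing R]

/-- reindexing rows and columns by two equivalences changes the determinant by a sign -/
lemma det_submatrix_equiv_equiv {ι ι' : Type*} [Fintype ι] [DecidableEq ι] [Fintype ι']
    [DecidableEq ι'] (σ τ : ι ≃ ι') (N : Matrix ι' ι' R) :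
    ∃ u : R, u * u = 1 ∧ (N.submatrix σ τ).det = u * N.det := by
  refine ⟨((Equiv.Perm.sign (τ.symm.trans σ) : ℤˣ) : ℤ), ?_, ?_⟩
  · rw [← Int.cast_mul, ← Units.val_mul, Int.units_mul_self, Units.val_one, Int.cast_one]
  · have : N.submatrix σ τ = (N.submatrix (τ.symm.trans σ) id).submatrix τ τ := by
      ext i j
      simp
    rw [this, det_submatrix_equiv_self, det_permute]

/-- determinant of a matrix some of whose rows are unit vectors -/
theorem det_unit_rows {n : Type*} [Fintype n] [DecidableEq n] (M : Matrix n n R)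
    (P : n → Prop) [DecidablePred P] (c : {i // P i} → n) (hc : Function.Injective c)
    (hM : ∀ (i : {i // P i}) (j : n), M i.1 j = if j = c i then 1 else 0)
    (eQ : {i // ¬ P i} ≃ {j // j ∉ Set.range c}) :
    ∃ u : R, u * u = 1 ∧
      M.det = u * (Matrix.of fun q q' : {i // ¬ P i} => M q.1 (eQ q').1).det := by
  classical
  let er : {i // P i} ⊕ {i // ¬ P i} ≃ n := Equiv.sumCompl P
  let ec : {i // P i} ⊕ {i // ¬ P i} ≃ n :=
    (Equiv.sumCongr (Equiv.ofInjective c hc) eQ).trans (Equiv.sumCompl (· ∈ Set.range c))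
  obtain ⟨u, hu, hdet⟩ := det_submatrix_equiv_equiv er ec M
  have hblock : M.submatrix er ec = Matrix.fromBlocks (1 : Matrix {i // P i} {i // P i} R) 0
      (Matrix.of fun (q : {i // ¬ P i}) (i' : {i // P i}) => M q.1 (c i'))
      (Matrix.of fun q q' : {i // ¬ P i} => M q.1 (eQ q').1) := by
    ext a b
    rcases a with i | q <;> rcases b with i' | q'
    · simp only [submatrix_apply, fromBlocks_apply₁₁]
      have h1 : er (Sum.inl i) = i.1 := rfl
      have h2 : ec (Sum.inl i') = c i' := rfl
      rw [h1, h2, hM, Matrix.one_apply]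
      by_cases h : i = i'
      · rw [if_pos h, if_pos (by rw [h])]
      · rw [if_neg h, if_neg (fun h' => h (hc h').symm)]
    · simp only [submatrix_apply, fromBlocks_apply₁₂, Matrix.zero_apply]
      have h1 : er (Sum.inl i) = i.1 := rfl
      have h2 : ec (Sum.inr q') = (eQ q').1 := rfl
      rw [h1, h2, hM, if_neg]
      intro h
      exact (eQ q').2 ⟨i, h.symm⟩
    · rfl
    · rfl
  rw [hblock, det_fromBlocks_zero₁₂, det_one, one_mul] at hdet
  refine ⟨u, hu, ?_⟩
  rw [hdet, ← mul_assoc, hu, one_mul]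

/-- existence of the auxiliary equivalence -/
lemma nonempty_equiv_compl {n : Type*} [Fintype n] [DecidableEq n]
    (P : n → Prop) [DecidablePred P] (c : {i // P i} → n) (hc : Function.Injective c) :
    Nonempty ({i // ¬ P i} ≃ {j // j ∉ Set.range c}) := by
  classical
  apply Fintype.card_eq.1
  have h1 : Fintype.card {i // P i} + Fintype.card {i // ¬ P i} = Fintype.card n := by
    rw [← Fintype.card_sum]
    exact Fintype.card_congr (Equiv.sumCompl P)
  have h2 : Fintype.card {j // j ∈ Set.range c} + Fintype.card {j // j ∉ Set.range c} =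
      Fintype.card n := by
    rw [← Fintype.card_sum]
    exact Fintype.card_congr (Equiv.sumCompl (· ∈ Set.range c))
  have h3 : Fintype.card {i // P i} = Fintype.card {j // j ∈ Set.range c} :=
    Fintype.card_congr (Equiv.ofInjective c hc)
  omega

section minorIdeal

variable {m n : Type} [Fintype m] [Fintype n] (Z : Matrix m n R)

lemma det_submatrix_mem_minorIdeal (s : ℕ) (f : Fin s → m) (g : Fin s → n) :
    (Z.submatrix f g).det ∈ CAlgX.minorIdeal Z s :=
  Ideal.subset_span ⟨(f, g), rfl⟩

lemma minorIdeal_succ_le (s : ℕ) : CAlgX.minorIdeal Z (s + 1) ≤ CAlgX.minorIdeal Z s := by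
  unfold CAlgX.minorIdeal
  rw [Ideal.span_le]
  rintro _ ⟨⟨f, g⟩, rfl⟩
  rw [SetLike.mem_coe]
  show (Z.submatrix f g).det ∈ _
  rw [det_succ_row_zero]
  apply Ideal.sum_mem
  intro j _
  apply Ideal.mul_mem_left
  have : (Z.submatrix f g).submatrix Fin.succ j.succAbove =
      Z.submatrix (f ∘ Fin.succ) (g ∘ j.succAbove) := rfl
  rw [this]
  exact Ideal.subset_span ⟨(f ∘ Fin.succ, g ∘ j.succAbove), rfl⟩

lemma minorIdeal_anti {s t : ℕ} (h : t ≤ s) : CAlgX.minorIdeal Z s ≤ CAlgX.minorIdeal Z t := by
  induction s, h using Nat.le_induction with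
  | base => exact le_rfl
  | succ s _ ih => exact (minorIdeal_succ_le Z s).trans ih

lemma det_submatrix_mem_minorIdeal' {ι : Type*} [Fintype ι] [DecidableEq ι] (t : ℕ)
    (ht : t ≤ Fintype.card ι) (f : ι → m) (g : ι → n) :
    (Z.submatrix f g).det ∈ CAlgX.minorIdeal Z t := by
  apply minorIdeal_anti Z ht
  let e := Fintype.equivFin ι
  have : (Z.submatrix f g).det = (Z.submatrix (f ∘ e.symm) (g ∘ e.symm)).det := by
    have h : Z.submatrix (f ∘ e.symm) (g ∘ e.symm) = (Z.submatrix f g).submatrix e.symm e.symm := rfl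
    rw [h, det_submatrix_equiv_self]
  rw [this]
  exact det_submatrix_mem_minorIdeal Z _ _ _

end minorIdeal

end general

section cell

open W4bk4grassmannian MvPolynomial

variable (K : Type u) [CommRing K] (d r : ℕ)

/-- the rows of `θ` lying in the `Z`-block -/
abbrev QRows (θ : Idx d (d + r)) : Type := {i : Fin d // ¬ (θ.1 i).val < d}

/-- the row of `Z` selected by a `Z`-row of `θ` -/
def rowQ (θ : Idx d (d + r)) (q : QRows d r θ) : Fin r :=
  ⟨(θ.1 q.1).val - d, by have := (θ.1 q.1).isLt; have := q.2; omega⟩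

lemma rowQ_injective (θ : Idx d (d + r)) : Function.Injective (rowQ d r θ) := by
  intro q q' h
  have h1 : (θ.1 q.1).val - d = (θ.1 q'.1).val - d := congrArg Fin.val h
  have h2 := q.2
  have h3 := q'.2
  apply Subtype.ext
  apply θ.2.injective
  apply Fin.ext
  omega

theorem cellMinor_eq (θ : Idx d (d + r)) :
    ∃ (u : CellRing K d r) (colQ : QRows d r θ → Fin d), u * u = 1 ∧
      Function.Injective colQ ∧ Set.range colQ = {j | ∀ i, (θ.1 i).val ≠ j.val} ∧
      cellMinor K d r θ = u * ((genMatrix K r d).submatrix (rowQ d r θ) colQ).det := by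
  classical
  set M : Matrix (Fin d) (Fin d) (CellRing K d r) := (cellMatrix K d r).submatrix θ.1 id with hMdef
  let P : Fin d → Prop := fun i => (θ.1 i).val < d
  let c : {i // P i} → Fin d := fun i => ⟨(θ.1 i.1).val, i.2⟩
  have hc : Function.Injective c := by
    intro i i' h
    apply Subtype.ext
    apply θ.2.injective
    apply Fin.ext
    have h' : (c i).val = (c i').val := congrArg Fin.val h
    exact h'
  have hM : ∀ (i : {i // P i}) (j : Fin d), M i.1 j = if j = c i then 1 else 0 := by
    intro i j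
    rw [hMdef, submatrix_apply]
    unfold cellMatrix
    rw [Matrix.of_apply, dif_pos i.2]
    by_cases h : j = c i
    · rw [if_pos h, if_pos]
      rw [h]
      rfl
    · rw [if_neg h, if_neg]
      intro h'
      apply h
      apply Fin.ext
      exact h'.symm
  obtain ⟨eQ⟩ := nonempty_equiv_compl P c hc
  obtain ⟨u, hu, hdet⟩ := det_unit_rows M P c hc hM eQ
  refine ⟨u, fun q => (eQ q).1, hu, ?_, ?_, ?_⟩
  · intro q q' h
    exact eQ.injective (Subtype.ext h)
  · ext j
    rw [Set.mem_range, Set.mem_ofPred_eq]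
    constructor
    · rintro ⟨q, rfl⟩ i hi
      apply (eQ q).2
      have hPi : P i := by
        show (θ.1 i).val < d
        rw [hi]
        exact (eQ q).1.isLt
      exact ⟨⟨i, hPi⟩, Fin.ext hi⟩
    · intro hj
      have hj' : j ∉ Set.range c := by
        rintro ⟨i, rfl⟩
        exact hj i.1 rfl
      refine ⟨eQ.symm ⟨j, hj'⟩, ?_⟩
      rw [Equiv.apply_symm_apply]
  · have h1 : cellMinor K d r θ = M.det := rfl
    rw [h1, hdet]
    congr 2
    ext q q'
    rw [Matrix.of_apply, submatrix_apply, hMdef, submatrix_apply]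
    unfold cellMatrix genMatrix
    rw [Matrix.of_apply, Matrix.of_apply, dif_neg q.2]
    rfl

/-- two injective maps with the same range differ by an equivalence -/
lemma exists_equiv_of_range_eq {α β γ : Type*} (f : α → γ) (f' : β → γ)
    (hf : Function.Injective f) (hf' : Function.Injective f') (h : Set.range f = Set.range f') :
    ∃ σ : α ≃ β, ∀ a, f' (σ a) = f a := by
  refine ⟨(Equiv.ofInjective f hf).trans ((Equiv.setCongr h).trans (Equiv.ofInjective f' hf').symm),
    fun a => ?_⟩
  simp only [Equiv.trans_apply]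
  rw [Equiv.apply_ofInjective_symm hf']
  rfl

variable {d r}

/-- the row set of the cell minor attached to the minor of `Z` on rows `f` and columns `g` -/
def thetaSet {t : ℕ} (f : Fin t → Fin r) (g : Fin t → Fin d) : Finset (Fin (d + r)) :=
  ((Finset.univ.image g)ᶜ).map (Fin.castAddEmb r) ∪ (Finset.univ.image f).map (Fin.natAddEmb d)

lemma mem_thetaSet_castAdd {t : ℕ} (f : Fin t → Fin r) (g : Fin t → Fin d) (j : Fin d) :
    Fin.castAdd r j ∈ thetaSet f g ↔ j ∉ Set.range g := by
  unfold thetaSet
  rw [Finset.mem_union, Finset.mem_map, Finset.mem_map]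
  constructor
  · rintro (⟨a, ha, hj⟩ | ⟨b, _, hj⟩)
    · rw [Fin.castAddEmb_apply] at hj
      have : a = j := Fin.castAdd_injective _ _ hj
      rw [← this]
      rw [Finset.mem_compl, Finset.mem_image] at ha
      rintro ⟨x, hx⟩
      exact ha ⟨x, Finset.mem_univ _, hx⟩
    · exfalso
      have h1 : (Fin.natAddEmb d b).val = (Fin.castAdd r j).val := congrArg Fin.val hj
      have h2 : (Fin.natAddEmb d b).val = d + b.val := rfl
      rw [h2, Fin.val_castAdd] at h1
      have := j.isLt
      omega
  · intro hj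
    left
    refine ⟨j, ?_, rfl⟩
    rw [Finset.mem_compl, Finset.mem_image]
    rintro ⟨x, _, hx⟩
    exact hj ⟨x, hx⟩

lemma mem_thetaSet_natAdd {t : ℕ} (f : Fin t → Fin r) (g : Fin t → Fin d) (y : Fin r) :
    Fin.natAdd d y ∈ thetaSet f g ↔ y ∈ Set.range f := by
  unfold thetaSet
  rw [Finset.mem_union, Finset.mem_map, Finset.mem_map]
  constructor
  · rintro (⟨a, _, hj⟩ | ⟨b, hb, hj⟩)
    · exfalso
      have h1 : (Fin.castAddEmb r a).val = (Fin.natAdd d y).val := congrArg Fin.val hj
      rw [Fin.castAddEmb_apply, Fin.val_castAdd, Fin.val_natAdd] at h1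
      have := a.isLt
      omega
    · have h1 : (Fin.natAddEmb d b).val = (Fin.natAdd d y).val := congrArg Fin.val hj
      have h2 : (Fin.natAddEmb d b).val = d + b.val := rfl
      rw [h2, Fin.val_natAdd] at h1
      have : b = y := Fin.ext (by omega)
      rw [← this]
      rw [Finset.mem_image] at hb
      obtain ⟨x, _, hx⟩ := hb
      exact ⟨x, hx⟩
  · rintro ⟨x, hx⟩
    right
    refine ⟨y, ?_, rfl⟩
    rw [Finset.mem_image]
    exact ⟨x, Finset.mem_univ _, hx⟩

lemma card_thetaSet {t : ℕ} (htd : t ≤ d) (f : Fin t → Fin r) (g : Fin t → Fin d)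
    (hf : Function.Injective f) (hg : Function.Injective g) : (thetaSet f g).card = d := by
  unfold thetaSet
  rw [Finset.card_union_of_disjoint, Finset.card_map, Finset.card_map, Finset.card_compl,
    Finset.card_image_of_injective _ hg, Finset.card_image_of_injective _ hf, Finset.card_univ,
    Fintype.card_fin, Fintype.card_fin]
  · omega
  · rw [Finset.disjoint_left]
    intro x hx hx'
    rw [Finset.mem_map] at hx hx'
    obtain ⟨a, _, rfl⟩ := hx
    obtain ⟨b, _, hb⟩ := hx'
    have h1 : (Fin.natAddEmb d b).val = (Fin.castAddEmb r a).val := congrArg Fin.val hb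
    have h2 : (Fin.natAddEmb d b).val = d + b.val := rfl
    rw [h2, Fin.castAddEmb_apply, Fin.val_castAdd] at h1
    have := a.isLt
    omega

/-- the index `θ` attached to a minor of `Z` -/
def thetaOf {t : ℕ} (htd : t ≤ d) (f : Fin t → Fin r) (g : Fin t → Fin d)
    (hf : Function.Injective f) (hg : Function.Injective g) : Idx d (d + r) :=
  ⟨fun i => (thetaSet f g).orderEmbOfFin (card_thetaSet htd f g hf hg) i,
    ((thetaSet f g).orderEmbOfFin (card_thetaSet htd f g hf hg)).strictMono⟩

lemma range_thetaOf {t : ℕ} (htd : t ≤ d) (f : Fin t → Fin r) (g : Fin t → Fin d)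
    (hf : Function.Injective f) (hg : Function.Injective g) :
    Set.range (thetaOf htd f g hf hg).1 = ↑(thetaSet f g) :=
  Finset.range_orderEmbOfFin _ _

lemma range_rowQ_thetaOf {t : ℕ} (htd : t ≤ d) (f : Fin t → Fin r) (g : Fin t → Fin d)
    (hf : Function.Injective f) (hg : Function.Injective g) :
    Set.range (rowQ d r (thetaOf htd f g hf hg)) = Set.range f := by
  set θ := thetaOf htd f g hf hg with hθ
  have hrange := range_thetaOf htd f g hf hg
  ext y
  constructor
  · rintro ⟨q, rfl⟩
    rw [← mem_thetaSet_natAdd f g, ← Finset.mem_coe, ← hrange]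
    refine ⟨q.1, ?_⟩
    apply Fin.ext
    rw [Fin.val_natAdd]
    have := q.2
    show (θ.1 q.1).val = d + ((θ.1 q.1).val - d)
    omega
  · intro hy
    rw [← mem_thetaSet_natAdd f g, ← Finset.mem_coe, ← hrange] at hy
    obtain ⟨i, hi⟩ := hy
    have hi' : (θ.1 i).val = d + y.val := by
      rw [← hθ] at hi
      rw [hi, Fin.val_natAdd]
    have hq : ¬ (θ.1 i).val < d := by omega
    refine ⟨⟨i, hq⟩, ?_⟩
    apply Fin.ext
    show (θ.1 i).val - d = y.val
    omega

lemma forall_ne_iff_mem_range {t : ℕ} (htd : t ≤ d) (f : Fin t → Fin r) (g : Fin t → Fin d)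
    (hf : Function.Injective f) (hg : Function.Injective g) (j : Fin d) :
    (∀ i, ((thetaOf htd f g hf hg).1 i).val ≠ j.val) ↔ j ∈ Set.range g := by
  set θ := thetaOf htd f g hf hg with hθ
  have hrange := range_thetaOf htd f g hf hg
  have h1 := mem_thetaSet_castAdd f g j
  rw [← Finset.mem_coe, ← hrange] at h1
  constructor
  · intro h
    by_contra hj
    obtain ⟨i, hi⟩ := h1.2 hj
    apply h i
    rw [← hθ] at hi
    rw [hi, Fin.val_castAdd]
  · intro hj i hi
    apply (not_iff_not.2 h1).2 (not_not.2 hj)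
    refine ⟨i, ?_⟩
    apply Fin.ext
    rw [Fin.val_castAdd]
    exact hi

theorem exists_cellMinor_eq {t : ℕ} (htd : t ≤ d) (f : Fin t → Fin r) (g : Fin t → Fin d)
    (hf : Function.Injective f) (hg : Function.Injective g) :
    ∃ (u : CellRing K d r), u * u = 1 ∧ Nonempty (Fin t ≃ QRows d r (thetaOf htd f g hf hg)) ∧
      ((genMatrix K r d).submatrix f g).det = u * cellMinor K d r (thetaOf htd f g hf hg) := by
  classical
  set θ := thetaOf htd f g hf hg with hθ
  obtain ⟨u, colQ, hu, hcinj, hcrange, hdet⟩ := cellMinor_eq K d r θ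
  have hr1 : Set.range f = Set.range (rowQ d r θ) := (range_rowQ_thetaOf htd f g hf hg).symm
  have hr2 : Set.range g = Set.range colQ := by
    rw [hcrange]
    ext j
    rw [Set.mem_ofPred_eq]
    exact (forall_ne_iff_mem_range htd f g hf hg j).symm
  obtain ⟨σ, hσ⟩ := exists_equiv_of_range_eq f (rowQ d r θ) hf (rowQ_injective d r θ) hr1
  obtain ⟨τ, hτ⟩ := exists_equiv_of_range_eq g colQ hg hcinj hr2
  have hsub : (genMatrix K r d).submatrix f g =
      ((genMatrix K r d).submatrix (rowQ d r θ) colQ).submatrix σ τ := by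
    ext a b
    rw [submatrix_apply, submatrix_apply, submatrix_apply, hσ, hτ]
  obtain ⟨u', hu', hdet'⟩ := det_submatrix_equiv_equiv σ τ
    ((genMatrix K r d).submatrix (rowQ d r θ) colQ)
  refine ⟨u' * u, ?_, ⟨σ⟩, ?_⟩
  · calc u' * u * (u' * u) = (u' * u') * (u * u) := by ring
      _ = 1 := by rw [hu, hu', one_mul]
  · rw [hsub, hdet', hdet]
    calc u' * ((genMatrix K r d).submatrix (rowQ d r θ) colQ).det
        = u' * ((u * u) * ((genMatrix K r d).submatrix (rowQ d r θ) colQ).det) := by
          rw [hu, one_mul]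
      _ = u' * u * (u * ((genMatrix K r d).submatrix (rowQ d r θ) colQ).det) := by ring

variable {K}

theorem thetaOf_ge {t : ℕ} (hd : 0 < d) (ht : 0 < t) (htd : t ≤ d) (f : Fin t → Fin r)
    (g : Fin t → Fin d) (hf : Function.Injective f) (hg : Function.Injective g) :
    d ≤ ((thetaOf htd f g hf hg).1 ⟨d - t, Nat.sub_lt hd ht⟩).val := by
  classical
  set θ := thetaOf htd f g hf hg with hθ
  by_contra hlt
  rw [not_le] at hlt
  obtain ⟨_, _, ⟨σ⟩, _⟩ := exists_cellMinor_eq (K := ℤ) htd f g hf hg
  have hQ : Fintype.card (QRows d r θ) = t := by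
    rw [← Fintype.card_congr σ, Fintype.card_fin]
  have hPQ : Fintype.card {i : Fin d // (θ.1 i).val < d} + Fintype.card (QRows d r θ) = d := by
    rw [← Fintype.card_sum]
    have := Fintype.card_congr (Equiv.sumCompl (fun i : Fin d => (θ.1 i).val < d))
    rw [this, Fintype.card_fin]
  have hle : ∀ j : Fin (d - t + 1), (θ.1 ⟨j.val, by have := j.isLt; omega⟩).val < d := by
    intro j
    have h1 : θ.1 ⟨j.val, by have := j.isLt; omega⟩ ≤ θ.1 ⟨d - t, Nat.sub_lt hd ht⟩ := by
      apply θ.2.monotone
      rw [Fin.le_def]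
      have := j.isLt
      show j.val ≤ d - t
      omega
    exact lt_of_le_of_lt (Fin.le_def.1 h1) hlt
  let φ : Fin (d - t + 1) → {i : Fin d // (θ.1 i).val < d} :=
    fun j => ⟨⟨j.val, by have := j.isLt; omega⟩, hle j⟩
  have hφ : Function.Injective φ := by
    intro j j' h
    have h1 : (φ j).1.val = (φ j').1.val := by rw [h]
    exact Fin.ext h1
  have := Fintype.card_le_of_injective φ hφ
  rw [Fintype.card_fin] at this
  omega

lemma le_card_QRows {t : ℕ} (hd : 0 < d) (ht : 0 < t) (htd : t ≤ d) (θ : Idx d (d + r))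
    (hθ : d ≤ (θ.1 ⟨d - t, Nat.sub_lt hd ht⟩).val) : t ≤ Fintype.card (QRows d r θ) := by
  classical
  have hge : ∀ j : Fin t, ¬ (θ.1 ⟨d - t + j.val, by have := j.isLt; omega⟩).val < d := by
    intro j
    have h1 : θ.1 ⟨d - t, Nat.sub_lt hd ht⟩ ≤ θ.1 ⟨d - t + j.val, by have := j.isLt; omega⟩ := by
      apply θ.2.monotone
      rw [Fin.le_def]
      show d - t ≤ d - t + j.val
      omega
    have h2 := Fin.le_def.1 h1
    omega
  let φ : Fin t → QRows d r θ := fun j => ⟨⟨d - t + j.val, by have := j.isLt; omega⟩, hge j⟩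
  have hφ : Function.Injective φ := by
    intro j j' h
    have h1 : (φ j).1.val = (φ j').1.val := by rw [h]
    have h2 : d - t + j.val = d - t + j'.val := h1
    exact Fin.ext (by omega)
  have := Fintype.card_le_of_injective φ hφ
  rwa [Fintype.card_fin] at this

variable (K) in
/-- **cell minors generate the determinantal ideal** -/
theorem span_cellMinor_eq_minorIdeal (d r t : ℕ) (hd : 0 < d)
    (ht : 0 < t) (htd : t ≤ d) :
    Ideal.span {f : CellRing K d r | ∃ θ : Idx d (d + r),
        d ≤ (θ.1 ⟨d - t, Nat.sub_lt hd ht⟩).val ∧ f = cellMinor K d r θ} =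
      CAlgX.minorIdeal (genMatrix K r d) t := by
  classical
  apply le_antisymm
  · rw [Ideal.span_le]
    rintro _ ⟨θ, hθ, rfl⟩
    obtain ⟨u, colQ, hu, hcinj, hcrange, hdet⟩ := cellMinor_eq K d r θ
    rw [SetLike.mem_coe, hdet]
    apply Ideal.mul_mem_left
    exact det_submatrix_mem_minorIdeal' _ t (le_card_QRows hd ht htd θ hθ) _ _
  · unfold CAlgX.minorIdeal
    rw [Ideal.span_le]
    rintro _ ⟨⟨f, g⟩, rfl⟩
    rw [SetLike.mem_coe]
    show ((genMatrix K r d).submatrix f g).det ∈ _
    by_cases hf : Function.Injective f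
    · by_cases hg : Function.Injective g
      · obtain ⟨u, hu, _, hdet⟩ := exists_cellMinor_eq (K := K) htd f g hf hg
        rw [hdet]
        apply Ideal.mul_mem_left
        apply Ideal.subset_span
        exact ⟨thetaOf htd f g hf hg, thetaOf_ge hd ht htd f g hf hg, rfl⟩
      · rw [Function.Injective] at hg
        push Not at hg
        obtain ⟨a, b, hab, hne⟩ := hg
        rw [det_zero_of_column_eq hne (fun k => by rw [submatrix_apply, submatrix_apply, hab])]
        exact Ideal.zero_mem _
    · rw [Function.Injective] at hf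
      push Not at hf
      obtain ⟨a, b, hab, hne⟩ := hf
      rw [det_zero_of_row_eq hne (funext fun k => by rw [submatrix_apply, submatrix_apply, hab])]
      exact Ideal.zero_mem _

end cell

end Groth.Agent.Lib.Helper28.DetCell
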