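import Mathlib.GroupTheory.SpecificGroups.Dihedral
import Mathlib.GroupTheory.OrderOfElement
import Mathlib.Data.ZMod.Basic

/-!
A group generated by two involutions `a`, `b` with `a` not a power of `a * b` is dihedral of order
`2 * orderOf (a * b)`.
-/

set_option autoImplicit false

namespace Groth.Agent.Lib.Helper28

open DihedralGroup

variable {G : Type*} [Group G]

/-- `r ^ (cast i)` for `i : ZMod n`, when `r ^ n = 1`. -/
noncomputable def zmodPow (n : ℕ) (r : G) (i : ZMod n) : G := r ^ (ZMod.cast i : ℤ)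

lemma zmodPow_intCast {n : ℕ} {r : G} (hr : r ^ n = 1) (m : ℤ) :
    zmodPow n r (m : ZMod n) = r ^ m := by
  unfold zmodPow
  rw [zpow_eq_zpow_iff_modEq]
  have h1 : ((ZMod.cast (m : ZMod n) : ℤ) : ZMod n) = (m : ZMod n) := ZMod.intCast_zmod_cast _
  have h2 := (ZMod.intCast_eq_intCast_iff _ _ n).mp h1
  have hdvd : orderOf r ∣ n := orderOf_dvd_of_pow_eq_one hr
  exact h2.of_dvd (Int.natCast_dvd_natCast.mpr hdvd)

lemma zmodPow_add {n : ℕ} {r : G} (hr : r ^ n = 1) (i j : ZMod n) :
    zmodPow n r (i + j) = zmodPow n r i * zmodPow n r j := by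
  obtain ⟨a, rfl⟩ := ZMod.intCast_surjective i
  obtain ⟨b, rfl⟩ := ZMod.intCast_surjective j
  rw [← Int.cast_add, zmodPow_intCast hr, zmodPow_intCast hr, zmodPow_intCast hr, zpow_add]

lemma zmodPow_sub {n : ℕ} {r : G} (hr : r ^ n = 1) (i j : ZMod n) :
    zmodPow n r (j - i) = (zmodPow n r i)⁻¹ * zmodPow n r j := by
  obtain ⟨a, rfl⟩ := ZMod.intCast_surjective i
  obtain ⟨b, rfl⟩ := ZMod.intCast_surjective j
  rw [← Int.cast_sub, zmodPow_intCast hr, zmodPow_intCast hr, zmodPow_intCast hr, sub_eq_neg_add,
    zpow_add, zpow_neg]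

lemma conj_zmodPow {n : ℕ} {a r : G} (ha : a * a = 1) (har : a * r * a = r⁻¹) (i : ZMod n) :
    a * zmodPow n r i * a = (zmodPow n r i)⁻¹ := by
  have hainv : a⁻¹ = a := inv_eq_of_mul_eq_one_right ha
  unfold zmodPow
  have := conj_zpow (i := (ZMod.cast i : ℤ)) (a := a) (b := r)
  rw [hainv, har] at this
  rw [← this, inv_zpow]

/-- The homomorphism from the dihedral group attached to two involutions. -/
noncomputable def dihedralHom {a b : G} (ha : a * a = 1) (hb : b * b = 1) {n : ℕ}
    (hn : (a * b) ^ n = 1) : DihedralGroup n →* G :=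
  MonoidHom.mk' (fun x => match x with
    | r i => zmodPow n (a * b) i
    | sr i => a * zmodPow n (a * b) i) (by
    have hainv : a⁻¹ = a := inv_eq_of_mul_eq_one_right ha
    have hbinv : b⁻¹ = b := inv_eq_of_mul_eq_one_right hb
    have har : a * (a * b) * a = (a * b)⁻¹ := by
      rw [mul_inv_rev, hainv, hbinv, ← mul_assoc, ha, one_mul]
    have hc := fun i : ZMod n => conj_zmodPow (n := n) ha har i
    have hc' : ∀ i : ZMod n, zmodPow n (a * b) i * a = a * (zmodPow n (a * b) i)⁻¹ := by
      intro i
      have := hc i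
      calc zmodPow n (a * b) i * a = a * a * zmodPow n (a * b) i * a := by rw [ha, one_mul]
        _ = a * (a * zmodPow n (a * b) i * a) := by group
        _ = a * (zmodPow n (a * b) i)⁻¹ := by rw [this]
    rintro (i | i) (j | j)
    · simp only [r_mul_r]
      exact zmodPow_add hn i j
    · simp only [r_mul_sr]
      rw [zmodPow_sub hn, ← mul_assoc, ← mul_assoc, hc' i]
    · simp only [sr_mul_r]
      rw [zmodPow_add hn, mul_assoc]
    · simp only [sr_mul_sr]
      rw [zmodPow_sub hn]
      calc (zmodPow n (a * b) i)⁻¹ * zmodPow n (a * b) j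
          = a * a * (zmodPow n (a * b) i)⁻¹ * zmodPow n (a * b) j := by rw [ha, one_mul]
        _ = a * (a * (zmodPow n (a * b) i)⁻¹) * zmodPow n (a * b) j := by group
        _ = a * (zmodPow n (a * b) i * a) * zmodPow n (a * b) j := by rw [hc' i]
        _ = a * zmodPow n (a * b) i * (a * zmodPow n (a * b) j) := by group)

/-- A group generated by two involutions `a`, `b` such that `a` is not a power of `a * b` has
`2 * orderOf (a * b)` elements. -/
theorem card_closure_pair_of_involutions {a b : G} (ha : a * a = 1) (hb : b * b = 1) {n : ℕ}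
    (hord : orderOf (a * b) = n) (hnot : ∀ k : ℤ, a ≠ (a * b) ^ k) :
    Nat.card (Subgroup.closure ({a, b} : Set G)) = 2 * n := by
  have hn : (a * b) ^ n = 1 := by rw [← hord]; exact pow_orderOf_eq_one _
  have hainv : a⁻¹ = a := inv_eq_of_mul_eq_one_right ha
  set φ := dihedralHom ha hb hn with hφ
  have hφr : ∀ i : ZMod n, φ (r i) = zmodPow n (a * b) i := fun i => rfl
  have hφsr : ∀ i : ZMod n, φ (sr i) = a * zmodPow n (a * b) i := fun i => rfl
  have hinj : Function.Injective φ := by
    rw [injective_iff_map_eq_one]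
    rintro (i | i) hx
    · rw [hφr] at hx
      obtain ⟨m, rfl⟩ := ZMod.intCast_surjective i
      rw [zmodPow_intCast hn] at hx
      have := orderOf_dvd_iff_zpow_eq_one.mpr hx
      rw [hord] at this
      rw [(ZMod.intCast_zmod_eq_zero_iff_dvd m n).mpr this]
      rfl
    · exfalso
      rw [hφsr] at hx
      obtain ⟨m, rfl⟩ := ZMod.intCast_surjective i
      rw [zmodPow_intCast hn] at hx
      have h1 : a = ((a * b) ^ m)⁻¹ := eq_inv_of_mul_eq_one_left hx
      rw [← zpow_neg] at h1
      exact hnot _ h1
  have hrange : φ.range = Subgroup.closure ({a, b} : Set G) := by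
    apply le_antisymm
    · rintro _ ⟨x, rfl⟩
      have hab : a * b ∈ Subgroup.closure ({a, b} : Set G) :=
        mul_mem (Subgroup.subset_closure (by simp)) (Subgroup.subset_closure (by simp))
      rcases x with i | i
      · rw [hφr]
        exact zpow_mem hab _
      · rw [hφsr]
        exact mul_mem (Subgroup.subset_closure (by simp)) (zpow_mem hab _)
    · rw [Subgroup.closure_le]
      rintro x (rfl | rfl)
      · refine ⟨sr 0, ?_⟩
        rw [hφsr]
        have : zmodPow n (x * b) (0 : ZMod n) = 1 := by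
          have := zmodPow_intCast hn (0 : ℤ)
          rwa [Int.cast_zero, zpow_zero] at this
        rw [this, mul_one]
      · refine ⟨sr 1, ?_⟩
        rw [hφsr]
        have : zmodPow n (a * x) (1 : ZMod n) = a * x := by
          have := zmodPow_intCast hn (1 : ℤ)
          rwa [Int.cast_one, zpow_one] at this
        rw [this, ← mul_assoc, ha, one_mul]
  rw [← hrange, ← Nat.card_congr (MonoidHom.ofInjective hinj).toEquiv, DihedralGroup.nat_card]

end Groth.Agent.Lib.Helper28
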