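import Groth.Prelude.Def_W4bk4grossh1223Act
import Mathlib

set_option autoImplicit false
universe u
open scoped TensorProduct

namespace Groth.Agent.Lib.Helper28.FixedIC

/-- a saturated subalgebra of an integrally closed domain is integrally closed -/
theorem isIntegrallyClosed_of_sat {k P : Type*} [CommRing k] [CommRing P] [IsDomain P]
    [Algebra k P] [IsIntegrallyClosed P]
    (S : Subalgebra k P)
    (hsat : ∀ (c : P) (a b : S), (b : P) ≠ 0 → c * (b : P) = (a : P) → c ∈ S) :
    IsIntegrallyClosed S := by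
  rw [isIntegrallyClosed_iff (FractionRing S)]
  intro x hx
  obtain ⟨a, b, hb, rfl⟩ := IsFractionRing.div_surjective (A := S) x
  have hb0 : b ≠ 0 := nonZeroDivisors.ne_zero hb
  have hbP : (b : P) ≠ 0 := fun h => hb0 (Subtype.ext h)
  let L := FractionRing P
  let g : S →+* L := (algebraMap P L).comp (S.val : S →+* P)
  have hg : Function.Injective g := by
    intro u v huv
    have := IsFractionRing.injective P L huv
    exact Subtype.ext this
  let ι : FractionRing S →+* L := IsFractionRing.lift hg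
  have hι : ∀ s : S, ι (algebraMap S (FractionRing S) s) = algebraMap P L (s : P) := by
    intro s
    exact IsFractionRing.lift_algebraMap hg s
  have hint : IsIntegral P (ι (algebraMap S (FractionRing S) a / algebraMap S (FractionRing S) b)) := by
    refine IsIntegral.map_of_comp_eq (S.val : S →+* P) ι ?_ hx
    ext s
    simp [hι]
  rw [map_div₀, hι, hι] at hint
  obtain ⟨c, hc⟩ := IsIntegrallyClosed.isIntegral_iff.mp hint
  have hbL : algebraMap P L (b : P) ≠ 0 := by
    intro h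
    exact hbP ((IsFractionRing.injective P L) (by simpa using h))
  have hcb : c * (b : P) = (a : P) := by
    apply IsFractionRing.injective P L
    rw [map_mul, hc, div_mul_cancel₀ _ hbL]
  have hcS : c ∈ S := hsat c a b hbP hcb
  refine ⟨⟨c, hcS⟩, ?_⟩
  have hbK : algebraMap S (FractionRing S) b ≠ 0 := by
    intro h
    exact hb0 ((IsFractionRing.injective S (FractionRing S)) (by simpa using h))
  rw [eq_div_iff hbK, ← map_mul]
  congr 1
  exact Subtype.ext hcb

/-- multiplication by `1 ⊗ b` on `B ⊗[k] A` is injective for `b` a nonzero element of a domain `A`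
over a field -/
lemma mul_one_tmul_injective {k : Type u} [Field k] {A : Type u} [CommRing A] [IsDomain A]
    [Algebra k A] (B : Type u) [CommRing B] [Algebra k B] {b : A} (hb : b ≠ 0) :
    Function.Injective (fun x : B ⊗[k] A => x * ((1 : B) ⊗ₜ[k] b)) := by
  have h1 : Function.Injective (LinearMap.mulRight k b) := by
    intro x y hxy
    exact mul_right_cancel₀ hb hxy
  have h2 : Function.Injective (LinearMap.lTensor B (LinearMap.mulRight k b)) :=
    Module.Flat.lTensor_preserves_injective_linearMap _ h1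
  have h3 : ∀ x : B ⊗[k] A, x * ((1 : B) ⊗ₜ[k] b) = LinearMap.lTensor B (LinearMap.mulRight k b) x := by
    intro x
    induction x using TensorProduct.induction_on with
    | zero => simp
    | tmul y z => simp [Algebra.TensorProduct.tmul_mul_tmul]
    | add y z hy hz => rw [add_mul, hy, hz, map_add]
  intro x y hxy
  apply h2
  rw [← h3, ← h3]
  exact hxy

open CategoryTheory AlgebraicGeometry in
theorem isIntegrallyClosed_fixedSubalgebra {k : Type u} [Field k]
    {G H : Over (Spec (CommRingCat.of k))} [GrpObj G] [GrpObj H]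
    (A : Type u) [CommRing A] [IsDomain A] [Algebra k A] [IsIntegrallyClosed A]
    (ρ : VecGrp.GMod G A) (hρ : ρ.IsMult) (i : H ⟶ G) :
    IsIntegrallyClosed ↥(ρ.fixedSubalgebra hρ i) := by
  apply isIntegrallyClosed_of_sat
  intro c a b hb hcb B _ _ h
  have ha := a.2 B h
  have hb' := b.2 B h
  obtain ⟨hmul, -⟩ := hρ B (h ≫ i)
  apply mul_one_tmul_injective B hb
  change ρ.ρ B (h ≫ i) ((1 : B) ⊗ₜ[k] c) * ((1 : B) ⊗ₜ[k] (b : A)) =
    ((1 : B) ⊗ₜ[k] c) * ((1 : B) ⊗ₜ[k] (b : A))
  have e1 : ((1 : B) ⊗ₜ[k] c : VecGrp.W k A B) * ((1 : B) ⊗ₜ[k] (b : A)) = (1 : B) ⊗ₜ[k] (a : A) := by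
    rw [Algebra.TensorProduct.tmul_mul_tmul, _root_.one_mul, hcb]
  calc ρ.ρ B (h ≫ i) ((1 : B) ⊗ₜ[k] c) * ((1 : B) ⊗ₜ[k] (b : A))
      = ρ.ρ B (h ≫ i) ((1 : B) ⊗ₜ[k] c) * ρ.ρ B (h ≫ i) ((1 : B) ⊗ₜ[k] (b : A)) := by rw [hb']
    _ = ρ.ρ B (h ≫ i) (((1 : B) ⊗ₜ[k] c : VecGrp.W k A B) * ((1 : B) ⊗ₜ[k] (b : A))) := (hmul _ _).symm
    _ = ρ.ρ B (h ≫ i) ((1 : B) ⊗ₜ[k] (a : A)) := by rw [e1]
    _ = (1 : B) ⊗ₜ[k] (a : A) := ha
    _ = ((1 : B) ⊗ₜ[k] c) * ((1 : B) ⊗ₜ[k] (b : A)) := e1.symm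

end Groth.Agent.Lib.Helper28.FixedIC
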