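import Mathlib
import Groth.Agent.S0389
import Groth.Agent.Lib.Helper45.FibreDim

set_option autoImplicit false
universe u

namespace Groth.Agent.Lib.Helper28.GrFlat

open TensorProduct Groth.Agent.Lib.Helper45 Groth.Agent.Lib.Helper45.Fitting

section quot
variable {A : Type u} {R : Type u} [CommRing A] [CommRing R] [Algebra A R]
  (J : Ideal A) (I : Ideal R)
  (M : Type u) [AddCommGroup M] [Module A M] [Module R M] [IsScalarTower A R M]

abbrev Mq : Type u := M ⧸ (I • (⊤ : Submodule R M))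

section retract
variable (ℳ : ℤ → Submodule A M) [DirectSum.Decomposition ℳ]

/-- projection onto the `v`-th piece -/
noncomputable def projv (v : ℤ) : M →ₗ[A] ℳ v :=
  (DirectSum.component A ℤ (fun i => ℳ i) v).comp (DirectSum.decomposeLinearEquiv ℳ).toLinearMap

lemma projv_coe (v : ℤ) (m : ℳ v) : projv M ℳ v (m : M) = m := by
  simp [projv]

/-- `m ↦ 1 ⊗ proj_v m` -/
noncomputable def rho (v : ℤ) : M →ₗ[A] (A ⧸ J) ⊗[A] ℳ v :=
  (TensorProduct.mk A (A ⧸ J) (ℳ v) 1).comp (projv M ℳ v)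

lemma rho_coe (v : ℤ) (m : ℳ v) : rho J M ℳ v (m : M) = (1 : A ⧸ J) ⊗ₜ[A] m := by
  rw [rho, LinearMap.comp_apply, projv_coe]; rfl

lemma J_smul_eq_zero (N : Type u) [AddCommGroup N] [Module A N] (j : A) (hj : j ∈ J)
    (t : (A ⧸ J) ⊗[A] N) : j • t = 0 := by
  have : j • t = (Ideal.Quotient.mk J j) • t := by
    rw [← one_smul (A ⧸ J) t, ← smul_assoc, one_smul]
    congr 1
    rw [Algebra.smul_def, mul_one]; rfl
  rw [this, Ideal.Quotient.eq_zero_iff_mem.mpr hj, zero_smul]

variable {I} in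
lemma rho_kills (hge : I ≤ J.map (algebraMap A R)) (v : ℤ) (x : M)
    (hx : x ∈ I • (⊤ : Submodule R M)) :
    rho J M ℳ v x = 0 := by
  have key : ∀ r ∈ J.map (algebraMap A R), ∀ n : M, rho J M ℳ v (r • n) = 0 := by
    intro r hr
    refine Submodule.span_induction (p := fun r _ => ∀ n : M, rho J M ℳ v (r • n) = 0)
      ?_ ?_ ?_ ?_ hr
    · rintro _ ⟨j, hj, rfl⟩ n
      rw [algebraMap_smul, map_smul]
      exact J_smul_eq_zero J _ j hj _
    · intro n; rw [zero_smul, map_zero]
    · intro a b _ _ ha hb n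
      rw [add_smul, map_add, ha, hb, add_zero]
    · intro s a _ ha n
      rw [smul_eq_mul, mul_comm, mul_smul]
      exact ha _
  refine Submodule.smul_induction_on hx (fun r hr n _ => key r (hge hr) n) ?_
  intro a b ha hb
  rw [map_add, ha, hb, add_zero]

variable {I} in
/-- the retraction `M/IM → D ⊗ M_v`, `A`-linear version -/
noncomputable def retrA (hge : I ≤ J.map (algebraMap A R)) (v : ℤ) :
    Mq I M →ₗ[A] (A ⧸ J) ⊗[A] ℳ v :=
  (Submodule.liftQ ((I • (⊤ : Submodule R M)).restrictScalars A) (rho J M ℳ v)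
    (fun x hx => rho_kills J M ℳ hge v x hx)).comp
    (Submodule.Quotient.restrictScalarsEquiv A (I • (⊤ : Submodule R M))).symm.toLinearMap

variable {I} in
lemma retrA_mk (hge : I ≤ J.map (algebraMap A R)) (v : ℤ) (m : M) :
    retrA J M ℳ hge v (Submodule.Quotient.mk m) = rho J M ℳ v m := by
  unfold retrA
  rw [LinearMap.comp_apply]
  exact Submodule.liftQ_apply _ _ _

/-- the section, `A`-linear version -/
noncomputable def sectA (v : ℤ) : ℳ v →ₗ[A] Mq I M :=
  ((Submodule.mkQ (I • (⊤ : Submodule R M))).restrictScalars A).comp (ℳ v).subtype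

variable {I} in
lemma retrA_sectA (hge : I ≤ J.map (algebraMap A R)) (v : ℤ) (m : ℳ v) :
    retrA J M ℳ hge v (sectA I M ℳ v m) = (1 : A ⧸ J) ⊗ₜ[A] m := by
  have : sectA I M ℳ v m = Submodule.Quotient.mk (m : M) := rfl
  rw [this, retrA_mk, rho_coe]

end retract
end quot

end Groth.Agent.Lib.Helper28.GrFlat
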