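import Mathlib
import Groth.Agent.Lib.Helper28.GrFlat1

set_option autoImplicit false
universe u

namespace Groth.Agent.Lib.Helper28.GrFlat

open TensorProduct Groth.Agent.Lib.Helper45 Groth.Agent.Lib.Helper45.Fitting

set_option linter.style.haveILetI false

theorem key_abstract {A D E : Type u} [CommRing A] [CommRing D] [CommRing E] [IsDomain E]
    [Algebra A D] [Algebra D E] [Algebra A E] [IsScalarTower A D E]
    (N : Type u) [AddCommGroup N] [Module A N] [Module.Finite A N]
    (F : Type u) [AddCommGroup F] [Module D F] [Module.Free E (E ⊗[D] F)]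
    (i : D ⊗[A] N →ₗ[D] F) (r : F →ₗ[D] D ⊗[A] N) (h : r.comp i = LinearMap.id)
    (P Q : Ideal E) [P.IsPrime] [Q.IsPrime] (k : ℕ) :
    Fitt.ideal A N k ≤ P.comap (algebraMap A E) ↔ Fitt.ideal A N k ≤ Q.comap (algebraMap A E) := by
  have hproj : Module.Projective E (E ⊗[D] (D ⊗[A] N)) := by
    refine Module.Projective.of_split (i.baseChange E) (r.baseChange E) ?_
    rw [← LinearMap.baseChange_comp, h, LinearMap.baseChange_id]
  have hlc := isLocallyConstant_fibreDim_of_projective (R := E) (M := E ⊗[D] (D ⊗[A] N))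
  have heq := hlc.apply_eq_of_preconnectedSpace (⟨P, inferInstance⟩ : PrimeSpectrum E) ⟨Q, inferInstance⟩
  have hF : Fitt.ideal E (E ⊗[D] (D ⊗[A] N)) k = (Fitt.ideal A N k).map (algebraMap A E) := by
    rw [fitt_baseChange, fitt_baseChange, Ideal.map_map, ← IsScalarTower.algebraMap_eq]
  have h1 := fibreDim_le_iff (R := E) (M := E ⊗[D] (D ⊗[A] N)) k ⟨P, inferInstance⟩
  have h2 := fibreDim_le_iff (R := E) (M := E ⊗[D] (D ⊗[A] N)) k ⟨Q, inferInstance⟩
  rw [hF, Ideal.map_le_iff_le_comap] at h1 h2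
  rw [heq] at h1
  exact (not_iff_not.mp (h1.symm.trans h2))


lemma exists_prime_comap {A : Type u} [CommRing A] (J : Ideal A) (f : A)
    (p : Ideal A) [p.IsPrime] (hJp : J ≤ p) (hf : f ∉ p) :
    ∃ P : Ideal (Localization.Away (Ideal.Quotient.mk J f)), P.IsPrime ∧
      P.comap (algebraMap A (Localization.Away (Ideal.Quotient.mk J f))) = p := by
  have hker : ∀ a ∈ J, algebraMap A p.ResidueField a = 0 := by
    intro a ha
    have : a ∈ RingHom.ker (algebraMap A p.ResidueField) := by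
      rw [Ideal.ker_algebraMap_residueField]; exact hJp ha
    exact this
  let g₀ : A ⧸ J →+* p.ResidueField := Ideal.Quotient.lift J (algebraMap A p.ResidueField) hker
  have hu : IsUnit (g₀ (Ideal.Quotient.mk J f)) := by
    rw [Ideal.Quotient.lift_mk, isUnit_iff_ne_zero]
    intro h0
    have : f ∈ RingHom.ker (algebraMap A p.ResidueField) := h0
    rw [Ideal.ker_algebraMap_residueField] at this
    exact hf this
  let g : Localization.Away (Ideal.Quotient.mk J f) →+* p.ResidueField :=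
    IsLocalization.Away.lift (Ideal.Quotient.mk J f) hu
  refine ⟨RingHom.ker g, RingHom.ker_isPrime g, ?_⟩
  ext a
  rw [Ideal.mem_comap, RingHom.mem_ker]
  have h1 : algebraMap A (Localization.Away (Ideal.Quotient.mk J f)) a =
      algebraMap (A ⧸ J) (Localization.Away (Ideal.Quotient.mk J f)) (Ideal.Quotient.mk J a) := by
    rw [IsScalarTower.algebraMap_apply A (A ⧸ J)]; rfl
  rw [h1, IsLocalization.Away.lift_eq, Ideal.Quotient.lift_mk]
  have : a ∈ RingHom.ker (algebraMap A p.ResidueField) ↔ a ∈ p := by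
    rw [Ideal.ker_algebraMap_residueField]
  exact this


/-- generic freeness packaged for a quotient: data -/
theorem gf_quot {A R M : Type u} [CommRing A] [CommRing R] [Algebra A R] [Algebra.FiniteType A R]
    [AddCommGroup M] [Module A M] [Module R M] [IsScalarTower A R M] [Module.Finite R M]
    (J : Ideal A) [J.IsPrime] (I : Ideal R) (hle : J ≤ I.comap (algebraMap A R)) :
    ∃ (_ : Module (A ⧸ J) (Mq I M)) (_ : IsScalarTower A (A ⧸ J) (Mq I M)),
      ∃ f : A, f ∉ J ∧ Module.Free (Localization.Away (Ideal.Quotient.mk J f))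
        (Localization.Away (Ideal.Quotient.mk J f) ⊗[A ⧸ J] (Mq I M)) := by
  letI algDS : Algebra (A ⧸ J) (R ⧸ I) := Ideal.Quotient.algebraQuotientOfLEComap hle
  have halg : ∀ a : A, algebraMap (A ⧸ J) (R ⧸ I) (Ideal.Quotient.mk J a) =
      Ideal.Quotient.mk I (algebraMap A R a) := fun a => rfl
  letI modD : Module (A ⧸ J) (Mq I M) := Module.compHom (Mq I M) (algebraMap (A ⧸ J) (R ⧸ I))
  have smulD_def : ∀ (d : A ⧸ J) (x : Mq I M), d • x = (algebraMap (A ⧸ J) (R ⧸ I) d) • x :=
    fun _ _ => rfl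
  haveI towerDS : IsScalarTower (A ⧸ J) (R ⧸ I) (Mq I M) :=
    ⟨fun d s x => by rw [smulD_def, Algebra.smul_def, mul_smul]⟩
  have mkD_smul : ∀ (a : A) (x : Mq I M), (Ideal.Quotient.mk J a) • x = a • x := by
    intro a x
    induction x using Submodule.Quotient.induction_on with
    | H m =>
      rw [smulD_def, halg]
      change (Submodule.Quotient.mk ((algebraMap A R a) • m) : Mq I M) = Submodule.Quotient.mk (a • m)
      rw [algebraMap_smul]
  haveI towerAD : IsScalarTower A (A ⧸ J) (Mq I M) :=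
    ⟨fun a d x => by
      obtain ⟨d, rfl⟩ := Ideal.Quotient.mk_surjective d
      rw [← mkD_smul, ← mul_smul]
      rfl⟩
  haveI finS : Module.Finite (R ⧸ I) (Mq I M) :=
    Module.Finite.of_restrictScalars_finite R (R ⧸ I) (Mq I M)
  haveI towerADS : IsScalarTower A (A ⧸ J) (R ⧸ I) :=
    IsScalarTower.of_algebraMap_eq (fun a => (halg a).symm)
  haveI ftS : Algebra.FiniteType (A ⧸ J) (R ⧸ I) := by
    have h1 : Algebra.FiniteType A (R ⧸ I) :=
      Algebra.FiniteType.of_surjective (Ideal.Quotient.mkₐ A I) (Ideal.Quotient.mkₐ_surjective A _)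
    exact Algebra.FiniteType.of_restrictScalars_finiteType A (A ⧸ J) (R ⧸ I)
  obtain ⟨f', hf', hfree, -⟩ := Groth.Agent.S0389.result (R := A ⧸ J) (S := R ⧸ I) (M := Mq I M)
  obtain ⟨f, rfl⟩ := Ideal.Quotient.mk_surjective f'
  refine ⟨modD, towerAD, f, ?_, hfree⟩
  intro hfJ
  exact hf' (Ideal.Quotient.eq_zero_iff_mem.mpr hfJ)


theorem gf_graded {A R M : Type u} [CommRing A] [CommRing R] [Algebra A R] [Algebra.FiniteType A R]
    [AddCommGroup M] [Module A M] [Module R M] [IsScalarTower A R M] [Module.Finite R M]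
    (ℳ : ℤ → Submodule A M) [DirectSum.Decomposition ℳ] (hfg : ∀ v, Module.Finite A (ℳ v))
    (J : Ideal A) [J.IsPrime] :
    ∃ f : A, f ∉ J ∧ ∀ (p : Ideal A) [p.IsPrime], J ≤ p → f ∉ p → ∀ (v : ℤ) (k : ℕ),
      (Fitt.ideal A (ℳ v) k ≤ p ↔ Fitt.ideal A (ℳ v) k ≤ J) := by
  obtain ⟨I, hI1, hI2⟩ : ∃ I : Ideal R, J ≤ I.comap (algebraMap A R) ∧ I ≤ J.map (algebraMap A R) :=
    ⟨_, Ideal.le_comap_map, le_rfl⟩
  obtain ⟨modD, towerAD, f, hfJ, hfree⟩ := gf_quot (M := M) J I hI1
  refine ⟨f, hfJ, fun p _ hJp hfp v k => ?_⟩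
  obtain ⟨P, hP, hPc⟩ := exists_prime_comap J f p hJp hfp
  obtain ⟨Q, hQ, hQc⟩ := exists_prime_comap J f J le_rfl hfJ
  have hf0 : Ideal.Quotient.mk J f ≠ 0 := fun h => hfJ (Ideal.Quotient.eq_zero_iff_mem.mp h)
  haveI : IsDomain (Localization.Away (Ideal.Quotient.mk J f)) :=
    IsLocalization.isDomain_localization (powers_le_nonZeroDivisors_of_noZeroDivisors hf0)
  haveI := hfg v
  have hri : ((retrA J M ℳ hI2 v).extendScalarsOfSurjective Ideal.Quotient.mk_surjective).comp
      (LinearMap.liftBaseChange (A ⧸ J) (sectA I M ℳ v)) = LinearMap.id := by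
    apply TensorProduct.AlgebraTensorModule.curry_injective
    ext m
    simp only [TensorProduct.AlgebraTensorModule.curry_apply, TensorProduct.curry_apply,
      LinearMap.coe_restrictScalars, LinearMap.comp_apply, LinearMap.id_coe, id_eq]
    rw [LinearMap.liftBaseChange_tmul, one_smul, LinearMap.extendScalarsOfSurjective_apply, retrA_sectA]
  have := key_abstract (A := A) (D := A ⧸ J) (E := Localization.Away (Ideal.Quotient.mk J f))
    (N := ℳ v) (F := Mq I M) (i := LinearMap.liftBaseChange (A ⧸ J) (sectA I M ℳ v))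
    (r := (retrA J M ℳ hI2 v).extendScalarsOfSurjective Ideal.Quotient.mk_surjective) hri P Q k
  rw [hPc, hQc] at this
  exact this

end Groth.Agent.Lib.Helper28.GrFlat
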