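import Mathlib

set_option autoImplicit false
universe u

namespace Groth.Agent.Lib.Helper28.GrFlat

lemma isClosed_zl {A : Type u} [CommRing A] (I : Ideal A) :
    IsClosed {p : PrimeSpectrum A | I ≤ p.asIdeal} := by
  have : {p : PrimeSpectrum A | I ≤ p.asIdeal} = PrimeSpectrum.zeroLocus (I : Set A) := by
    ext p; rfl
  rw [this]; exact PrimeSpectrum.isClosed_zeroLocus _

theorem isClosed_bad {A : Type u} [CommRing A] [IsNoetherianRing A] (a : Ideal A) {ι : Type*}
    (G : ι → Ideal A)
    (hgf : ∀ (J : Ideal A) [J.IsPrime], ∃ f : A, f ∉ J ∧ ∀ (p : Ideal A) [p.IsPrime], J ≤ p → f ∉ p →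
      ∀ v, (G v ≤ p ↔ G v ≤ J)) :
    IsClosed {p : PrimeSpectrum A | a ≤ p.asIdeal ∧ ∃ v, G v ≤ p.asIdeal} := by
  set C : Set (PrimeSpectrum A) := {p : PrimeSpectrum A | a ≤ p.asIdeal ∧ ∃ v, G v ≤ p.asIdeal} with hC
  have key : ∀ I : Ideal A, IsClosed (C ∩ {p : PrimeSpectrum A | I ≤ p.asIdeal}) := by
    refine IsNoetherian.induction (R := A) (M := A)
      (P := fun I : Ideal A => IsClosed (C ∩ {p : PrimeSpectrum A | I ≤ p.asIdeal})) ?_
    · intro (I : Ideal A) IH
      replace IH : ∀ J : Ideal A, I < J → IsClosed (C ∩ {p : PrimeSpectrum A | J ≤ p.asIdeal}) := IH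
      have hlt : ∀ x : A, x ∉ I → I < I ⊔ Ideal.span {x} := by
        intro x hx
        refine lt_of_le_of_ne le_sup_left ?_
        intro h
        apply hx
        rw [h]
        exact Ideal.mem_sup_right (Ideal.subset_span rfl)
      have hsup : ∀ (x : A) (p : PrimeSpectrum A), I ≤ p.asIdeal → x ∈ p.asIdeal →
          I ⊔ Ideal.span {x} ≤ p.asIdeal := by
        intro x p h1 h2
        refine sup_le h1 ?_
        rw [Ideal.span_le]
        intro y hy
        rw [Set.mem_singleton_iff.mp hy]; exact h2
      by_cases hI : Ideal.IsPrime I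
      · by_cases hIC : (⟨I, hI⟩ : PrimeSpectrum A) ∈ C
        · have : C ∩ {p : PrimeSpectrum A | I ≤ p.asIdeal} = {p : PrimeSpectrum A | I ≤ p.asIdeal} := by
            ext p
            constructor
            · exact fun h => h.2
            · intro hp
              refine ⟨⟨hIC.1.trans hp, ?_⟩, hp⟩
              obtain ⟨v, hv⟩ := hIC.2
              exact ⟨v, hv.trans hp⟩
          rw [this]; exact isClosed_zl I
        · by_cases ha : a ≤ I
          · have hnv : ∀ v, ¬ G v ≤ I := fun v hv => hIC ⟨ha, v, hv⟩
            obtain ⟨f, hfI, hf⟩ := hgf I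
            have : C ∩ {p : PrimeSpectrum A | I ≤ p.asIdeal} =
                C ∩ {p : PrimeSpectrum A | I ⊔ Ideal.span {f} ≤ p.asIdeal} := by
              ext p
              constructor
              · rintro ⟨hpC, hp⟩
                refine ⟨hpC, ?_⟩
                by_cases hfp : f ∈ p.asIdeal
                · exact hsup f p hp hfp
                · exfalso
                  obtain ⟨v, hv⟩ := hpC.2
                  exact hnv v ((hf p.asIdeal hp hfp v).mp hv)
              · rintro ⟨hpC, hp⟩
                exact ⟨hpC, fun z hz => hp (Ideal.mem_sup_left hz)⟩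
            rw [this]
            exact IH _ (hlt f hfI)
          · have : C ∩ {p : PrimeSpectrum A | I ≤ p.asIdeal} =
                C ∩ {p : PrimeSpectrum A | I ⊔ a ≤ p.asIdeal} := by
              ext p
              constructor
              · rintro ⟨hpC, hp⟩
                exact ⟨hpC, sup_le hp hpC.1⟩
              · rintro ⟨hpC, hp⟩
                exact ⟨hpC, fun z hz => hp (Ideal.mem_sup_left hz)⟩
            rw [this]
            refine IH _ (lt_of_le_of_ne le_sup_left ?_)
            intro h
            apply ha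
            rw [h]; exact le_sup_right
      · by_cases htop : I = ⊤
        · have : C ∩ {p : PrimeSpectrum A | I ≤ p.asIdeal} = ∅ := by
            ext p
            simp only [Set.mem_inter_iff, Set.mem_empty_iff_false, iff_false, not_and]
            intro _ hp
            exact p.2.ne_top (top_le_iff.mp (htop ▸ hp))
          rw [this]; exact isClosed_empty
        · rw [Ideal.isPrime_iff] at hI
          push Not at hI
          obtain ⟨x, y, hxy, hx, hy⟩ := hI htop
          have : C ∩ {p : PrimeSpectrum A | I ≤ p.asIdeal} =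
              (C ∩ {p : PrimeSpectrum A | I ⊔ Ideal.span {x} ≤ p.asIdeal}) ∪
              (C ∩ {p : PrimeSpectrum A | I ⊔ Ideal.span {y} ≤ p.asIdeal}) := by
            ext p
            constructor
            · rintro ⟨hpC, hp⟩
              rcases p.2.mem_or_mem (hp hxy) with h | h
              · exact Or.inl ⟨hpC, hsup x p hp h⟩
              · exact Or.inr ⟨hpC, hsup y p hp h⟩
            · rintro (⟨hpC, hp⟩ | ⟨hpC, hp⟩)
              · exact ⟨hpC, fun z hz => hp (Ideal.mem_sup_left hz)⟩
              · exact ⟨hpC, fun z hz => hp (Ideal.mem_sup_left hz)⟩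
          rw [this]
          exact (IH _ (hlt x hx)).union (IH _ (hlt y hy))
  have := key ⊥
  have h2 : C ∩ {p : PrimeSpectrum A | ⊥ ≤ p.asIdeal} = C := by
    ext p; simp
  rw [h2] at this
  exact this

end Groth.Agent.Lib.Helper28.GrFlat
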