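import Mathlib
import Groth.Agent.Lib.Helper28.GrFlat2
import Groth.Agent.Lib.Helper28.GrFlat3
import Groth.Agent.S6895
import Groth.Agent.S10836

set_option autoImplicit false
universe u

namespace Groth.Agent.Lib.Helper28.GrFlat

open TensorProduct Groth.Agent.Lib.Helper45 Groth.Agent.Lib.Helper45.Fitting

theorem locfree_iff {B : Type u} [CommRing B] (N : Type u) [AddCommGroup N] [Module B N]
    [Module.Finite B N] (r : ℕ) :
    (Module.Projective B N ∧ ∀ p : PrimeSpectrum B, Module.rankAtStalk N p = r) ↔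
    ((∀ k, k < r → Fitt.ideal B N k = ⊥) ∧ (∀ k, r ≤ k → Fitt.ideal B N k = ⊤)) := by
  constructor
  · rintro ⟨hproj, hr⟩
    rw [← Groth.Agent.S6895.result N r]
    intro p hp
    obtain ⟨s, hs, ⟨b⟩⟩ := Groth.Agent.S10836.result B N r hr {⟨p, hp⟩} (Set.finite_singleton _)
    have hsp : s ∉ p := hs ⟨p, hp⟩ rfl
    have hnt : Nontrivial (Localization.Away s) := by
      refine ⟨⟨0, 1, fun h01 => ?_⟩⟩
      have h1 : algebraMap B (Localization.Away s) 1 = 0 := by rw [map_one]; exact h01.symm
      rw [IsLocalization.map_eq_zero_iff (Submonoid.powers s)] at h1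
      obtain ⟨⟨_, n, rfl⟩, hm⟩ := h1
      rw [mul_one] at hm
      have hm' : s ^ n = 0 := hm
      exact hsp (hp.mem_of_pow_mem n (hm' ▸ p.zero_mem))
    refine ⟨s, hsp, Module.Free.of_basis b, ?_⟩
    rw [Module.finrank_eq_card_basis b, Fintype.card_fin]
  · rintro ⟨h1, h2⟩
    have hlf := (Groth.Agent.S6895.result N r).mpr ⟨h1, h2⟩
    have hproj : Module.Projective B N :=
      projective_of_locally_free (fun p hp => by
        obtain ⟨f, hf, hfree, -⟩ := hlf p
        exact ⟨f, hf, hfree⟩)
    refine ⟨hproj, fun p => ?_⟩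
    rw [← fibreDim_eq_rankAtStalk]
    apply le_antisymm
    · rw [fibreDim_le_iff, h2 r le_rfl]
      intro h
      exact p.2.ne_top (top_le_iff.mp h)
    · rcases Nat.eq_zero_or_pos r with h0 | hpos
      · rw [h0]; exact Nat.zero_le _
      · by_contra hlt
        have hle : fibreDim B N p ≤ r - 1 := by omega
        rw [fibreDim_le_iff, h1 (r - 1) (by omega)] at hle
        exact hle bot_le

end Groth.Agent.Lib.Helper28.GrFlat
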