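import Groth.Agent.Lib.Helper28.GradedIrr
import Groth.Agent.Lib.Helper28.CMLocP

/-!
# Gluing Cohen–Macaulay graded quotients at the irrelevant ideal (helper28)
-/

set_option autoImplicit false
set_option linter.style.haveILetI false
universe u v

namespace Groth.Agent.Lib.Helper28.GradedIrr

open DirectSum Groth.Agent.Lib.Helper28.CMAux

variable {K : Type u} [Field K] {A : Type v} [CommRing A] [Algebra K A]
variable (𝒜 : ℕ → Submodule K A) [GradedAlgebra 𝒜]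
variable (h0 : ∀ a ∈ 𝒜 0, ∃ c : K, algebraMap K A c = a)

include h0 in
/-- the dimension of a graded quotient is attained at the irrelevant ideal -/
theorem le_dim_QP [IsNoetherianRing A] [Nontrivial A] [(Pirr 𝒜).IsPrime] (I : Ideal A)
    (hI : I.IsHomogeneous 𝒜) (n : ℕ) (hn : (n : WithBot ℕ∞) ≤ ringKrullDim (A ⧸ I)) :
    (n : WithBot ℕ∞) ≤ ringKrullDim (QP (Pirr 𝒜) I) := by
  rw [ringKrullDim_quotient, Order.le_krullDim_iff] at hn
  obtain ⟨l, hl⟩ := hn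
  set q₀ : Ideal A := l.head.1.asIdeal with hq₀
  have hIq₀ : I ≤ q₀ := by
    have := l.head.2
    rwa [PrimeSpectrum.mem_zeroLocus, SetLike.coe_subset_coe] at this
  set p : Ideal A := (q₀.homogeneousCore 𝒜).toIdeal with hp
  haveI hpprime : p.IsPrime := Ideal.IsPrime.homogeneousCore (𝒜 := 𝒜) l.head.1.isPrime
  have hpq₀ : p ≤ q₀ := Ideal.toIdeal_homogeneousCore_le 𝒜 q₀
  have hIp : I ≤ p := by
    have h1 := Ideal.homogeneousCore_mono 𝒜 hIq₀
    have h2 : (I.homogeneousCore 𝒜).toIdeal = I := hI.toIdeal_homogeneousCore_eq_self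
    rw [← h2]
    exact h1
  have hpP : p ≤ Pirr 𝒜 :=
    le_Pirr_of_isHomogeneous 𝒜 h0 p (q₀.homogeneousCore 𝒜).isHomogeneous hpprime.ne_top
  -- the chain lives above `q₀`
  have hdimq₀ : (n : WithBot ℕ∞) ≤ ringKrullDim (A ⧸ q₀) := by
    rw [ringKrullDim_quotient, Order.le_krullDim_iff]
    refine ⟨{ length := l.length
              toFun := fun i => ⟨(l i).1, ?_⟩
              step := fun i => l.step i }, hl⟩
    rw [PrimeSpectrum.mem_zeroLocus, SetLike.coe_subset_coe]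
    exact LTSeries.head_le l i
  have hdimp : (n : WithBot ℕ∞) ≤ ringKrullDim (A ⧸ p) :=
    hdimq₀.trans (ringKrullDim_le_of_surjective (Ideal.Quotient.factor hpq₀)
      (Ideal.Quotient.factor_surjective hpq₀))
  haveI := isPrime_map_mk (Pirr 𝒜) p hpP
  have h3 : ringKrullDim (QP (Pirr 𝒜) p) = ringKrullDim (A ⧸ p) := by
    rw [ringKrullDim_QP_eq' (Pirr 𝒜) p hpP,
      IsLocalization.AtPrime.ringKrullDim_eq_height ((Pirr 𝒜).map (Ideal.Quotient.mk p)),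
      height_map_Pirr 𝒜 h0 p hpP]
  calc (n : WithBot ℕ∞) ≤ ringKrullDim (A ⧸ p) := hdimp
    _ = ringKrullDim (QP (Pirr 𝒜) p) := h3.symm
    _ ≤ ringKrullDim (QP (Pirr 𝒜) I) := ringKrullDim_QP_anti (Pirr 𝒜) hIp

lemma ne_top_of_dim {I : Ideal A} {n : ℕ} (h : ringKrullDim (A ⧸ I) = (n : WithBot ℕ∞)) :
    I ≠ ⊤ := by
  intro htop
  haveI : Subsingleton (A ⧸ I) := Ideal.Quotient.subsingleton_iff.2 htop
  rw [ringKrullDim_eq_bot_of_subsingleton] at h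
  exact WithBot.bot_ne_coe h

include h0 in
/-- **gluing at the irrelevant ideal** -/
theorem isCM_inf [IsNoetherianRing A] (I J : Ideal A) (hI : I.IsHomogeneous 𝒜)
    (hJ : J.IsHomogeneous 𝒜) (e : ℕ)
    (hIcm : LocCoh.IsCohenMacaulayRing (A ⧸ I)) (hJcm : LocCoh.IsCohenMacaulayRing (A ⧸ J))
    (hIJcm : LocCoh.IsCohenMacaulayRing (A ⧸ (I ⊔ J)))
    (hIdim : ringKrullDim (A ⧸ I) = (e : WithBot ℕ∞))
    (hJdim : ringKrullDim (A ⧸ J) = (e : WithBot ℕ∞))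
    (hIJdim : ringKrullDim (A ⧸ (I ⊔ J)) = ((e - 1 : ℕ) : WithBot ℕ∞))
    [hm : ((Pirr 𝒜).map (Ideal.Quotient.mk (I ⊓ J))).IsPrime] :
    LocCoh.IsCohenMacaulayLocalRing (Localization.AtPrime
        ((Pirr 𝒜).map (Ideal.Quotient.mk (I ⊓ J)))) ∧
      ringKrullDim (Localization.AtPrime
        ((Pirr 𝒜).map (Ideal.Quotient.mk (I ⊓ J)))) = (e : WithBot ℕ∞) := by
  have hIne := ne_top_of_dim hIdim
  have hJne := ne_top_of_dim hJdim
  have hIJne := ne_top_of_dim hIJdim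
  haveI : Nontrivial A := by
    by_contra hnt
    rw [not_nontrivial_iff_subsingleton] at hnt
    exact hIne (Subsingleton.elim _ _)
  haveI hmax := isMaximal_Pirr 𝒜 h0
  haveI hPprime : (Pirr 𝒜).IsPrime := hmax.isPrime
  have hIP := le_Pirr_of_isHomogeneous 𝒜 h0 I hI hIne
  have hJP := le_Pirr_of_isHomogeneous 𝒜 h0 J hJ hJne
  have hIJP := le_Pirr_of_isHomogeneous 𝒜 h0 (I ⊔ J) (hI.sup hJ) hIJne
  have hinfP : I ⊓ J ≤ Pirr 𝒜 := inf_le_left.trans hIP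
  set R := Localization.AtPrime (Pirr 𝒜) with hR
  have h1 : ExtVan R e (QP (Pirr 𝒜) I) :=
    extVan_QP_of_isCM (Pirr 𝒜) I hIP hIcm e (le_dim_QP 𝒜 h0 I hI e (le_of_eq hIdim.symm))
  have h2 : ExtVan R e (QP (Pirr 𝒜) J) :=
    extVan_QP_of_isCM (Pirr 𝒜) J hJP hJcm e (le_dim_QP 𝒜 h0 J hJ e (le_of_eq hJdim.symm))
  have h3 : ExtVan R (e - 1) (QP (Pirr 𝒜) (I ⊔ J)) :=
    extVan_QP_of_isCM (Pirr 𝒜) (I ⊔ J) hIJP hIJcm (e - 1)
      (le_dim_QP 𝒜 h0 (I ⊔ J) (hI.sup hJ) (e - 1) (le_of_eq hIJdim.symm))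
  have h3' : ExtVan R (e - 1) (R ⧸ (I.map (algebraMap A R) ⊔ J.map (algebraMap A R))) :=
    ExtVan.of_ideal_eq (Ideal.map_sup (algebraMap A R) I J) h3
  have h4 := extVan_quotient_inf (I.map (algebraMap A R)) (J.map (algebraMap A R)) e h1 h2 h3'
  have h5 : ExtVan R e (QP (Pirr 𝒜) (I ⊓ J)) :=
    ExtVan.of_ideal_eq (IsLocalization.map_inf (Pirr 𝒜).primeCompl R I J).symm h4
  have hdim : ringKrullDim (QP (Pirr 𝒜) (I ⊓ J)) ≤ e :=
    (ringKrullDim_QP_le (Pirr 𝒜) (I ⊓ J) hinfP).trans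
      (Groth.Agent.Lib.Helper28.DimAux.ringKrullDim_quotient_inf_le I J e (le_of_eq hIdim)
        (le_of_eq hJdim))
  exact isCMLocal_of_extVan' (Pirr 𝒜) (I ⊓ J) hinfP e h5 hdim

end Groth.Agent.Lib.Helper28.GradedIrr
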