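import Mathlib.RingTheory.GradedAlgebra.Basic
import Mathlib.RingTheory.FiniteType
import Mathlib.RingTheory.Noetherian.Basic
import Mathlib.Algebra.Algebra.Operations
import Mathlib.Algebra.DirectSum.Internal
import Mathlib.LinearAlgebra.Finsupp.LinearCombination

/-!
# Generation of ℕ-graded rings by homogeneous elements of positive degree (helper42; universe-polymorphic copy by helper28)

* `grade_le_span_of_adjoin_eq_top`: if homogeneous elements `s` of positive degree generate `A`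
  as an `𝒜 0`-algebra then every `𝒜 m`, `m ≠ 0`, lies in the ideal generated by `s`.
* `exists_decomp_of_mem_span`: a homogeneous element of the ideal generated by homogeneous `s`
  is a combination with homogeneous coefficients of complementary degree.
* `adjoin_eq_top_of_grade_le_span`: the converse of the first item.
* `exists_finset_of_isNoetherianRing`: for Noetherian `A` such a finite `s` exists.
-/

set_option autoImplicit false
universe u v

namespace Groth.Agent.Lib.Helper28.GradedGenUV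

open DirectSum

variable {R : Type u} {A : Type v} [CommRing R] [CommRing A] [Algebra R A]
variable (𝒜 : ℕ → Submodule R A) [GradedAlgebra 𝒜]

lemma projZero_apply (x : A) : GradedRing.projZeroRingHom 𝒜 x = (decompose 𝒜 x 0 : A) := rfl

lemma sub_projZero_mem_span (s : Set A) (hs : ∀ a ∈ s, ∃ n, n ≠ 0 ∧ a ∈ 𝒜 n) (x : A)
    (hx : x ∈ Algebra.adjoin (𝒜 0) s) :
    x - GradedRing.projZeroRingHom 𝒜 x ∈ Ideal.span s := by
  induction hx using Algebra.adjoin_induction with
  | mem x hx =>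
    obtain ⟨n, hn, hxn⟩ := hs x hx
    rw [projZero_apply, decompose_of_mem_ne 𝒜 hxn hn, sub_zero]
    exact Ideal.subset_span hx
  | algebraMap r =>
    have hr : (algebraMap (𝒜 0) A r) ∈ 𝒜 0 := r.2
    rw [projZero_apply, decompose_of_mem_same 𝒜 hr, sub_self]
    exact Ideal.zero_mem _
  | add x y _ _ hx hy =>
    have : x + y - GradedRing.projZeroRingHom 𝒜 (x + y) =
        (x - GradedRing.projZeroRingHom 𝒜 x) + (y - GradedRing.projZeroRingHom 𝒜 y) := by
      rw [map_add]; ring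
    rw [this]
    exact Ideal.add_mem _ hx hy
  | mul x y _ _ hx hy =>
    have : x * y - GradedRing.projZeroRingHom 𝒜 (x * y) =
        (x - GradedRing.projZeroRingHom 𝒜 x) * y +
          GradedRing.projZeroRingHom 𝒜 x * (y - GradedRing.projZeroRingHom 𝒜 y) := by
      rw [map_mul]; ring
    rw [this]
    exact Ideal.add_mem _ (Ideal.mul_mem_right _ _ hx) (Ideal.mul_mem_left _ _ hy)

lemma grade_le_span_of_adjoin_eq_top (s : Set A) (hs : ∀ a ∈ s, ∃ n, n ≠ 0 ∧ a ∈ 𝒜 n)
    (hadj : Algebra.adjoin (𝒜 0) s = ⊤) {m : ℕ} (hm : m ≠ 0) {x : A} (hx : x ∈ 𝒜 m) :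
    x ∈ Ideal.span s := by
  have h := sub_projZero_mem_span 𝒜 s hs x (by rw [hadj]; trivial)
  rwa [projZero_apply, decompose_of_mem_ne 𝒜 hx hm, sub_zero] at h

lemma exists_decomp_of_mem_span (s : Finset A) (n : A → ℕ) (hn : ∀ a ∈ s, a ∈ 𝒜 (n a))
    {m : ℕ} {x : A} (hx : x ∈ 𝒜 m) (hxs : x ∈ Ideal.span (s : Set A)) :
    ∃ y : A → A, (∀ a ∈ s, n a ≤ m → y a ∈ 𝒜 (m - n a)) ∧ (∀ a ∈ s, ¬ n a ≤ m → y a = 0) ∧
      x = ∑ a ∈ s, y a * a := by
  classical
  obtain ⟨f, -, hf⟩ := Submodule.mem_span_finset.1 hxs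
  refine ⟨fun a => if n a ≤ m then (decompose 𝒜 (f a) (m - n a) : A) else 0, ?_, ?_, ?_⟩
  · intro a _ ha
    simp only [if_pos ha]
    exact (decompose 𝒜 (f a) (m - n a)).2
  · intro a _ ha
    simp only [if_neg ha]
  · have h1 : x = (decompose 𝒜 x m : A) := (decompose_of_mem_same 𝒜 hx).symm
    rw [h1, ← hf, decompose_sum, DFinsupp.finsetSum_apply, AddSubmonoidClass.coe_finsetSum]
    apply Finset.sum_congr rfl
    intro a ha
    rw [smul_eq_mul, coe_decompose_mul_of_right_mem 𝒜 m (hn a ha)]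
    by_cases hle : n a ≤ m
    · simp only [hle, ↓reduceIte]
    · simp only [hle, ↓reduceIte, zero_mul]

lemma adjoin_eq_top_of_grade_le_span (s : Finset A) (hs : ∀ a ∈ s, ∃ n, n ≠ 0 ∧ a ∈ 𝒜 n)
    (hspan : ∀ m : ℕ, m ≠ 0 → ∀ x ∈ 𝒜 m, x ∈ Ideal.span (s : Set A)) :
    Algebra.adjoin (𝒜 0) (s : Set A) = ⊤ := by
  classical
  choose! n hn0 hn using hs
  have key : ∀ m : ℕ, ∀ x ∈ 𝒜 m, x ∈ Algebra.adjoin (𝒜 0) (s : Set A) := by
    intro m
    induction m using Nat.strong_induction_on with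
    | _ m ih =>
      intro x hx
      rcases Nat.eq_zero_or_pos m with rfl | hm
      · exact Subalgebra.algebraMap_mem _ (⟨x, hx⟩ : 𝒜 0)
      · obtain ⟨y, hy1, hy2, rfl⟩ :=
          exists_decomp_of_mem_span 𝒜 s n hn hx (hspan m hm.ne' x hx)
        apply Subalgebra.sum_mem
        intro a ha
        by_cases hle : n a ≤ m
        · have hlt : m - n a < m := by
            have := hn0 a ha
            omega
          exact Subalgebra.mul_mem _ (ih _ hlt _ (hy1 a ha hle)) (Algebra.subset_adjoin ha)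
        · rw [hy2 a ha hle, zero_mul]
          exact Subalgebra.zero_mem _
  rw [eq_top_iff]
  intro x _
  rw [← DirectSum.sum_support_decompose 𝒜 x]
  apply Subalgebra.sum_mem
  intro i _
  exact key i _ (decompose 𝒜 x i).2

omit [GradedAlgebra 𝒜] in
lemma exists_finset_of_isNoetherianRing [IsNoetherianRing A] :
    ∃ s : Finset A, (∀ a ∈ s, ∃ n, n ≠ 0 ∧ a ∈ 𝒜 n) ∧
      ∀ m : ℕ, m ≠ 0 → ∀ x ∈ 𝒜 m, x ∈ Ideal.span (s : Set A) := by
  let T : Set A := {a | ∃ n, n ≠ 0 ∧ a ∈ 𝒜 n}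
  have hfg : (Ideal.span T).FG := IsNoetherian.noetherian _
  obtain ⟨s, hsT, hs⟩ := (Submodule.fg_span_iff_fg_span_finset_subset T).1 hfg
  refine ⟨s, fun a ha => hsT ha, ?_⟩
  intro m hm x hx
  have : x ∈ Ideal.span T := Ideal.subset_span ⟨m, hm, hx⟩
  rw [Ideal.span, hs] at this
  exact this

lemma finiteType_of_isNoetherianRing [IsNoetherianRing A] : Algebra.FiniteType (𝒜 0) A := by
  obtain ⟨s, hs, hspan⟩ := exists_finset_of_isNoetherianRing 𝒜
  exact ⟨⟨s, adjoin_eq_top_of_grade_le_span 𝒜 s hs hspan⟩⟩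

end Groth.Agent.Lib.Helper28.GradedGenUV
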