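import Groth.Agent.Lib.Helper28.GradedGenUV
import Groth.Agent.Lib.Helper73.DimField
import Mathlib

/-!
# The irrelevant ideal of a Noetherian graded algebra over a field (helper28)
-/

set_option autoImplicit false
set_option linter.style.haveILetI false
universe u v

namespace Groth.Agent.Lib.Helper28.GradedIrr

open DirectSum

variable {K : Type u} [Field K] {A : Type v} [CommRing A] [Algebra K A]
variable (𝒜 : ℕ → Submodule K A) [GradedAlgebra 𝒜]

/-- the irrelevant ideal -/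
abbrev Pirr : Ideal A := (HomogeneousIdeal.irrelevant 𝒜).toIdeal

lemma mem_Pirr_iff (x : A) : x ∈ Pirr 𝒜 ↔ GradedRing.projZeroRingHom 𝒜 x = 0 := Iff.rfl

lemma projZero_mem (x : A) : GradedRing.projZeroRingHom 𝒜 x ∈ 𝒜 0 :=
  (decompose 𝒜 x 0).2

lemma projZero_of_mem {x : A} (hx : x ∈ 𝒜 0) : GradedRing.projZeroRingHom 𝒜 x = x :=
  decompose_of_mem_same 𝒜 hx

lemma sub_projZero_mem (x : A) : x - GradedRing.projZeroRingHom 𝒜 x ∈ Pirr 𝒜 := by
  rw [mem_Pirr_iff, map_sub, projZero_of_mem 𝒜 (projZero_mem 𝒜 _), sub_self]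

variable (h0 : ∀ a ∈ 𝒜 0, ∃ c : K, algebraMap K A c = a)

include h0 in
theorem isMaximal_Pirr [Nontrivial A] : (Pirr 𝒜).IsMaximal := by
  rw [Ideal.isMaximal_iff]
  constructor
  · rw [mem_Pirr_iff, map_one]
    exact one_ne_zero
  · intro J x hPJ hxP hxJ
    rw [mem_Pirr_iff] at hxP
    obtain ⟨c, hc⟩ := h0 _ (projZero_mem 𝒜 x)
    have hc0 : c ≠ 0 := by
      rintro rfl
      rw [map_zero] at hc
      exact hxP hc.symm
    have h1 : GradedRing.projZeroRingHom 𝒜 x ∈ J := by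
      have := J.sub_mem hxJ (hPJ (sub_projZero_mem 𝒜 x))
      rwa [sub_sub_cancel] at this
    have h2 : (1 : A) = algebraMap K A c⁻¹ * GradedRing.projZeroRingHom 𝒜 x := by
      rw [← hc, ← map_mul, inv_mul_cancel₀ hc0, map_one]
    rw [h2]
    exact J.mul_mem_left _ h1

include h0 in
theorem le_Pirr_of_isHomogeneous (I : Ideal A) (hI : I.IsHomogeneous 𝒜) (hne : I ≠ ⊤) :
    I ≤ Pirr 𝒜 := by
  intro x hx
  rw [mem_Pirr_iff]
  have h1 : GradedRing.projZeroRingHom 𝒜 x ∈ I := hI 0 hx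
  obtain ⟨c, hc⟩ := h0 _ (projZero_mem 𝒜 x)
  by_contra hne0
  have hc0 : c ≠ 0 := by
    rintro rfl
    rw [map_zero] at hc
    exact hne0 hc.symm
  apply hne
  rw [Ideal.eq_top_iff_one]
  have h2 : (1 : A) = algebraMap K A c⁻¹ * GradedRing.projZeroRingHom 𝒜 x := by
    rw [← hc, ← map_mul, inv_mul_cancel₀ hc0, map_one]
  rw [h2]
  exact I.mul_mem_left _ h1

/-- the section `A/A₊ → A` of the quotient map -/
noncomputable def phi : (A ⧸ Pirr 𝒜) →+* A :=
  Ideal.Quotient.lift (Pirr 𝒜) (GradedRing.projZeroRingHom 𝒜) (fun _ ha => ha)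

lemma phi_mk (x : A) : phi 𝒜 (Ideal.Quotient.mk _ x) = GradedRing.projZeroRingHom 𝒜 x := rfl

/-- a Noetherian graded algebra with `A₀ = K` is of finite type over the field `A/A₊` -/
theorem finiteType_phi [IsNoetherianRing A] :
    letI : Algebra (A ⧸ Pirr 𝒜) A := (phi 𝒜).toAlgebra
    Algebra.FiniteType (A ⧸ Pirr 𝒜) A := by
  letI : Algebra (A ⧸ Pirr 𝒜) A := (phi 𝒜).toAlgebra
  obtain ⟨s, hs, hspan⟩ := GradedGenUV.exists_finset_of_isNoetherianRing 𝒜
  have hadj := GradedGenUV.adjoin_eq_top_of_grade_le_span 𝒜 s hs hspan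
  refine ⟨⟨s, ?_⟩⟩
  rw [eq_top_iff]
  intro x _
  have hx : x ∈ Algebra.adjoin (𝒜 0) (s : Set A) := by rw [hadj]; trivial
  induction hx using Algebra.adjoin_induction with
  | mem x hx => exact Algebra.subset_adjoin hx
  | algebraMap r =>
    have : algebraMap (𝒜 0) A r = algebraMap (A ⧸ Pirr 𝒜) A (Ideal.Quotient.mk _ r.1) := by
      show r.1 = phi 𝒜 (Ideal.Quotient.mk _ r.1)
      rw [phi_mk, projZero_of_mem 𝒜 r.2]
    rw [this]
    exact Subalgebra.algebraMap_mem _ _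
  | add x y _ _ hx hy => exact Subalgebra.add_mem _ (hx trivial) (hy trivial)
  | mul x y _ _ hx hy => exact Subalgebra.mul_mem _ (hx trivial) (hy trivial)

include h0 in
/-- the irrelevant ideal has maximal height in a graded domain quotient -/
theorem height_map_Pirr [IsNoetherianRing A] [Nontrivial A] (p : Ideal A) [p.IsPrime]
    (hp : p ≤ Pirr 𝒜) :
    (((Pirr 𝒜).map (Ideal.Quotient.mk p)).height : WithBot ℕ∞) = ringKrullDim (A ⧸ p) := by
  haveI hmax := isMaximal_Pirr 𝒜 h0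
  letI : Field (A ⧸ Pirr 𝒜) := Ideal.Quotient.field (Pirr 𝒜)
  letI : Algebra (A ⧸ Pirr 𝒜) A := (phi 𝒜).toAlgebra
  haveI ft : Algebra.FiniteType (A ⧸ Pirr 𝒜) A := finiteType_phi 𝒜
  haveI : Algebra.FiniteType (A ⧸ Pirr 𝒜) (A ⧸ p) :=
    Algebra.FiniteType.of_surjective (Ideal.Quotient.mkₐ (A ⧸ Pirr 𝒜) p)
      (Ideal.Quotient.mkₐ_surjective _ p)
  obtain ⟨n, -, hdim, hht, -⟩ :=
    Groth.Agent.Lib.Helper73.DimFormula.exists_trdeg_eq_ringKrullDim (A ⧸ Pirr 𝒜) (A ⧸ p)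
  have hmax' : ((Pirr 𝒜).map (Ideal.Quotient.mk p)).IsMaximal := by
    rcases Ideal.map_eq_top_or_isMaximal_of_surjective (Ideal.Quotient.mk p)
      Ideal.Quotient.mk_surjective hmax with h | h
    · exfalso
      have h1 : ((Pirr 𝒜).map (Ideal.Quotient.mk p)).comap (Ideal.Quotient.mk p) = Pirr 𝒜 := by
        rw [Ideal.comap_map_of_surjective' _ Ideal.Quotient.mk_surjective, Ideal.mk_ker]
        exact sup_eq_left.2 hp
      rw [h, Ideal.comap_top] at h1
      exact hmax.ne_top h1.symm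
    · exact h
  rw [hdim, hht _]
  rfl

end Groth.Agent.Lib.Helper28.GradedIrr
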