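import Mathlib
import Groth.Prelude.Def_W4c1hilbpnTgt
import Groth.Agent.Lib.Helper68.HilbMono

/-! Monomial ideals: homomorphisms `I → S/I` from monomial data. -/

set_option autoImplicit false
universe u

namespace Groth.Agent.Lib.Helper28.HilbT

open W4c1hilbpn MvPolynomial Groth.Agent.Lib.Helper68

variable {σ : Type*} {k : Type u} [Field k]

lemma exps_add {I : Ideal (MvPolynomial σ k)} {β : σ →₀ ℕ} (h : β ∈ exps I) (δ : σ →₀ ℕ) :
    β + δ ∈ exps I := by
  change monomial (β + δ) (1 : k) ∈ I
  have : monomial (β + δ) (1 : k) = monomial β 1 * monomial δ 1 := by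
    rw [monomial_mul, mul_one]
  rw [this]
  exact Ideal.mul_mem_right _ _ h

lemma mk_monomial_eq_zero_iff {I : Ideal (MvPolynomial σ k)} (β : σ →₀ ℕ) :
    Ideal.Quotient.mk I (monomial β (1 : k)) = 0 ↔ β ∈ exps I :=
  Ideal.Quotient.eq_zero_iff_mem

/-- Decomposition of an element of a monomial ideal as a `k`-combination of its monomials. -/
lemma mem_decomp {I : Ideal (MvPolynomial σ k)} (hI : IsMonomial I) (q : MvPolynomial σ k)
    (hq : q ∈ I) :
    (⟨q, hq⟩ : I) = ∑ β ∈ q.support.attach,
      coeff β.1 q • (⟨monomial β.1 1, hI q hq β.1 β.2⟩ : I) := by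
  apply Subtype.ext
  rw [AddSubmonoidClass.coe_finsetSum]
  simp only [Submodule.coe_smul_of_tower, smul_monomial, smul_eq_mul, mul_one]
  rw [Finset.sum_attach q.support (fun β => monomial β (coeff β q))]
  exact (support_sum_monomial_coeff q).symm

/-- Two `k`-linear maps out of a monomial ideal agreeing on its monomials are equal. -/
lemma ext_monomial {I : Ideal (MvPolynomial σ k)} (hI : IsMonomial I) {M : Type*}
    [AddCommGroup M] [Module k M] (φ ψ : I →ₗ[k] M)
    (h : ∀ (β : σ →₀ ℕ) (hβ : monomial β (1 : k) ∈ I),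
      φ ⟨monomial β 1, hβ⟩ = ψ ⟨monomial β 1, hβ⟩) : φ = ψ := by
  apply LinearMap.ext
  rintro ⟨q, hq⟩
  rw [mem_decomp hI q hq, map_sum, map_sum]
  apply Finset.sum_congr rfl
  intro β _
  rw [map_smul, map_smul, h]

lemma tgt_ext {I : Ideal (MvPolynomial σ k)} (hI : IsMonomial I) (φ ψ : Tgt I)
    (h : ∀ (β : σ →₀ ℕ) (hβ : monomial β (1 : k) ∈ I),
      φ ⟨monomial β 1, hβ⟩ = ψ ⟨monomial β 1, hβ⟩) : φ = ψ := by
  have := ext_monomial hI (φ.restrictScalars k) (ψ.restrictScalars k) h
  apply LinearMap.ext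
  intro q
  exact LinearMap.congr_fun this q

section Data

variable (I : Ideal (MvPolynomial σ k)) (hI : IsMonomial I)
  (v : (σ →₀ ℕ) → MvPolynomial σ k ⧸ I)

open Classical in
/-- The `k`-linear map `S → S/I` with prescribed values on monomials of `I` (zero elsewhere). -/
noncomputable def preHom : MvPolynomial σ k →ₗ[k] (MvPolynomial σ k ⧸ I) :=
  (basisMonomials σ k).constr k (fun β => if β ∈ exps I then v β else 0)

lemma preHom_monomial (β : σ →₀ ℕ) (hβ : β ∈ exps I) (c : k) :
    preHom I v (monomial β c) = c • v β := by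
  have h1 : monomial β c = c • (basisMonomials σ k) β := by
    rw [coe_basisMonomials, smul_monomial, smul_eq_mul, mul_one]
  rw [h1, map_smul, preHom, Module.Basis.constr_basis, if_pos hβ]

variable {I v}

include hI

lemma preHom_X_mul [DecidableEq σ]
    (hv : ∀ β ∈ exps I, ∀ i, v (β + Finsupp.single i 1) = (X i : MvPolynomial σ k) • v β)
    (i : σ) (q : MvPolynomial σ k) (hq : q ∈ I) :
    preHom I v (X i * q) = (X i : MvPolynomial σ k) • preHom I v q := by
  have hdec : q = ∑ β ∈ q.support, monomial β (coeff β q) := (support_sum_monomial_coeff q).symm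
  rw [hdec, Finset.mul_sum, map_sum, map_sum, Finset.smul_sum]
  apply Finset.sum_congr rfl
  intro β hβ
  have hβI : β ∈ exps I := hI q hq β hβ
  have h1 : (X i : MvPolynomial σ k) * monomial β (coeff β q) =
      monomial (β + Finsupp.single i 1) (coeff β q) := by
    rw [mul_comm, X, monomial_mul, mul_one]
  rw [h1, preHom_monomial I v _ (exps_add hβI _), preHom_monomial I v _ hβI, hv β hβI i,
    smul_comm]

lemma preHom_mul [DecidableEq σ]
    (hv : ∀ β ∈ exps I, ∀ i, v (β + Finsupp.single i 1) = (X i : MvPolynomial σ k) • v β)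
    (p : MvPolynomial σ k) : ∀ (q : MvPolynomial σ k), q ∈ I →
    preHom I v (p * q) = p • preHom I v q := by
  induction p using MvPolynomial.induction_on with
  | C a =>
    intro q _
    rw [← algebraMap_eq, ← Algebra.smul_def, map_smul, algebraMap_smul]
  | add p p' hp hp' =>
    intro q hq
    rw [add_mul, map_add, hp q hq, hp' q hq, add_smul]
  | mul_X p i hp =>
    intro q hq
    rw [mul_assoc, hp _ (Ideal.mul_mem_left _ _ hq), preHom_X_mul hI hv i q hq, mul_smul]

variable (I v)

/-- The `S`-linear map `I → S/I` attached to compatible monomial data. -/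
noncomputable def homOfData [DecidableEq σ]
    (hv : ∀ β ∈ exps I, ∀ i, v (β + Finsupp.single i 1) = (X i : MvPolynomial σ k) • v β) :
    Tgt I where
  toFun q := preHom I v q.1
  map_add' q q' := by
    rw [Submodule.coe_add, map_add]
  map_smul' p q := by
    rw [RingHom.id_apply, Submodule.coe_smul, smul_eq_mul]
    exact preHom_mul hI hv p q.1 q.2

lemma homOfData_monomial [DecidableEq σ]
    (hv : ∀ β ∈ exps I, ∀ i, v (β + Finsupp.single i 1) = (X i : MvPolynomial σ k) • v β)
    (β : σ →₀ ℕ) (hβ : monomial β (1 : k) ∈ I) :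
    homOfData I hI v hv ⟨monomial β 1, hβ⟩ = v β := by
  change preHom I v (monomial β 1) = v β
  rw [preHom_monomial I v β hβ, one_smul]

end Data

end Groth.Agent.Lib.Helper28.HilbT
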