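import Mathlib
import Groth.Agent.Lib.Helper28.HilbT1

/-! Integer vectors, the region `(Ĩ + α) ∖ Ĩ` and the unit-step graph. -/

set_option autoImplicit false
set_option linter.unusedSectionVars false
universe u

namespace Groth.Agent.Lib.Helper28.HilbT

open W4c1hilbpn MvPolynomial Groth.Agent.Lib.Helper68

variable {σ : Type*} [Fintype σ] {k : Type u} [Field k]

/-- `β + α` as an integer vector. -/
def up (β : σ →₀ ℕ) (α : σ → ℤ) : σ → ℤ := fun i => (β i : ℤ) + α i

/-- Truncation of an integer vector to an exponent vector. -/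
noncomputable def toN (γ : σ → ℤ) : σ →₀ ℕ :=
  Finsupp.equivFunOnFinite.symm fun i => (γ i).toNat

@[simp] lemma toN_apply (γ : σ → ℤ) (i : σ) : toN γ i = (γ i).toNat := rfl

lemma shift_eq (β : σ →₀ ℕ) (α : σ → ℤ) : shift β α = toN (up β α) := rfl

@[simp] lemma up_apply (β : σ →₀ ℕ) (α : σ → ℤ) (i : σ) : up β α i = (β i : ℤ) + α i := rfl

lemma mem_region {I : Ideal (MvPolynomial σ k)} {α : σ → ℤ} {γ : σ → ℤ} :
    γ ∈ region I α ↔ (∃ β ∈ exps I, γ = up β α) ∧ ¬ ((∀ i, 0 ≤ γ i) ∧ toN γ ∈ exps I) :=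
  Iff.rfl

lemma up_mem_region_of_neg {I : Ideal (MvPolynomial σ k)} {α : σ → ℤ} {β : σ →₀ ℕ}
    (hβ : β ∈ exps I) (hneg : ∃ j, up β α j < 0) : up β α ∈ region I α := by
  refine mem_region.mpr ⟨⟨β, hβ, rfl⟩, ?_⟩
  rintro ⟨h, -⟩
  obtain ⟨j, hj⟩ := hneg
  exact absurd (h j) (not_le.mpr hj)

lemma up_mem_region_of_notMem {I : Ideal (MvPolynomial σ k)} {α : σ → ℤ} {β : σ →₀ ℕ}
    (hβ : β ∈ exps I) (hE : shift β α ∉ exps I) : up β α ∈ region I α := by
  refine mem_region.mpr ⟨⟨β, hβ, rfl⟩, ?_⟩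
  rintro ⟨-, h⟩
  exact hE h

lemma shift_notMem_of_mem_region {I : Ideal (MvPolynomial σ k)} {α : σ → ℤ} {β : σ →₀ ℕ}
    (h : up β α ∈ region I α) (hnn : ∀ i, 0 ≤ up β α i) : shift β α ∉ exps I := by
  intro hE
  exact (mem_region.mp h).2 ⟨hnn, hE⟩

section Step

variable [DecidableEq σ]

lemma up_add_single (β : σ →₀ ℕ) (α : σ → ℤ) (i : σ) :
    up (β + Finsupp.single i 1) α = up β α + Pi.single i 1 := by
  funext j
  simp only [up_apply, Finsupp.add_apply, Pi.add_apply]
  by_cases hj : j = i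
  · subst hj
    simp
    ring
  · rw [Finsupp.single_apply, if_neg (Ne.symm hj), Pi.single_apply, if_neg hj]
    simp

lemma toN_add_single (γ : σ → ℤ) (i : σ) (hi : 0 ≤ γ i) :
    toN (γ + Pi.single i 1) = toN γ + Finsupp.single i 1 := by
  ext j
  simp only [toN_apply, Pi.add_apply, Finsupp.add_apply]
  by_cases hj : j = i
  · subst hj
    simp only [Pi.single_eq_same, Finsupp.single_eq_same]
    omega
  · rw [Finsupp.single_apply, if_neg (Ne.symm hj), Pi.single_apply, if_neg hj]
    simp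

lemma shift_add_single (β : σ →₀ ℕ) (α : σ → ℤ) (i : σ) (hi : 0 ≤ up β α i) :
    shift (β + Finsupp.single i 1) α = shift β α + Finsupp.single i 1 := by
  rw [shift_eq, shift_eq, up_add_single, toN_add_single _ _ hi]

lemma stepGraph_adj_add_single (γ : σ → ℤ) (i : σ) :
    (stepGraph σ).Adj γ (γ + Pi.single i 1) := by
  rw [stepGraph, SimpleGraph.fromRel_adj]
  refine ⟨?_, Or.inl ?_⟩
  · intro h
    have := congrFun h i
    simp at this
  · rw [Finset.sum_eq_single i]
    · simp
    · intro j _ hj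
      simp [Pi.single_apply, hj]
    · intro h
      exact absurd (Finset.mem_univ i) h

omit [DecidableEq σ] in
lemma nat_sum_eq_one {f : σ → ℕ} (h : ∑ i, f i = 1) :
    ∃ i, f i = 1 ∧ ∀ j, j ≠ i → f j = 0 := by
  classical
  have hex : ∃ i, f i ≠ 0 := by
    by_contra hcon
    push Not at hcon
    rw [Finset.sum_eq_zero (fun i _ => hcon i)] at h
    exact absurd h (by norm_num)
  obtain ⟨i, hi⟩ := hex
  rw [← Finset.add_sum_erase _ _ (Finset.mem_univ i)] at h
  have h1 : f i = 1 := by omega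
  have h2 : ∑ j ∈ Finset.univ.erase i, f j = 0 := by omega
  refine ⟨i, h1, fun j hj => ?_⟩
  exact (Finset.sum_eq_zero_iff.mp h2) j (Finset.mem_erase.mpr ⟨hj, Finset.mem_univ _⟩)

lemma stepGraph_adj_iff (a b : σ → ℤ) :
    (stepGraph σ).Adj a b ↔ ∃ i, b = a + Pi.single i 1 ∨ a = b + Pi.single i 1 := by
  constructor
  · intro h
    rw [stepGraph, SimpleGraph.fromRel_adj] at h
    obtain ⟨hne, h1⟩ := h
    have key : ∀ a b : σ → ℤ, ∑ i, |a i - b i| = 1 →
        ∃ i, b = a + Pi.single i 1 ∨ a = b + Pi.single i 1 := by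
      intro a b hs
      have h2 : ((∑ i, (a i - b i).natAbs : ℕ) : ℤ) = 1 := by
        rw [Nat.cast_sum]
        rw [← hs]
        apply Finset.sum_congr rfl
        intro i _
        rw [Int.abs_eq_natAbs]
      have h3 : ∑ i, (a i - b i).natAbs = 1 := by exact_mod_cast h2
      obtain ⟨i, hi, hrest⟩ := nat_sum_eq_one h3
      refine ⟨i, ?_⟩
      have hrest' : ∀ j, j ≠ i → a j = b j := by
        intro j hj
        have := hrest j hj
        omega
      have hi' : a i - b i = 1 ∨ a i - b i = -1 := by omega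
      rcases hi' with hi' | hi'
      · right
        funext j
        by_cases hj : j = i
        · subst hj; simp; omega
        · simp [Pi.single_apply, hj, hrest' j hj]
      · left
        funext j
        by_cases hj : j = i
        · subst hj; simp; omega
        · simp [Pi.single_apply, hj, hrest' j hj]
    rcases h1 with h1 | h1
    · exact key a b h1
    · obtain ⟨i, hi⟩ := key b a h1
      exact ⟨i, hi.symm⟩
  · rintro ⟨i, rfl | rfl⟩
    · exact stepGraph_adj_add_single a i
    · exact (stepGraph_adj_add_single b i).symm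

end Step

end Groth.Agent.Lib.Helper28.HilbT
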