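import Mathlib
import Groth.Agent.Lib.Helper28.HilbT2

/-! The map from functions on good components to the graded piece. -/

set_option autoImplicit false
set_option linter.unusedSectionVars false
universe u

namespace Groth.Agent.Lib.Helper28.HilbT

open W4c1hilbpn MvPolynomial Groth.Agent.Lib.Helper68

variable {σ : Type*} [Fintype σ] [DecidableEq σ] {k : Type u} [Field k]
variable (I : Ideal (MvPolynomial σ k)) (α : σ → ℤ)

/-- The unit-step graph induced on the region. -/
abbrev RG : SimpleGraph (region I α) := (stepGraph σ).induce (region I α)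

/-- A component is good when all its points have nonnegative coordinates. -/
def Good (c : (RG I α).ConnectedComponent) : Prop :=
  ∀ v : region I α, (RG I α).connectedComponentMk v = c → ∀ i, 0 ≤ v.1 i

open Classical in
/-- Extension by zero of a function on good components to all components. -/
noncomputable def gExt (g : {c // Good I α c} → k) (c : (RG I α).ConnectedComponent) : k :=
  if hg : Good I α c then g ⟨c, hg⟩ else 0

open Classical in
/-- The function on integer vectors attached to a function on good components. -/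
noncomputable def fOf (g : {c // Good I α c} → k) (γ : σ → ℤ) : k :=
  if h : γ ∈ region I α then gExt I α g ((RG I α).connectedComponentMk ⟨γ, h⟩) else 0

variable {I α}

lemma gExt_of_not_good (g : {c // Good I α c} → k) {c : (RG I α).ConnectedComponent}
    (h : ¬ Good I α c) : gExt I α g c = 0 := by
  rw [gExt, dif_neg h]

lemma gExt_of_good (g : {c // Good I α c} → k) {c : (RG I α).ConnectedComponent}
    (h : Good I α c) : gExt I α g c = g ⟨c, h⟩ := by
  rw [gExt, dif_pos h]

lemma fOf_of_mem (g : {c // Good I α c} → k) {γ : σ → ℤ} (h : γ ∈ region I α) :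
    fOf I α g γ = gExt I α g ((RG I α).connectedComponentMk ⟨γ, h⟩) := by
  rw [fOf, dif_pos h]

lemma fOf_of_notMem (g : {c // Good I α c} → k) {γ : σ → ℤ} (h : γ ∉ region I α) :
    fOf I α g γ = 0 := by
  rw [fOf, dif_neg h]

lemma fOf_of_neg (g : {c // Good I α c} → k) {γ : σ → ℤ} (h : γ ∈ region I α)
    (hneg : ∃ j, γ j < 0) : fOf I α g γ = 0 := by
  rw [fOf_of_mem g h, gExt_of_not_good]
  intro hg
  obtain ⟨j, hj⟩ := hneg
  exact absurd (hg ⟨γ, h⟩ rfl j) (not_le.mpr hj)

lemma fOf_adj (g : {c // Good I α c} → k) {γ γ' : σ → ℤ} (h : γ ∈ region I α)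
    (h' : γ' ∈ region I α) (hadj : (stepGraph σ).Adj γ γ') : fOf I α g γ = fOf I α g γ' := by
  rw [fOf_of_mem g h, fOf_of_mem g h']
  congr 1
  apply SimpleGraph.ConnectedComponent.sound
  exact SimpleGraph.Adj.reachable (by
    rw [SimpleGraph.induce_adj]
    exact hadj)

lemma fOf_add (g g' : {c // Good I α c} → k) (γ : σ → ℤ) :
    fOf I α (g + g') γ = fOf I α g γ + fOf I α g' γ := by
  by_cases h : γ ∈ region I α
  · rw [fOf_of_mem _ h, fOf_of_mem _ h, fOf_of_mem _ h]
    by_cases hg : Good I α ((RG I α).connectedComponentMk ⟨γ, h⟩)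
    · rw [gExt_of_good _ hg, gExt_of_good _ hg, gExt_of_good _ hg, Pi.add_apply]
    · rw [gExt_of_not_good _ hg, gExt_of_not_good _ hg, gExt_of_not_good _ hg, add_zero]
  · rw [fOf_of_notMem _ h, fOf_of_notMem _ h, fOf_of_notMem _ h, add_zero]

lemma fOf_smul (a : k) (g : {c // Good I α c} → k) (γ : σ → ℤ) :
    fOf I α (a • g) γ = a * fOf I α g γ := by
  by_cases h : γ ∈ region I α
  · rw [fOf_of_mem _ h, fOf_of_mem _ h]
    by_cases hg : Good I α ((RG I α).connectedComponentMk ⟨γ, h⟩)
    · rw [gExt_of_good _ hg, gExt_of_good _ hg, Pi.smul_apply, smul_eq_mul]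
    · rw [gExt_of_not_good _ hg, gExt_of_not_good _ hg, mul_zero]
  · rw [fOf_of_notMem _ h, fOf_of_notMem _ h, mul_zero]

variable (I α)

/-- The monomial data attached to a function on good components. -/
noncomputable def vdata (g : {c // Good I α c} → k) (β : σ →₀ ℕ) : MvPolynomial σ k ⧸ I :=
  fOf I α g (up β α) • Ideal.Quotient.mk I (monomial (shift β α) (1 : k))

variable {I α}

lemma X_smul_mk_monomial (i : σ) (δ : σ →₀ ℕ) :
    (X i : MvPolynomial σ k) • Ideal.Quotient.mk I (monomial δ (1 : k)) =
      Ideal.Quotient.mk I (monomial (δ + Finsupp.single i 1) (1 : k)) := by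
  change Ideal.Quotient.mk I ((X i : MvPolynomial σ k) * monomial δ 1) = _
  congr 1
  rw [mul_comm, X, monomial_mul, mul_one]

lemma vdata_compat (g : {c // Good I α c} → k) :
    ∀ β ∈ exps I, ∀ i, vdata I α g (β + Finsupp.single i 1) =
      (X i : MvPolynomial σ k) • vdata I α g β := by
  intro β hβ i
  unfold vdata
  have hup : up (β + Finsupp.single i 1) α = up β α + Pi.single i 1 := up_add_single β α i
  have hβ' : β + Finsupp.single i 1 ∈ exps I := exps_add hβ _
  by_cases hneg : ∃ j, up β α j < 0
  · have hR : up β α ∈ region I α := up_mem_region_of_neg hβ hneg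
    rw [fOf_of_neg g hR hneg, zero_smul, smul_zero]
    by_cases hR' : up (β + Finsupp.single i 1) α ∈ region I α
    · have hadj := fOf_adj g hR hR' (by rw [hup]; exact stepGraph_adj_add_single _ i)
      rw [← hadj, fOf_of_neg g hR hneg, zero_smul]
    · rw [fOf_of_notMem g hR', zero_smul]
  · push Not at hneg
    rw [shift_add_single β α i (hneg i), smul_comm, X_smul_mk_monomial]
    by_cases hE : shift β α + Finsupp.single i 1 ∈ exps I
    · rw [(mk_monomial_eq_zero_iff _).mpr hE, smul_zero, smul_zero]
    · have hE0 : shift β α ∉ exps I := fun h => hE (exps_add h _)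
      have hR : up β α ∈ region I α := up_mem_region_of_notMem hβ hE0
      have hR' : up (β + Finsupp.single i 1) α ∈ region I α := by
        apply up_mem_region_of_notMem hβ'
        rw [shift_add_single β α i (hneg i)]
        exact hE
      rw [fOf_adj g hR hR' (by rw [hup]; exact stepGraph_adj_add_single _ i)]

variable (I α)

/-- The linear map from functions on good components to the graded piece of `T(I)`. -/
noncomputable def Psi (hI : IsMonomial I) : ({c // Good I α c} → k) →ₗ[k] tPiece I α where
  toFun g := ⟨homOfData I hI (vdata I α g) (vdata_compat g), by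
    intro β hβ
    rw [homOfData_monomial]
    refine ⟨fun _ => ?_, fun hneg => ?_⟩
    · exact Submodule.smul_mem _ _ (Submodule.mem_span_singleton_self _)
    · unfold vdata
      rw [fOf_of_neg g (up_mem_region_of_neg hβ hneg) hneg, zero_smul]⟩
  map_add' g g' := by
    apply Subtype.ext
    apply tgt_ext hI
    intro β hβ
    rw [Submodule.coe_add, LinearMap.add_apply, homOfData_monomial, homOfData_monomial,
      homOfData_monomial]
    unfold vdata
    rw [fOf_add, add_smul]
  map_smul' a g := by
    apply Subtype.ext
    apply tgt_ext hI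
    intro β hβ
    rw [RingHom.id_apply, Submodule.coe_smul, LinearMap.smul_apply, homOfData_monomial,
      homOfData_monomial]
    unfold vdata
    rw [fOf_smul, mul_smul]

lemma Psi_apply_monomial (hI : IsMonomial I) (g : {c // Good I α c} → k) (β : σ →₀ ℕ)
    (hβ : monomial β (1 : k) ∈ I) :
    (Psi I α hI g).1 ⟨monomial β 1, hβ⟩ = vdata I α g β :=
  homOfData_monomial I hI _ (vdata_compat g) β hβ

end Groth.Agent.Lib.Helper28.HilbT
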