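import Mathlib
import Groth.Agent.Lib.Helper28.HilbT3

/-! Bijectivity of `Psi`. -/

set_option autoImplicit false
set_option linter.unusedSectionVars false
universe u

namespace Groth.Agent.Lib.Helper28.HilbT

open W4c1hilbpn MvPolynomial Groth.Agent.Lib.Helper68

variable {σ : Type*} [Fintype σ] [DecidableEq σ] {k : Type u} [Field k]
variable {I : Ideal (MvPolynomial σ k)} {α : σ → ℤ}

lemma up_injective (α : σ → ℤ) {β β' : σ →₀ ℕ} (h : up β α = up β' α) : β = β' := by
  ext i
  have := congrFun h i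
  simp only [up_apply] at this
  omega

lemma exists_of_mem_region {γ : σ → ℤ} (h : γ ∈ region I α) :
    ∃ β ∈ exps I, γ = up β α := (mem_region.mp h).1

lemma mk_monomial_ne_zero {δ : σ →₀ ℕ} (h : δ ∉ exps I) :
    Ideal.Quotient.mk I (monomial δ (1 : k)) ≠ 0 :=
  fun h0 => h ((mk_monomial_eq_zero_iff δ).mp h0)

lemma Psi_injective (hI : IsMonomial I) : Function.Injective (Psi I α hI) := by
  apply (injective_iff_map_eq_zero (Psi I α hI)).mpr
  intro g hg
  funext c
  obtain ⟨c, hc⟩ := c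
  revert hc
  refine c.ind ?_
  rintro ⟨γ, hγ⟩ hc
  have hnn : ∀ i, 0 ≤ γ i := hc ⟨γ, hγ⟩ rfl
  obtain ⟨β, hβ, rfl⟩ := exists_of_mem_region hγ
  have hE : shift β α ∉ exps I := shift_notMem_of_mem_region hγ hnn
  have h1 := Psi_apply_monomial I α hI g β hβ
  rw [hg] at h1
  unfold vdata at h1
  rw [fOf_of_mem g hγ, gExt_of_good g hc] at h1
  have h2 : g ⟨_, hc⟩ • Ideal.Quotient.mk I (monomial (shift β α) (1 : k)) = 0 := by
    rw [← h1]; rfl
  rcases smul_eq_zero.mp h2 with h3 | h3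
  · exact h3
  · exact absurd h3 (mk_monomial_ne_zero hE)

section Surj

variable (φ : Tgt I) (hφ : φ ∈ tPiece I α)

lemma tPiece_X_smul (β : σ →₀ ℕ) (hβ : monomial β (1 : k) ∈ I) (i : σ)
    (hβ' : monomial (β + Finsupp.single i 1) (1 : k) ∈ I) :
    φ ⟨monomial (β + Finsupp.single i 1) 1, hβ'⟩ =
      (X i : MvPolynomial σ k) • φ ⟨monomial β 1, hβ⟩ := by
  rw [← map_smul]
  congr 1
  apply Subtype.ext
  change _ = (X i : MvPolynomial σ k) * monomial β 1
  rw [mul_comm, X, monomial_mul, mul_one]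

include hφ

lemma exists_coef (β : σ →₀ ℕ) (hβ : monomial β (1 : k) ∈ I) (hnn : ∀ i, 0 ≤ up β α i) :
    ∃ c : k, φ ⟨monomial β 1, hβ⟩ = c • Ideal.Quotient.mk I (monomial (shift β α) (1 : k)) := by
  obtain ⟨c, hc⟩ := Submodule.mem_span_singleton.mp ((hφ β hβ).1 hnn)
  exact ⟨c, hc.symm⟩

lemma exists_coef_fun : ∃ cf : (σ →₀ ℕ) → k,
    ∀ (β : σ →₀ ℕ) (hβ : monomial β (1 : k) ∈ I), (∀ i, 0 ≤ up β α i) →
      φ ⟨monomial β 1, hβ⟩ = cf β • Ideal.Quotient.mk I (monomial (shift β α) (1 : k)) := by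
  classical
  have h : ∀ β : σ →₀ ℕ, ∃ c : k, ∀ (hβ : monomial β (1 : k) ∈ I), (∀ i, 0 ≤ up β α i) →
      φ ⟨monomial β 1, hβ⟩ = c • Ideal.Quotient.mk I (monomial (shift β α) (1 : k)) := by
    intro β
    by_cases hβ : monomial β (1 : k) ∈ I ∧ ∀ i, 0 ≤ up β α i
    · obtain ⟨c, hc⟩ := exists_coef φ hφ β hβ.1 hβ.2
      exact ⟨c, fun _ _ => hc⟩
    · exact ⟨0, fun h1 h2 => absurd ⟨h1, h2⟩ hβ⟩
  choose cf hcf using h
  exact ⟨cf, hcf⟩

end Surj

/-- Inverse of `up · α`. -/
noncomputable def dn (γ : σ → ℤ) (α : σ → ℤ) : σ →₀ ℕ := toN (γ - α)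

lemma dn_up (β : σ →₀ ℕ) (α : σ → ℤ) : dn (up β α) α = β := by
  ext i
  simp [dn]

lemma Psi_surjective (hI : IsMonomial I) : Function.Surjective (Psi I α hI) := by
  classical
  rintro ⟨φ, hφ⟩
  obtain ⟨cf, hcf⟩ := exists_coef_fun φ hφ
  -- the function on integer vectors
  set f : (σ → ℤ) → k := fun γ => if (∀ i, 0 ≤ γ i) then cf (dn γ α) else 0 with hf
  have hf_nn : ∀ β : σ →₀ ℕ, (∀ i, 0 ≤ up β α i) → f (up β α) = cf β := by
    intro β h
    simp only [hf]
    rw [if_pos h, dn_up]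
  have hf_neg : ∀ γ : σ → ℤ, (∃ j, γ j < 0) → f γ = 0 := by
    intro γ h
    simp only [hf]
    rw [if_neg]
    push Not
    exact h
  -- constancy along edges
  have hstep : ∀ (γ : σ → ℤ) (i : σ), γ ∈ region I α → γ + Pi.single i 1 ∈ region I α →
      f γ = f (γ + Pi.single i 1) := by
    intro γ i hγ hγ'
    obtain ⟨β, hβ, rfl⟩ := exists_of_mem_region hγ
    have hβ' : β + Finsupp.single i 1 ∈ exps I := exps_add hβ _
    rw [← up_add_single] at hγ' ⊢
    have hlin := tPiece_X_smul φ β hβ i hβ'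
    by_cases hnn : ∀ j, 0 ≤ up β α j
    · have hnn' : ∀ j, 0 ≤ up (β + Finsupp.single i 1) α j := by
        intro j
        have h1 := hnn j
        rw [up_apply] at h1 ⊢
        rw [Finsupp.add_apply]
        have h2 : (0 : ℤ) ≤ (((Finsupp.single i 1 : σ →₀ ℕ) j : ℕ) : ℤ) := by positivity
        push_cast
        omega
      rw [hf_nn β hnn, hf_nn _ hnn']
      have hE' : shift (β + Finsupp.single i 1) α ∉ exps I :=
        shift_notMem_of_mem_region hγ' hnn'
      rw [hcf β hβ hnn, hcf _ hβ' hnn', smul_comm, X_smul_mk_monomial,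
        ← shift_add_single β α i (hnn i)] at hlin
      have h0 : (cf (β + Finsupp.single i 1) - cf β) •
          Ideal.Quotient.mk I (monomial (shift (β + Finsupp.single i 1) α) (1 : k)) = 0 := by
        rw [sub_smul, hlin, sub_self]
      rcases smul_eq_zero.mp h0 with h1 | h1
      · exact (sub_eq_zero.mp h1).symm
      · exact absurd h1 (mk_monomial_ne_zero hE')
    · push Not at hnn
      rw [hf_neg _ hnn]
      by_cases hnn' : ∀ j, 0 ≤ up (β + Finsupp.single i 1) α j
      · rw [hf_nn _ hnn']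
        have hE' : shift (β + Finsupp.single i 1) α ∉ exps I :=
          shift_notMem_of_mem_region hγ' hnn'
        rw [(hφ β hβ).2 hnn, smul_zero, hcf _ hβ' hnn'] at hlin
        rcases smul_eq_zero.mp hlin with h1 | h1
        · exact h1.symm
        · exact absurd h1 (mk_monomial_ne_zero hE')
      · push Not at hnn'
        rw [hf_neg _ hnn']
  have hadj : ∀ v w : region I α, (RG I α).Adj v w → f v.1 = f w.1 := by
    intro v w h
    rw [SimpleGraph.induce_adj] at h
    obtain ⟨i, hi | hi⟩ := (stepGraph_adj_iff _ _).mp h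
    · have := hstep v.1 i v.2 (hi ▸ w.2)
      rw [this, ← hi]
    · have := hstep w.1 i w.2 (hi ▸ v.2)
      rw [this, ← hi]
  have hreach : ∀ v w : region I α, (RG I α).Reachable v w → f v.1 = f w.1 := by
    rintro v w ⟨p⟩
    induction p with
    | nil => rfl
    | cons h _ ih => exact (hadj _ _ h).trans ih
  have hrep : ∀ c : (RG I α).ConnectedComponent, ∃ v, (RG I α).connectedComponentMk v = c :=
    fun c => c.ind (fun v => ⟨v, rfl⟩)
  choose rep hrep using hrep
  refine ⟨fun c => f (rep c.1).1, ?_⟩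
  apply Subtype.ext
  apply tgt_ext hI
  intro β hβ
  rw [Psi_apply_monomial]
  unfold vdata
  by_cases hnn : ∀ j, 0 ≤ up β α j
  · change _ = φ ⟨monomial β 1, hβ⟩
    rw [hcf β hβ hnn]
    by_cases hE : shift β α ∈ exps I
    · rw [(mk_monomial_eq_zero_iff _).mpr hE, smul_zero, smul_zero]
    · have hR : up β α ∈ region I α := up_mem_region_of_notMem hβ hE
      congr 1
      rw [fOf_of_mem _ hR, ← hf_nn β hnn]
      by_cases hg : Good I α ((RG I α).connectedComponentMk ⟨up β α, hR⟩)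
      · rw [gExt_of_good _ hg]
        exact hreach _ _ (SimpleGraph.ConnectedComponent.exact (hrep _))
      · rw [gExt_of_not_good _ hg]
        unfold Good at hg
        push Not at hg
        obtain ⟨w, hw, j, hj⟩ := hg
        have := hreach _ _ (SimpleGraph.ConnectedComponent.exact hw)
        rw [← this, hf_neg _ ⟨j, hj⟩]
  · push Not at hnn
    change _ = φ ⟨monomial β 1, hβ⟩
    rw [(hφ β hβ).2 hnn, fOf_of_neg _ (up_mem_region_of_neg hβ hnn) hnn, zero_smul]

/-- The graded piece is linearly equivalent to the functions on good components. -/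
noncomputable def PsiEquiv (hI : IsMonomial I) : ({c // Good I α c} → k) ≃ₗ[k] tPiece I α :=
  LinearEquiv.ofBijective (Psi I α hI) ⟨Psi_injective hI, Psi_surjective hI⟩

end Groth.Agent.Lib.Helper28.HilbT
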