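import Mathlib
import Groth.Agent.Lib.Helper28.HilbT4

/-! Counting: good components are the bounded ones; the bounded-components theorem. -/

set_option autoImplicit false
set_option linter.unusedSectionVars false
universe u

namespace Groth.Agent.Lib.Helper28.HilbT

open W4c1hilbpn MvPolynomial Groth.Agent.Lib.Helper68

variable {σ : Type*} [Fintype σ] [DecidableEq σ] {k : Type u} [Field k]
variable {I : Ideal (MvPolynomial σ k)} {α : σ → ℤ}

lemma toN_injOn {γ γ' : σ → ℤ} (h : ∀ i, 0 ≤ γ i) (h' : ∀ i, 0 ≤ γ' i) (he : toN γ = toN γ') :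
    γ = γ' := by
  funext i
  have := DFunLike.congr_fun he i
  simp only [toN_apply] at this
  have h1 := h i
  have h2 := h' i
  omega

lemma toN_notMem_of_mem_region {γ : σ → ℤ} (h : γ ∈ region I α) (hnn : ∀ i, 0 ≤ γ i) :
    toN γ ∉ exps I := fun hE => (mem_region.mp h).2 ⟨hnn, hE⟩

/-- The nonnegative part of the region is finite when `I` has finite colength. -/
lemma finite_nonneg_region (hI : IsMonomial I) [Module.Finite k (MvPolynomial σ k ⧸ I)] :
    Finite {v : region I α // ∀ i, 0 ≤ v.1 i} := by
  have := finite_not_mem_exps I hI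
  refine Finite.of_injective
    (fun v : {v : region I α // ∀ i, 0 ≤ v.1 i} =>
      (⟨toN v.1.1, toN_notMem_of_mem_region v.1.2 v.2⟩ : {β : σ →₀ ℕ // β ∉ exps I})) ?_
  intro v w h
  have h1 : toN v.1.1 = toN w.1.1 := congrArg Subtype.val h
  apply Subtype.ext
  apply Subtype.ext
  exact toN_injOn v.2 w.2 h1

lemma exists_rep (c : (RG I α).ConnectedComponent) :
    ∃ v, (RG I α).connectedComponentMk v = c := c.ind (fun v => ⟨v, rfl⟩)

lemma finite_good (hI : IsMonomial I) [Module.Finite k (MvPolynomial σ k ⧸ I)] :
    Finite {c // Good I α c} := by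
  have := finite_nonneg_region (α := α) hI
  have hrep : ∀ c : {c // Good I α c}, ∃ v : region I α,
      (RG I α).connectedComponentMk v = c.1 := fun c => exists_rep c.1
  choose rep hrep using hrep
  refine Finite.of_injective
    (fun c : {c // Good I α c} =>
      (⟨rep c, c.2 (rep c) (hrep c)⟩ : {v : region I α // ∀ i, 0 ≤ v.1 i})) ?_
  intro c c' h
  have h1 : rep c = rep c' := congrArg Subtype.val h
  apply Subtype.ext
  rw [← hrep c, ← hrep c', h1]

lemma good_supp_finite (hI : IsMonomial I) [Module.Finite k (MvPolynomial σ k ⧸ I)]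
    (c : (RG I α).ConnectedComponent) (hc : Good I α c) : c.supp.Finite := by
  have := finite_nonneg_region (α := α) hI
  have hsub : c.supp ⊆ Subtype.val '' (Set.univ : Set {v : region I α // ∀ i, 0 ≤ v.1 i}) := by
    intro v hv
    exact ⟨⟨v, hc v hv⟩, Set.mem_univ _, rfl⟩
  exact (Set.Finite.image _ Set.finite_univ).subset hsub

lemma up_add_single_nat (β : σ →₀ ℕ) (α : σ → ℤ) (l : σ) (t : ℕ) (j : σ) (hj : j ≠ l) :
    up (β + Finsupp.single l t) α j = up β α j := by
  simp only [up_apply, Finsupp.add_apply]
  rw [Finsupp.single_apply, if_neg (Ne.symm hj)]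
  simp

/-- A component containing a point with a negative coordinate is infinite (at least two
variables). -/
lemma supp_infinite_of_neg (h2 : ∀ i : σ, ∃ j, j ≠ i)
    (c : (RG I α).ConnectedComponent) (v : region I α) (hv : (RG I α).connectedComponentMk v = c)
    (j : σ) (hj : v.1 j < 0) : c.supp.Infinite := by
  obtain ⟨β, hβ, hvβ⟩ := exists_of_mem_region v.2
  obtain ⟨l, hl⟩ := h2 j
  have hmem : ∀ t : ℕ, up (β + Finsupp.single l t) α ∈ region I α := by
    intro t
    apply up_mem_region_of_neg (exps_add hβ _)
    refine ⟨j, ?_⟩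
    rw [up_add_single_nat β α l t j hl.symm, ← hvβ]
    exact hj
  have hcomp : ∀ t : ℕ, (RG I α).connectedComponentMk ⟨_, hmem t⟩ = c := by
    intro t
    induction t with
    | zero =>
      rw [← hv]
      congr 1
      apply Subtype.ext
      simp [hvβ]
    | succ t ih =>
      rw [← ih]
      symm
      apply SimpleGraph.ConnectedComponent.sound
      apply SimpleGraph.Adj.reachable
      rw [SimpleGraph.induce_adj]
      have : up (β + Finsupp.single l (t + 1)) α =
          up (β + Finsupp.single l t) α + Pi.single l 1 := by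
        rw [← up_add_single, add_assoc, ← Finsupp.single_add]
      change (stepGraph σ).Adj (up (β + Finsupp.single l t) α)
        (up (β + Finsupp.single l (t + 1)) α)
      rw [this]
      exact stepGraph_adj_add_single _ l
  refine Set.infinite_of_injective_forall_mem
    (f := fun t : ℕ => (⟨_, hmem t⟩ : region I α)) ?_ (fun t => hcomp t)
  intro t t' h
  have h1 : up (β + Finsupp.single l t) α = up (β + Finsupp.single l t') α :=
    congrArg Subtype.val h
  have h2 := DFunLike.congr_fun (up_injective α h1) l
  simpa using h2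

lemma good_iff_supp_finite (hI : IsMonomial I) [Module.Finite k (MvPolynomial σ k ⧸ I)]
    (h2 : ∀ i : σ, ∃ j, j ≠ i) (c : (RG I α).ConnectedComponent) :
    Good I α c ↔ c.supp.Finite := by
  constructor
  · exact good_supp_finite hI c
  · intro hfin v hv i
    by_contra hneg
    push Not at hneg
    exact supp_infinite_of_neg h2 c v hv i hneg hfin

/-- **Bounded-components theorem**. -/
theorem finrank_tPiece_eq (hI : IsMonomial I) [Module.Finite k (MvPolynomial σ k ⧸ I)]
    (h2 : ∀ i : σ, ∃ j, j ≠ i) :
    Module.finrank k (tPiece I α) = nBddComp I α := by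
  classical
  have hfin := finite_good (α := α) hI
  have := Fintype.ofFinite {c // Good I α c}
  rw [← (PsiEquiv (α := α) hI).finrank_eq, Module.finrank_fintype_fun_eq_card, nBddComp,
    ← Nat.card_eq_fintype_card]
  exact Nat.card_congr (Equiv.subtypeEquivRight (fun c => good_iff_supp_finite hI h2 c))

end Groth.Agent.Lib.Helper28.HilbT
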