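import Mathlib
import Groth.Agent.Lib.Helper28.HilbT5

/-! Nonvanishing of graded pieces from isolated points (socle monomial minus minimal generator). -/

set_option autoImplicit false
set_option linter.unusedSectionVars false
universe u

namespace Groth.Agent.Lib.Helper28.HilbT

open W4c1hilbpn MvPolynomial Groth.Agent.Lib.Helper68

variable {σ : Type*} [Fintype σ] [DecidableEq σ] {k : Type u} [Field k]
variable {I : Ideal (MvPolynomial σ k)} {α : σ → ℤ}

lemma tPiece_ne_bot_of_good (hI : IsMonomial I) (c : (RG I α).ConnectedComponent)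
    (hc : Good I α c) : tPiece I α ≠ ⊥ := by
  intro hbot
  have h1 : Psi I α hI (fun _ => (1 : k)) = 0 := by
    have h0 : ∀ φ : Tgt I, φ ∈ tPiece I α → φ = 0 := by
      intro φ hφ
      rw [hbot, Submodule.mem_bot] at hφ
      exact hφ
    exact Subtype.ext (h0 _ (Psi I α hI (fun _ => (1 : k))).2)
  have h2 := (injective_iff_map_eq_zero (Psi I α hI)).mp (Psi_injective hI) _ h1
  have := congrFun h2 ⟨c, hc⟩
  simp at this

lemma tPiece_le_sigPiece (I : Ideal (MvPolynomial σ k)) (α : σ → ℤ) (N : Set σ)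
    (h : ∀ i, α i < 0 ↔ i ∈ N) : tPiece I α ≤ sigPiece I N :=
  le_iSup (fun α : {α : σ → ℤ // ∀ i, α i < 0 ↔ i ∈ N} => tPiece I α.1) ⟨α, h⟩

/-- Coercion of an exponent vector to an integer vector. -/
def toZ (γ : σ →₀ ℕ) : σ → ℤ := fun i => (γ i : ℤ)

@[simp] lemma toZ_apply (γ : σ →₀ ℕ) (i : σ) : toZ γ i = (γ i : ℤ) := rfl

lemma toN_toZ (γ : σ →₀ ℕ) : toN (toZ γ) = γ := by
  ext i; simp

/-- If `γ` is a socle monomial (outside `I`, every multiple in `I`) and `β` a minimal monomial
generator, then the piece of `T(I)` of degree `γ - β` is non-zero. -/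
theorem tPiece_ne_bot_of_socle_of_minGen (hI : IsMonomial I) (β γ : σ →₀ ℕ) (hβ : β ∈ exps I)
    (hβmin : ∀ i, ∀ β' : σ →₀ ℕ, β' + Finsupp.single i 1 = β → β' ∉ exps I)
    (hγ : γ ∉ exps I) (hγsoc : ∀ i, γ + Finsupp.single i 1 ∈ exps I) :
    tPiece I (fun i => (γ i : ℤ) - (β i : ℤ)) ≠ ⊥ := by
  set α : σ → ℤ := fun i => (γ i : ℤ) - (β i : ℤ) with hα
  have hup : up β α = toZ γ := by
    funext i; simp [hα]
  have hR : toZ γ ∈ region I α := by
    rw [← hup]
    apply up_mem_region_of_notMem hβ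
    rw [shift_eq, hup, toN_toZ]
    exact hγ
  have hnoadj : ∀ w : region I α, ¬ (RG I α).Adj ⟨toZ γ, hR⟩ w := by
    intro w hadj
    rw [SimpleGraph.induce_adj] at hadj
    obtain ⟨i, hi | hi⟩ := (stepGraph_adj_iff _ _).mp hadj
    · -- w = γ + e_i, which lies in Ĩ
      have hw := w.2
      rw [hi] at hw
      apply (mem_region.mp hw).2
      refine ⟨fun j => ?_, ?_⟩
      · simp only [Pi.add_apply, toZ_apply]
        have : (0 : ℤ) ≤ (Pi.single i 1 : σ → ℤ) j := by
          by_cases hj : j = i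
          · subst hj; simp
          · simp [Pi.single_apply, hj]
        have h2 : (0 : ℤ) ≤ (γ j : ℤ) := by positivity
        omega
      · rw [toN_add_single _ _ (by simp), toN_toZ]
        exact hγsoc i
    · -- γ = w + e_i, so w = up β' α with β' + e_i = β
      obtain ⟨β', hβ', hw⟩ := exists_of_mem_region w.2
      have h1 : up (β' + Finsupp.single i 1) α = up β α := by
        rw [up_add_single, ← hw, hup]
        exact hi.symm
      exact hβmin i β' (up_injective α h1) hβ'
  apply tPiece_ne_bot_of_good hI ((RG I α).connectedComponentMk ⟨toZ γ, hR⟩)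
  intro v hv i
  have hreach : (RG I α).Reachable ⟨toZ γ, hR⟩ v :=
    (SimpleGraph.ConnectedComponent.exact hv).symm
  have hv' : v = ⟨toZ γ, hR⟩ := by
    obtain ⟨p⟩ := hreach
    cases p with
    | nil => rfl
    | cons h _ => exact absurd h (hnoadj _)
  rw [hv']
  simp

end Groth.Agent.Lib.Helper28.HilbT
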