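import Mathlib
import Groth.Agent.Lib.Helper28.HilbT6

/-! Vanishing of graded pieces: nonnegative degrees, and degrees with two negative entries and
no positive entry. -/

set_option autoImplicit false
set_option linter.unusedSectionVars false
universe u

namespace Groth.Agent.Lib.Helper28.HilbT

open W4c1hilbpn MvPolynomial Groth.Agent.Lib.Helper68

variable {σ : Type*} [Fintype σ] [DecidableEq σ] {k : Type u} [Field k]
variable {I : Ideal (MvPolynomial σ k)} {α : σ → ℤ}

lemma tPiece_eq_bot_of_no_good (hI : IsMonomial I) (h : ∀ c, ¬ Good I α c) : tPiece I α = ⊥ := by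
  rw [eq_bot_iff]
  intro φ hφ
  obtain ⟨g, hg⟩ := Psi_surjective hI (⟨φ, hφ⟩ : tPiece I α)
  have hg0 : g = 0 := by
    funext c
    exact absurd c.2 (h c.1)
  rw [hg0, map_zero] at hg
  rw [Submodule.mem_bot]
  have := congrArg Subtype.val hg
  exact this.symm

/-- It suffices that every nonnegative point of the region is connected to a point with a
negative coordinate. -/
lemma tPiece_eq_bot_of_reach (hI : IsMonomial I)
    (h : ∀ v : region I α, (∀ i, 0 ≤ v.1 i) →
      ∃ w : region I α, (RG I α).Reachable v w ∧ ∃ l, w.1 l < 0) : tPiece I α = ⊥ := by
  apply tPiece_eq_bot_of_no_good hI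
  intro c hc
  obtain ⟨v, hv⟩ := exists_rep c
  obtain ⟨w, hw, l, hl⟩ := h v (hc v hv)
  have hwc : (RG I α).connectedComponentMk w = c := by
    rw [← hv]
    exact (SimpleGraph.ConnectedComponent.sound hw).symm
  exact absurd (hc w hwc l) (not_le.mpr hl)

lemma up_toZ_add (β : σ →₀ ℕ) (a : σ →₀ ℕ) : up β (toZ a) = toZ (β + a) := by
  funext i
  simp

/-- Nonnegative degrees give zero pieces. -/
theorem tPiece_eq_bot_of_nonneg (hI : IsMonomial I) (hα : ∀ i, 0 ≤ α i) : tPiece I α = ⊥ := by
  apply tPiece_eq_bot_of_reach hI
  intro v hv
  exfalso
  obtain ⟨β, hβ, hvβ⟩ := exists_of_mem_region v.2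
  apply (mem_region.mp v.2).2
  refine ⟨hv, ?_⟩
  have : toN v.1 = β + toN α := by
    ext i
    rw [hvβ]
    simp only [toN_apply, up_apply, Finsupp.add_apply]
    have := hα i
    omega
  rw [this]
  exact exps_add hβ _

/-- Degrees with two negative entries and no positive entry give zero pieces (finite colength). -/
theorem tPiece_eq_bot_of_two_neg (hI : IsMonomial I) [Module.Finite k (MvPolynomial σ k ⧸ I)]
    (i j : σ) (hij : i ≠ j) (hi : α i < 0) (hj : α j < 0) (hle : ∀ l, α l ≤ 0) :
    tPiece I α = ⊥ := by
  classical
  apply tPiece_eq_bot_of_reach hI
  have hfin := finite_nonneg_region (α := α) hI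
  have hbound : ∃ m : ℤ, ∀ v : region I α, (∀ l, 0 ≤ v.1 l) → m ≤ v.1 j - v.1 i := by
    by_cases hne : Nonempty {v : region I α // ∀ l, 0 ≤ v.1 l}
    · obtain ⟨x₀, hx₀⟩ := Finite.exists_min
        (fun v : {v : region I α // ∀ l, 0 ≤ v.1 l} => v.1.1 j - v.1.1 i)
      exact ⟨_, fun v hv => hx₀ ⟨v, hv⟩⟩
    · exact ⟨0, fun v hv => absurd ⟨⟨v, hv⟩⟩ hne⟩
  obtain ⟨m, hm⟩ := hbound
  have key : ∀ t : ℕ, ∀ v : region I α, (∀ l, 0 ≤ v.1 l) → v.1 j - v.1 i - m < t →
      ∃ w : region I α, (RG I α).Reachable v w ∧ ∃ l, w.1 l < 0 := by
    intro t
    induction t with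
    | zero =>
      intro v hv hlt
      have := hm v hv
      simp only [Nat.cast_zero] at hlt
      omega
    | succ t ih =>
      rintro ⟨γ, hγ⟩ hv hlt
      simp only at hv hlt
      obtain ⟨β, hβ, hγβ⟩ := exists_of_mem_region hγ
      have hcoord : ∀ l, (β l : ℤ) = γ l - α l := by
        intro l
        have := congrFun hγβ l
        rw [up_apply] at this
        omega
      have hβj : 1 ≤ β j := by
        have h1 := hcoord j
        have h2 := hv j
        omega
      have hsingle : Finsupp.single j 1 ≤ β := by
        intro l
        by_cases hl : l = j
        · subst hl; simpa using hβj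
        · rw [Finsupp.single_apply, if_neg (Ne.symm hl)]; exact Nat.zero_le _
      set β' : σ →₀ ℕ := β - Finsupp.single j 1 with hβ'def
      have hβ'add : β' + Finsupp.single j 1 = β := tsub_add_cancel_of_le hsingle
      have hγ'add : up β' α + Pi.single j 1 = γ := by
        rw [← up_add_single, hβ'add, hγβ]
      have hshiftγ : shift β α ∉ exps I := by
        have := shift_notMem_of_mem_region (I := I) (α := α) (β := β) (hγβ ▸ hγ) (hγβ ▸ hv)
        exact this
      by_cases hβ' : β' ∈ exps I
      · by_cases hγj : γ j = 0
        · -- the neighbour has a negative coordinate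
          have hneg : ∃ l, up β' α l < 0 := by
            refine ⟨j, ?_⟩
            have := congrFun hγ'add j
            simp only [Pi.add_apply, Pi.single_eq_same] at this
            omega
          have hR' : up β' α ∈ region I α := up_mem_region_of_neg hβ' hneg
          refine ⟨⟨_, hR'⟩, ?_, hneg⟩
          apply SimpleGraph.Adj.reachable
          rw [SimpleGraph.induce_adj]
          change (stepGraph σ).Adj γ (up β' α)
          rw [← hγ'add]
          exact (stepGraph_adj_add_single _ j).symm
        · have hγjpos : 0 < γ j := lt_of_le_of_ne (hv j) (Ne.symm hγj)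
          have hnn' : ∀ l, 0 ≤ up β' α l := by
            intro l
            have := congrFun hγ'add l
            simp only [Pi.add_apply] at this
            by_cases hl : l = j
            · subst hl
              simp only [Pi.single_eq_same] at this
              omega
            · rw [Pi.single_apply, if_neg hl] at this
              have := hv l
              omega
          have hR' : up β' α ∈ region I α := by
            apply up_mem_region_of_notMem hβ'
            intro hE
            apply hshiftγ
            rw [← hβ'add, shift_add_single β' α j (hnn' j)]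
            exact exps_add hE _
          have hpot : up β' α j - up β' α i - m < t := by
            have h1 := congrFun hγ'add j
            have h2 := congrFun hγ'add i
            simp only [Pi.add_apply, Pi.single_eq_same] at h1
            rw [Pi.add_apply, Pi.single_apply, if_neg hij] at h2
            push_cast at hlt
            omega
          obtain ⟨w, hw, hwneg⟩ := ih ⟨_, hR'⟩ hnn' hpot
          refine ⟨w, ?_, hwneg⟩
          refine SimpleGraph.Reachable.trans (SimpleGraph.Adj.reachable ?_) hw
          rw [SimpleGraph.induce_adj]
          change (stepGraph σ).Adj γ (up β' α)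
          rw [← hγ'add]
          exact (stepGraph_adj_add_single _ j).symm
      · -- move up in direction i
        have hβi : β + Finsupp.single i 1 ∈ exps I := exps_add hβ _
        have hγ''add : up (β + Finsupp.single i 1) α = γ + Pi.single i 1 := by
          rw [up_add_single, hγβ]
        have hnn'' : ∀ l, 0 ≤ up (β + Finsupp.single i 1) α l := by
          intro l
          rw [hγ''add, Pi.add_apply]
          have h1 := hv l
          have h2 : (0 : ℤ) ≤ (Pi.single i 1 : σ → ℤ) l := by
            by_cases hl : l = i
            · subst hl; simp
            · rw [Pi.single_apply, if_neg hl]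
          omega
        have hR'' : up (β + Finsupp.single i 1) α ∈ region I α := by
          apply up_mem_region_of_notMem hβi
          intro hE
          apply hβ'
          rw [shift_add_single β α i (hγβ ▸ hv i)] at hE
          have hle' : shift β α + Finsupp.single i 1 ≤ β' := by
            intro l
            rw [hβ'def, Finsupp.add_apply, Finsupp.tsub_apply, shift_eq, toN_apply, ← hγβ]
            have h1 := hcoord l
            have h2 := hv l
            have h3 := hle l
            by_cases hl : l = i
            · subst hl
              rw [Finsupp.single_eq_same, Finsupp.single_apply, if_neg (Ne.symm hij)]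
              omega
            · by_cases hl' : l = j
              · subst hl'
                rw [Finsupp.single_eq_same, Finsupp.single_apply, if_neg (Ne.symm hl)]
                omega
              · rw [Finsupp.single_apply, if_neg (Ne.symm hl), Finsupp.single_apply,
                  if_neg (Ne.symm hl')]
                omega
          have := exps_add hE (β' - (shift β α + Finsupp.single i 1))
          rwa [add_tsub_cancel_of_le hle'] at this
        have hpot : up (β + Finsupp.single i 1) α j - up (β + Finsupp.single i 1) α i - m < t := by
          rw [hγ''add, Pi.add_apply, Pi.add_apply, Pi.single_eq_same, Pi.single_apply,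
            if_neg (Ne.symm hij)]
          push_cast at hlt
          omega
        obtain ⟨w, hw, hwneg⟩ := ih ⟨_, hR''⟩ hnn'' hpot
        refine ⟨w, ?_, hwneg⟩
        refine SimpleGraph.Reachable.trans (SimpleGraph.Adj.reachable ?_) hw
        rw [SimpleGraph.induce_adj]
        change (stepGraph σ).Adj γ (up (β + Finsupp.single i 1) α)
        rw [hγ''add]
        exact stepGraph_adj_add_single _ i
  intro v hv
  have h0 := hm v hv
  refine key ((v.1 j - v.1 i - m).toNat + 1) v hv ?_
  push_cast
  rw [Int.toNat_of_nonneg (by omega)]
  omega

end Groth.Agent.Lib.Helper28.HilbT
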