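import Mathlib
import Groth.Agent.Lib.Helper28.HilbT8

/-! Coordinates on `S/I` and the graded decomposition of `T(I)`. -/

set_option autoImplicit false
set_option linter.unusedSectionVars false
universe u

namespace Groth.Agent.Lib.Helper28.HilbT

open W4c1hilbpn MvPolynomial Groth.Agent.Lib.Helper68

variable {σ : Type*} [Fintype σ] [DecidableEq σ] {k : Type u} [Field k]
variable (I : Ideal (MvPolynomial σ k)) (hI : IsMonomial I)

include hI in
lemma coeff_eq_zero_of_mem {δ : σ →₀ ℕ} (hδ : δ ∉ exps I) {p : MvPolynomial σ k} (hp : p ∈ I) :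
    coeff δ p = 0 := by
  by_contra h
  exact hδ (hI p hp δ (mem_support_iff.mpr h))

/-- The coefficient functional of a monomial outside `I`, on the quotient. -/
noncomputable def coord (δ : σ →₀ ℕ) (hδ : δ ∉ exps I) : (MvPolynomial σ k ⧸ I) →ₗ[k] k :=
  ((I.restrictScalars k).liftQ (MvPolynomial.lcoeff k δ) (by
    intro p hp
    rw [LinearMap.mem_ker, lcoeff_apply]
    exact coeff_eq_zero_of_mem I hI hδ hp)) ∘ₗ
    (Submodule.Quotient.restrictScalarsEquiv k I).symm.toLinearMap

lemma coord_mk (δ : σ →₀ ℕ) (hδ : δ ∉ exps I) (p : MvPolynomial σ k) :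
    coord I hI δ hδ (Ideal.Quotient.mk I p) = coeff δ p := by
  unfold coord
  rw [LinearMap.comp_apply]
  have : (Submodule.Quotient.restrictScalarsEquiv k I).symm.toLinearMap (Ideal.Quotient.mk I p) =
      Submodule.Quotient.mk p := by
    rw [LinearEquiv.coe_coe, LinearEquiv.symm_apply_eq]
    rfl
  rw [this, Submodule.liftQ_apply, lcoeff_apply]

open Classical in
/-- Total version of `coord` (zero for monomials of `I`). -/
noncomputable def coordT (δ : σ →₀ ℕ) : (MvPolynomial σ k ⧸ I) →ₗ[k] k :=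
  if hδ : δ ∉ exps I then coord I hI δ hδ else 0

lemma coordT_mk_of_notMem (δ : σ →₀ ℕ) (hδ : δ ∉ exps I) (p : MvPolynomial σ k) :
    coordT I hI δ (Ideal.Quotient.mk I p) = coeff δ p := by
  rw [coordT, dif_pos hδ, coord_mk]

lemma coordT_of_mem (δ : σ →₀ ℕ) (hδ : δ ∈ exps I) (y : MvPolynomial σ k ⧸ I) :
    coordT I hI δ y = 0 := by
  rw [coordT, dif_neg (not_not.mpr hδ)]
  rfl

open Classical in
/-- The homogeneous component of degree `γ : σ → ℤ` of an element of `S/I`. -/
noncomputable def proj (γ : σ → ℤ) (y : MvPolynomial σ k ⧸ I) : MvPolynomial σ k ⧸ I :=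
  if (∀ i, 0 ≤ γ i) then coordT I hI (toN γ) y • Ideal.Quotient.mk I (monomial (toN γ) (1 : k))
  else 0

lemma proj_of_neg (γ : σ → ℤ) (h : ∃ i, γ i < 0) (y : MvPolynomial σ k ⧸ I) :
    proj I hI γ y = 0 := by
  rw [proj, if_neg]
  push Not
  exact h

lemma proj_of_nonneg (γ : σ → ℤ) (h : ∀ i, 0 ≤ γ i) (y : MvPolynomial σ k ⧸ I) :
    proj I hI γ y =
      coordT I hI (toN γ) y • Ideal.Quotient.mk I (monomial (toN γ) (1 : k)) := by
  rw [proj, if_pos h]

lemma proj_of_mem (γ : σ → ℤ) (h : toN γ ∈ exps I) (y : MvPolynomial σ k ⧸ I) :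
    proj I hI γ y = 0 := by
  by_cases hnn : ∀ i, 0 ≤ γ i
  · rw [proj_of_nonneg I hI γ hnn, coordT_of_mem I hI _ h, zero_smul]
  · push Not at hnn
    exact proj_of_neg I hI γ hnn y

/-- Multiplication by a variable shifts homogeneous components. -/
lemma X_smul_proj (γ : σ → ℤ) (i : σ) (y : MvPolynomial σ k ⧸ I) :
    (X i : MvPolynomial σ k) • proj I hI γ y =
      proj I hI (γ + Pi.single i 1) ((X i : MvPolynomial σ k) • y) := by
  obtain ⟨p, rfl⟩ := Ideal.Quotient.mk_surjective y
  have hXy : (X i : MvPolynomial σ k) • Ideal.Quotient.mk I p = Ideal.Quotient.mk I (X i * p) :=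
    rfl
  by_cases hnn : ∀ l, 0 ≤ γ l
  · have hnn' : ∀ l, 0 ≤ (γ + (Pi.single i 1 : σ → ℤ)) l := by
      intro l
      rw [Pi.add_apply]
      have h1 := hnn l
      have h2 : (0 : ℤ) ≤ (Pi.single i 1 : σ → ℤ) l := by
        by_cases hl : l = i
        · subst hl; simp
        · rw [Pi.single_apply, if_neg hl]
      omega
    rw [proj_of_nonneg I hI γ hnn, proj_of_nonneg I hI _ hnn', toN_add_single γ i (hnn i),
      smul_comm, X_smul_mk_monomial]
    by_cases hE : toN γ + Finsupp.single i 1 ∈ exps I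
    · rw [(mk_monomial_eq_zero_iff _).mpr hE, smul_zero, smul_zero]
    · have hE0 : toN γ ∉ exps I := fun h => hE (exps_add h _)
      rw [hXy, coordT_mk_of_notMem I hI _ hE, coordT_mk_of_notMem I hI _ hE0, mul_comm,
        coeff_mul_X]
  · push Not at hnn
    rw [proj_of_neg I hI γ hnn, smul_zero]
    by_cases hnn' : ∀ l, 0 ≤ (γ + (Pi.single i 1 : σ → ℤ)) l
    · -- then γ i = -1 and the new i-th coordinate is 0
      obtain ⟨l, hl⟩ := hnn
      have hli : l = i := by
        by_contra hne
        have := hnn' l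
        rw [Pi.add_apply, Pi.single_apply, if_neg hne] at this
        omega
      subst hli
      have h0 : toN (γ + Pi.single l 1) l = 0 := by
        have := hnn' l
        rw [Pi.add_apply, Pi.single_eq_same] at this
        rw [toN_apply, Pi.add_apply, Pi.single_eq_same]
        omega
      rw [proj_of_nonneg I hI _ hnn']
      by_cases hE : toN (γ + Pi.single l 1) ∈ exps I
      · rw [coordT_of_mem I hI _ hE, zero_smul]
      · rw [hXy, coordT_mk_of_notMem I hI _ hE, coeff_X_mul', if_neg, zero_smul]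
        rw [Finsupp.mem_support_iff, h0]
        exact fun h => h rfl
    · push Not at hnn'
      rw [proj_of_neg I hI _ hnn']

end Groth.Agent.Lib.Helper28.HilbT
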