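import Mathlib
import Groth.Agent.Lib.Helper28.HilbT9

/-! Homogeneous components of `φ ∈ T(I)` and the decomposition `T(I) = ⨆ α, T(I)_α`. -/

set_option autoImplicit false
set_option linter.unusedSectionVars false
universe u

namespace Groth.Agent.Lib.Helper28.HilbT

open W4c1hilbpn MvPolynomial Groth.Agent.Lib.Helper68

variable {σ : Type*} [Fintype σ] [DecidableEq σ] {k : Type u} [Field k]
variable (I : Ideal (MvPolynomial σ k)) (hI : IsMonomial I)

open Classical in
/-- Value of `φ` on the monomial `x^β` (zero if `x^β ∉ I`). -/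
noncomputable def val (φ : Tgt I) (β : σ →₀ ℕ) : MvPolynomial σ k ⧸ I :=
  if h : monomial β (1 : k) ∈ I then φ ⟨monomial β 1, h⟩ else 0

lemma val_of_mem (φ : Tgt I) (β : σ →₀ ℕ) (hβ : monomial β (1 : k) ∈ I) :
    val I φ β = φ ⟨monomial β 1, hβ⟩ := by
  rw [val, dif_pos hβ]

lemma val_add_single (φ : Tgt I) (β : σ →₀ ℕ) (hβ : β ∈ exps I) (i : σ) :
    val I φ (β + Finsupp.single i 1) = (X i : MvPolynomial σ k) • val I φ β := by
  rw [val_of_mem I φ β hβ, val_of_mem I φ _ (exps_add hβ _)]
  exact tPiece_X_smul φ β hβ i _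

/-- The data of the homogeneous component of degree `α`. -/
noncomputable def compData (φ : Tgt I) (α : σ → ℤ) (β : σ →₀ ℕ) : MvPolynomial σ k ⧸ I :=
  proj I hI (up β α) (val I φ β)

lemma compData_compat (φ : Tgt I) (α : σ → ℤ) :
    ∀ β ∈ exps I, ∀ i, compData I hI φ α (β + Finsupp.single i 1) =
      (X i : MvPolynomial σ k) • compData I hI φ α β := by
  intro β hβ i
  unfold compData
  rw [val_add_single I φ β hβ, up_add_single, ← X_smul_proj]

/-- The homogeneous component of degree `α` of `φ`. -/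
noncomputable def comp (φ : Tgt I) (α : σ → ℤ) : Tgt I :=
  homOfData I hI (compData I hI φ α) (compData_compat I hI φ α)

lemma comp_monomial (φ : Tgt I) (α : σ → ℤ) (β : σ →₀ ℕ) (hβ : monomial β (1 : k) ∈ I) :
    comp I hI φ α ⟨monomial β 1, hβ⟩ = proj I hI (up β α) (φ ⟨monomial β 1, hβ⟩) := by
  unfold comp
  rw [homOfData_monomial, compData, val_of_mem I φ β hβ]

lemma comp_mem (φ : Tgt I) (α : σ → ℤ) : comp I hI φ α ∈ tPiece I α := by
  intro β hβ
  rw [comp_monomial]
  refine ⟨fun hnn => ?_, fun hneg => ?_⟩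
  · rw [proj_of_nonneg I hI (up β α) hnn, shift_eq]
    exact Submodule.smul_mem _ _ (Submodule.mem_span_singleton_self _)
  · exact proj_of_neg I hI _ hneg _

section Finite

variable [Module.Finite k (MvPolynomial σ k ⧸ I)]

/-- The finite set of exponents of monomials outside `I`. -/
noncomputable def compl : Finset (σ →₀ ℕ) :=
  (show Set.Finite {β : σ →₀ ℕ | β ∉ exps I} from finite_not_mem_exps I hI).toFinset

lemma mem_compl (δ : σ →₀ ℕ) : δ ∈ compl I hI ↔ δ ∉ exps I := by
  unfold compl
  rw [Set.Finite.mem_toFinset]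
  rfl

/-- Expansion of an element of `S/I` into homogeneous components. -/
lemma eq_sum_proj (y : MvPolynomial σ k ⧸ I) :
    y = ∑ δ ∈ compl I hI, proj I hI (toZ δ) y := by
  classical
  obtain ⟨p, rfl⟩ := Ideal.Quotient.mk_surjective y
  have h1 : ∀ δ ∈ compl I hI, proj I hI (toZ δ) (Ideal.Quotient.mk I p) =
      coeff δ p • Ideal.Quotient.mk I (monomial δ (1 : k)) := by
    intro δ hδ
    rw [proj_of_nonneg I hI _ (fun i => by simp), toN_toZ,
      coordT_mk_of_notMem I hI δ ((mem_compl I hI δ).mp hδ)]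
  rw [Finset.sum_congr rfl h1]
  have h2 : Ideal.Quotient.mk I p =
      ∑ δ ∈ p.support, coeff δ p • Ideal.Quotient.mk I (monomial δ (1 : k)) := by
    conv_lhs => rw [← support_sum_monomial_coeff p]
    rw [map_sum]
    apply Finset.sum_congr rfl
    intro δ _
    have : monomial δ (coeff δ p) = coeff δ p • monomial δ (1 : k) := by
      rw [smul_monomial, smul_eq_mul, mul_one]
    rw [this]
    rfl
  rw [h2]
  have e1 : ∑ δ ∈ p.support, coeff δ p • Ideal.Quotient.mk I (monomial δ (1 : k)) =
      ∑ δ ∈ p.support ∪ compl I hI, coeff δ p • Ideal.Quotient.mk I (monomial δ (1 : k)) := by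
    apply Finset.sum_subset Finset.subset_union_left
    intro δ _ hδ
    rw [mem_support_iff, not_not] at hδ
    rw [hδ, zero_smul]
  have e2 : ∑ δ ∈ compl I hI, coeff δ p • Ideal.Quotient.mk I (monomial δ (1 : k)) =
      ∑ δ ∈ p.support ∪ compl I hI, coeff δ p • Ideal.Quotient.mk I (monomial δ (1 : k)) := by
    apply Finset.sum_subset Finset.subset_union_right
    intro δ _ hδ
    rw [mem_compl, not_not] at hδ
    rw [(mk_monomial_eq_zero_iff δ).mpr hδ, smul_zero]
  rw [e1, e2]

end Finite

end Groth.Agent.Lib.Helper28.HilbT
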