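import Mathlib
import Groth.Agent.Lib.Helper28.HilbT10

/-! `T(I)` is spanned by its graded pieces (finite colength). -/

set_option autoImplicit false
set_option linter.unusedSectionVars false
universe u

namespace Groth.Agent.Lib.Helper28.HilbT

open W4c1hilbpn MvPolynomial Groth.Agent.Lib.Helper68

variable {σ : Type*} [Fintype σ] [DecidableEq σ] {k : Type u} [Field k]
variable (I : Ideal (MvPolynomial σ k)) (hI : IsMonomial I)
variable [Module.Finite k (MvPolynomial σ k ⧸ I)]

/-- A bound for the exponents of monomials outside `I`. -/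
noncomputable def bnd : ℕ := (compl I hI).sup (fun δ => Finset.univ.sup (fun i => δ i)) + 1

lemma lt_bnd {δ : σ →₀ ℕ} (hδ : δ ∉ exps I) (i : σ) : δ i < bnd I hI := by
  have h1 : δ i ≤ Finset.univ.sup (fun i => δ i) :=
    Finset.le_sup (f := fun i => δ i) (Finset.mem_univ i)
  have h2 : Finset.univ.sup (fun i => δ i) ≤
      (compl I hI).sup (fun δ => Finset.univ.sup (fun i => δ i)) :=
    Finset.le_sup (f := fun δ : σ →₀ ℕ => Finset.univ.sup (fun i => δ i))
      ((mem_compl I hI δ).mpr hδ)
  unfold bnd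
  omega

/-- The constant exponent vector with all entries `bnd`. -/
noncomputable def cbox : σ →₀ ℕ := Finsupp.equivFunOnFinite.symm (fun _ => bnd I hI)

@[simp] lemma cbox_apply (i : σ) : cbox I hI i = bnd I hI := rfl

lemma inf_cbox_mem {β : σ →₀ ℕ} (hβ : β ∈ exps I) : β ⊓ cbox I hI ∈ exps I := by
  by_contra hcon
  have h1 : ∀ i, (β ⊓ cbox I hI) i < bnd I hI := fun i => lt_bnd I hI hcon i
  have h2 : β ⊓ cbox I hI = β := by
    ext i
    have := h1 i
    rw [Finsupp.inf_apply, cbox_apply] at this ⊢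
    omega
  rw [h2] at hcon
  exact hcon hβ

/-- Every element of `T(I)` is the sum of its homogeneous components over a finite set of
degrees. -/
theorem exists_finset_eq_sum_comp (φ : Tgt I) :
    ∃ A : Finset (σ → ℤ), φ = ∑ α ∈ A, comp I hI φ α := by
  classical
  set F := compl I hI with hF
  set G : Finset (σ →₀ ℕ) := Finset.Icc 0 (cbox I hI) with hG
  set A : Finset (σ → ℤ) := Finset.image₂ (fun δ β₀ => toZ δ - toZ β₀) F G with hA
  refine ⟨A, ?_⟩
  -- agreement on the generators in the box
  have hgen : ∀ (β₀ : σ →₀ ℕ) (hβ₀ : monomial β₀ (1 : k) ∈ I), β₀ ∈ G →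
      φ ⟨monomial β₀ 1, hβ₀⟩ = (∑ α ∈ A, comp I hI φ α) ⟨monomial β₀ 1, hβ₀⟩ := by
    intro β₀ hβ₀ hβ₀G
    rw [LinearMap.sum_apply]
    simp_rw [comp_monomial]
    set y := φ ⟨monomial β₀ 1, hβ₀⟩ with hy
    set F' : Finset (σ → ℤ) := F.image (fun δ => toZ δ - toZ β₀) with hF'
    have hsub : F' ⊆ A := by
      intro α hα
      obtain ⟨δ, hδ, rfl⟩ := Finset.mem_image.mp hα
      exact Finset.mem_image₂.mpr ⟨δ, hδ, β₀, hβ₀G, rfl⟩
    have hup : ∀ δ : σ →₀ ℕ, up β₀ (toZ δ - toZ β₀) = toZ δ := by
      intro δ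
      funext i
      simp
    rw [← Finset.sum_subset hsub]
    · rw [hF', Finset.sum_image]
      · simp_rw [hup]
        exact eq_sum_proj I hI y
      · intro δ _ δ' _ h
        have h1 : toZ δ = toZ δ' := by
          have := congrArg (fun α => up β₀ α) h
          simpa [hup] using this
        ext i
        have := congrFun h1 i
        simpa using this
    · intro α _ hα
      by_cases hnn : ∀ i, 0 ≤ up β₀ α i
      · by_cases hE : toN (up β₀ α) ∈ exps I
        · exact proj_of_mem I hI _ hE _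
        · exfalso
          apply hα
          rw [hF', Finset.mem_image]
          refine ⟨toN (up β₀ α), (mem_compl I hI _).mpr hE, ?_⟩
          funext i
          have := hnn i
          simp only [Pi.sub_apply, toZ_apply, toN_apply, up_apply] at this ⊢
          omega
      · push Not at hnn
        exact proj_of_neg I hI _ hnn _
  apply tgt_ext hI
  intro β hβ
  have hβ₀ : β ⊓ cbox I hI ∈ exps I := inf_cbox_mem I hI hβ
  have hβ₀G : β ⊓ cbox I hI ∈ G := by
    rw [hG, Finset.mem_Icc]
    exact ⟨zero_le, inf_le_right⟩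
  have hdecomp : (⟨monomial β 1, hβ⟩ : I) =
      (monomial (β - β ⊓ cbox I hI) (1 : k)) • (⟨monomial (β ⊓ cbox I hI) 1, hβ₀⟩ : I) := by
    apply Subtype.ext
    change monomial β (1 : k) = monomial (β - β ⊓ cbox I hI) (1 : k) * monomial (β ⊓ cbox I hI) 1
    rw [monomial_mul, mul_one, tsub_add_cancel_of_le inf_le_left]
  rw [hdecomp, map_smul, map_smul, hgen _ hβ₀ hβ₀G]

include hI in
/-- `T(I)` is spanned by its graded pieces. -/
theorem iSup_tPiece_eq_top : (⨆ α : σ → ℤ, tPiece I α) = ⊤ := by
  rw [eq_top_iff]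
  intro φ _
  obtain ⟨A, hA⟩ := exists_finset_eq_sum_comp I hI φ
  rw [hA]
  apply Submodule.sum_mem
  intro α _
  exact Submodule.mem_iSup_of_mem α (comp_mem I hI φ α)

end Groth.Agent.Lib.Helper28.HilbT
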