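import Mathlib
import Groth.Agent.Lib.Helper28.HilbT6

/-! Three variables: a non-zero piece with two negative entries from three mixed generators. -/

set_option autoImplicit false
set_option linter.unusedSectionVars false
universe u

namespace Groth.Agent.Lib.Helper28.HilbT

open W4c1hilbpn MvPolynomial Groth.Agent.Lib.Helper68

variable {k : Type u} [Field k] {I : Ideal (MvPolynomial (Fin 3) k)}

/-- The exponent vector with entries `A, B, C` at the positions `p, q, r`. -/
noncomputable def V (p q r : Fin 3) (A B C : ℕ) : Fin 3 →₀ ℕ :=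
  Finsupp.single p A + Finsupp.single q B + Finsupp.single r C

section

variable {p q r : Fin 3} (hpq : p ≠ q) (hpr : p ≠ r) (hqr : q ≠ r)

include hpq hpr hqr

lemma V_p (A B C : ℕ) : V p q r A B C p = A := by
  simp [V, Finsupp.single_apply, hpq.symm, hpr.symm]

lemma V_q (A B C : ℕ) : V p q r A B C q = B := by
  simp [V, Finsupp.single_apply, hpq, hqr.symm]

lemma V_r (A B C : ℕ) : V p q r A B C r = C := by
  simp [V, Finsupp.single_apply, hpr, hqr]

lemma cover (l : Fin 3) : l = p ∨ l = q ∨ l = r := by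
  fin_cases p <;> fin_cases q <;> fin_cases r <;> fin_cases l <;> simp_all

lemma V_ext {δ : Fin 3 →₀ ℕ} {A B C : ℕ} (h1 : δ p = A) (h2 : δ q = B) (h3 : δ r = C) :
    δ = V p q r A B C := by
  ext l
  rcases cover hpq hpr hqr l with rfl | rfl | rfl
  · rw [h1, V_p hpq hpr hqr]
  · rw [h2, V_q hpq hpr hqr]
  · rw [h3, V_r hpq hpr hqr]

omit hpq hpr hqr in
lemma V_add (p q r : Fin 3) (A B C A' B' C' : ℕ) :
    V p q r A B C + V p q r A' B' C' = V p q r (A + A') (B + B') (C + C') := by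
  simp only [V, Finsupp.single_add]
  abel

omit hpq hpr hqr in
lemma V_add_single_p (p q r : Fin 3) (A B C : ℕ) :
    V p q r A B C + Finsupp.single p 1 = V p q r (A + 1) B C := by
  simp only [V, Finsupp.single_add]
  abel

omit hpq hpr hqr in
lemma V_add_single_q (p q r : Fin 3) (A B C : ℕ) :
    V p q r A B C + Finsupp.single q 1 = V p q r A (B + 1) C := by
  simp only [V, Finsupp.single_add]
  abel

omit hpq hpr hqr in
lemma V_add_single_r (p q r : Fin 3) (A B C : ℕ) :
    V p q r A B C + Finsupp.single r 1 = V p q r A B (C + 1) := by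
  simp only [V, Finsupp.single_add]
  abel

omit hpq hpr hqr in
lemma V_mem_of_le {A B C A' B' C' : ℕ} (p q r : Fin 3) (h : V p q r A B C ∈ exps I)
    (hA : A ≤ A') (hB : B ≤ B') (hC : C ≤ C') : V p q r A' B' C' ∈ exps I := by
  have := exps_add h (V p q r (A' - A) (B' - B) (C' - C))
  rw [V_add] at this
  have e1 : A + (A' - A) = A' := by omega
  have e2 : B + (B' - B) = B' := by omega
  have e3 : C + (C' - C) = C' := by omega
  rwa [e1, e2, e3] at this

theorem exists_two_neg (hI : IsMonomial I) [Module.Finite k (MvPolynomial (Fin 3) k ⧸ I)]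
    (A B A' C' B' C'' : ℕ) (hA : 0 < A) (hB : 0 < B) (hA' : 0 < A') (hB' : 0 < B')
    (h1 : V p q r A B 0 ∈ exps I) (h2 : V p q r (A - 1) B 0 ∉ exps I)
    (h3 : V p q r A (B - 1) 0 ∉ exps I)
    (h4 : V p q r A' 0 C' ∈ exps I) (h5 : V p q r (A' - 1) 0 C' ∉ exps I)
    (h6 : V p q r 0 B' C'' ∈ exps I) (h7 : V p q r 0 (B' - 1) C'' ∉ exps I)
    (hAA : A' ≤ A) (hBB : B' ≤ B) :
    ∃ α : Fin 3 → ℤ, (∀ l, α l < 0 ↔ (l = p ∨ l = q)) ∧ tPiece I α ≠ ⊥ := by
  classical
  -- a pure power of the r-th variable lies in I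
  have hexN : ∃ N : ℕ, V p q r 0 0 N ∈ exps I := by
    by_contra hcon
    push Not at hcon
    have hfin := finite_not_mem_exps I hI
    have hinj : Function.Injective
        (fun n : ℕ => (⟨V p q r 0 0 n, hcon n⟩ : {β : Fin 3 →₀ ℕ // β ∉ exps I})) := by
      intro n n' h
      have h' : V p q r 0 0 n = V p q r 0 0 n' := congrArg Subtype.val h
      have := DFunLike.congr_fun h' r
      rwa [V_r hpq hpr hqr, V_r hpq hpr hqr] at this
    exact not_injective_infinite_finite _ hinj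
  -- minimal such power
  set N := Nat.find hexN with hN
  have hNmem : V p q r 0 0 N ∈ exps I := Nat.find_spec hexN
  have hNmin : ∀ n, n < N → V p q r 0 0 n ∉ exps I := fun n hn => Nat.find_min hexN hn
  have hC' : C' < N := by
    by_contra hcon
    push Not at hcon
    exact h5 (V_mem_of_le p q r hNmem (Nat.zero_le _) (le_refl _) hcon)
  have hC'' : C'' < N := by
    by_contra hcon
    push Not at hcon
    exact h7 (V_mem_of_le p q r hNmem (le_refl _) (Nat.zero_le _) hcon)
  have hNpos : 0 < N := by omega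
  -- the set of candidate base points
  set D : Finset (ℕ × ℕ) := ((Finset.range A) ×ˢ (Finset.range B)).filter
    (fun ij => V p q r ij.1 ij.2 (N - 1) ∉ exps I) with hD
  have hDne : D.Nonempty := by
    refine ⟨(0, 0), ?_⟩
    rw [hD, Finset.mem_filter, Finset.mem_product, Finset.mem_range, Finset.mem_range]
    exact ⟨⟨hA, hB⟩, hNmin (N - 1) (by omega)⟩
  obtain ⟨⟨i, j⟩, hijD, hmax⟩ := Finset.exists_max_image D (fun ij => ij.1 + ij.2) hDne
  rw [hD, Finset.mem_filter, Finset.mem_product, Finset.mem_range, Finset.mem_range] at hijD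
  obtain ⟨⟨hiA, hjB⟩, hγ⟩ := hijD
  simp only at hiA hjB hγ
  -- socle property
  have hsoc : ∀ l, V p q r i j (N - 1) + Finsupp.single l 1 ∈ exps I := by
    intro l
    rcases cover hpq hpr hqr l with rfl | rfl | rfl
    · rw [V_add_single_p]
      by_cases hlt : i + 1 < A
      · by_contra hcon
        have hmem : (i + 1, j) ∈ D := by
          rw [hD, Finset.mem_filter, Finset.mem_product, Finset.mem_range, Finset.mem_range]
          exact ⟨⟨hlt, hjB⟩, hcon⟩
        have := hmax (i + 1, j) hmem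
        simp only at this
        omega
      · have hi1 : i + 1 = A := by omega
        rw [hi1]
        exact V_mem_of_le l q r h4 hAA (Nat.zero_le _) (by omega)
    · rw [V_add_single_q]
      by_cases hlt : j + 1 < B
      · by_contra hcon
        have hmem : (i, j + 1) ∈ D := by
          rw [hD, Finset.mem_filter, Finset.mem_product, Finset.mem_range, Finset.mem_range]
          exact ⟨⟨hiA, hlt⟩, hcon⟩
        have := hmax (i, j + 1) hmem
        simp only at this
        omega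
      · have hj1 : j + 1 = B := by omega
        rw [hj1]
        exact V_mem_of_le p l r h6 (Nat.zero_le _) hBB (by omega)
    · rw [V_add_single_r]
      have e' : N - 1 + 1 = N := by omega
      rw [e']
      exact V_mem_of_le p q l hNmem (Nat.zero_le _) (Nat.zero_le _) (le_refl _)
  -- minimal generator property
  have hmin : ∀ l, ∀ β' : Fin 3 →₀ ℕ, β' + Finsupp.single l 1 = V p q r A B 0 →
      β' ∉ exps I := by
    intro l β' hβ'
    have hp' := DFunLike.congr_fun hβ' p
    have hq' := DFunLike.congr_fun hβ' q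
    have hr' := DFunLike.congr_fun hβ' r
    rw [Finsupp.add_apply, V_p hpq hpr hqr] at hp'
    rw [Finsupp.add_apply, V_q hpq hpr hqr] at hq'
    rw [Finsupp.add_apply, V_r hpq hpr hqr] at hr'
    rcases cover hpq hpr hqr l with rfl | rfl | rfl
    · rw [Finsupp.single_eq_same] at hp'
      rw [Finsupp.single_eq_of_ne hpq.symm] at hq'
      rw [Finsupp.single_eq_of_ne hpr.symm] at hr'
      have : β' = V l q r (A - 1) B 0 :=
        V_ext hpq hpr hqr (by omega) (by omega) (by omega)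
      rw [this]
      exact h2
    · rw [Finsupp.single_eq_same] at hq'
      rw [Finsupp.single_eq_of_ne hpq] at hp'
      rw [Finsupp.single_eq_of_ne hqr.symm] at hr'
      have : β' = V p l r A (B - 1) 0 :=
        V_ext hpq hpr hqr (by omega) (by omega) (by omega)
      rw [this]
      exact h3
    · rw [Finsupp.single_eq_same] at hr'
      omega
  refine ⟨fun l => ((V p q r i j (N - 1)) l : ℤ) - ((V p q r A B 0) l : ℤ), ?_,
    tPiece_ne_bot_of_socle_of_minGen hI _ _ h1 hmin hγ hsoc⟩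
  intro l
  beta_reduce
  rcases cover hpq hpr hqr l with rfl | rfl | rfl
  · rw [V_p hpq hpr hqr, V_p hpq hpr hqr]
    constructor
    · intro _; exact Or.inl rfl
    · intro _; omega
  · rw [V_q hpq hpr hqr, V_q hpq hpr hqr]
    constructor
    · intro _; exact Or.inr rfl
    · intro _; omega
  · rw [V_r hpq hpr hqr, V_r hpq hpr hqr]
    constructor
    · intro h; omega
    · rintro (h | h)
      · exact absurd h hpr.symm
      · exact absurd h hqr.symm

end

end Groth.Agent.Lib.Helper28.HilbT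

namespace Groth.Agent.Lib.Helper28.HilbT

open W4c1hilbpn MvPolynomial Groth.Agent.Lib.Helper68

variable {k : Type u} [Field k] {I : Ideal (MvPolynomial (Fin 3) k)}

lemma e3_eq_V012 (a b c : ℕ) : e3 a b c = V 0 1 2 a b c :=
  V_ext (by decide) (by decide) (by decide) rfl rfl rfl

lemma e3_eq_V021 (a b c : ℕ) : e3 a b c = V 0 2 1 a c b :=
  V_ext (by decide) (by decide) (by decide) rfl rfl rfl

lemma e3_eq_V120 (a b c : ℕ) : e3 a b c = V 1 2 0 b c a :=
  V_ext (by decide) (by decide) (by decide) rfl rfl rfl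

lemma sigPiece_ne_bot_of_tPiece (p q : Fin 3) (α : Fin 3 → ℤ)
    (hα : ∀ l, α l < 0 ↔ (l = p ∨ l = q)) (h : tPiece I α ≠ ⊥) :
    sigPiece I ({p, q} : Set (Fin 3)) ≠ ⊥ := by
  intro hbot
  apply h
  have := tPiece_le_sigPiece I α ({p, q} : Set (Fin 3)) (by
    intro l
    rw [hα l]
    simp [Set.mem_insert_iff])
  rw [hbot] at this
  exact le_bot_iff.mp this

theorem three_gens_two_neg (hI : IsMonomial I) [Module.Finite k (MvPolynomial (Fin 3) k ⧸ I)]
    (a1 a2 b1 b3 c2 c3 : ℕ) (ha1 : 0 < a1) (ha2 : 0 < a2) (hb1 : 0 < b1) (hb3 : 0 < b3)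
    (hc2 : 0 < c2) (hc3 : 0 < c3)
    (hA : e3 a1 a2 0 ∈ exps I ∧ e3 (a1 - 1) a2 0 ∉ exps I ∧ e3 a1 (a2 - 1) 0 ∉ exps I)
    (hB : e3 b1 0 b3 ∈ exps I ∧ e3 (b1 - 1) 0 b3 ∉ exps I ∧ e3 b1 0 (b3 - 1) ∉ exps I)
    (hC : e3 0 c2 c3 ∈ exps I ∧ e3 0 (c2 - 1) c3 ∉ exps I ∧ e3 0 c2 (c3 - 1) ∉ exps I)
    (hcase : (b1 ≤ a1 ∧ c2 ≤ a2) ∨ (a1 ≤ b1 ∧ c3 ≤ b3) ∨ (a2 ≤ c2 ∧ b3 ≤ c3)) :
    sigPiece I ({0, 1} : Set (Fin 3)) ≠ ⊥ ∨ sigPiece I ({0, 2} : Set (Fin 3)) ≠ ⊥ ∨
      sigPiece I ({1, 2} : Set (Fin 3)) ≠ ⊥ := by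
  rcases hcase with ⟨h1, h2⟩ | ⟨h1, h2⟩ | ⟨h1, h2⟩
  · left
    obtain ⟨α, hα, hne⟩ := exists_two_neg (p := 0) (q := 1) (r := 2) (by decide) (by decide)
      (by decide) hI a1 a2 b1 b3 c2 c3 ha1 ha2 hb1 hc2
      (by rw [← e3_eq_V012]; exact hA.1) (by rw [← e3_eq_V012]; exact hA.2.1)
      (by rw [← e3_eq_V012]; exact hA.2.2)
      (by rw [← e3_eq_V012]; exact hB.1) (by rw [← e3_eq_V012]; exact hB.2.1)
      (by rw [← e3_eq_V012]; exact hC.1) (by rw [← e3_eq_V012]; exact hC.2.1) h1 h2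
    exact sigPiece_ne_bot_of_tPiece 0 1 α hα hne
  · right; left
    obtain ⟨α, hα, hne⟩ := exists_two_neg (p := 0) (q := 2) (r := 1) (by decide) (by decide)
      (by decide) hI b1 b3 a1 a2 c3 c2 hb1 hb3 ha1 hc3
      (by rw [← e3_eq_V021]; exact hB.1) (by rw [← e3_eq_V021]; exact hB.2.1)
      (by rw [← e3_eq_V021]; exact hB.2.2)
      (by rw [← e3_eq_V021]; exact hA.1) (by rw [← e3_eq_V021]; exact hA.2.1)
      (by rw [← e3_eq_V021]; exact hC.1) (by rw [← e3_eq_V021]; exact hC.2.2) h1 h2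
    exact sigPiece_ne_bot_of_tPiece 0 2 α hα hne
  · right; right
    obtain ⟨α, hα, hne⟩ := exists_two_neg (p := 1) (q := 2) (r := 0) (by decide) (by decide)
      (by decide) hI c2 c3 a2 a1 b3 b1 hc2 hc3 ha2 hb3
      (by rw [← e3_eq_V120]; exact hC.1) (by rw [← e3_eq_V120]; exact hC.2.1)
      (by rw [← e3_eq_V120]; exact hC.2.2)
      (by rw [← e3_eq_V120]; exact hA.1) (by rw [← e3_eq_V120]; exact hA.2.2)
      (by rw [← e3_eq_V120]; exact hB.1) (by rw [← e3_eq_V120]; exact hB.2.2) h1 h2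
    exact sigPiece_ne_bot_of_tPiece 1 2 α hα hne

end Groth.Agent.Lib.Helper28.HilbT
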