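import Mathlib
import Groth.Agent.Lib.Helper28.HilbT11
import Groth.Agent.Lib.Helper28.HilbT7

/-! Strongly stable ideals in three variables: `x ∈ I` iff no piece with two negative entries. -/

set_option autoImplicit false
set_option linter.unusedSectionVars false
universe u

namespace Groth.Agent.Lib.Helper28.HilbT

open W4c1hilbpn MvPolynomial Groth.Agent.Lib.Helper68

section General

variable {σ : Type*} [Fintype σ] [DecidableEq σ] {k : Type u} [Field k]
variable {I : Ideal (MvPolynomial σ k)} {α : σ → ℤ}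

lemma exps_of_le {β β' : σ →₀ ℕ} (h : β ∈ exps I) (hle : β ≤ β') : β' ∈ exps I := by
  have := exps_add h (β' - β)
  rwa [add_tsub_cancel_of_le hle] at this

lemma exists_pure_power (hI : IsMonomial I) [Module.Finite k (MvPolynomial σ k ⧸ I)] (i : σ) :
    ∃ N : ℕ, Finsupp.single i N ∈ exps I := by
  by_contra hcon
  push Not at hcon
  have hfin := finite_not_mem_exps I hI
  have hinj : Function.Injective
      (fun n : ℕ => (⟨Finsupp.single i n, hcon n⟩ : {β : σ →₀ ℕ // β ∉ exps I})) := by
    intro n n' h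
    have h' : Finsupp.single i n = Finsupp.single i n' := congrArg Subtype.val h
    have := DFunLike.congr_fun h' i
    simpa using this
  exact not_injective_infinite_finite _ hinj

/-- Descending along the coordinate `j` inside the region until the coordinate becomes negative. -/
lemma exists_reach_neg_of_descend (v : region I α) (hv : ∀ l, 0 ≤ v.1 l) (β : σ →₀ ℕ)
    (hvβ : v.1 = up β α) (j : σ) (hαj : α j < 0)
    (hpath : ∀ t : ℕ, (t : ℤ) ≤ v.1 j + 1 → β - Finsupp.single j t ∈ exps I) :
    ∃ w : region I α, (RG I α).Reachable v w ∧ ∃ l, w.1 l < 0 := by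
  have hβj : (β j : ℤ) = v.1 j - α j := by
    have := congrFun hvβ j
    rw [up_apply] at this
    omega
  have hup : ∀ t : ℕ, (t : ℤ) ≤ v.1 j + 1 →
      up (β - Finsupp.single j t) α + (t : ℤ) • (Pi.single j 1 : σ → ℤ) = v.1 := by
    intro t ht
    rw [hvβ]
    funext l
    simp only [Pi.add_apply, up_apply, Pi.smul_apply, Finsupp.tsub_apply, smul_eq_mul]
    by_cases hl : l = j
    · subst hl
      rw [Finsupp.single_eq_same, Pi.single_eq_same]
      have : t ≤ β l := by omega
      push_cast [this]
      ring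
    · rw [Finsupp.single_apply, if_neg (Ne.symm hl), Pi.single_apply, if_neg hl]
      simp
  have hnotE : toN v.1 ∉ exps I := toN_notMem_of_mem_region v.2 hv
  have hmem : ∀ t : ℕ, (t : ℤ) ≤ v.1 j + 1 → up (β - Finsupp.single j t) α ∈ region I α := by
    intro t ht
    have h1 := hup t ht
    by_cases htj : (t : ℤ) ≤ v.1 j
    · apply up_mem_region_of_notMem (hpath t ht)
      intro hE
      apply hnotE
      refine exps_of_le hE ?_
      intro l
      rw [shift_eq, toN_apply, toN_apply]
      have := congrFun h1 l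
      simp only [Pi.add_apply, Pi.smul_apply, smul_eq_mul] at this
      have h2 : (0 : ℤ) ≤ (t : ℤ) * (Pi.single j 1 : σ → ℤ) l := by
        by_cases hl : l = j
        · subst hl; rw [Pi.single_eq_same]; positivity
        · rw [Pi.single_apply, if_neg hl]; simp
      omega
    · apply up_mem_region_of_neg (hpath t ht)
      refine ⟨j, ?_⟩
      have := congrFun h1 j
      simp only [Pi.add_apply, Pi.smul_apply, smul_eq_mul, Pi.single_eq_same] at this
      omega
  have hreach : ∀ t : ℕ, ∀ ht : (t : ℤ) ≤ v.1 j + 1,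
      (RG I α).Reachable v ⟨_, hmem t ht⟩ := by
    intro t
    induction t with
    | zero =>
      intro ht
      have : (⟨_, hmem 0 ht⟩ : region I α) = v := by
        apply Subtype.ext
        have := hup 0 ht
        simpa using this
      rw [this]
    | succ t ih =>
      intro ht
      have ht' : (t : ℤ) ≤ v.1 j + 1 := by push_cast at ht; omega
      refine (ih ht').trans (SimpleGraph.Adj.reachable ?_)
      rw [SimpleGraph.induce_adj]
      change (stepGraph σ).Adj (up (β - Finsupp.single j t) α)
        (up (β - Finsupp.single j (t + 1)) α)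
      have e : up (β - Finsupp.single j t) α =
          up (β - Finsupp.single j (t + 1)) α + Pi.single j 1 := by
        have h1 := hup t ht'
        have h2 := hup (t + 1) ht
        have h3 : up (β - Finsupp.single j t) α + (t : ℤ) • (Pi.single j 1 : σ → ℤ) =
            up (β - Finsupp.single j (t + 1)) α + ((t + 1 : ℕ) : ℤ) • (Pi.single j 1 : σ → ℤ) := by
          rw [h1, h2]
        push_cast at h3
        rw [add_smul, one_smul, ← add_assoc] at h3
        have h4 : up (β - Finsupp.single j t) α + (t : ℤ) • (Pi.single j 1 : σ → ℤ) =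
            (up (β - Finsupp.single j (t + 1)) α + Pi.single j 1) +
              (t : ℤ) • (Pi.single j 1 : σ → ℤ) := by
          rw [h3]; abel
        exact add_right_cancel h4
      rw [e]
      exact (stepGraph_adj_add_single _ j).symm
  have hT : (((v.1 j + 1).toNat : ℕ) : ℤ) ≤ v.1 j + 1 := by
    have := hv j
    omega
  refine ⟨⟨_, hmem _ hT⟩, hreach _ hT, j, ?_⟩
  have := congrFun (hup _ hT) j
  simp only [Pi.add_apply, Pi.smul_apply, smul_eq_mul, Pi.single_eq_same] at this
  have h2 := hv j
  change up (β - Finsupp.single j (v.1 j + 1).toNat) α j < 0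
  omega

end General

end Groth.Agent.Lib.Helper28.HilbT

namespace Groth.Agent.Lib.Helper28.HilbT

open W4c1hilbpn MvPolynomial Groth.Agent.Lib.Helper68

variable {k : Type u} [Field k] {I : Ideal (MvPolynomial (Fin 3) k)}

lemma sigPiece_eq_bot (N : Set (Fin 3))
    (h : ∀ α : Fin 3 → ℤ, (∀ i, α i < 0 ↔ i ∈ N) → tPiece I α = ⊥) : sigPiece I N = ⊥ := by
  unfold sigPiece
  rw [iSup_eq_bot]
  rintro ⟨α, hα⟩
  exact h α hα

/-- With `x ∈ I`, a nonnegative point of the region has vanishing `0`-th coordinate. -/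
lemma coord0_eq_zero (hx : Finsupp.single (0 : Fin 3) 1 ∈ exps I) {α : Fin 3 → ℤ}
    (v : region I α) (hv : ∀ l, 0 ≤ v.1 l) : v.1 0 = 0 := by
  by_contra hne
  have hpos : 1 ≤ v.1 0 := by
    have := hv 0
    omega
  apply toN_notMem_of_mem_region v.2 hv
  apply exps_of_le hx
  intro l
  by_cases hl : l = 0
  · subst hl
    rw [Finsupp.single_eq_same, toN_apply]
    omega
  · rw [Finsupp.single_apply, if_neg (Ne.symm hl)]
    exact Nat.zero_le _

/-- With `x ∈ I`, pieces negative at `0` and at one other index vanish. -/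
lemma tPiece_eq_bot_of_x_mem_neg0 (hI : IsMonomial I)
    (hx : Finsupp.single (0 : Fin 3) 1 ∈ exps I) (α : Fin 3 → ℤ) (j : Fin 3) (hj : j ≠ 0)
    (h0 : α 0 < 0) (hαj : α j < 0) : tPiece I α = ⊥ := by
  apply tPiece_eq_bot_of_reach hI
  intro v hv
  obtain ⟨β, hβ, hvβ⟩ := exists_of_mem_region v.2
  have hv0 := coord0_eq_zero hx v hv
  have hβ0 : 1 ≤ β 0 := by
    have := congrFun hvβ 0
    rw [up_apply] at this
    omega
  apply exists_reach_neg_of_descend v hv β hvβ j hαj
  intro t _
  apply exps_of_le hx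
  intro l
  by_cases hl : l = 0
  · subst hl
    rw [Finsupp.single_eq_same, Finsupp.tsub_apply, Finsupp.single_apply, if_neg hj]
    omega
  · rw [Finsupp.single_apply, if_neg (Ne.symm hl)]
    exact Nat.zero_le _

/-- With `x ∈ I`, pieces negative exactly at `1, 2` vanish. -/
lemma tPiece_eq_bot_of_x_mem_neg12 (hI : IsMonomial I)
    [Module.Finite k (MvPolynomial (Fin 3) k ⧸ I)]
    (hx : Finsupp.single (0 : Fin 3) 1 ∈ exps I) (α : Fin 3 → ℤ)
    (h0 : 0 ≤ α 0) (h1 : α 1 < 0) (h2 : α 2 < 0) : tPiece I α = ⊥ := by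
  by_cases h00 : α 0 = 0
  · apply tPiece_eq_bot_of_two_neg hI 1 2 (by decide) h1 h2
    intro l
    fin_cases l
    · exact h00.le
    · exact h1.le
    · exact h2.le
  · apply tPiece_eq_bot_of_reach hI
    intro v hv
    exfalso
    obtain ⟨β, hβ, hvβ⟩ := exists_of_mem_region v.2
    have hv0 := coord0_eq_zero hx v hv
    have := congrFun hvβ 0
    rw [up_apply] at this
    omega

theorem no_two_neg_of_x_mem (hI : IsMonomial I) [Module.Finite k (MvPolynomial (Fin 3) k ⧸ I)]
    (hx : Finsupp.single (0 : Fin 3) 1 ∈ exps I) :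
    sigPiece I ({1, 2} : Set (Fin 3)) = ⊥ ∧ sigPiece I ({0, 2} : Set (Fin 3)) = ⊥ ∧
      sigPiece I ({0, 1} : Set (Fin 3)) = ⊥ := by
  refine ⟨?_, ?_, ?_⟩
  · apply sigPiece_eq_bot
    intro α hα
    apply tPiece_eq_bot_of_x_mem_neg12 hI hx α
    · by_contra h
      push Not at h
      have := (hα 0).mp h
      simp at this
    · exact (hα 1).mpr (by simp)
    · exact (hα 2).mpr (by simp)
  · apply sigPiece_eq_bot
    intro α hα
    exact tPiece_eq_bot_of_x_mem_neg0 hI hx α 2 (by decide) ((hα 0).mpr (by simp))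
      ((hα 2).mpr (by simp))
  · apply sigPiece_eq_bot
    intro α hα
    exact tPiece_eq_bot_of_x_mem_neg0 hI hx α 1 (by decide) ((hα 0).mpr (by simp))
      ((hα 1).mpr (by simp))

end Groth.Agent.Lib.Helper28.HilbT

namespace Groth.Agent.Lib.Helper28.HilbT

open W4c1hilbpn MvPolynomial Groth.Agent.Lib.Helper68

variable {k : Type u} [Field k] {I : Ideal (MvPolynomial (Fin 3) k)}

lemma single_eq_V0 (n : ℕ) : Finsupp.single (0 : Fin 3) n = V 0 1 2 n 0 0 :=
  V_ext (by decide) (by decide) (by decide) (by simp) (by simp) (by simp)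

lemma single_eq_V1 (n : ℕ) : Finsupp.single (1 : Fin 3) n = V 0 1 2 0 n 0 :=
  V_ext (by decide) (by decide) (by decide) (by simp) (by simp) (by simp)

lemma single_eq_V2 (n : ℕ) : Finsupp.single (2 : Fin 3) n = V 0 1 2 0 0 n :=
  V_ext (by decide) (by decide) (by decide) (by simp) (by simp) (by simp)

theorem two_neg_of_x_notMem (hI : IsStronglyStable I)
    [Module.Finite k (MvPolynomial (Fin 3) k ⧸ I)]
    (hx : Finsupp.single (0 : Fin 3) 1 ∉ exps I) :
    sigPiece I ({0, 1} : Set (Fin 3)) ≠ ⊥ := by
  classical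
  obtain ⟨hmon, hss⟩ := hI
  have h01 : (0 : Fin 3) ≠ 1 := by decide
  have h02 : (0 : Fin 3) ≠ 2 := by decide
  have h12 : (1 : Fin 3) ≠ 2 := by decide
  -- zero is not an exponent of I
  have hzero : (0 : Fin 3 →₀ ℕ) ∉ exps I := fun h => hx (exps_of_le h zero_le)
  -- minimal pure powers of y and z
  have hexc := exists_pure_power hmon (I := I) (2 : Fin 3)
  have hexb := exists_pure_power hmon (I := I) (1 : Fin 3)
  set c := Nat.find hexc with hc
  set b := Nat.find hexb with hb
  have hcmem : Finsupp.single (2 : Fin 3) c ∈ exps I := Nat.find_spec hexc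
  have hbmem : Finsupp.single (1 : Fin 3) b ∈ exps I := Nat.find_spec hexb
  have hbmin : ∀ n, n < b → Finsupp.single (1 : Fin 3) n ∉ exps I :=
    fun n hn => Nat.find_min hexb hn
  have hcmin : ∀ n, n < c → Finsupp.single (2 : Fin 3) n ∉ exps I :=
    fun n hn => Nat.find_min hexc hn
  have hcpos : 0 < c := by
    by_contra h
    have : c = 0 := by omega
    rw [this, Finsupp.single_zero] at hcmem
    exact hzero hcmem
  have hbpos : 0 < b := by
    by_contra h
    have : b = 0 := by omega
    rw [this, Finsupp.single_zero] at hbmem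
    exact hzero hbmem
  -- x y^(b-1) ∈ I
  have hxy : V 0 1 2 1 (b - 1) 0 ∈ exps I := by
    have := hss _ hbmem 0 1 (by decide) (by simp; omega)
    have e : Finsupp.single (1 : Fin 3) b - Finsupp.single 1 1 + Finsupp.single 0 1 =
        V 0 1 2 1 (b - 1) 0 := by
      apply V_ext h01 h02 h12 <;> simp
    rwa [e] at this
  have hexj : ∃ j : ℕ, V 0 1 2 1 j 0 ∈ exps I := ⟨b - 1, hxy⟩
  set j := Nat.find hexj with hj
  have hjmem : V 0 1 2 1 j 0 ∈ exps I := Nat.find_spec hexj
  have hjmin : ∀ n, n < j → V 0 1 2 1 n 0 ∉ exps I := fun n hn => Nat.find_min hexj hn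
  have hjle : j ≤ b - 1 := Nat.find_min' hexj hxy
  have hjpos : 0 < j := by
    by_contra h
    have : j = 0 := by omega
    rw [this, ← single_eq_V0] at hjmem
    exact hx hjmem
  -- socle element z^(c-1)
  have hγ : V 0 1 2 0 0 (c - 1) ∉ exps I := by
    rw [← single_eq_V2]
    exact hcmin (c - 1) (by omega)
  have hsoc : ∀ l, V 0 1 2 0 0 (c - 1) + Finsupp.single l 1 ∈ exps I := by
    intro l
    have hc1 : c - 1 + 1 = c := by omega
    fin_cases l
    · have := hss _ hcmem 0 2 (by decide) (by simp; omega)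
      have e : Finsupp.single (2 : Fin 3) c - Finsupp.single 2 1 + Finsupp.single 0 1 =
          V 0 1 2 0 0 (c - 1) + Finsupp.single 0 1 := by
        rw [V_add_single_p]
        apply V_ext h01 h02 h12 <;> simp
      rw [e] at this
      exact this
    · have := hss _ hcmem 1 2 (by decide) (by simp; omega)
      have e : Finsupp.single (2 : Fin 3) c - Finsupp.single 2 1 + Finsupp.single 1 1 =
          V 0 1 2 0 0 (c - 1) + Finsupp.single 1 1 := by
        rw [V_add_single_q]
        apply V_ext h01 h02 h12 <;> simp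
      rw [e] at this
      exact this
    · change V 0 1 2 0 0 (c - 1) + Finsupp.single 2 1 ∈ exps I
      rw [V_add_single_r, hc1, ← single_eq_V2]
      exact hcmem
  -- minimal generator x y^j
  have hmin : ∀ l, ∀ β' : Fin 3 →₀ ℕ, β' + Finsupp.single l 1 = V 0 1 2 1 j 0 →
      β' ∉ exps I := by
    intro l β' hβ'
    have hp' := DFunLike.congr_fun hβ' 0
    have hq' := DFunLike.congr_fun hβ' 1
    have hr' := DFunLike.congr_fun hβ' 2
    rw [Finsupp.add_apply, V_p h01 h02 h12] at hp'
    rw [Finsupp.add_apply, V_q h01 h02 h12] at hq'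
    rw [Finsupp.add_apply, V_r h01 h02 h12] at hr'
    fin_cases l
    · simp only [Fin.zero_eta, Finsupp.single_eq_same] at hp'
      rw [Finsupp.single_apply, if_neg (by decide)] at hq' hr'
      have : β' = V 0 1 2 0 j 0 := V_ext h01 h02 h12 (by omega) (by omega) (by omega)
      rw [this, ← single_eq_V1]
      exact hbmin j (by omega)
    · simp only [Fin.mk_one, Finsupp.single_eq_same] at hq'
      rw [Finsupp.single_apply, if_neg (by decide)] at hp' hr'
      have : β' = V 0 1 2 1 (j - 1) 0 := V_ext h01 h02 h12 (by omega) (by omega) (by omega)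
      rw [this]
      exact hjmin (j - 1) (by omega)
    · simp only [Fin.reduceFinMk, Finsupp.single_eq_same] at hr'
      omega
  have hne := tPiece_ne_bot_of_socle_of_minGen hmon _ _ hjmem hmin hγ hsoc
  apply sigPiece_ne_bot_of_tPiece 0 1 _ _ hne
  intro l
  fin_cases l
  · simp only [Fin.zero_eta]
    rw [V_p h01 h02 h12, V_p h01 h02 h12]
    simp
  · simp only [Fin.mk_one]
    rw [V_q h01 h02 h12, V_q h01 h02 h12]
    simp
    omega
  · simp only [Fin.reduceFinMk]
    rw [V_r h01 h02 h12, V_r h01 h02 h12]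
    simp

end Groth.Agent.Lib.Helper28.HilbT
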