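import Mathlib
import Groth.Agent.Lib.Helper28.HilbT12

/-! Staircase numbers of a monomial ideal of finite colength in three variables. -/

set_option autoImplicit false
set_option linter.unusedSectionVars false
universe u

namespace Groth.Agent.Lib.Helper28.HilbT

open W4c1hilbpn MvPolynomial Groth.Agent.Lib.Helper68

lemma mem_iff_lt_card_of_down (S : Set ℕ) (hfin : S.Finite)
    (hdown : ∀ c ∈ S, ∀ c' ≤ c, c' ∈ S) (c : ℕ) : c ∈ S ↔ c < Nat.card S := by
  classical
  have hex : ∃ m, m ∉ S := by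
    by_contra hcon
    push Not at hcon
    have : S = Set.univ := Set.eq_univ_of_forall hcon
    rw [this] at hfin
    exact Set.infinite_univ hfin
  set m := Nat.find hex with hm
  have hmS : m ∉ S := Nat.find_spec hex
  have hlt : ∀ c, c < m → c ∈ S := fun c hc => not_not.mp (Nat.find_min hex hc)
  have hS : S = Set.Iio m := by
    ext c
    constructor
    · intro hc
      by_contra hcm
      rw [Set.mem_Iio, not_lt] at hcm
      exact hmS (hdown c hc m hcm)
    · intro hc
      exact hlt c hc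
  have hcard : Nat.card S = m := by
    rw [hS, Nat.card_coe_set_eq, ← Finset.coe_Iio, Set.ncard_coe_finset, Nat.card_Iio]
  rw [hcard, hS]
  rfl

variable {k : Type u} [Field k] {I : Ideal (MvPolynomial (Fin 3) k)}

lemma e3_mem_of_le {a b c a' b' c' : ℕ} (h : e3 a b c ∈ exps I) (ha : a ≤ a') (hb : b ≤ b')
    (hc : c ≤ c') : e3 a' b' c' ∈ exps I := by
  rw [e3_eq_V012] at h ⊢
  exact V_mem_of_le 0 1 2 h ha hb hc

lemma e3_apply0 (a b c : ℕ) : e3 a b c 0 = a := rfl
lemma e3_apply1 (a b c : ℕ) : e3 a b c 1 = b := rfl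
lemma e3_apply2 (a b c : ℕ) : e3 a b c 2 = c := rfl

lemma eq_e3 (δ : Fin 3 →₀ ℕ) : δ = e3 (δ 0) (δ 1) (δ 2) := by
  ext l
  fin_cases l <;> rfl

lemma e3_injective {a b c a' b' c' : ℕ} (h : e3 a b c = e3 a' b' c') :
    a = a' ∧ b = b' ∧ c = c' :=
  ⟨DFunLike.congr_fun h 0, DFunLike.congr_fun h 1, DFunLike.congr_fun h 2⟩

section Stair

variable (hI : IsMonomial I) [Module.Finite k (MvPolynomial (Fin 3) k ⧸ I)]

include hI

lemma e3_notMem_iff (a b c : ℕ) : e3 a b c ∉ exps I ↔ c < stairZ I a b := by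
  have hfinF := finite_not_mem_exps I hI
  have hfin : {c : ℕ | e3 a b c ∉ exps I}.Finite := by
    apply Set.Finite.of_injOn (f := fun c => e3 a b c) (t := {β | β ∉ exps I})
    · intro c hc; exact hc
    · intro c _ c' _ h; exact (e3_injective h).2.2
    · exact hfinF
  have hdown : ∀ c ∈ {c : ℕ | e3 a b c ∉ exps I}, ∀ c' ≤ c, c' ∈ {c : ℕ | e3 a b c ∉ exps I} := by
    intro c hc c' hc' hmem
    exact hc (e3_mem_of_le hmem (le_refl _) (le_refl _) hc')
  exact mem_iff_lt_card_of_down _ hfin hdown c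

lemma e3_mem_iff (a b c : ℕ) : e3 a b c ∈ exps I ↔ stairZ I a b ≤ c := by
  rw [← not_lt, ← e3_notMem_iff hI, not_not]

lemma stairZ_succ_left_le (a b : ℕ) : stairZ I (a + 1) b ≤ stairZ I a b := by
  by_contra h
  push Not at h
  have h1 : e3 a b (stairZ I a b) ∈ exps I := (e3_mem_iff hI _ _ _).mpr (le_refl _)
  have h2 : e3 (a + 1) b (stairZ I a b) ∉ exps I := (e3_notMem_iff hI _ _ _).mpr h
  exact h2 (e3_mem_of_le h1 (Nat.le_succ _) (le_refl _) (le_refl _))

lemma stairZ_succ_right_le (a b : ℕ) : stairZ I a (b + 1) ≤ stairZ I a b := by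
  by_contra h
  push Not at h
  have h1 : e3 a b (stairZ I a b) ∈ exps I := (e3_mem_iff hI _ _ _).mpr (le_refl _)
  have h2 : e3 a (b + 1) (stairZ I a b) ∉ exps I := (e3_notMem_iff hI _ _ _).mpr h
  exact h2 (e3_mem_of_le h1 (le_refl _) (Nat.le_succ _) (le_refl _))

lemma stairZ_anti {a b a' b' : ℕ} (ha : a ≤ a') (hb : b ≤ b') : stairZ I a' b' ≤ stairZ I a b := by
  by_contra h
  push Not at h
  have h1 : e3 a b (stairZ I a b) ∈ exps I := (e3_mem_iff hI _ _ _).mpr (le_refl _)
  have h2 : e3 a' b' (stairZ I a b) ∉ exps I := (e3_notMem_iff hI _ _ _).mpr h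
  exact h2 (e3_mem_of_le h1 ha hb (le_refl _))

end Stair

end Groth.Agent.Lib.Helper28.HilbT
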