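import Mathlib
import Groth.Agent.Lib.Helper28.HilbT13

/-! Top points of bounded components in degrees `(a1, a2, -s)`. -/

set_option autoImplicit false
set_option linter.unusedSectionVars false
universe u

namespace Groth.Agent.Lib.Helper28.HilbT

open W4c1hilbpn MvPolynomial Groth.Agent.Lib.Helper68

variable {k : Type u} [Field k] {I : Ideal (MvPolynomial (Fin 3) k)}

/-- The degree `(a1, a2, -s)`. -/
def αs (a1 a2 s : ℕ) : Fin 3 → ℤ := ![(a1 : ℤ), (a2 : ℤ), -(s : ℤ)]

@[simp] lemma αs_0 (a1 a2 s : ℕ) : αs a1 a2 s 0 = a1 := rfl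
@[simp] lemma αs_1 (a1 a2 s : ℕ) : αs a1 a2 s 1 = a2 := rfl
@[simp] lemma αs_2 (a1 a2 s : ℕ) : αs a1 a2 s 2 = -(s : ℤ) := rfl

/-- The weight used to select a top point. -/
def wt3 (γ : Fin 3 → ℤ) : ℤ ×ₗ ℤ := toLex (γ 0 + γ 1, -γ 2)

variable {a1 a2 s : ℕ}

/-- `v` is a top point of the component `c`. -/
structure IsTop (c : (RG I (αs a1 a2 s)).ConnectedComponent) (v : region I (αs a1 a2 s)) :
    Prop where
  mem : (RG I (αs a1 a2 s)).connectedComponentMk v = c
  max : ∀ w : region I (αs a1 a2 s), (RG I (αs a1 a2 s)).connectedComponentMk w = c →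
    wt3 w.1 ≤ wt3 v.1

lemma exists_isTop (hI : IsMonomial I) [Module.Finite k (MvPolynomial (Fin 3) k ⧸ I)]
    (c : (RG I (αs a1 a2 s)).ConnectedComponent) (hc : Good I (αs a1 a2 s) c) :
    ∃ v, IsTop c v := by
  classical
  have hfin := good_supp_finite hI c hc
  obtain ⟨v0, hv0⟩ := exists_rep c
  have hne : hfin.toFinset.Nonempty := ⟨v0, by
    rw [Set.Finite.mem_toFinset]
    exact hv0⟩
  obtain ⟨v, hv, hmax⟩ := Finset.exists_max_image hfin.toFinset (fun w => wt3 w.1) hne
  rw [Set.Finite.mem_toFinset] at hv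
  refine ⟨v, hv, fun w hw => hmax w ?_⟩
  rw [Set.Finite.mem_toFinset]
  exact hw

lemma wt3_lt_of_add0 (γ : Fin 3 → ℤ) : wt3 γ < wt3 (γ + Pi.single 0 1) := by
  unfold wt3
  rw [Prod.Lex.toLex_lt_toLex]
  left
  simp

lemma wt3_lt_of_add1 (γ : Fin 3 → ℤ) : wt3 γ < wt3 (γ + Pi.single 1 1) := by
  unfold wt3
  rw [Prod.Lex.toLex_lt_toLex]
  left
  simp

lemma wt3_lt_of_sub2 (γ γ' : Fin 3 → ℤ) (h : γ' + Pi.single 2 1 = γ) : wt3 γ < wt3 γ' := by
  unfold wt3
  rw [Prod.Lex.toLex_lt_toLex]
  right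
  have h0 := congrFun h 0
  have h1 := congrFun h 1
  have h2 := congrFun h 2
  simp at h0 h1 h2
  constructor
  · rw [← h0, ← h1]
  · simp only
    omega

lemma e3_add_single0 (a b c : ℕ) : e3 a b c + Finsupp.single 0 1 = e3 (a + 1) b c := by
  rw [e3_eq_V012, e3_eq_V012, V_add_single_p]

lemma e3_add_single1 (a b c : ℕ) : e3 a b c + Finsupp.single 1 1 = e3 a (b + 1) c := by
  rw [e3_eq_V012, e3_eq_V012, V_add_single_q]

lemma e3_add_single2 (a b c : ℕ) : e3 a b c + Finsupp.single 2 1 = e3 a b (c + 1) := by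
  rw [e3_eq_V012, e3_eq_V012, V_add_single_r]

theorem isTop_props (hI : IsMonomial I) [Module.Finite k (MvPolynomial (Fin 3) k ⧸ I)]
    (hs : 1 ≤ s) (c : (RG I (αs a1 a2 s)).ConnectedComponent) (hc : Good I (αs a1 a2 s) c)
    (v : region I (αs a1 a2 s)) (hv : IsTop c v) :
    a1 ≤ toN v.1 0 ∧ a2 ≤ toN v.1 1 ∧
    e3 (toN v.1 0) (toN v.1 1) (toN v.1 2) ∉ exps I ∧
    e3 (toN v.1 0 + 1) (toN v.1 1) (toN v.1 2) ∈ exps I ∧
    e3 (toN v.1 0) (toN v.1 1 + 1) (toN v.1 2) ∈ exps I ∧
    toN v.1 2 + s = stairZ I (toN v.1 0 - a1) (toN v.1 1 - a2) := by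
  obtain ⟨γ, hγ⟩ := v
  have hnn : ∀ l, 0 ≤ γ l := hc ⟨γ, hγ⟩ hv.mem
  obtain ⟨β, hβ, hγβ⟩ := exists_of_mem_region hγ
  have hc0 : (β 0 : ℤ) = γ 0 - a1 := by
    have := congrFun hγβ 0
    rw [up_apply, αs_0] at this
    omega
  have hc1 : (β 1 : ℤ) = γ 1 - a2 := by
    have := congrFun hγβ 1
    rw [up_apply, αs_1] at this
    omega
  have hc2 : (β 2 : ℤ) = γ 2 + s := by
    have := congrFun hγβ 2
    rw [up_apply, αs_2] at this
    omega
  have hnotE : toN γ ∉ exps I := toN_notMem_of_mem_region hγ hnn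
  have htoN : toN γ = e3 (toN γ 0) (toN γ 1) (toN γ 2) := eq_e3 _
  have hβe : β = e3 (toN γ 0 - a1) (toN γ 1 - a2) (toN γ 2 + s) := by
    rw [eq_e3 β]
    have h0 := hnn 0
    have h1 := hnn 1
    have h2 := hnn 2
    congr 1
    · rw [toN_apply]; omega
    · rw [toN_apply]; omega
    · rw [toN_apply]; omega
  simp only
  refine ⟨?_, ?_, ?_, ?_, ?_, ?_⟩
  · rw [toN_apply]
    have := hnn 0
    omega
  · rw [toN_apply]
    have := hnn 1
    omega
  · rw [← htoN]
    exact hnotE
  · -- direction 0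
    by_contra hE
    have hmem : up (β + Finsupp.single 0 1) (αs a1 a2 s) ∈ region I (αs a1 a2 s) := by
      apply up_mem_region_of_notMem (exps_add hβ _)
      rw [shift_add_single β _ 0 (by rw [← hγβ]; exact hnn 0), shift_eq, ← hγβ, htoN,
        e3_add_single0]
      exact hE
    have hadj : (RG I (αs a1 a2 s)).Adj ⟨γ, hγ⟩ ⟨_, hmem⟩ := by
      rw [SimpleGraph.induce_adj]
      change (stepGraph (Fin 3)).Adj γ (up (β + Finsupp.single 0 1) (αs a1 a2 s))
      rw [up_add_single, ← hγβ]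
      exact stepGraph_adj_add_single _ 0
    have hcomp : (RG I (αs a1 a2 s)).connectedComponentMk ⟨_, hmem⟩ = c := by
      rw [← hv.mem]
      exact (SimpleGraph.ConnectedComponent.sound hadj.reachable).symm
    have h1 := hv.max _ hcomp
    simp only at h1
    rw [up_add_single, ← hγβ] at h1
    exact absurd h1 (not_le.mpr (wt3_lt_of_add0 γ))
  · -- direction 1
    by_contra hE
    have hmem : up (β + Finsupp.single 1 1) (αs a1 a2 s) ∈ region I (αs a1 a2 s) := by
      apply up_mem_region_of_notMem (exps_add hβ _)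
      rw [shift_add_single β _ 1 (by rw [← hγβ]; exact hnn 1), shift_eq, ← hγβ, htoN,
        e3_add_single1]
      exact hE
    have hadj : (RG I (αs a1 a2 s)).Adj ⟨γ, hγ⟩ ⟨_, hmem⟩ := by
      rw [SimpleGraph.induce_adj]
      change (stepGraph (Fin 3)).Adj γ (up (β + Finsupp.single 1 1) (αs a1 a2 s))
      rw [up_add_single, ← hγβ]
      exact stepGraph_adj_add_single _ 1
    have hcomp : (RG I (αs a1 a2 s)).connectedComponentMk ⟨_, hmem⟩ = c := by
      rw [← hv.mem]
      exact (SimpleGraph.ConnectedComponent.sound hadj.reachable).symm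
    have h1 := hv.max _ hcomp
    simp only at h1
    rw [up_add_single, ← hγβ] at h1
    exact absurd h1 (not_le.mpr (wt3_lt_of_add1 γ))
  · -- the bottom of the column
    have hle : stairZ I (toN γ 0 - a1) (toN γ 1 - a2) ≤ toN γ 2 + s := by
      rw [← e3_mem_iff hI, ← hβe]
      exact hβ
    have hge : toN γ 2 + s ≤ stairZ I (toN γ 0 - a1) (toN γ 1 - a2) := by
      by_contra hlt
      push Not at hlt
      -- then β - e_2 ∈ E and γ - e_2 is in the component
      set β'' : Fin 3 →₀ ℕ := e3 (toN γ 0 - a1) (toN γ 1 - a2) (toN γ 2 + s - 1) with hβ''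
      have hβ''E : β'' ∈ exps I := by
        rw [hβ'', e3_mem_iff hI]
        omega
      have hβ''add : β'' + Finsupp.single 2 1 = β := by
        rw [hβ'', e3_add_single2, hβe]
        congr 1
        omega
      have hγ''add : up β'' (αs a1 a2 s) + Pi.single 2 1 = γ := by
        rw [← up_add_single, hβ''add, hγβ]
      have hmem : up β'' (αs a1 a2 s) ∈ region I (αs a1 a2 s) := by
        by_cases ht : γ 2 = 0
        · apply up_mem_region_of_neg hβ''E
          refine ⟨2, ?_⟩
          have := congrFun hγ''add 2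
          simp only [Pi.add_apply, Pi.single_eq_same] at this
          omega
        · apply up_mem_region_of_notMem hβ''E
          intro hE
          apply hnotE
          have hnn2 : 0 ≤ up β'' (αs a1 a2 s) 2 := by
            have := congrFun hγ''add 2
            simp only [Pi.add_apply, Pi.single_eq_same] at this
            have := hnn 2
            omega
          have := exps_add hE (Finsupp.single 2 1)
          rw [← shift_add_single β'' _ 2 hnn2, hβ''add, shift_eq, ← hγβ] at this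
          exact this
      have hadj : (RG I (αs a1 a2 s)).Adj ⟨γ, hγ⟩ ⟨_, hmem⟩ := by
        rw [SimpleGraph.induce_adj]
        change (stepGraph (Fin 3)).Adj γ (up β'' (αs a1 a2 s))
        rw [← hγ''add]
        exact (stepGraph_adj_add_single _ 2).symm
      have hcomp : (RG I (αs a1 a2 s)).connectedComponentMk ⟨_, hmem⟩ = c := by
        rw [← hv.mem]
        exact (SimpleGraph.ConnectedComponent.sound hadj.reachable).symm
      have h1 := hv.max _ hcomp
      exact absurd h1 (not_le.mpr (wt3_lt_of_sub2 γ _ hγ''add))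
    omega

end Groth.Agent.Lib.Helper28.HilbT
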