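import Mathlib
import Groth.Agent.Lib.Helper28.HilbT14

/-! Upper bound for the pieces of degrees `(a1, a2, c)`, `c < 0`. -/

set_option autoImplicit false
set_option linter.unusedSectionVars false
universe u

namespace Groth.Agent.Lib.Helper28.HilbT

open W4c1hilbpn MvPolynomial Groth.Agent.Lib.Helper68

section General

variable {σ : Type*} [Fintype σ] [DecidableEq σ] {k : Type u} [Field k]
variable {I : Ideal (MvPolynomial σ k)} {α : σ → ℤ}

lemma finiteDimensional_tPiece (hI : IsMonomial I) [Module.Finite k (MvPolynomial σ k ⧸ I)] :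
    FiniteDimensional k (tPiece I α) := by
  have hfin := finite_good (α := α) hI
  exact Module.Finite.equiv (PsiEquiv (α := α) hI)

lemma finrank_tPiece_eq_card_good (hI : IsMonomial I)
    [Module.Finite k (MvPolynomial σ k ⧸ I)] :
    Module.finrank k (tPiece I α) = Nat.card {c // Good I α c} := by
  classical
  have hfin := finite_good (α := α) hI
  have := Fintype.ofFinite {c // Good I α c}
  rw [← (PsiEquiv (α := α) hI).finrank_eq, Module.finrank_fintype_fun_eq_card,
    ← Nat.card_eq_fintype_card]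

lemma finrank_finset_sup_le {V : Type*} [AddCommGroup V] [Module k V] {ι : Type*}
    (T : Finset ι) (P : ι → Submodule k V) [∀ i, FiniteDimensional k (P i)] :
    Module.finrank k ↥(T.sup P) ≤ ∑ i ∈ T, Module.finrank k (P i) := by
  classical
  induction T using Finset.induction_on with
  | empty => simp
  | insert a T ha ih =>
    rw [Finset.sup_insert, Finset.sum_insert ha]
    exact (Submodule.finrank_add_le_finrank_add_finrank _ _).trans (Nat.add_le_add_left ih _)

end General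

end Groth.Agent.Lib.Helper28.HilbT

namespace Groth.Agent.Lib.Helper28.HilbT

open W4c1hilbpn MvPolynomial Groth.Agent.Lib.Helper68

variable {k : Type u} [Field k] {I : Ideal (MvPolynomial (Fin 3) k)}

section Main

variable (hI : IsMonomial I) [Module.Finite k (MvPolynomial (Fin 3) k ⧸ I)] (a1 a2 : ℕ)

include hI

lemma s_le_of_good {s : ℕ} (hs : 1 ≤ s) (c : (RG I (αs a1 a2 s)).ConnectedComponent)
    (hc : Good I (αs a1 a2 s) c) : s ≤ stairZ I 0 0 := by
  obtain ⟨v, hv⟩ := exists_isTop hI c hc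
  obtain ⟨-, -, -, -, -, h6⟩ := isTop_props hI hs c hc v hv
  have := stairZ_anti hI (Nat.zero_le (toN v.1 0 - a1)) (Nat.zero_le (toN v.1 1 - a2))
  omega

omit hI in
lemma lt_bnd_of_e3 (hI : IsMonomial I) {a b c : ℕ} (h : e3 a b c ∉ exps I) :
    a < bnd I hI ∧ b < bnd I hI :=
  ⟨lt_bnd I hI h 0, lt_bnd I hI h 1⟩

theorem finrank_iSup_neg2_le :
    Module.finrank k ↥(⨆ α : {α : Fin 3 → ℤ // α 0 = (a1 : ℤ) ∧ α 1 = (a2 : ℤ) ∧ α 2 < 0},
      tPiece I α.1) ≤
    ∑ᶠ p : ℕ × ℕ, (if a1 ≤ p.1 ∧ a2 ≤ p.2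
      then stairZ I p.1 p.2 - max (stairZ I (p.1 + 1) p.2) (stairZ I p.1 (p.2 + 1)) else 0) := by
  classical
  set B := stairZ I 0 0 with hB
  set T : Finset ℕ := Finset.Icc 1 B with hT
  set Ps : ℕ → Submodule k (Tgt I) := fun s => tPiece I (αs a1 a2 s) with hPs
  have hfd : ∀ s, FiniteDimensional k (Ps s) := fun s => finiteDimensional_tPiece hI
  -- Step 1: the span is contained in a finite sup
  have hstep1 : (⨆ α : {α : Fin 3 → ℤ // α 0 = (a1 : ℤ) ∧ α 1 = (a2 : ℤ) ∧ α 2 < 0},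
      tPiece I α.1) ≤ T.sup Ps := by
    apply iSup_le
    rintro ⟨α, h0, h1, h2⟩
    have hα : α = αs a1 a2 (-α 2).toNat := by
      funext l
      fin_cases l
      · exact h0
      · exact h1
      · change α 2 = -(((-α 2).toNat : ℕ) : ℤ)
        omega
    have hs1 : 1 ≤ (-α 2).toNat := by omega
    by_cases hsT : (-α 2).toNat ∈ T
    · change tPiece I α ≤ _
      rw [hα]
      exact Finset.le_sup (f := Ps) hsT
    · have hgt : B < (-α 2).toNat := by
        rw [hT, Finset.mem_Icc] at hsT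
        omega
      change tPiece I α ≤ _
      rw [hα, tPiece_eq_bot_of_no_good hI (fun c hc => by
        have := s_le_of_good hI a1 a2 hs1 c hc
        omega)]
      exact bot_le
  -- Step 2: dimension of the finite sup
  have hstep2 := finrank_finset_sup_le T Ps
  have hstep12 : Module.finrank k ↥(⨆ α : {α : Fin 3 → ℤ // α 0 = (a1 : ℤ) ∧ α 1 = (a2 : ℤ) ∧
      α 2 < 0}, tPiece I α.1) ≤ ∑ s ∈ T, Module.finrank k (Ps s) :=
    (Submodule.finrank_mono hstep1).trans hstep2
  refine hstep12.trans ?_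
  -- Step 3: count good components
  have hfinC : ∀ s, Finite {c // Good I (αs a1 a2 s) c} := fun s => finite_good hI
  have hfintC : ∀ s, Fintype {c // Good I (αs a1 a2 s) c} := fun s => Fintype.ofFinite _
  have hstep3 : ∑ s ∈ T, Module.finrank k (Ps s) =
      Fintype.card (Σ s : T, {c // Good I (αs a1 a2 s.1) c}) := by
    rw [Fintype.card_sigma, ← Finset.sum_coe_sort T]
    apply Finset.sum_congr rfl
    intro s _
    rw [hPs]
    simp only
    rw [finrank_tPiece_eq_card_good hI, Nat.card_eq_fintype_card]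
  rw [hstep3]
  -- the target finite set
  set M := bnd I hI with hM
  set P : Finset (ℕ × ℕ) := ((Finset.range M) ×ˢ (Finset.range M)).filter
    (fun p => a1 ≤ p.1 ∧ a2 ≤ p.2) with hP
  set X : Finset (Σ _ : ℕ × ℕ, ℕ) := P.sigma (fun p =>
    Finset.Ico (max (stairZ I (p.1 + 1) p.2) (stairZ I p.1 (p.2 + 1))) (stairZ I p.1 p.2)) with hX
  have hcardX : X.card = ∑ p ∈ P,
      (stairZ I p.1 p.2 - max (stairZ I (p.1 + 1) p.2) (stairZ I p.1 (p.2 + 1))) := by
    rw [hX, Finset.card_sigma]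
    apply Finset.sum_congr rfl
    intro p _
    rw [Nat.card_Ico]
  have hfinsum : ∑ᶠ p : ℕ × ℕ, (if a1 ≤ p.1 ∧ a2 ≤ p.2
      then stairZ I p.1 p.2 - max (stairZ I (p.1 + 1) p.2) (stairZ I p.1 (p.2 + 1)) else 0) =
      ∑ p ∈ P,
        (stairZ I p.1 p.2 - max (stairZ I (p.1 + 1) p.2) (stairZ I p.1 (p.2 + 1))) := by
    rw [finsum_eq_sum_of_support_subset (s := P)]
    · apply Finset.sum_congr rfl
      intro p hp
      rw [hP, Finset.mem_filter] at hp
      rw [if_pos hp.2]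
    · intro p hp
      rw [Function.mem_support] at hp
      by_cases hcond : a1 ≤ p.1 ∧ a2 ≤ p.2
      · rw [if_pos hcond] at hp
        have hpos : 0 < stairZ I p.1 p.2 := by omega
        have hnot : e3 p.1 p.2 0 ∉ exps I := (e3_notMem_iff hI _ _ _).mpr hpos
        obtain ⟨h1, h2⟩ := lt_bnd_of_e3 hI hnot
        rw [Finset.mem_coe, hP, Finset.mem_filter, Finset.mem_product, Finset.mem_range,
          Finset.mem_range]
        exact ⟨⟨h1, h2⟩, hcond⟩
      · rw [if_neg hcond] at hp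
        exact absurd rfl hp
  rw [hfinsum, ← hcardX]
  -- the injection
  have htop : ∀ d : (Σ s : T, {c // Good I (αs a1 a2 s.1) c}),
      ∃ v : region I (αs a1 a2 d.1.1), IsTop d.2.1 v := fun d => exists_isTop hI d.2.1 d.2.2
  choose top htop using htop
  have hs1 : ∀ d : (Σ s : T, {c // Good I (αs a1 a2 s.1) c}), 1 ≤ d.1.1 := fun d =>
    (Finset.mem_Icc.mp d.1.2).1
  set F : (Σ s : T, {c // Good I (αs a1 a2 s.1) c}) → (Σ _ : ℕ × ℕ, ℕ) := fun d =>
    ⟨(toN (top d).1 0, toN (top d).1 1), toN (top d).1 2⟩ with hF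
  rw [← Finset.card_univ]
  apply Finset.card_le_card_of_injOn F
  · intro d _
    obtain ⟨p1, p2, p3, p4, p5, p6⟩ := isTop_props hI (hs1 d) d.2.1 d.2.2 (top d) (htop d)
    rw [Finset.mem_coe, hX, Finset.mem_sigma, hP, Finset.mem_filter, Finset.mem_product,
      Finset.mem_range, Finset.mem_range, Finset.mem_Ico]
    obtain ⟨h1, h2⟩ := lt_bnd_of_e3 hI p3
    refine ⟨⟨⟨h1, h2⟩, p1, p2⟩, ?_, ?_⟩
    · exact max_le ((e3_mem_iff hI _ _ _).mp p4) ((e3_mem_iff hI _ _ _).mp p5)
    · exact (e3_notMem_iff hI _ _ _).mp p3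
  · intro d _ d' _ hdd
    obtain ⟨p1, p2, p3, p4, p5, p6⟩ := isTop_props hI (hs1 d) d.2.1 d.2.2 (top d) (htop d)
    obtain ⟨q1, q2, q3, q4, q5, q6⟩ := isTop_props hI (hs1 d') d'.2.1 d'.2.2 (top d') (htop d')
    simp only [hF, Sigma.mk.injEq, Prod.mk.injEq] at hdd
    obtain ⟨⟨e0, e1⟩, e2⟩ := hdd
    have e2' : toN (top d).1 2 = toN (top d').1 2 := eq_of_heq e2
    have hs : d.1.1 = d'.1.1 := by
      rw [e0, e1, e2'] at p6
      omega
    obtain ⟨⟨s, hsT⟩, c, hc⟩ := d
    obtain ⟨⟨s', hsT'⟩, c', hc'⟩ := d'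
    simp only at hs
    subst hs
    have hvm : IsTop c (top ⟨⟨s, hsT⟩, c, hc⟩) := htop ⟨⟨s, hsT⟩, c, hc⟩
    have hvm' : IsTop c' (top ⟨⟨s, hsT'⟩, c', hc'⟩) := htop ⟨⟨s, hsT'⟩, c', hc'⟩
    generalize top ⟨⟨s, hsT⟩, c, hc⟩ = v at *
    generalize top ⟨⟨s, hsT'⟩, c', hc'⟩ = v' at *
    have hvv : v.1 = v'.1 := by
      apply toN_injOn (hc v hvm.mem) (hc' v' hvm'.mem)
      ext l
      fin_cases l
      · exact e0
      · exact e1
      · exact e2'
    have hcc : c = c' := by
      rw [← hvm.mem, ← hvm'.mem, Subtype.ext hvv]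
    subst hcc
    rfl

end Main

end Groth.Agent.Lib.Helper28.HilbT
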