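import Mathlib.Algebra.MvPolynomial.Equiv
import Mathlib.Algebra.Polynomial.AlgebraMap
import Mathlib.Algebra.MvPolynomial.CommRing
import Mathlib.RingTheory.Ideal.Span
import Mathlib.Tactic.LinearCombination
import Groth.Prelude.Def_W4c1bouilletffgsL3

/-!
# Basic tools for the Lie3Mod family (helper28)

* `mv_nzd_of_coeff` : a multivariate polynomial (finitely many variables) one of whose coefficients is a
  non-zero-divisor is a non-zero-divisor (McCoy).
* `sub_aeval_mem` : `p - aeval v p ∈ span {X j - v j}`.
-/

set_option autoImplicit false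

namespace Groth.Agent.Lib.Helper28.Lie3

open MvPolynomial

/-- McCoy for `MvPolynomial (Fin n) R`: a coefficient which is a non-zero-divisor forces the polynomial
to be a non-zero-divisor. -/
theorem mv_nzd_of_coeff {R : Type*} [CommRing R] :
    ∀ (n : ℕ) (f : MvPolynomial (Fin n) R) (m : Fin n →₀ ℕ), coeff m f ∈ nonZeroDivisors R →
      ∀ g : MvPolynomial (Fin n) R, f * g = 0 → g = 0 := by
  intro n
  induction n with
  | zero =>
    intro f m hm g hfg
    rw [eq_C_of_isEmpty f, eq_C_of_isEmpty g, ← C_mul] at hfg
    have h0 : coeff 0 f * coeff 0 g = 0 := by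
      have := congrArg (coeff 0) hfg
      simpa using this
    have hm0 : m = 0 := Subsingleton.elim _ _
    rw [hm0] at hm
    have : coeff 0 g = 0 := by
      have h1 := (mem_nonZeroDivisors_iff.1 hm).2 (coeff 0 g)
      exact h1 (by rw [mul_comm]; exact h0)
    rw [eq_C_of_isEmpty g, this, C_0]
  | succ n ih =>
    intro f m hm g hfg
    have hF : (finSuccEquiv R n f) ∈ nonZeroDivisors (Polynomial (MvPolynomial (Fin n) R)) := by
      apply Polynomial.mem_nonzeroDivisors_of_coeff_mem (m 0)
      rw [mem_nonZeroDivisors_iff]
      have key : ∀ x : MvPolynomial (Fin n) R,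
          (Polynomial.coeff (finSuccEquiv R n f) (m 0)) * x = 0 → x = 0 := by
        apply ih _ (Finsupp.tail m)
        rw [finSuccEquiv_coeff_coeff, Finsupp.cons_tail]
        exact hm
      refine ⟨fun x hx => key x hx, fun x hx => key x (by rw [mul_comm]; exact hx)⟩
    have h1 : finSuccEquiv R n f * finSuccEquiv R n g = 0 := by
      rw [← map_mul, hfg, map_zero]
    have h2 := (mem_nonZeroDivisors_iff.1 hF).1 _ h1
    exact (finSuccEquiv R n).injective (by rw [h2, map_zero])

/-- `p - aeval v p` lies in the ideal generated by the `X j - v j`. -/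
theorem sub_aeval_mem {R σ : Type*} [CommRing R] (v : σ → MvPolynomial σ R)
    (p : MvPolynomial σ R) :
    p - aeval v p ∈ Ideal.span (Set.range fun j => (X j : MvPolynomial σ R) - v j) := by
  induction p using MvPolynomial.induction_on with
  | C a => simp
  | add p q hp hq =>
    have : p + q - aeval v (p + q) = (p - aeval v p) + (q - aeval v q) := by
      rw [map_add]; ring
    rw [this]
    exact Ideal.add_mem _ hp hq
  | mul_X p j hp =>
    have : p * X j - aeval v (p * X j) = (p - aeval v p) * X j + aeval v p * (X j - v j) := by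
      rw [map_mul, aeval_X]; ring
    rw [this]
    refine Ideal.add_mem _ (Ideal.mul_mem_right _ _ hp) (Ideal.mul_mem_left _ _ ?_)
    exact Ideal.subset_span ⟨j, rfl⟩

end Groth.Agent.Lib.Helper28.Lie3
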