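import Mathlib.Algebra.Polynomial.AlgebraMap
import Mathlib.Algebra.Polynomial.Degree.Lemmas
import Mathlib.RingTheory.Ideal.Maps
import Mathlib.RingTheory.Ideal.Span
import Mathlib.Tactic.LinearCombination

/-!
# Kernel of an evaluation `R[t] → B`, `t ↦ ψ(r)/ψ(s)` (helper28)

`ker_extend`: if `ψ : R → B` has kernel `K`, `ψ s` is cancellable, `ψ s * τ = ψ r`, and the colon
condition `r^n p ∈ K + (s) → p ∈ (σ₀) + K + (s)` holds with `ψ σ₀ * τ = ψ δ₀`, then the kernel of
`eval₂ ψ τ : R[t] → B` is `K[t] + (s t - r, σ₀ t - δ₀)`.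
-/

set_option autoImplicit false

namespace Groth.Agent.Lib.Helper28.Lie3

open Polynomial

variable {R B : Type*} [CommRing R] [CommRing B]

lemma natDegree_sub_top_le (F : R[X]) (m : ℕ) (hF : F.natDegree ≤ m + 1) :
    (F - C (F.coeff (m + 1)) * X ^ (m + 1)).natDegree ≤ m := by
  rw [Polynomial.natDegree_le_iff_coeff_eq_zero]
  intro N hN
  rw [coeff_sub, coeff_C_mul, coeff_X_pow]
  rcases Nat.lt_or_ge (m + 1) N with h | h
  · rw [coeff_eq_zero_of_natDegree_lt (lt_of_le_of_lt hF h), if_neg (by omega)]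
    simp
  · have : N = m + 1 := le_antisymm h hN
    subst this
    simp

/-- homogenised evaluation -/
lemma exists_homog (ψ : R →+* B) (s r : R) (τ : B) (hτ : ψ s * τ = ψ r) :
    ∀ (m : ℕ) (F : R[X]), F.natDegree ≤ m →
      ∃ w : R, ψ s ^ m * F.eval₂ ψ τ = ψ (F.coeff m * r ^ m + s * w) := by
  intro m
  induction m with
  | zero =>
    intro F hF
    refine ⟨0, ?_⟩
    rw [Polynomial.eq_C_of_natDegree_le_zero hF]
    simp
  | succ m ih =>
    intro F hF
    set a := F.coeff (m + 1) with ha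
    set G := F - C a * X ^ (m + 1) with hG
    have hGdeg : G.natDegree ≤ m := natDegree_sub_top_le F m hF
    obtain ⟨w', hw'⟩ := ih G hGdeg
    refine ⟨G.coeff m * r ^ m + s * w', ?_⟩
    have hFG : F = G + C a * X ^ (m + 1) := by rw [hG]; ring
    have e1 : F.eval₂ ψ τ = G.eval₂ ψ τ + ψ a * τ ^ (m + 1) := by
      conv_lhs => rw [hFG]
      rw [eval₂_add, eval₂_mul, eval₂_C, eval₂_pow, eval₂_X]
    have e2 : ψ s ^ (m + 1) * τ ^ (m + 1) = ψ (r ^ (m + 1)) := by
      rw [← mul_pow, hτ, map_pow]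
    rw [e1, mul_add, pow_succ, mul_assoc (ψ s ^ m) (ψ s), mul_comm (ψ s) (eval₂ ψ τ G),
      ← mul_assoc (ψ s ^ m), hw', ← pow_succ]
    have e3 : ψ s ^ (m + 1) * (ψ a * τ ^ (m + 1)) = ψ a * ψ (r ^ (m + 1)) := by
      rw [← e2]; ring
    rw [e3]
    simp only [map_add, map_mul, map_pow]
    ring

/-- kernel of an extended evaluation -/
theorem ker_extend (ψ : R →+* B) (K : Ideal R) (hK : RingHom.ker ψ = K)
    (s r : R) (τ : B) (hτ : ψ s * τ = ψ r)
    (σ₀ δ₀ : R) (hσ : ψ σ₀ * τ = ψ δ₀)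
    (hcol : ∀ (n : ℕ) (p : R), r ^ n * p ∈ K ⊔ Ideal.span {s} →
      p ∈ Ideal.span {σ₀} ⊔ K ⊔ Ideal.span {s}) :
    RingHom.ker (eval₂RingHom ψ τ) =
      K.map (C : R →+* R[X]) ⊔ Ideal.span {C s * X - C r, C σ₀ * X - C δ₀} := by
  set Kp : Ideal R[X] := K.map (C : R →+* R[X]) ⊔ Ideal.span {C s * X - C r, C σ₀ * X - C δ₀}
    with hKp
  have h1 : K.map (C : R →+* R[X]) ≤ Kp := le_sup_left
  have h2 : C s * X - C r ∈ Kp := Ideal.mem_sup_right (Ideal.subset_span (by simp))
  have h3 : C σ₀ * X - C δ₀ ∈ Kp := Ideal.mem_sup_right (Ideal.subset_span (by simp))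
  have hle : Kp ≤ RingHom.ker (eval₂RingHom ψ τ) := by
    rw [hKp, sup_le_iff]
    constructor
    · rw [Ideal.map_le_iff_le_comap]
      intro x hx
      rw [Ideal.mem_comap, RingHom.mem_ker, coe_eval₂RingHom, eval₂_C]
      rw [← hK] at hx
      exact hx
    · rw [Ideal.span_le]
      intro x hx
      simp only [Set.mem_insert_iff, Set.mem_singleton_iff] at hx
      rcases hx with rfl | rfl
      · rw [SetLike.mem_coe, RingHom.mem_ker, coe_eval₂RingHom, eval₂_sub, eval₂_mul, eval₂_C,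
          eval₂_X, eval₂_C, hτ, sub_self]
      · rw [SetLike.mem_coe, RingHom.mem_ker, coe_eval₂RingHom, eval₂_sub, eval₂_mul, eval₂_C,
          eval₂_X, eval₂_C, hσ, sub_self]
  apply le_antisymm _ hle
  have key : ∀ (m : ℕ) (F : R[X]), F.natDegree ≤ m → F.eval₂ ψ τ = 0 → F ∈ Kp := by
    intro m
    induction m with
    | zero =>
      intro F hF h0
      rw [Polynomial.eq_C_of_natDegree_le_zero hF] at h0 ⊢
      rw [eval₂_C] at h0
      apply h1
      apply Ideal.mem_map_of_mem
      rw [← hK]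
      exact h0
    | succ m ih =>
      intro F hF h0
      set a := F.coeff (m + 1) with ha
      obtain ⟨w, hw⟩ := exists_homog ψ s r τ hτ (m + 1) F hF
      rw [h0, mul_zero] at hw
      have hmemK : a * r ^ (m + 1) + s * w ∈ K := by
        rw [← hK, RingHom.mem_ker]
        exact hw.symm
      have hcol' : r ^ (m + 1) * a ∈ K ⊔ Ideal.span {s} := by
        have : r ^ (m + 1) * a = (a * r ^ (m + 1) + s * w) + (-w) * s := by ring
        rw [this]
        exact Ideal.add_mem _ (Ideal.mem_sup_left hmemK)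
          (Ideal.mem_sup_right (Ideal.mul_mem_left _ _ (Ideal.subset_span rfl)))
      have ha_mem := hcol (m + 1) a hcol'
      rw [Submodule.mem_sup] at ha_mem
      obtain ⟨y, hy, z, hz, hyz⟩ := ha_mem
      rw [Submodule.mem_sup] at hy
      obtain ⟨y1, hy1, κ, hκ, hy1κ⟩ := hy
      obtain ⟨u, rfl⟩ := Ideal.mem_span_singleton'.1 hy1
      obtain ⟨v, rfl⟩ := Ideal.mem_span_singleton'.1 hz
      set T : R[X] := C u * (C σ₀ * X - C δ₀) * X ^ m + C κ * X ^ (m + 1)
        + C v * (C s * X - C r) * X ^ m with hT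
      have hTmem : T ∈ Kp := by
        rw [hT]
        refine Ideal.add_mem _ (Ideal.add_mem _ ?_ ?_) ?_
        · exact Ideal.mul_mem_right _ _ (Ideal.mul_mem_left _ _ h3)
        · exact Ideal.mul_mem_right _ _ (h1 (Ideal.mem_map_of_mem _ hκ))
        · exact Ideal.mul_mem_right _ _ (Ideal.mul_mem_left _ _ h2)
      have hTeq : T = C a * X ^ (m + 1) - C (u * δ₀ + v * r) * X ^ m := by
        rw [hT, ← hyz, ← hy1κ]
        simp only [map_add, map_mul]
        ring
      set F' := F - T with hF'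
      have hF'deg : F'.natDegree ≤ m := by
        have e : F' = (F - C a * X ^ (m + 1)) + C (u * δ₀ + v * r) * X ^ m := by
          rw [hF', hTeq]; ring
        rw [e]
        refine (natDegree_add_le _ _).trans (max_le (natDegree_sub_top_le F m hF) ?_)
        exact natDegree_C_mul_X_pow_le _ _
      have hF'0 : F'.eval₂ ψ τ = 0 := by
        rw [hF', eval₂_sub, h0]
        have := hle hTmem
        rw [RingHom.mem_ker, coe_eval₂RingHom] at this
        rw [this, sub_zero]
      have := ih F' hF'deg hF'0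
      have e : F = F' + T := by rw [hF']; ring
      rw [e]
      exact Ideal.add_mem _ this hTmem
  intro F hF
  rw [RingHom.mem_ker, coe_eval₂RingHom] at hF
  exact key F.natDegree F le_rfl hF

/-- colon condition from a test homomorphism -/
lemma col_of_test {R B' : Type*} [CommRing R] [CommRing B'] (χ : R →+* B')
    (K K' T : Ideal R) (s r : R)
    (hker : RingHom.ker χ = K') (h1 : K ⊔ Ideal.span {s} ≤ K') (h2 : K' ≤ T)
    (hr : ∀ b : B', χ r * b = 0 → b = 0) :
    ∀ (n : ℕ) (p : R), r ^ n * p ∈ K ⊔ Ideal.span {s} → p ∈ T := by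
  intro n p hp
  have h3 := h1 hp
  rw [← hker, RingHom.mem_ker, map_mul, map_pow] at h3
  have h4 : ∀ n : ℕ, χ r ^ n * χ p = 0 → χ p = 0 := by
    intro n
    induction n with
    | zero => intro h; simpa using h
    | succ n ih =>
      intro h
      apply ih
      apply hr
      rw [← mul_assoc, ← pow_succ']
      exact h
  have h5 := h4 n h3
  apply h2
  rw [← hker, RingHom.mem_ker]
  exact h5

end Groth.Agent.Lib.Helper28.Lie3
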