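import Groth.Agent.Lib.Helper28.Lie3Theta
import Mathlib.RingTheory.Ideal.Colon
import Mathlib.RingTheory.Ideal.MinimalPrime.Basic
import Mathlib.RingTheory.Flat.TorsionFree

/-!
# Main results on the Jacobi ideal of three-dimensional Lie algebras (helper28)
-/

set_option autoImplicit false

namespace Groth.Agent.Lib.Helper28.Lie3

open Polynomial Lie3Mod

variable (A : Type*) [CommRing A]

lemma phi3_CCC (p : P6 A) : phi3 A (C (C (C p))) = algebraMap (P6 A) (B6 A) p := by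
  unfold phi3
  rw [coe_eval₂RingHom, eval₂_C, phi2_CC]

lemma theta_L1 : theta A (L1 A) = C (C (C (x A 0))) := by
  unfold L1
  simp only [va, vi, map_sub, theta_X]
  simp [thetaVal]

lemma theta_L2 : theta A (L2 A) = C (C (C (x A 1))) := by
  unfold L2
  simp only [vb, vf, map_add, theta_X]
  simp [thetaVal]

lemma theta_L3 : theta A (L3 A) = C (C (C (x A 2))) := by
  unfold L3
  simp only [vd, vh, map_add, theta_X]
  simp [thetaVal]

lemma Phi_L1 : Phi A (L1 A) = algebraMap (P6 A) (B6 A) (x A 0) := by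
  rw [Phi_apply, theta_L1, phi3_CCC]

lemma Phi_L2 : Phi A (L2 A) = algebraMap (P6 A) (B6 A) (x A 1) := by
  rw [Phi_apply, theta_L2, phi3_CCC]

lemma Phi_L3 : Phi A (L3 A) = algebraMap (P6 A) (B6 A) (x A 2) := by
  rw [Phi_apply, theta_L3, phi3_CCC]

/-- `ℓ3` is a non-zero-divisor modulo `J`. -/
lemma mem_idJ_of_L3_mul {p : D9 A} (h : L3 A * p ∈ idJ A) : p ∈ idJ A := by
  rw [← ker_Phi, RingHom.mem_ker, map_mul, Phi_L3] at h
  rw [← ker_Phi, RingHom.mem_ker]
  have h1 : iv2 A * (algebraMap (P6 A) (B6 A) (x A 2) * Phi A p) = 0 := by rw [h, mul_zero]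
  rw [← mul_assoc, mul_comm (iv2 A), x2_iv2, one_mul] at h1
  exact h1

lemma idI_le_idJ : idI A ≤ idJ A := by
  rw [idJ_eq]
  exact le_sup_left

/-- `(I : L) = J` over any commutative ring. -/
theorem colon_idL : (idI A).colon (idL A : Set (D A)) = idJ A := by
  apply le_antisymm
  · intro p hp
    rw [Submodule.mem_colon] at hp
    have h1 := hp (L3 A) (L3_mem A)
    rw [smul_eq_mul, mul_comm] at h1
    exact mem_idJ_of_L3_mul A (idI_le_idJ A h1)
  · intro p hp
    rw [Submodule.mem_colon]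
    intro z hz
    have hz' : z ∈ idL A := hz
    rw [idJ_eq, Submodule.mem_sup] at hp
    obtain ⟨q, hq, w, hw, rfl⟩ := hp
    obtain ⟨y, rfl⟩ := Ideal.mem_span_singleton'.1 hw
    rw [smul_eq_mul, add_mul]
    refine Ideal.add_mem _ (Ideal.mul_mem_right _ _ hq) ?_
    have h5 := detM_mul_mem_idI A hz'
    rw [mul_assoc]
    exact Ideal.mul_mem_left _ _ h5

instance instDomainB6 [IsDomain A] : IsDomain (B6 A) :=
  IsLocalization.isDomain_localization (by
    rw [Submonoid.powers_le]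
    exact (nz_ell A).mem)

/-- `J` is prime when `A` is a domain. -/
theorem idJ_isPrime [IsDomain A] : (idJ A).IsPrime := by
  rw [← ker_Phi]
  exact RingHom.ker_isPrime _

lemma L1_notMem_idJ [Nontrivial A] : L1 A ∉ idJ A := by
  intro h
  rw [← ker_Phi, RingHom.mem_ker, Phi_L1] at h
  have h1 := (alg_injective A) (h.trans (map_zero _).symm)
  have : (MvPolynomial.X 0 : P6 A) ≠ 0 := MvPolynomial.X_ne_zero _
  exact this h1

/-- `J` is a minimal prime over `I` when `A` is a domain. -/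
theorem idJ_mem_minimalPrimes [IsDomain A] : idJ A ∈ (idI A).minimalPrimes := by
  refine ⟨⟨idJ_isPrime A, idI_le_idJ A⟩, ?_⟩
  rintro q ⟨hq, hIq⟩ hqJ
  rw [idJ_eq, sup_le_iff]
  refine ⟨hIq, ?_⟩
  rw [Ideal.span_le, Set.singleton_subset_iff, SetLike.mem_coe]
  have h1 : detM A * L1 A ∈ q := hIq (detM_mul_mem_idI A (L1_mem A))
  rcases hq.mem_or_mem h1 with h2 | h2
  · exact h2
  · exact absurd (hqJ h2) (L1_notMem_idJ A)

lemma ker_rhoL : RingHom.ker (rhoL A).toRingHom = idL A := by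
  ext p
  constructor
  · intro hp
    exact mem_idL_of_rhoL_eq_zero A hp
  · intro hp
    exact rhoL_eq_zero_of_mem A hp

/-- `L` is prime when `A` is a domain. -/
theorem idL_isPrime [IsDomain A] : (idL A).IsPrime := by
  rw [← ker_rhoL]
  exact RingHom.ker_isPrime _

/-- `I` is radical when `A` is a domain. -/
theorem idI_isRadical [IsDomain A] : (idI A).IsRadical := by
  rw [idI_eq_inf]
  exact (idJ_isPrime A).isRadical.inf (idL_isPrime A).isRadical

/-! ### torsion-freeness over `ℤ` -/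

lemma intCast_mul_mem_idJ {a : ℤ} (ha : a ≠ 0) {p : D9 ℤ} (h : (a : D9 ℤ) * p ∈ idJ ℤ) :
    p ∈ idJ ℤ := by
  rw [← ker_Phi, RingHom.mem_ker, map_mul, map_intCast] at h
  rw [← ker_Phi, RingHom.mem_ker]
  have ha' : ((a : ℤ) : B6 ℤ) ≠ 0 := by
    intro h0
    have h1 : algebraMap (P6 ℤ) (B6 ℤ) ((a : ℤ) : P6 ℤ) = 0 := by
      rw [map_intCast]; exact h0
    have h2 := (alg_injective ℤ) (h1.trans (map_zero _).symm)
    have h3 : (MvPolynomial.C a : P6 ℤ) = 0 := by
      rw [← h2]; simp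
    exact ha (MvPolynomial.C_injective _ _ (h3.trans (map_zero _).symm))
  rcases mul_eq_zero.1 h with h4 | h4
  · exact absurd h4 ha'
  · exact h4

lemma intCast_mul_mem_idL {a : ℤ} (ha : a ≠ 0) {p : D9 ℤ} (h : (a : D9 ℤ) * p ∈ idL ℤ) :
    p ∈ idL ℤ := by
  apply mem_idL_of_rhoL_eq_zero
  have h1 := rhoL_eq_zero_of_mem ℤ h
  rw [map_mul, map_intCast] at h1
  have ha' : ((a : ℤ) : D ℤ) ≠ 0 := by
    intro h0
    have h3 : (MvPolynomial.C a : D ℤ) = 0 := by
      rw [← h0]; simp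
    exact ha (MvPolynomial.C_injective _ _ (h3.trans (map_zero _).symm))
  rcases mul_eq_zero.1 h1 with h4 | h4
  · exact absurd h4 ha'
  · exact h4

lemma flat_quot_of_torsionFree (K : Ideal (D ℤ))
    (hK : ∀ (a : ℤ), a ≠ 0 → ∀ p : D ℤ, (a : D ℤ) * p ∈ K → p ∈ K) :
    Module.Flat ℤ (D ℤ ⧸ K) := by
  rw [Module.Flat.flat_iff_torsion_eq_bot_of_isBezout, eq_bot_iff]
  intro m hm
  rw [Submodule.mem_torsion_iff] at hm
  obtain ⟨⟨a, ha⟩, h⟩ := hm
  obtain ⟨p, rfl⟩ := Ideal.Quotient.mk_surjective m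
  rw [Submodule.mem_bot]
  have ha0 : a ≠ 0 := nonZeroDivisors.ne_zero ha
  have h1 : (Ideal.Quotient.mk K) ((a : D ℤ) * p) = 0 := by
    rw [← h]
    show _ = a • (Ideal.Quotient.mk K p)
    rw [zsmul_eq_mul, map_mul, map_intCast]
  rw [Ideal.Quotient.eq_zero_iff_mem] at h1 ⊢
  exact hK a ha0 p h1

theorem flat_quot_idJ : Module.Flat ℤ (D ℤ ⧸ idJ ℤ) :=
  flat_quot_of_torsionFree (idJ ℤ) (fun _ ha _ h => intCast_mul_mem_idJ ha h)

theorem flat_quot_idI : Module.Flat ℤ (D ℤ ⧸ idI ℤ) := by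
  apply flat_quot_of_torsionFree
  intro a ha p h
  rw [idI_eq_inf] at h ⊢
  exact ⟨intCast_mul_mem_idJ ha h.1, intCast_mul_mem_idL ha h.2⟩

end Groth.Agent.Lib.Helper28.Lie3
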