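import Groth.Agent.Lib.Helper28.Lie3Base
import Mathlib.RingTheory.Ideal.Maps
import Mathlib.RingTheory.Ideal.Colon

/-!
# The Jacobi ideal in the original coordinates: `I ⊆ L`, `Δ·L ⊆ I`, retraction onto `D/L` (helper28)
-/

set_option autoImplicit false

namespace Groth.Agent.Lib.Helper28.Lie3

open MvPolynomial Lie3Mod

variable (A : Type*) [CommRing A]

/-- substitution `a ↦ i, b ↦ -f, d ↦ -h` killing `L`. -/
noncomputable def vL : Fin 9 → MvPolynomial (Fin 9) A := fun j =>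
  if j = 0 then X 8 else if j = 1 then -X 5 else if j = 3 then -X 7 else X j

noncomputable def rhoL : D A →ₐ[A] D A := aeval (vL A)

lemma idJ_eq : idJ A = idI A ⊔ Ideal.span {detM A} := by
  unfold idJ idI
  apply le_antisymm
  · rw [Ideal.span_le]
    intro x hx
    simp only [Set.mem_insert_iff, Set.mem_singleton_iff] at hx
    rcases hx with rfl | rfl | rfl | rfl
    · exact Ideal.mem_sup_left (Ideal.subset_span (by simp))
    · exact Ideal.mem_sup_left (Ideal.subset_span (by simp))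
    · exact Ideal.mem_sup_left (Ideal.subset_span (by simp))
    · exact Ideal.mem_sup_right (Ideal.subset_span (by simp))
  · rw [sup_le_iff]
    constructor
    · apply Ideal.span_mono
      intro x hx
      rcases hx with h | h | h
      · exact Or.inl h
      · exact Or.inr (Or.inl h)
      · exact Or.inr (Or.inr (Or.inl h))
    · apply Ideal.span_mono
      intro x hx
      exact Or.inr (Or.inr (Or.inr hx))

lemma Q1_eq : Q1 A = X 7 * L1 A - X 6 * L2 A + X 8 * L3 A := by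
  unfold Q1 L1 L2 L3 va vb vd vf vg vh vi; ring
lemma Q2_eq : Q2 A = -X 4 * L1 A - X 7 * L2 A + X 1 * L3 A := by
  unfold Q2 L1 L2 L3 va vb vd ve vf vh vi; ring
lemma Q3_eq : Q3 A = -X 5 * L1 A - X 8 * L2 A + X 2 * L3 A := by
  unfold Q3 L1 L2 L3 va vb vc vd vf vh vi; ring

lemma L1_mem : L1 A ∈ idL A := Ideal.subset_span (by simp)
lemma L2_mem : L2 A ∈ idL A := Ideal.subset_span (by simp)
lemma L3_mem : L3 A ∈ idL A := Ideal.subset_span (by simp)
lemma Q1_mem : Q1 A ∈ idI A := Ideal.subset_span (by simp)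
lemma Q2_mem : Q2 A ∈ idI A := Ideal.subset_span (by simp)
lemma Q3_mem : Q3 A ∈ idI A := Ideal.subset_span (by simp)

lemma idI_le_idL : idI A ≤ idL A := by
  unfold idI
  rw [Ideal.span_le]
  intro x hx
  simp only [Set.mem_insert_iff, Set.mem_singleton_iff] at hx
  rcases hx with rfl | rfl | rfl
  · rw [Q1_eq]
    exact Ideal.add_mem _ (Ideal.sub_mem _ (Ideal.mul_mem_left _ _ (L1_mem A))
      (Ideal.mul_mem_left _ _ (L2_mem A))) (Ideal.mul_mem_left _ _ (L3_mem A))
  · rw [Q2_eq]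
    exact Ideal.add_mem _ (Ideal.sub_mem _ (Ideal.mul_mem_left _ _ (L1_mem A))
      (Ideal.mul_mem_left _ _ (L2_mem A))) (Ideal.mul_mem_left _ _ (L3_mem A))
  · rw [Q3_eq]
    exact Ideal.add_mem _ (Ideal.sub_mem _ (Ideal.mul_mem_left _ _ (L1_mem A))
      (Ideal.mul_mem_left _ _ (L2_mem A))) (Ideal.mul_mem_left _ _ (L3_mem A))

lemma detM_L1 : detM A * L1 A =
    (-(X 7 * X 2) + X 1 * X 8) * Q1 A + (X 6 * X 2 - X 8 ^ 2) * Q2 A
      + (-(X 6 * X 1) + X 8 * X 7) * Q3 A := by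
  unfold detM Q1 Q2 Q3 L1 va vb vc vd ve vf vg vh vi; ring
lemma detM_L2 : detM A * L2 A =
    (X 4 * X 2 - X 1 * X 5) * Q1 A + (X 7 * X 2 + X 8 * X 5) * Q2 A
      + (-(X 7 * X 1) - X 8 * X 4) * Q3 A := by
  unfold detM Q1 Q2 Q3 L2 va vb vc vd ve vf vg vh vi; ring
lemma detM_L3 : detM A * L3 A =
    (X 4 * X 8 - X 7 * X 5) * Q1 A + (X 7 * X 8 + X 6 * X 5) * Q2 A
      + (-(X 7 ^ 2) - X 6 * X 4) * Q3 A := by
  unfold detM Q1 Q2 Q3 L3 va vb vc vd ve vf vg vh vi; ring

lemma detM_mul_mem_idI {x : D A} (hx : x ∈ idL A) : detM A * x ∈ idI A := by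
  unfold idL at hx
  induction hx using Submodule.span_induction with
  | mem y hy =>
    simp only [Set.mem_insert_iff, Set.mem_singleton_iff] at hy
    rcases hy with rfl | rfl | rfl
    · rw [detM_L1]
      exact Ideal.add_mem _ (Ideal.add_mem _ (Ideal.mul_mem_left _ _ (Q1_mem A))
        (Ideal.mul_mem_left _ _ (Q2_mem A))) (Ideal.mul_mem_left _ _ (Q3_mem A))
    · rw [detM_L2]
      exact Ideal.add_mem _ (Ideal.add_mem _ (Ideal.mul_mem_left _ _ (Q1_mem A))
        (Ideal.mul_mem_left _ _ (Q2_mem A))) (Ideal.mul_mem_left _ _ (Q3_mem A))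
    · rw [detM_L3]
      exact Ideal.add_mem _ (Ideal.add_mem _ (Ideal.mul_mem_left _ _ (Q1_mem A))
        (Ideal.mul_mem_left _ _ (Q2_mem A))) (Ideal.mul_mem_left _ _ (Q3_mem A))
  | zero => simp
  | add y z _ _ hy hz => rw [mul_add]; exact Ideal.add_mem _ hy hz
  | smul a y _ hy =>
    rw [smul_eq_mul, mul_left_comm]
    exact Ideal.mul_mem_left _ _ hy

lemma rhoL_X (j : Fin 9) : rhoL A (X j) = vL A j := by
  unfold rhoL; rw [aeval_X]

lemma rhoL_L1 : rhoL A (L1 A) = 0 := by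
  unfold L1 va vi
  rw [map_sub, rhoL_X, rhoL_X]; simp [vL]
lemma rhoL_L2 : rhoL A (L2 A) = 0 := by
  unfold L2 vb vf
  rw [map_add, rhoL_X, rhoL_X]; simp [vL]
lemma rhoL_L3 : rhoL A (L3 A) = 0 := by
  unfold L3 vd vh
  rw [map_add, rhoL_X, rhoL_X]; simp [vL]

lemma rhoL_eq_zero_of_mem {x : D A} (hx : x ∈ idL A) : rhoL A x = 0 := by
  have : idL A ≤ RingHom.ker (rhoL A).toRingHom := by
    unfold idL
    rw [Ideal.span_le]
    intro y hy
    simp only [Set.mem_insert_iff, Set.mem_singleton_iff] at hy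
    rcases hy with rfl | rfl | rfl
    · exact rhoL_L1 A
    · exact rhoL_L2 A
    · exact rhoL_L3 A
  exact this hx

lemma sub_rhoL_mem (x : D A) : x - rhoL A x ∈ idL A := by
  have h := sub_aeval_mem (vL A) x
  refine Ideal.span_le.2 ?_ h
  rintro _ ⟨j, rfl⟩
  fin_cases j
  · have : (X 0 : MvPolynomial (Fin 9) A) - vL A 0 = L1 A := by simp [vL, L1, va, vi]
    simp only [Fin.zero_eta]
    rw [this]; exact L1_mem A
  · have : (X 1 : MvPolynomial (Fin 9) A) - vL A 1 = L2 A := by simp [vL, L2, vb, vf]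
    show (X 1 : MvPolynomial (Fin 9) A) - vL A 1 ∈ idL A
    rw [this]; exact L2_mem A
  · show (X 2 : MvPolynomial (Fin 9) A) - vL A 2 ∈ idL A
    simp [vL]
  · have : (X 3 : MvPolynomial (Fin 9) A) - vL A 3 = L3 A := by simp [vL, L3, vd, vh]
    show (X 3 : MvPolynomial (Fin 9) A) - vL A 3 ∈ idL A
    rw [this]; exact L3_mem A
  · show (X 4 : MvPolynomial (Fin 9) A) - vL A 4 ∈ idL A
    simp [vL]
  · show (X 5 : MvPolynomial (Fin 9) A) - vL A 5 ∈ idL A
    simp [vL]
  · show (X 6 : MvPolynomial (Fin 9) A) - vL A 6 ∈ idL A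
    simp [vL]
  · show (X 7 : MvPolynomial (Fin 9) A) - vL A 7 ∈ idL A
    simp [vL]
  · show (X 8 : MvPolynomial (Fin 9) A) - vL A 8 ∈ idL A
    simp [vL]

lemma mem_idL_of_rhoL_eq_zero {x : D A} (hx : rhoL A x = 0) : x ∈ idL A := by
  have := sub_rhoL_mem A x
  rwa [hx, sub_zero] at this

lemma rhoL_detM : rhoL A (detM A) = -(X 2 * X 7 ^ 2) - X 6 * X 5 ^ 2 + X 4 * X 8 ^ 2
    - X 6 * X 4 * X 2 - 2 * X 5 * X 7 * X 8 := by
  unfold detM
  simp only [vb, vc, ve, vf, vg, vh, vi, map_add, map_sub, map_neg, map_mul, map_pow, rhoL_X]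
  simp [vL]
  ring

lemma coeff_rhoL_detM : coeff (Finsupp.single (2 : Fin 9) 1 + Finsupp.single 7 2)
    (rhoL A (detM A)) = -1 := by
  rw [rhoL_detM]
  have e1 : (X 2 * X 7 ^ 2 : MvPolynomial (Fin 9) A)
      = monomial (Finsupp.single 2 1 + Finsupp.single 7 2) 1 := by
    simp [X, monomial_mul, monomial_pow]
  have e2 : (X 6 * X 5 ^ 2 : MvPolynomial (Fin 9) A)
      = monomial (Finsupp.single 6 1 + Finsupp.single 5 2) 1 := by
    simp [X, monomial_mul, monomial_pow]
  have e3 : (X 4 * X 8 ^ 2 : MvPolynomial (Fin 9) A)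
      = monomial (Finsupp.single 4 1 + Finsupp.single 8 2) 1 := by
    simp [X, monomial_mul, monomial_pow]
  have e4 : (X 6 * X 4 * X 2 : MvPolynomial (Fin 9) A)
      = monomial (Finsupp.single 6 1 + Finsupp.single 4 1 + Finsupp.single 2 1) 1 := by
    simp [X, monomial_mul]
  have e5 : (2 * X 5 * X 7 * X 8 : MvPolynomial (Fin 9) A)
      = monomial (Finsupp.single 5 1 + Finsupp.single 7 1 + Finsupp.single 8 1) 2 := by
    rw [show (2 : MvPolynomial (Fin 9) A) = C 2 from (map_ofNat C 2).symm]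
    simp only [X, C_mul_monomial, monomial_mul, mul_one]
  rw [e1, e2, e3, e4, e5]
  simp only [coeff_add, coeff_sub, coeff_neg, coeff_monomial]
  simp [Finsupp.ext_iff, Fin.forall_fin_succ]

/-- `ρ(Δ)` is a non-zero-divisor of `D`. -/
lemma rhoL_detM_nzd (g : D A) (h : rhoL A (detM A) * g = 0) : g = 0 := by
  refine mv_nzd_of_coeff 9 _ (Finsupp.single 2 1 + Finsupp.single 7 2) ?_ g h
  rw [coeff_rhoL_detM]
  exact IsUnit.mem_nonZeroDivisors isUnit_one.neg

/-- `Δ` is a non-zero-divisor modulo `L`. -/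
lemma mem_idL_of_detM_mul_mem {y : D A} (h : detM A * y ∈ idL A) : y ∈ idL A := by
  apply mem_idL_of_rhoL_eq_zero
  apply rhoL_detM_nzd
  rw [← map_mul]
  exact rhoL_eq_zero_of_mem A h

/-- `I = J ∩ L` over any commutative ring. -/
theorem idI_eq_inf : idI A = idJ A ⊓ idL A := by
  apply le_antisymm
  · refine le_inf ?_ (idI_le_idL A)
    rw [idJ_eq]
    exact le_sup_left
  · rintro x ⟨hxJ, hxL⟩
    rw [SetLike.mem_coe, idJ_eq, Submodule.mem_sup] at hxJ
    obtain ⟨q, hq, z, hz, rfl⟩ := hxJ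
    obtain ⟨y, rfl⟩ := Ideal.mem_span_singleton'.1 hz
    have h1 : detM A * y ∈ idL A := by
      have h2 : q + y * detM A ∈ idL A := hxL
      have h3 := Ideal.sub_mem _ h2 (idI_le_idL A hq)
      rw [add_sub_cancel_left, mul_comm] at h3
      exact h3
    have h4 := mem_idL_of_detM_mul_mem A h1
    have h5 := detM_mul_mem_idI A h4
    rw [mul_comm] at h5
    exact Ideal.add_mem _ hq h5

/-- `(I : J) = L` over any commutative ring. -/
theorem colon_idJ : (idI A).colon (idJ A : Set (D A)) = idL A := by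
  apply le_antisymm
  · intro x hx
    rw [Submodule.mem_colon] at hx
    have h1 : detM A ∈ idJ A := Ideal.subset_span (by simp)
    have h2 := hx _ h1
    rw [smul_eq_mul, mul_comm] at h2
    exact mem_idL_of_detM_mul_mem A (idI_le_idL A h2)
  · intro x hx
    rw [Submodule.mem_colon]
    intro z hz
    rw [SetLike.mem_coe, idJ_eq, Submodule.mem_sup] at hz
    obtain ⟨q, hq, w, hw, rfl⟩ := hz
    obtain ⟨y, rfl⟩ := Ideal.mem_span_singleton'.1 hw
    rw [smul_eq_mul, mul_add]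
    refine Ideal.add_mem _ (Ideal.mul_mem_left _ _ hq) ?_
    have h5 := detM_mul_mem_idI A hx
    have : x * (y * detM A) = y * (detM A * x) := by ring
    rw [this]
    exact Ideal.mul_mem_left _ _ h5

end Groth.Agent.Lib.Helper28.Lie3
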