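import Groth.Agent.Lib.Helper28.Lie3Main
import Mathlib.RingTheory.Regular.RegularSequence
import Mathlib.RingTheory.Polynomial.Basic

/-!
# Regular sequences `(L1, L2, L3)` and `(Q1, Q2, Q3)` in `D = A[a,…,i]` (helper28)
-/

set_option autoImplicit false

namespace Groth.Agent.Lib.Helper28.Lie3

open Lie3Mod

/-- Elementwise criterion for a regular sequence of length three in a commutative ring. -/
lemma isRegular_three {R : Type*} [CommRing R] (r1 r2 r3 : R)
    (h1 : ∀ x, r1 * x = 0 → x = 0)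
    (h2 : ∀ x, r2 * x ∈ Ideal.span {r1} → x ∈ Ideal.span {r1})
    (h3 : ∀ x, r3 * x ∈ Ideal.span {r1, r2} → x ∈ Ideal.span {r1, r2})
    (h4 : Ideal.span {r1, r2, r3} ≠ ⊤) :
    RingTheory.Sequence.IsRegular R [r1, r2, r3] := by
  have e2 : Ideal.ofList [r1, r2] = Ideal.span {r1, r2} := by
    rw [Ideal.ofList_cons, Ideal.ofList_singleton, ← Ideal.span_union]; rfl
  have e3 : Ideal.ofList [r1, r2, r3] = Ideal.span {r1, r2, r3} := by
    rw [Ideal.ofList_cons, Ideal.ofList_cons, Ideal.ofList_singleton, ← Ideal.span_union,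
      ← Ideal.span_union]; rfl
  refine ⟨⟨fun i hi => ?_⟩, ?_⟩
  · rw [isSMulRegular_quotient_iff_mem_of_smul_mem]
    simp only [List.length_cons, List.length_nil] at hi
    interval_cases i
    · intro x hx
      simp only [List.take_zero, Ideal.ofList_nil, Submodule.bot_smul, Submodule.mem_bot] at hx ⊢
      exact h1 x hx
    · intro x hx
      simp only [List.take_succ_cons, List.take_zero, Ideal.ofList_singleton, Ideal.smul_eq_mul,
        Ideal.mul_top] at hx ⊢
      exact h2 x hx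
    · intro x hx
      simp only [List.take_succ_cons, List.take_zero, Ideal.smul_eq_mul,
        Ideal.mul_top] at hx ⊢
      rw [e2] at hx ⊢
      exact h3 x hx
  · rw [e3, Ideal.smul_eq_mul, Ideal.mul_top]
    exact fun h => h4 h.symm

open Polynomial in
/-- `sX - r` is a non-zero-divisor modulo `K[X]` if `s` is a non-zero-divisor modulo `K`. -/
lemma lin_nzd_mod {R : Type*} [CommRing R] (K : Ideal R) (s r : R)
    (hs : ∀ y, s * y ∈ K → y ∈ K) (y : R[X])
    (hy : (C s * X - C r) * y ∈ K.map (C : R →+* R[X])) : y ∈ K.map (C : R →+* R[X]) := by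
  have hk : K.map (C : R →+* R[X]) = RingHom.ker (mapRingHom (Ideal.Quotient.mk K)) := by
    rw [Polynomial.ker_mapRingHom, Ideal.mk_ker]
  rw [hk, RingHom.mem_ker] at hy ⊢
  rw [map_mul] at hy
  have hnz : mapRingHom (Ideal.Quotient.mk K) (C s * X - C r) ∈ nonZeroDivisors ((R ⧸ K)[X]) := by
    apply Polynomial.mem_nonzeroDivisors_of_coeff_mem 1
    have : (mapRingHom (Ideal.Quotient.mk K) (C s * X - C r)).coeff 1 = Ideal.Quotient.mk K s := by
      simp [coeff_C]
    rw [this, mem_nonZeroDivisors_iff]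
    have key : ∀ z : R ⧸ K, Ideal.Quotient.mk K s * z = 0 → z = 0 := by
      intro z hz
      obtain ⟨z, rfl⟩ := Ideal.Quotient.mk_surjective z
      rw [← map_mul, Ideal.Quotient.eq_zero_iff_mem] at hz
      exact Ideal.Quotient.eq_zero_iff_mem.2 (hs z hz)
    exact ⟨fun z hz => key z hz, fun z hz => key z (by rw [mul_comm]; exact hz)⟩
  exact (mem_nonZeroDivisors_iff.1 hnz).1 _ hy

section Lseq

open MvPolynomial

variable (A : Type*) [CommRing A]

/-- Non-zero-divisor modulo the kernel of a retraction `aeval v`. -/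
lemma nzd_mod_of_retr (v : Fin 9 → D A) (K : Ideal (D A))
    (hK : ∀ j, (X j : MvPolynomial (Fin 9) A) - v j ∈ K) (hK0 : ∀ y ∈ K, aeval v y = 0) (r : D A)
    (m : Fin 9 →₀ ℕ) (hm : coeff m (aeval v r) = 1)
    (x : D A) (hx : r * x ∈ K) : x ∈ K := by
  have h0 := hK0 _ hx
  rw [map_mul] at h0
  have h1 : aeval v x = 0 := by
    refine mv_nzd_of_coeff 9 _ m ?_ _ h0
    rw [hm]; exact one_mem _
  have h2 := sub_aeval_mem v x
  rw [h1, sub_zero] at h2
  refine Ideal.span_le.2 ?_ h2
  rintro _ ⟨j, rfl⟩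
  exact hK j

/-- `a ↦ i` -/
noncomputable def v1 : Fin 9 → MvPolynomial (Fin 9) A := fun j => if j = 0 then X 8 else X j
/-- `a ↦ i`, `b ↦ -f` -/
noncomputable def v2 : Fin 9 → MvPolynomial (Fin 9) A := fun j =>
  if j = 0 then X 8 else if j = 1 then -X 5 else X j

lemma L1_nzd (x : D A) (h : L1 A * x = 0) : x = 0 := by
  refine mv_nzd_of_coeff 9 _ (Finsupp.single 0 1) ?_ x h
  have : coeff (Finsupp.single (0 : Fin 9) 1) (L1 A) = 1 := by
    unfold L1 va vi
    simp only [X, coeff_sub, coeff_monomial]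
    simp [Finsupp.ext_iff, Fin.forall_fin_succ]
  rw [this]; exact one_mem _

lemma L2_nzd_mod (x : D A) (h : L2 A * x ∈ Ideal.span {L1 A}) : x ∈ Ideal.span {L1 A} := by
  refine nzd_mod_of_retr A (v1 A) _ ?_ ?_ (L2 A) (Finsupp.single 1 1) ?_ x h
  · intro j
    by_cases hj : j = 0
    · subst hj
      have : (X 0 : MvPolynomial (Fin 9) A) - v1 A 0 = L1 A := by simp [v1, L1, va, vi]
      rw [this]; exact Ideal.mem_span_singleton_self _
    · simp [v1, hj]
  · intro y hy
    obtain ⟨z, rfl⟩ := Ideal.mem_span_singleton'.1 hy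
    rw [map_mul]
    have : aeval (v1 A) (L1 A) = 0 := by
      unfold L1 va vi
      rw [map_sub, aeval_X, aeval_X]; simp [v1]
    rw [this, mul_zero]
  · unfold L2 vb vf
    rw [map_add, aeval_X, aeval_X]
    simp only [v1]
    simp only [X, coeff_add, coeff_monomial]
    simp [Finsupp.ext_iff, Fin.forall_fin_succ]

lemma L3_nzd_mod (x : D A) (h : L3 A * x ∈ Ideal.span {L1 A, L2 A}) :
    x ∈ Ideal.span {L1 A, L2 A} := by
  refine nzd_mod_of_retr A (v2 A) _ ?_ ?_ (L3 A) (Finsupp.single 3 1) ?_ x h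
  · intro j
    by_cases hj : j = 0
    · subst hj
      have : (X 0 : MvPolynomial (Fin 9) A) - v2 A 0 = L1 A := by simp [v2, L1, va, vi]
      rw [this]; exact Ideal.subset_span (by simp)
    · by_cases hj1 : j = 1
      · subst hj1
        have : (X 1 : MvPolynomial (Fin 9) A) - v2 A 1 = L2 A := by simp [v2, L2, vb, vf]
        rw [this]; exact Ideal.subset_span (by simp)
      · simp [v2, hj, hj1]
  · have hle : Ideal.span {L1 A, L2 A} ≤ RingHom.ker (aeval (v2 A)).toRingHom := by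
      rw [Ideal.span_le]
      intro y hy
      simp only [Set.mem_insert_iff, Set.mem_singleton_iff] at hy
      rcases hy with rfl | rfl
      · show aeval (v2 A) (L1 A) = 0
        unfold L1 va vi
        rw [map_sub, aeval_X, aeval_X]; simp [v2]
      · show aeval (v2 A) (L2 A) = 0
        unfold L2 vb vf
        rw [map_add, aeval_X, aeval_X]; simp [v2]
    intro y hy
    exact hle hy
  · unfold L3 vd vh
    rw [map_add, aeval_X, aeval_X]
    simp only [v2]
    simp only [X, coeff_add, coeff_monomial]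
    simp [Finsupp.ext_iff, Fin.forall_fin_succ]

lemma idL_ne_top [Nontrivial A] : idL A ≠ ⊤ := by
  intro h
  have h1 : (1 : D A) ∈ idL A := by rw [h]; trivial
  have := rhoL_eq_zero_of_mem A h1
  rw [map_one] at this
  exact one_ne_zero this

theorem isRegular_L [Nontrivial A] :
    RingTheory.Sequence.IsRegular (D A) [L1 A, L2 A, L3 A] :=
  isRegular_three _ _ _ (L1_nzd A) (L2_nzd_mod A) (L3_nzd_mod A) (idL_ne_top A)

end Lseq

section Qseq

open Polynomial

variable (A : Type*) [CommRing A]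

lemma nzd_mod_ker_of_unit {R B : Type*} [CommRing R] [CommRing B] (φ : R →+* B) (s : R) (iv : B)
    (h : φ s * iv = 1) (y : R) (hy : s * y ∈ RingHom.ker φ) : y ∈ RingHom.ker φ := by
  rw [RingHom.mem_ker, map_mul] at hy
  rw [RingHom.mem_ker]
  calc φ y = (φ s * iv) * φ y := by rw [h, one_mul]
    _ = iv * (φ s * φ y) := by ring
    _ = 0 := by rw [hy, mul_zero]

lemma psi1_G1 : psi1 A (G1 A) = -Q1 A := by
  have : psi3 A (C (C (G1 A))) = -Q1 A := by
    have h := congrArg (psi3 A) (theta_Q1 A)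
    rw [psi3_theta, map_neg] at h
    rw [h]; ring
  rwa [psi3_C, psi2_C] at this

lemma psi2_G2 : psi2 A (G2 A) = -Q2 A := by
  have : psi3 A (C (G2 A)) = -Q2 A := by
    have h := congrArg (psi3 A) (theta_Q2 A)
    rw [psi3_theta, map_neg] at h
    rw [h]; ring
  rwa [psi3_C] at this

lemma K1_le_comap_Q : K1 A ≤ Ideal.comap (psi1 A).toRingHom (Ideal.span {Q1 A}) := by
  unfold K1
  rw [sup_le_iff]
  constructor
  · rw [vars_empty, Ideal.map_bot]
    exact bot_le
  · rw [Ideal.span_le, Set.insert_subset_iff, Set.singleton_subset_iff]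
    constructor
    · show psi1 A (G1 A) ∈ Ideal.span {Q1 A}
      rw [psi1_G1]
      exact (Ideal.neg_mem_iff _).2 (Ideal.mem_span_singleton_self _)
    · rw [zgen]
      exact Ideal.zero_mem _

lemma K2_le_comap_Q : K2 A ≤ Ideal.comap (psi2 A).toRingHom (Ideal.span {Q1 A, Q2 A}) := by
  unfold K2
  rw [sup_le_iff]
  constructor
  · rw [Ideal.map_le_iff_le_comap]
    intro y hy
    have := K1_le_comap_Q A hy
    rw [Ideal.mem_comap] at this ⊢
    rw [Ideal.mem_comap]
    show psi2 A (C y) ∈ Ideal.span {Q1 A, Q2 A}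
    rw [psi2_C]
    exact Ideal.span_mono (by simp) this
  · rw [Ideal.span_le, Set.insert_subset_iff, Set.singleton_subset_iff]
    constructor
    · show psi2 A (G2 A) ∈ Ideal.span {Q1 A, Q2 A}
      rw [psi2_G2]
      exact (Ideal.neg_mem_iff _).2 (Ideal.subset_span (by simp))
    · rw [zgen]
      exact Ideal.zero_mem _

lemma Q1_nzd (x : D A) (h : Q1 A * x = 0) : x = 0 := by
  refine mv_nzd_of_coeff 9 _ (Finsupp.single 0 1 + Finsupp.single 7 1) ?_ x h
  have : MvPolynomial.coeff (Finsupp.single (0 : Fin 9) 1 + Finsupp.single 7 1) (Q1 A) = 1 := by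
    unfold Q1 va vb vd vf vg vh vi
    simp only [MvPolynomial.X, MvPolynomial.monomial_mul, mul_one, MvPolynomial.coeff_add,
      MvPolynomial.coeff_sub, MvPolynomial.coeff_monomial]
    simp [Finsupp.ext_iff, Fin.forall_fin_succ]
  rw [this]; exact one_mem _

lemma Q2_nzd_mod (p0 : D A) (h : Q2 A * p0 ∈ Ideal.span {Q1 A}) : p0 ∈ Ideal.span {Q1 A} := by
  obtain ⟨z, hz⟩ := Ideal.mem_span_singleton'.1 h
  have h1 : C (G2 A) * theta A p0 ∈
      ((K1 A).map (C : P1 A →+* P2 A)).map (C : P2 A →+* P3 A) := by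
    have e : C (G2 A) * theta A p0 = theta A z * C (C (G1 A)) := by
      have := congrArg (theta A) hz
      rw [map_mul, map_mul, theta_Q1, theta_Q2] at this
      linear_combination this
    rw [e]
    exact Ideal.mul_mem_left _ _ (Ideal.mem_map_of_mem _ (Ideal.mem_map_of_mem _ (G1_mem_K1 A)))
  have h2 : theta A p0 ∈ ((K1 A).map (C : P1 A →+* P2 A)).map (C : P2 A →+* P3 A) := by
    rw [Ideal.mem_map_C_iff] at h1 ⊢
    intro n
    have := h1 n
    rw [coeff_C_mul] at this
    refine lin_nzd_mod (K1 A) (C (x A 0)) (C (eps A)) ?_ _ this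
    rw [← ker_phi1]
    exact nzd_mod_ker_of_unit (phi1 A) (C (x A 0)) (iv0 A) (by rw [phi1_C]; exact x0_iv0 A)
  have h3 : ((K1 A).map (C : P1 A →+* P2 A)).map (C : P2 A →+* P3 A) ≤
      Ideal.comap (psi3 A).toRingHom (Ideal.span {Q1 A}) := by
    rw [Ideal.map_le_iff_le_comap, Ideal.map_le_iff_le_comap]
    intro y hy
    have := K1_le_comap_Q A hy
    rw [Ideal.mem_comap] at this
    rw [Ideal.mem_comap, Ideal.mem_comap]
    show psi3 A (C (C y)) ∈ Ideal.span {Q1 A}
    rw [psi3_C, psi2_C]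
    exact this
  have h4 := h3 h2
  rw [Ideal.mem_comap] at h4
  have h5 : psi3 A (theta A p0) ∈ Ideal.span {Q1 A} := h4
  rwa [psi3_theta] at h5

lemma Q3_nzd_mod (p0 : D A) (h : Q3 A * p0 ∈ Ideal.span {Q1 A, Q2 A}) :
    p0 ∈ Ideal.span {Q1 A, Q2 A} := by
  obtain ⟨z1, z2, hz⟩ := Ideal.mem_span_pair.1 h
  have h1 : G3 A * theta A p0 ∈ (K2 A).map (C : P2 A →+* P3 A) := by
    have e : G3 A * theta A p0 = -(theta A z1 * C (C (G1 A))) - theta A z2 * C (G2 A) := by
      have := congrArg (theta A) hz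
      rw [map_add, map_mul, map_mul, map_mul, theta_Q1, theta_Q2, theta_Q3] at this
      linear_combination (-1 : P3 A) * this
    rw [e]
    refine Ideal.sub_mem _ ((Ideal.neg_mem_iff _).2 ?_) ?_
    · exact Ideal.mul_mem_left _ _ (Ideal.mem_map_of_mem _ (CG1_mem_K2 A))
    · exact Ideal.mul_mem_left _ _ (Ideal.mem_map_of_mem _ (G2_mem_K2 A))
  have h2 : theta A p0 ∈ (K2 A).map (C : P2 A →+* P3 A) := by
    refine lin_nzd_mod (K2 A) (C (C (x A 2))) (C (C (gam A))) ?_ _ h1
    rw [← ker_phi2]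
    exact nzd_mod_ker_of_unit (phi2 A) (C (C (x A 2))) (iv2 A) (by rw [phi2_CC]; exact x2_iv2 A)
  have h3 : (K2 A).map (C : P2 A →+* P3 A) ≤
      Ideal.comap (psi3 A).toRingHom (Ideal.span {Q1 A, Q2 A}) := by
    rw [Ideal.map_le_iff_le_comap]
    intro y hy
    have := K2_le_comap_Q A hy
    rw [Ideal.mem_comap] at this
    rw [Ideal.mem_comap, Ideal.mem_comap]
    show psi3 A (C y) ∈ Ideal.span {Q1 A, Q2 A}
    rw [psi3_C]
    exact this
  have h4 := h3 h2
  rw [Ideal.mem_comap] at h4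
  have h5 : psi3 A (theta A p0) ∈ Ideal.span {Q1 A, Q2 A} := h4
  rwa [psi3_theta] at h5

lemma idI_ne_top [Nontrivial A] : idI A ≠ ⊤ := by
  intro h
  apply idL_ne_top A
  rw [eq_top_iff, ← h]
  exact idI_le_idL A

theorem isRegular_Q [Nontrivial A] :
    RingTheory.Sequence.IsRegular (D A) [Q1 A, Q2 A, Q3 A] :=
  isRegular_three _ _ _ (Q1_nzd A) (Q2_nzd_mod A) (Q3_nzd_mod A) (idI_ne_top A)

end Qseq

end Groth.Agent.Lib.Helper28.Lie3
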