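import Groth.Agent.Lib.Helper28.Lie3Tower
import Groth.Agent.Lib.Helper28.Lie3Orig

/-!
# Transport between `D = A[a,…,i]` and the tower; `J = ker (D → P_{ℓ1ℓ2ℓ3})` (helper28)
-/

set_option autoImplicit false

namespace Groth.Agent.Lib.Helper28.Lie3

open Polynomial Lie3Mod

variable (A : Type*) [CommRing A]

abbrev D9 := MvPolynomial (Fin 9) A

noncomputable instance instAlgP1 : Algebra A (P1 A) := Polynomial.algebraOfAlgebra
noncomputable instance instAlgP2 : Algebra A (P2 A) := Polynomial.algebraOfAlgebra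
noncomputable instance instAlgP3 : Algebra A (P3 A) := Polynomial.algebraOfAlgebra

/-- images of the nine structure constants in the tower -/
noncomputable def thetaVal : Fin 9 → P3 A := fun j =>
  if j = 0 then C (C (C (x A 0 + x A 5)))
  else if j = 1 then C (C (C (x A 1 - x A 3)))
  else if j = 2 then X
  else if j = 3 then C (C (C (x A 2 - x A 4)))
  else if j = 4 then C X
  else if j = 5 then C (C (C (x A 3)))
  else if j = 6 then C (C X)
  else if j = 7 then C (C (C (x A 4)))
  else C (C (C (x A 5)))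

noncomputable def theta : D9 A →ₐ[A] P3 A := MvPolynomial.aeval (thetaVal A)

lemma theta_X (j : Fin 9) : theta A (MvPolynomial.X j) = thetaVal A j := by
  unfold theta; rw [MvPolynomial.aeval_X]

noncomputable def psi0Val : Fin 6 → D9 A := fun j =>
  if j = 0 then MvPolynomial.X 0 - MvPolynomial.X 8
  else if j = 1 then MvPolynomial.X 1 + MvPolynomial.X 5
  else if j = 2 then MvPolynomial.X 3 + MvPolynomial.X 7
  else if j = 3 then MvPolynomial.X 5
  else if j = 4 then MvPolynomial.X 7
  else MvPolynomial.X 8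

noncomputable def psi0 : P6 A →ₐ[A] D9 A := MvPolynomial.aeval (psi0Val A)
noncomputable def psi1 : P1 A →ₐ[A] D9 A := Polynomial.aevalTower (psi0 A) (MvPolynomial.X 6)
noncomputable def psi2 : P2 A →ₐ[A] D9 A := Polynomial.aevalTower (psi1 A) (MvPolynomial.X 4)
noncomputable def psi3 : P3 A →ₐ[A] D9 A := Polynomial.aevalTower (psi2 A) (MvPolynomial.X 2)

lemma psi0_x (j : Fin 6) : psi0 A (x A j) = psi0Val A j := by
  unfold psi0; rw [MvPolynomial.aeval_X]

lemma psi3_X : psi3 A X = MvPolynomial.X 2 := by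
  unfold psi3; rw [aevalTower_X]
lemma psi3_C (q : P2 A) : psi3 A (C q) = psi2 A q := by
  unfold psi3; rw [aevalTower_C]
lemma psi2_X : psi2 A X = MvPolynomial.X 4 := by
  unfold psi2; rw [aevalTower_X]
lemma psi2_C (q : P1 A) : psi2 A (C q) = psi1 A q := by
  unfold psi2; rw [aevalTower_C]
lemma psi1_X : psi1 A X = MvPolynomial.X 6 := by
  unfold psi1; rw [aevalTower_X]
lemma psi1_C (q : P6 A) : psi1 A (C q) = psi0 A q := by
  unfold psi1; rw [aevalTower_C]

lemma psi3_theta (p : D9 A) : psi3 A (theta A p) = p := by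
  have h : (psi3 A).comp (theta A) = AlgHom.id A (D9 A) := by
    apply MvPolynomial.algHom_ext
    intro j
    rw [AlgHom.comp_apply, theta_X, AlgHom.id_apply]
    fin_cases j <;>
      simp [thetaVal, psi3_C, psi2_C, psi1_C, psi3_X, psi2_X, psi1_X, psi0_x, psi0Val]
  have := congrArg (fun f => f p) h
  simpa using this

lemma theta_Q1 : theta A (Q1 A) = -C (C (G1 A)) := by
  unfold Q1 G1 eta
  simp only [va, vb, vd, vf, vg, vh, vi, map_add, map_sub, map_mul, theta_X]
  simp [thetaVal]
  ring

lemma theta_Q2 : theta A (Q2 A) = -C (G2 A) := by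
  unfold Q2 G2 eps
  simp only [va, vb, vd, ve, vf, vh, vi, map_add, map_sub, map_mul, theta_X]
  simp [thetaVal]
  ring

lemma theta_Q3 : theta A (Q3 A) = G3 A := by
  unfold Q3 G3 gam
  simp only [va, vb, vc, vd, vf, vh, vi, map_add, map_sub, map_mul, theta_X]
  simp [thetaVal]
  ring

lemma theta_detM : theta A (detM A) = -G4 A := by
  unfold detM G4 sig2 del2
  simp only [vb, vc, ve, vf, vg, vh, vi, map_add, map_sub, map_mul, map_neg, map_pow, theta_X]
  simp [thetaVal]
  have h2 : (C (C (C (2 : P6 A))) : P3 A) = 2 := by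
    rw [map_ofNat C 2, map_ofNat C 2, map_ofNat C 2]
  rw [h2]
  ring

/-- the evaluation `D → P_{ℓ1ℓ2ℓ3}` -/
noncomputable def Phi : D9 A →+* B6 A := (phi3 A).comp (theta A).toRingHom

lemma Phi_apply (p : D9 A) : Phi A p = phi3 A (theta A p) := rfl

lemma G3_mem_K3 : G3 A ∈ K3 A := Ideal.mem_sup_right (Ideal.subset_span (by simp))
lemma G4_mem_K3 : G4 A ∈ K3 A := Ideal.mem_sup_right (Ideal.subset_span (by simp))
lemma CG2_mem_K3 : C (G2 A) ∈ K3 A :=
  Ideal.mem_sup_left (Ideal.mem_map_of_mem _ (G2_mem_K2 A))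
lemma CCG1_mem_K3 : C (C (G1 A)) ∈ K3 A :=
  Ideal.mem_sup_left (Ideal.mem_map_of_mem _ (CG1_mem_K2 A))

lemma Q1_mem_J : Q1 A ∈ idJ A := Ideal.subset_span (by simp)
lemma Q2_mem_J : Q2 A ∈ idJ A := Ideal.subset_span (by simp)
lemma Q3_mem_J : Q3 A ∈ idJ A := Ideal.subset_span (by simp)
lemma detM_mem_J : detM A ∈ idJ A := Ideal.subset_span (by simp)

lemma K3_le_comap : K3 A ≤ Ideal.comap (psi3 A).toRingHom (idJ A) := by
  have hG1 : psi1 A (G1 A) ∈ idJ A := by
    have : psi3 A (C (C (G1 A))) = -Q1 A := by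
      have h := congrArg (psi3 A) (theta_Q1 A)
      rw [psi3_theta, map_neg] at h
      rw [h]; ring
    rw [psi3_C, psi2_C] at this
    rw [this]
    exact (Ideal.neg_mem_iff _).2 (Q1_mem_J A)
  have hG2 : psi2 A (G2 A) ∈ idJ A := by
    have : psi3 A (C (G2 A)) = -Q2 A := by
      have h := congrArg (psi3 A) (theta_Q2 A)
      rw [psi3_theta, map_neg] at h
      rw [h]; ring
    rw [psi3_C] at this
    rw [this]
    exact (Ideal.neg_mem_iff _).2 (Q2_mem_J A)
  have hG3 : psi3 A (G3 A) ∈ idJ A := by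
    rw [← theta_Q3, psi3_theta]
    exact Q3_mem_J A
  have hG4 : psi3 A (G4 A) ∈ idJ A := by
    have : psi3 A (G4 A) = -detM A := by
      have h := congrArg (psi3 A) (theta_detM A)
      rw [psi3_theta, map_neg] at h
      rw [h]; ring
    rw [this]
    exact (Ideal.neg_mem_iff _).2 (detM_mem_J A)
  have hK1 : K1 A ≤ Ideal.comap (psi1 A).toRingHom (idJ A) := by
    unfold K1
    rw [sup_le_iff]
    constructor
    · rw [vars_empty, Ideal.map_bot]
      exact bot_le
    · rw [Ideal.span_le, Set.insert_subset_iff, Set.singleton_subset_iff]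
      constructor
      · exact hG1
      · rw [zgen]
        exact Ideal.zero_mem _
  have hK2 : K2 A ≤ Ideal.comap (psi2 A).toRingHom (idJ A) := by
    unfold K2
    rw [sup_le_iff]
    constructor
    · rw [Ideal.map_le_iff_le_comap]
      intro y hy
      have := hK1 hy
      rw [Ideal.mem_comap] at this ⊢
      rw [Ideal.mem_comap]
      show psi2 A (C y) ∈ idJ A
      rw [psi2_C]
      exact this
    · rw [Ideal.span_le, Set.insert_subset_iff, Set.singleton_subset_iff]
      constructor
      · exact hG2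
      · rw [zgen]
        exact Ideal.zero_mem _
  unfold K3
  rw [sup_le_iff]
  constructor
  · rw [Ideal.map_le_iff_le_comap]
    intro y hy
    have := hK2 hy
    rw [Ideal.mem_comap] at this ⊢
    rw [Ideal.mem_comap]
    show psi3 A (C y) ∈ idJ A
    rw [psi3_C]
    exact this
  · rw [Ideal.span_le, Set.insert_subset_iff, Set.singleton_subset_iff]
    exact ⟨hG3, hG4⟩

/-- `J` is the kernel of the evaluation into the localised polynomial ring. -/
theorem ker_Phi : RingHom.ker (Phi A) = idJ A := by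
  apply le_antisymm
  · intro p hp
    rw [RingHom.mem_ker, Phi_apply, ← RingHom.mem_ker, ker_phi3] at hp
    have := K3_le_comap A hp
    rw [Ideal.mem_comap] at this
    have h2 : psi3 A (theta A p) ∈ idJ A := this
    rwa [psi3_theta] at h2
  · unfold idJ
    rw [Ideal.span_le]
    intro p hp
    simp only [Set.mem_insert_iff, Set.mem_singleton_iff] at hp
    rw [SetLike.mem_coe, RingHom.mem_ker, Phi_apply, ← RingHom.mem_ker, ker_phi3]
    rcases hp with rfl | rfl | rfl | rfl
    · rw [theta_Q1]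
      exact (Ideal.neg_mem_iff _).2 (CCG1_mem_K3 A)
    · rw [theta_Q2]
      exact (Ideal.neg_mem_iff _).2 (CG2_mem_K3 A)
    · rw [theta_Q3]
      exact G3_mem_K3 A
    · rw [theta_detM]
      exact (Ideal.neg_mem_iff _).2 (G4_mem_K3 A)

end Groth.Agent.Lib.Helper28.Lie3
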