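import Groth.Agent.Lib.Helper28.Lie3Base
import Groth.Agent.Lib.Helper28.Lie3Ker
import Mathlib.RingTheory.Localization.Away.Basic

/-!
# The tower `P ⊂ P[g] ⊂ P[g,e] ⊂ P[g,e,c]` and the evaluation into `P_{ℓ1ℓ2ℓ3}` (helper28)

`P = A[ℓ1,ℓ2,ℓ3,f,h,i]` (`X 0, …, X 5`), `B = P[1/(ℓ1ℓ2ℓ3)]`.
-/

set_option autoImplicit false

namespace Groth.Agent.Lib.Helper28.Lie3

variable (A : Type*) [CommRing A]

abbrev P6 := MvPolynomial (Fin 6) A

/-- the variables of `P6` -/
noncomputable abbrev x (j : Fin 6) : P6 A := MvPolynomial.X j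

noncomputable def ell : P6 A := x A 0 * x A 1 * x A 2

abbrev B6 := Localization.Away (ell A)

/-- non-zero-divisor (left-cancellable) -/
def NZ {R : Type*} [CommRing R] (p : R) : Prop := ∀ q : R, p * q = 0 → q = 0

lemma NZ.mul {R : Type*} [CommRing R] {p q : R} (hp : NZ p) (hq : NZ q) : NZ (p * q) := by
  intro z hz
  apply hq
  apply hp
  rw [← mul_assoc]
  exact hz

lemma NZ.neg {R : Type*} [CommRing R] {p : R} (hp : NZ p) : NZ (-p) := by
  intro z hz
  apply hp
  rw [neg_mul, neg_eq_zero] at hz
  exact hz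

lemma NZ.mem {R : Type*} [CommRing R] {p : R} (hp : NZ p) : p ∈ nonZeroDivisors R := by
  rw [mem_nonZeroDivisors_iff]
  exact ⟨hp, fun z hz => hp z (by rw [mul_comm]; exact hz)⟩

lemma nz_x (j : Fin 6) : NZ (x A j) := by
  intro q hq
  refine mv_nzd_of_coeff 6 (x A j) (Finsupp.single j 1) ?_ q hq
  rw [MvPolynomial.coeff_X, if_pos rfl]
  exact one_mem (nonZeroDivisors A)

lemma nz_ell : NZ (ell A) := ((nz_x A 0).mul (nz_x A 1)).mul (nz_x A 2)

/-- retraction killing the variables in `S` -/
noncomputable def retr (S : Finset (Fin 6)) : P6 A →ₐ[A] P6 A :=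
  MvPolynomial.aeval (fun j => if j ∈ S then 0 else x A j)

lemma retr_x (S : Finset (Fin 6)) (j : Fin 6) :
    retr A S (x A j) = if j ∈ S then 0 else x A j := by
  unfold retr; rw [MvPolynomial.aeval_X]

lemma ker_retr (S : Finset (Fin 6)) :
    RingHom.ker (retr A S).toRingHom = Ideal.span ((fun j => x A j) '' (S : Set (Fin 6))) := by
  apply le_antisymm
  · intro p hp
    have hp0 : retr A S p = 0 := hp
    have h := sub_aeval_mem (fun j => if j ∈ S then 0 else x A j) p
    have h' : p - retr A S p ∈ Ideal.span ((fun j => x A j) '' (S : Set (Fin 6))) := by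
      refine Ideal.span_le.2 ?_ h
      rintro _ ⟨j, rfl⟩
      by_cases hj : j ∈ S
      · simp only [hj, if_true, sub_zero]
        exact Ideal.subset_span ⟨j, hj, rfl⟩
      · simp only [hj, if_false, sub_self]
        exact Ideal.zero_mem _
    rwa [hp0, sub_zero] at h'
  · rw [Ideal.span_le]
    rintro _ ⟨j, hj, rfl⟩
    have hj' : j ∈ S := hj
    show retr A S (x A j) = 0
    rw [retr_x, if_pos hj']

lemma alg_injective : Function.Injective (algebraMap (P6 A) (B6 A)) := by
  apply IsLocalization.injective (B6 A) (M := Submonoid.powers (ell A))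
  rw [Submonoid.powers_le]
  exact (nz_ell A).mem

/-- base homomorphism: kill the variables in `S`, then localise -/
noncomputable def beta (S : Finset (Fin 6)) : P6 A →+* B6 A :=
  (algebraMap (P6 A) (B6 A)).comp (retr A S).toRingHom

lemma beta_apply (S : Finset (Fin 6)) (p : P6 A) :
    beta A S p = algebraMap (P6 A) (B6 A) (retr A S p) := rfl

lemma ker_beta (S : Finset (Fin 6)) :
    RingHom.ker (beta A S) = Ideal.span ((fun j => x A j) '' (S : Set (Fin 6))) := by
  rw [← ker_retr]
  ext p
  rw [RingHom.mem_ker, RingHom.mem_ker, beta_apply]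
  constructor
  · intro h
    apply alg_injective A
    rw [map_zero]
    exact h
  · intro h
    have h' : retr A S p = 0 := h
    rw [h', map_zero]

lemma nz_alg {p : P6 A} (hp : NZ p) : NZ (algebraMap (P6 A) (B6 A) p) := by
  have h1 : algebraMap (P6 A) (B6 A) p ∈ nonZeroDivisors (B6 A) :=
    IsLocalization.map_nonZeroDivisors_le (Submonoid.powers (ell A)) (B6 A)
      (Submonoid.mem_map_of_mem _ hp.mem)
  exact (mem_nonZeroDivisors_iff.1 h1).1

lemma isUnit_alg_ell : IsUnit (algebraMap (P6 A) (B6 A) (ell A)) :=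
  IsLocalization.Away.algebraMap_isUnit (ell A)

lemma isUnit_alg_x0 : IsUnit (algebraMap (P6 A) (B6 A) (x A 0)) := by
  have h := isUnit_alg_ell A
  unfold ell at h
  rw [map_mul, map_mul] at h
  exact isUnit_of_mul_isUnit_left (isUnit_of_mul_isUnit_left h)

lemma isUnit_alg_x1 : IsUnit (algebraMap (P6 A) (B6 A) (x A 1)) := by
  have h := isUnit_alg_ell A
  unfold ell at h
  rw [map_mul, map_mul] at h
  exact isUnit_of_mul_isUnit_right (isUnit_of_mul_isUnit_left h)

lemma isUnit_alg_x2 : IsUnit (algebraMap (P6 A) (B6 A) (x A 2)) := by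
  have h := isUnit_alg_ell A
  unfold ell at h
  rw [map_mul, map_mul] at h
  exact isUnit_of_mul_isUnit_right h

noncomputable def iv0 : B6 A := Classical.choose (isUnit_alg_x0 A).exists_right_inv
noncomputable def iv1 : B6 A := Classical.choose (isUnit_alg_x1 A).exists_right_inv
noncomputable def iv2 : B6 A := Classical.choose (isUnit_alg_x2 A).exists_right_inv

lemma x0_iv0 : algebraMap (P6 A) (B6 A) (x A 0) * iv0 A = 1 :=
  Classical.choose_spec (isUnit_alg_x0 A).exists_right_inv
lemma x1_iv1 : algebraMap (P6 A) (B6 A) (x A 1) * iv1 A = 1 :=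
  Classical.choose_spec (isUnit_alg_x1 A).exists_right_inv
lemma x2_iv2 : algebraMap (P6 A) (B6 A) (x A 2) * iv2 A = 1 :=
  Classical.choose_spec (isUnit_alg_x2 A).exists_right_inv

lemma nz_of_coeff_one (p : P6 A) (m : Fin 6 →₀ ℕ) (h : MvPolynomial.coeff m p = 1) : NZ p := by
  intro q hq
  refine mv_nzd_of_coeff 6 p m ?_ q hq
  rw [h]
  exact one_mem (nonZeroDivisors A)

/-- `η = ℓ1 h + ℓ3 i` -/
noncomputable def eta : P6 A := x A 0 * x A 4 + x A 2 * x A 5
/-- `ε = ℓ2 ℓ3 - ℓ2 h - ℓ3 f` -/
noncomputable def eps : P6 A := x A 1 * x A 2 - x A 1 * x A 4 - x A 2 * x A 3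
/-- `γ = ℓ1 f + ℓ2 i` -/
noncomputable def gam : P6 A := x A 0 * x A 3 + x A 1 * x A 5

lemma nz_eta : NZ (eta A) := by
  apply nz_of_coeff_one A _ (Finsupp.single 0 1 + Finsupp.single 4 1)
  unfold eta
  simp only [x, MvPolynomial.X, MvPolynomial.monomial_mul, mul_one, MvPolynomial.coeff_add,
    MvPolynomial.coeff_monomial]
  simp [Finsupp.ext_iff, Fin.forall_fin_succ]

lemma nz_eps : NZ (eps A) := by
  apply nz_of_coeff_one A _ (Finsupp.single 1 1 + Finsupp.single 2 1)
  unfold eps
  simp only [x, MvPolynomial.X, MvPolynomial.monomial_mul, mul_one, MvPolynomial.coeff_sub,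
    MvPolynomial.coeff_monomial]
  simp [Finsupp.ext_iff, Fin.forall_fin_succ]

lemma nz_gam : NZ (gam A) := by
  apply nz_of_coeff_one A _ (Finsupp.single 0 1 + Finsupp.single 3 1)
  unfold gam
  simp only [x, MvPolynomial.X, MvPolynomial.monomial_mul, mul_one, MvPolynomial.coeff_add,
    MvPolynomial.coeff_monomial]
  simp [Finsupp.ext_iff, Fin.forall_fin_succ]

open Polynomial

abbrev P1 := Polynomial (P6 A)
abbrev P2 := Polynomial (P1 A)
abbrev P3 := Polynomial (P2 A)

noncomputable instance instCRP1 : CommRing (P1 A) := Polynomial.commRing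
noncomputable instance instCRP2 : CommRing (P2 A) := Polynomial.commRing
noncomputable instance instCRP3 : CommRing (P3 A) := Polynomial.commRing

/-- ideal of `P6` generated by the variables in `S` -/
noncomputable def vars (S : Finset (Fin 6)) : Ideal (P6 A) :=
  Ideal.span ((fun j => x A j) '' (S : Set (Fin 6)))

lemma x_mem_vars {S : Finset (Fin 6)} {j : Fin 6} (hj : j ∈ S) : x A j ∈ vars A S :=
  Ideal.subset_span ⟨j, hj, rfl⟩

lemma vars_le {S : Finset (Fin 6)} {I : Ideal (P6 A)} (h : ∀ j ∈ S, x A j ∈ I) :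
    vars A S ≤ I := by
  unfold vars
  rw [Ideal.span_le]
  rintro _ ⟨j, hj, rfl⟩
  exact h j hj

lemma vars_empty : vars A ∅ = ⊥ := by
  unfold vars
  simp

lemma map_vars_le {S : Finset (Fin 6)} {I : Ideal (P1 A)} (h : ∀ j ∈ S, C (x A j) ∈ I) :
    (vars A S).map (C : P6 A →+* P1 A) ≤ I := by
  unfold vars
  rw [Ideal.map_span, Ideal.span_le]
  rintro _ ⟨_, ⟨j, hj, rfl⟩, rfl⟩
  exact h j hj

lemma ker_beta' (S : Finset (Fin 6)) : RingHom.ker (beta A S) = vars A S := ker_beta A S

lemma ker_retr' (S : Finset (Fin 6)) : RingHom.ker (retr A S).toRingHom = vars A S := ker_retr A S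

lemma beta_x_of_notMem {S : Finset (Fin 6)} {j : Fin 6} (hj : j ∉ S) :
    beta A S (x A j) = algebraMap (P6 A) (B6 A) (x A j) := by
  rw [beta_apply, retr_x, if_neg hj]

/-- generic first level: adjoin `t` with `x_j t = r` over the base `β S`. -/
theorem ker_lvl1 (S : Finset (Fin 6)) (j : Fin 6) (ivj : B6 A)
    (hj : algebraMap (P6 A) (B6 A) (x A j) * ivj = 1) (hjS : j ∉ S) (r : P6 A)
    (hr : retr A S r = r) (hr' : retr A (insert j S) r = r) (hnz : NZ r) :
    RingHom.ker (eval₂RingHom (beta A S) (algebraMap (P6 A) (B6 A) r * ivj)) =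
      (vars A S).map (C : P6 A →+* P1 A) ⊔
        Ideal.span {C (x A j) * X - C r, C (0 : P6 A) * X - C 0} := by
  refine ker_extend (beta A S) (vars A S) (ker_beta' A S) (x A j) r _ ?hτ 0 0 ?hσ ?hcol
  case hτ =>
    rw [beta_x_of_notMem A hjS, beta_apply, hr, ← mul_assoc, mul_comm (algebraMap _ _ (x A j)),
      mul_assoc, hj, mul_one]
  case hσ => simp
  case hcol =>
    apply col_of_test (retr A (insert j S)).toRingHom (vars A S) (vars A (insert j S)) _ (x A j) r
      (ker_retr' A _)
    · rw [sup_le_iff]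
      constructor
      · apply vars_le
        intro k hk
        exact x_mem_vars A (Finset.mem_insert_of_mem hk)
      · rw [Ideal.span_le, Set.singleton_subset_iff]
        exact x_mem_vars A (Finset.mem_insert_self _ _)
    · apply vars_le
      intro k hk
      rcases Finset.mem_insert.1 hk with rfl | hk
      · exact Ideal.mem_sup_right (Ideal.subset_span rfl)
      · exact Ideal.mem_sup_left (Ideal.mem_sup_right (x_mem_vars A hk))
    · intro b hb
      have : (retr A (insert j S)).toRingHom r = r := hr'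
      rw [this] at hb
      exact hnz b hb

lemma retr_empty (p : P6 A) : retr A ∅ p = p := by
  unfold retr
  have : (fun j : Fin 6 => if j ∈ (∅ : Finset (Fin 6)) then (0 : P6 A) else x A j)
      = MvPolynomial.X := by
    funext j
    simp
  rw [this, MvPolynomial.aeval_X_left, AlgHom.id_apply]

lemma beta_empty (p : P6 A) : beta A ∅ p = algebraMap (P6 A) (B6 A) p := by
  rw [beta_apply, retr_empty]

/-! ### the three auxiliary first levels and the main first level -/

noncomputable def tauG : B6 A := algebraMap (P6 A) (B6 A) (eta A) * iv1 A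
/-- main level 1 : `g ↦ η/ℓ2` -/
noncomputable def phi1 : P1 A →+* B6 A := eval₂RingHom (beta A ∅) (tauG A)

noncomputable def G1 : P1 A := C (x A 1) * X - C (eta A)

noncomputable def K1 : Ideal (P1 A) :=
  (vars A ∅).map (C : P6 A →+* P1 A) ⊔ Ideal.span {G1 A, C (0 : P6 A) * X - C 0}

lemma ker_phi1 : RingHom.ker (phi1 A) = K1 A := by
  unfold phi1 tauG K1 G1
  apply ker_lvl1 A ∅ 1 (iv1 A) (x1_iv1 A) (by simp) (eta A) (retr_empty A _)
  · unfold eta
    simp only [map_add, map_mul, retr_x]
    simp
  · exact nz_eta A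

/-- test level 1' : `ℓ1 ↦ 0`, `g ↦ ℓ3 i/ℓ2` -/
noncomputable def phi1' : P1 A →+* B6 A :=
  eval₂RingHom (beta A {0}) (algebraMap (P6 A) (B6 A) (x A 2 * x A 5) * iv1 A)

noncomputable def K1' : Ideal (P1 A) :=
  (vars A {0}).map (C : P6 A →+* P1 A) ⊔
    Ideal.span {C (x A 1) * X - C (x A 2 * x A 5), C (0 : P6 A) * X - C 0}

lemma ker_phi1' : RingHom.ker (phi1' A) = K1' A := by
  unfold phi1' K1'
  apply ker_lvl1 A {0} 1 (iv1 A) (x1_iv1 A) (by simp) (x A 2 * x A 5)
  · simp only [map_mul, retr_x]
    simp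
  · simp only [map_mul, retr_x]
    simp
  · exact (nz_x A 2).mul (nz_x A 5)

/-- test level 1'' : `ℓ3 ↦ 0`, `g ↦ ℓ1 h/ℓ2` -/
noncomputable def phi1'' : P1 A →+* B6 A :=
  eval₂RingHom (beta A {2}) (algebraMap (P6 A) (B6 A) (x A 0 * x A 4) * iv1 A)

noncomputable def K1'' : Ideal (P1 A) :=
  (vars A {2}).map (C : P6 A →+* P1 A) ⊔
    Ideal.span {C (x A 1) * X - C (x A 0 * x A 4), C (0 : P6 A) * X - C 0}

lemma ker_phi1'' : RingHom.ker (phi1'' A) = K1'' A := by
  unfold phi1'' K1''
  apply ker_lvl1 A {2} 1 (iv1 A) (x1_iv1 A) (by simp) (x A 0 * x A 4)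
  · simp only [map_mul, retr_x]
    simp
  · simp only [map_mul, retr_x]
    simp
  · exact (nz_x A 0).mul (nz_x A 4)

/-- test hom : `ℓ1, ℓ3 ↦ 0`, `g ↦ 0` -/
noncomputable def chi0 : P1 A →+* B6 A := eval₂RingHom (beta A {0, 2}) 0

noncomputable def K0 : Ideal (P1 A) :=
  (vars A {0, 2}).map (C : P6 A →+* P1 A) ⊔
    Ideal.span {C (1 : P6 A) * X - C 0, C (0 : P6 A) * X - C 0}

lemma ker_chi0 : RingHom.ker (chi0 A) = K0 A := by
  unfold chi0 K0
  refine ker_extend (beta A {0, 2}) (vars A {0, 2}) (ker_beta' A _) 1 0 0 ?hτ 0 0 ?hσ ?hcol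
  case hτ => simp
  case hσ => simp
  case hcol =>
    intro n p _
    have : (Ideal.span {(1 : P6 A)}) = ⊤ := Ideal.span_singleton_one
    rw [this]
    simp

lemma zgen {R : Type*} [CommRing R] : C (0 : R) * X - C 0 = (0 : R[X]) := by simp

lemma phi1_C (p : P6 A) : phi1 A (C p) = algebraMap (P6 A) (B6 A) p := by
  unfold phi1
  rw [coe_eval₂RingHom, eval₂_C, beta_empty]

lemma phi1'_C (p : P6 A) : phi1' A (C p) = beta A {0} p := by
  unfold phi1'
  rw [coe_eval₂RingHom, eval₂_C]

lemma phi1''_C (p : P6 A) : phi1'' A (C p) = beta A {2} p := by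
  unfold phi1''
  rw [coe_eval₂RingHom, eval₂_C]

lemma chi0_C (p : P6 A) : chi0 A (C p) = beta A {0, 2} p := by
  unfold chi0
  rw [coe_eval₂RingHom, eval₂_C]

/-! ### main level 2 -/

noncomputable def tauE : B6 A := algebraMap (P6 A) (B6 A) (eps A) * iv0 A
/-- main level 2 : `e ↦ ε/ℓ1` -/
noncomputable def phi2 : P2 A →+* B6 A := eval₂RingHom (phi1 A) (tauE A)

noncomputable def G2 : P2 A := C (C (x A 0)) * X - C (C (eps A))

noncomputable def K2 : Ideal (P2 A) :=
  (K1 A).map (C : P1 A →+* P2 A) ⊔ Ideal.span {G2 A, C (0 : P1 A) * X - C 0}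

lemma ker_phi2 : RingHom.ker (phi2 A) = K2 A := by
  unfold phi2 K2 G2 tauE
  refine ker_extend (phi1 A) (K1 A) (ker_phi1 A) (C (x A 0)) (C (eps A)) _ ?hτ 0 0 ?hσ ?hcol
  case hτ =>
    rw [phi1_C, phi1_C, ← mul_assoc, mul_comm (algebraMap _ _ (x A 0)), mul_assoc, x0_iv0,
      mul_one]
  case hσ => simp
  case hcol =>
    apply col_of_test (phi1' A) (K1 A) (K1' A) _ (C (x A 0)) (C (eps A)) (ker_phi1' A)
    · unfold K1 K1' G1
      rw [sup_le_iff, sup_le_iff]
      refine ⟨⟨?_, ?_⟩, ?_⟩
      · rw [vars_empty, Ideal.map_bot]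
        exact bot_le
      · rw [Ideal.span_le, Set.insert_subset_iff, Set.singleton_subset_iff]
        constructor
        · have e : C (x A 1) * X - C (eta A)
              = (C (x A 1) * X - C (x A 2 * x A 5)) + C (x A 0) * (-C (x A 4)) := by
            unfold eta
            simp only [map_add, map_mul]
            ring
          rw [e]
          exact Ideal.add_mem _ (Ideal.mem_sup_right (Ideal.subset_span (by simp)))
            (Ideal.mem_sup_left (Ideal.mul_mem_right _ _
              (Ideal.mem_map_of_mem _ (x_mem_vars A (by simp)))))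
        · rw [zgen]
          exact Ideal.zero_mem _
      · rw [Ideal.span_le, Set.singleton_subset_iff]
        exact Ideal.mem_sup_left (Ideal.mem_map_of_mem _ (x_mem_vars A (by simp)))
    · unfold K1 K1' G1
      rw [sup_le_iff]
      constructor
      · apply map_vars_le
        intro j hj
        rw [Finset.mem_singleton] at hj
        subst hj
        exact Ideal.mem_sup_right (Ideal.subset_span rfl)
      · rw [Ideal.span_le, Set.insert_subset_iff, Set.singleton_subset_iff]
        constructor
        · have e : C (x A 1) * X - C (x A 2 * x A 5)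
              = (C (x A 1) * X - C (eta A)) + C (x A 4) * C (x A 0) := by
            unfold eta
            simp only [map_add, map_mul]
            ring
          rw [e]
          exact Ideal.add_mem _
            (Ideal.mem_sup_left (Ideal.mem_sup_right (Ideal.mem_sup_right
              (Ideal.subset_span (by simp)))))
            (Ideal.mem_sup_right (Ideal.mul_mem_left _ _ (Ideal.subset_span rfl)))
        · rw [zgen]
          exact Ideal.zero_mem _
    · intro b hb
      rw [phi1'_C, beta_apply] at hb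
      have e : retr A {0} (eps A) = eps A := by
        unfold eps
        simp only [map_sub, map_mul, retr_x]
        simp
      rw [e] at hb
      exact nz_alg A (nz_eps A) b hb

/-! ### test level 2'' : `ℓ3 ↦ 0`, `g ↦ ℓ1 h/ℓ2`, `e ↦ -ℓ2 h/ℓ1` -/

noncomputable def phi2'' : P2 A →+* B6 A :=
  eval₂RingHom (phi1'' A) (algebraMap (P6 A) (B6 A) (-(x A 1 * x A 4)) * iv0 A)

noncomputable def K2'' : Ideal (P2 A) :=
  (K1'' A).map (C : P1 A →+* P2 A) ⊔
    Ideal.span {C (C (x A 0)) * X - C (C (-(x A 1 * x A 4))), C (X : P1 A) * X - C (C (-(x A 4 ^ 2)))}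

lemma retr2_x1x4 : retr A {2} (-(x A 1 * x A 4)) = -(x A 1 * x A 4) := by
  simp only [map_neg, map_mul, retr_x]
  simp

lemma ker_phi2'' : RingHom.ker (phi2'' A) = K2'' A := by
  unfold phi2'' K2''
  refine ker_extend (phi1'' A) (K1'' A) (ker_phi1'' A) (C (x A 0)) (C (-(x A 1 * x A 4))) _ ?hτ
    X (C (-(x A 4 ^ 2))) ?hσ ?hcol
  case hτ =>
    rw [phi1''_C, phi1''_C, beta_x_of_notMem A (by simp), beta_apply, retr2_x1x4, ← mul_assoc,
      mul_comm (algebraMap _ _ (x A 0)), mul_assoc, x0_iv0, mul_one]
  case hσ =>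
    have e1 : phi1'' A X = algebraMap (P6 A) (B6 A) (x A 0 * x A 4) * iv1 A := by
      unfold phi1''
      rw [coe_eval₂RingHom, eval₂_X]
    have e2 : retr A {2} (-(x A 4 ^ 2)) = -(x A 4 ^ 2) := by
      simp only [map_neg, map_pow, retr_x]
      simp
    rw [e1, phi1''_C, beta_apply, e2]
    simp only [map_mul, map_neg, map_pow]
    linear_combination (-(algebraMap (P6 A) (B6 A) (x A 4)) ^ 2 * algebraMap (P6 A) (B6 A) (x A 1)
      * iv1 A) * x0_iv0 A + (-(algebraMap (P6 A) (B6 A) (x A 4)) ^ 2) * x1_iv1 A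
  case hcol =>
    apply col_of_test (chi0 A) (K1'' A) (K0 A) _ (C (x A 0)) (C (-(x A 1 * x A 4))) (ker_chi0 A)
    · unfold K1'' K0
      rw [sup_le_iff, sup_le_iff]
      refine ⟨⟨?_, ?_⟩, ?_⟩
      · apply map_vars_le
        intro j hj
        rw [Finset.mem_singleton] at hj
        subst hj
        exact Ideal.mem_sup_left (Ideal.mem_map_of_mem _ (x_mem_vars A (by simp)))
      · rw [Ideal.span_le, Set.insert_subset_iff, Set.singleton_subset_iff]
        constructor
        · have e : C (x A 1) * X - C (x A 0 * x A 4)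
              = C (x A 1) * (C (1 : P6 A) * X - C 0) + C (x A 0) * (-C (x A 4)) := by
            simp only [map_mul, map_one, map_zero]
            ring
          rw [e]
          exact Ideal.add_mem _
            (Ideal.mem_sup_right (Ideal.mul_mem_left _ _ (Ideal.subset_span (by simp))))
            (Ideal.mem_sup_left (Ideal.mul_mem_right _ _
              (Ideal.mem_map_of_mem _ (x_mem_vars A (by simp)))))
        · rw [zgen]
          exact Ideal.zero_mem _
      · rw [Ideal.span_le, Set.singleton_subset_iff]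
        exact Ideal.mem_sup_left (Ideal.mem_map_of_mem _ (x_mem_vars A (by simp)))
    · unfold K1'' K0
      rw [sup_le_iff]
      constructor
      · apply map_vars_le
        intro j hj
        rw [Finset.mem_insert, Finset.mem_singleton] at hj
        rcases hj with rfl | rfl
        · exact Ideal.mem_sup_right (Ideal.subset_span rfl)
        · exact Ideal.mem_sup_left (Ideal.mem_sup_right (Ideal.mem_sup_left
            (Ideal.mem_map_of_mem _ (x_mem_vars A (by simp)))))
      · rw [Ideal.span_le, Set.insert_subset_iff, Set.singleton_subset_iff]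
        constructor
        · have e : C (1 : P6 A) * X - C 0 = (X : P1 A) := by simp
          rw [e]
          exact Ideal.mem_sup_left (Ideal.mem_sup_left (Ideal.subset_span rfl))
        · rw [zgen]
          exact Ideal.zero_mem _
    · intro b hb
      rw [chi0_C, beta_apply] at hb
      have e : retr A {0, 2} (-(x A 1 * x A 4)) = -(x A 1 * x A 4) := by
        simp only [map_neg, map_mul, retr_x]
        simp
      rw [e] at hb
      exact nz_alg A ((nz_x A 1).mul (nz_x A 4)).neg b hb

/-! ### main level 3 -/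

lemma phi2_C (q : P1 A) : phi2 A (C q) = phi1 A q := by
  unfold phi2
  rw [coe_eval₂RingHom, eval₂_C]

lemma phi2_CC (p : P6 A) : phi2 A (C (C p)) = algebraMap (P6 A) (B6 A) p := by
  rw [phi2_C, phi1_C]

lemma phi2''_CC (p : P6 A) : phi2'' A (C (C p)) = beta A {2} p := by
  unfold phi2''
  rw [coe_eval₂RingHom, eval₂_C, phi1''_C]

noncomputable def tauC : B6 A := algebraMap (P6 A) (B6 A) (gam A) * iv2 A
/-- main level 3 : `c ↦ γ/ℓ3` -/
noncomputable def phi3 : P3 A →+* B6 A := eval₂RingHom (phi2 A) (tauC A)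

noncomputable def G3 : P3 A :=
  (C (C (C (x A 2))) : P3 A) * (X : P3 A) - (C (C (C (gam A))) : P3 A)
/-- `σ = h² + g e` -/
noncomputable def sig2 : P2 A := C (C (x A 4 ^ 2)) + C (X : P1 A) * X
/-- `δ₀ = ℓ2 g f - g f² + e i² + ℓ2 h i - 2 f h i` -/
noncomputable def del2 : P2 A :=
  C (C (x A 1 * x A 3) * X) - C (C (x A 3 ^ 2) * X) + C (C (x A 5 ^ 2)) * X
    + C (C (x A 1 * x A 4 * x A 5)) - C (C (2 * x A 3 * x A 4 * x A 5))
noncomputable def G4 : P3 A := (C (sig2 A) : P3 A) * (X : P3 A) - (C (del2 A) : P3 A)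

noncomputable def K3 : Ideal (P3 A) :=
  (K2 A).map (C : P2 A →+* P3 A) ⊔ Ideal.span {G3 A, G4 A}

lemma G1_mem_K1 : G1 A ∈ K1 A := Ideal.mem_sup_right (Ideal.subset_span (by simp))
lemma G2_mem_K2 : G2 A ∈ K2 A := Ideal.mem_sup_right (Ideal.subset_span (by simp))
lemma CG1_mem_K2 : C (G1 A) ∈ K2 A :=
  Ideal.mem_sup_left (Ideal.mem_map_of_mem _ (G1_mem_K1 A))

lemma sig_del_identity :
    sig2 A * C (C (gam A)) - C (C (x A 2)) * del2 A
      = (C (X : P1 A) * C (C (x A 3)) + C (C (x A 4 * x A 5))) * G2 A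
        + (X * C (C (x A 5)) - C (C (x A 3 * x A 4))) * C (G1 A) := by
  unfold sig2 del2 gam G2 G1 eps eta
  simp only [map_add, map_sub, map_mul, map_pow, map_ofNat]
  ring

lemma ker_phi3 : RingHom.ker (phi3 A) = K3 A := by
  unfold phi3 K3 G3 G4 tauC
  refine ker_extend (phi2 A) (K2 A) (ker_phi2 A) (C (C (x A 2))) (C (C (gam A))) _ ?hτ
    (sig2 A) (del2 A) ?hσ ?hcol
  case hτ =>
    rw [phi2_CC, phi2_CC, ← mul_assoc, mul_comm (algebraMap _ _ (x A 2)), mul_assoc, x2_iv2,
      mul_one]
  case hσ =>
    have hid : sig2 A * C (C (gam A)) - C (C (x A 2)) * del2 A ∈ K2 A := by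
      rw [sig_del_identity]
      exact Ideal.add_mem _ (Ideal.mul_mem_left _ _ (G2_mem_K2 A))
        (Ideal.mul_mem_left _ _ (CG1_mem_K2 A))
    rw [← ker_phi2, RingHom.mem_ker, map_sub, map_mul, map_mul, phi2_CC, phi2_CC] at hid
    linear_combination (iv2 A) * hid + (phi2 A (del2 A)) * x2_iv2 A
  case hcol =>
    apply col_of_test (phi2'' A) (K2 A) (K2'' A) _ (C (C (x A 2))) (C (C (gam A)))
      (ker_phi2'' A)
    · -- K2 ⊔ (ℓ3) ≤ K2''
      have hx2 : C (C (x A 2)) ∈ K2'' A :=
        Ideal.mem_sup_left (Ideal.mem_map_of_mem _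
          (Ideal.mem_sup_left (Ideal.mem_map_of_mem _ (x_mem_vars A (by simp)))))
      unfold K2
      rw [sup_le_iff, sup_le_iff]
      refine ⟨⟨?_, ?_⟩, ?_⟩
      · rw [Ideal.map_le_iff_le_comap]
        unfold K1
        rw [sup_le_iff]
        constructor
        · rw [vars_empty, Ideal.map_bot]
          exact bot_le
        · rw [Ideal.span_le, Set.insert_subset_iff, Set.singleton_subset_iff]
          constructor
          · show C (G1 A) ∈ K2'' A
            have e : C (G1 A) = C (C (x A 1) * X - C (x A 0 * x A 4))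
                + C (C (x A 2)) * (-C (C (x A 5))) := by
              unfold G1 eta
              simp only [map_add, map_sub, map_mul]
              ring
            rw [e]
            refine Ideal.add_mem _ ?_ (Ideal.mul_mem_right _ _ hx2)
            exact Ideal.mem_sup_left (Ideal.mem_map_of_mem _
              (Ideal.mem_sup_right (Ideal.subset_span (by simp))))
          · rw [zgen]
            exact Ideal.zero_mem _
      · rw [Ideal.span_le, Set.insert_subset_iff, Set.singleton_subset_iff]
        constructor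
        · have e : G2 A = (C (C (x A 0)) * X - C (C (-(x A 1 * x A 4))))
              + C (C (x A 2)) * (-C (C (x A 1 - x A 3))) := by
            unfold G2 eps
            simp only [map_sub, map_mul, map_neg]
            ring
          rw [e]
          refine Ideal.add_mem _ ?_ (Ideal.mul_mem_right _ _ hx2)
          exact Ideal.mem_sup_right (Ideal.subset_span (by simp))
        · rw [zgen]
          exact Ideal.zero_mem _
      · rw [Ideal.span_le, Set.singleton_subset_iff]
        exact hx2
    · -- K2'' ≤ (σ) ⊔ K2 ⊔ (ℓ3)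
      have hx2 : C (C (x A 2)) ∈ Ideal.span {sig2 A} ⊔ K2 A ⊔ Ideal.span {C (C (x A 2))} :=
        Ideal.mem_sup_right (Ideal.subset_span rfl)
      unfold K2''
      rw [sup_le_iff]
      constructor
      · rw [Ideal.map_le_iff_le_comap]
        unfold K1''
        rw [sup_le_iff]
        constructor
        · apply map_vars_le
          intro j hj
          rw [Finset.mem_singleton] at hj
          subst hj
          exact hx2
        · rw [Ideal.span_le, Set.insert_subset_iff, Set.singleton_subset_iff]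
          constructor
          · rw [SetLike.mem_coe, Ideal.mem_comap]
            have e : C (C (x A 1) * X - C (x A 0 * x A 4)) = C (G1 A)
                + C (C (x A 5)) * C (C (x A 2)) := by
              unfold G1 eta
              simp only [map_add, map_sub, map_mul]
              ring
            rw [e]
            exact Ideal.add_mem _ (Ideal.mem_sup_left (Ideal.mem_sup_right (CG1_mem_K2 A)))
              (Ideal.mul_mem_left _ _ hx2)
          · rw [zgen]
            exact Ideal.zero_mem _
      · rw [Ideal.span_le, Set.insert_subset_iff, Set.singleton_subset_iff]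
        constructor
        · have e : C (C (x A 0)) * X - C (C (-(x A 1 * x A 4))) = G2 A
              + C (C (x A 1 - x A 3)) * C (C (x A 2)) := by
            unfold G2 eps
            simp only [map_sub, map_mul, map_neg]
            ring
          rw [e]
          exact Ideal.add_mem _ (Ideal.mem_sup_left (Ideal.mem_sup_right (G2_mem_K2 A)))
            (Ideal.mul_mem_left _ _ hx2)
        · have e : C (X : P1 A) * X - C (C (-(x A 4 ^ 2))) = sig2 A := by
            unfold sig2
            simp only [map_neg, map_pow]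
            ring
          rw [e]
          exact Ideal.mem_sup_left (Ideal.mem_sup_left (Ideal.subset_span rfl))
    · intro b hb
      rw [phi2''_CC, beta_apply] at hb
      have e : retr A {2} (gam A) = gam A := by
        unfold gam
        simp only [map_add, map_mul, retr_x]
        simp
      rw [e] at hb
      exact nz_alg A (nz_gam A) b hb

end Groth.Agent.Lib.Helper28.Lie3
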