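import Groth.Agent.Lib.Ample.Affine
import Groth.Prelude.Def_LinSer
import Groth.Prelude.Def_CohB1

set_option autoImplicit false

namespace Groth.Agent.Lib.Helper28.LinSerA

universe u

open CategoryTheory AlgebraicGeometry Opposite TopologicalSpace
open Groth.Agent.Lib.Ample Scheme.Modules

/-- linear algebra: `n` linear conditions on `k^(n+1)` have a nonzero common solution. -/
theorem exists_ne_zero_kernel (k : Type u) [Field k] (n : ℕ) (a : Fin n → Fin (n + 1) → k) :
    ∃ c : Fin (n + 1) → k, c ≠ 0 ∧ ∀ i, ∑ j, c j * a i j = 0 := by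
  let f : (Fin (n + 1) → k) →ₗ[k] (Fin n → k) := Matrix.mulVecLin (Matrix.of a)
  have h : LinearMap.ker f ≠ ⊥ := by
    apply LinearMap.ker_ne_bot_of_finrank_lt
    simp
  obtain ⟨c, hc, hc0⟩ := Submodule.exists_mem_ne_zero_of_ne_bot h
  refine ⟨c, hc0, fun i => ?_⟩
  have h1 : f c = 0 := hc
  have h2 := congrFun h1 i
  simp only [f, Matrix.mulVecLin_apply, Matrix.mulVec, dotProduct, Matrix.of_apply, Pi.zero_apply] at h2
  rw [← h2]
  exact Finset.sum_congr rfl fun j _ => mul_comm _ _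

variable {k : Type u} [Field k] {X : Scheme.{u}}

/-- evaluation of functions on an open `U` at a `k`-point landing in `U`. -/
noncomputable def evPt (p : Spec (CommRingCat.of k) ⟶ X) (U : X.Opens)
    (hU : p (IsLocalRing.closedPoint k) ∈ U) : Γ(X, U) →+* k :=
  (Scheme.ΓSpecIso (CommRingCat.of k)).hom.hom.comp
    (p.appLE U ⊤ (by
      intro y _
      have : y = IsLocalRing.closedPoint k := Subsingleton.elim _ _
      rw [this]; exact hU)).hom

theorem evPt_res (p : Spec (CommRingCat.of k) ⟶ X) (U V : X.Opens)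
    (hU : p (IsLocalRing.closedPoint k) ∈ U) (hV : p (IsLocalRing.closedPoint k) ∈ V) (h : V ≤ U)
    (f : Γ(X, U)) : evPt p V hV (resFn h f) = evPt p U hU f := by
  unfold evPt resFn
  simp only [RingHom.comp_apply]
  congr 1
  rw [← CommRingCat.comp_apply, Scheme.Hom.map_appLE]

/-- the global function attached to a constant, typed in `Γ(X, ⊤)`. -/
noncomputable def gl (q : X ⟶ Spec (CommRingCat.of k)) (c : k) : Γ(X, ⊤) := Coh.toGlobal q c

theorem evPt_toGlobal (p : Spec (CommRingCat.of k) ⟶ X) (q : X ⟶ Spec (CommRingCat.of k))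
    (hpq : p ≫ q = 𝟙 _) (U : X.Opens) (hU : p (IsLocalRing.closedPoint k) ∈ U) (c : k) :
    evPt p U hU (resFn (le_top : U ≤ ⊤) (gl q c)) = c := by
  rw [evPt_res p ⊤ U (Opens.mem_top _) hU le_top]
  unfold evPt gl Coh.toGlobal
  simp only [RingHom.comp_apply]
  have h1 : (p.appLE ⊤ ⊤ (by intro y _; trivial)).hom
      ((q.appTop).hom ((Scheme.ΓSpecIso (CommRingCat.of k)).inv.hom c)) =
      (Scheme.ΓSpecIso (CommRingCat.of k)).inv.hom c := by
    rw [← CommRingCat.comp_apply]
    have h2 : q.appTop ≫ p.appLE ⊤ ⊤ (by intro y _; trivial) = (p ≫ q).appTop := by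
      rw [Scheme.Hom.comp_appTop]
      congr 1
    rw [h2, hpq]
    simp
  erw [h1]
  rw [← CommRingCat.comp_apply, Iso.inv_hom_id]
  rfl

theorem not_mem_basicOpen_of_evPt_eq_zero (p : Spec (CommRingCat.of k) ⟶ X) (U : X.Opens)
    (hU : p (IsLocalRing.closedPoint k) ∈ U) (f : Γ(X, U)) (h0 : evPt p U hU f = 0) :
    p (IsLocalRing.closedPoint k) ∉ X.basicOpen f := by
  intro hx
  have hu : IsUnit (resFn (X.basicOpen_le f) f) := RingedSpace.isUnit_res_basicOpen X.toRingedSpace f
  have h1 := hu.map (evPt p (X.basicOpen f) hx)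
  rw [evPt_res p U _ hU hx, h0] at h1
  exact not_isUnit_zero h1

theorem resSec_sum (L : X.Modules) {ι : Type} (s : Finset ι) {U V : X.Opens} (h : V ≤ U)
    (a : ι → Γ(X, U)) (m : ι → Γ(L, U)) :
    resSec L h (∑ j ∈ s, a j • m j) = ∑ j ∈ s, resFn h (a j) • resSec L h (m j) := by
  unfold resSec
  rw [map_sum]
  refine Finset.sum_congr rfl fun j _ => ?_
  exact resSec_smul L h (a j) (m j)

theorem bridge (L : X.Modules) {n : ℕ} (a : Fin n → Coh.Γtop X)
    (t : Fin n → (Coh.structureModule X ⟶ L))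
    (s : Fin n → LinSer.Sect X L) (hs : s = fun j => (L.unitHomEquiv (t j)).val (op ⊤)) :
    (∑ j, a j • s j) =
      (show LinSer.Sect X L from
        (∑ j, (show Γ(X, ⊤) from a j) • secOf (t j) : Γ(L, ⊤))) := by
  subst hs
  rfl

theorem main (k : Type u) [Field k] (X : Scheme.{u}) [X.Over (Spec (CommRingCat.of k))]
    (L : X.Modules) (hL : PicF.IsInvertible L)
    (n : ℕ) (p : Fin n → (Spec (CommRingCat.of k) ⟶ X))
    (hp : ∀ i, p i ≫ (X ↘ Spec (CommRingCat.of k)) = 𝟙 _)
    (t : Fin (n + 1) → (Coh.structureModule X ⟶ L))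
    (ht : LinSer.LinIndep k X L (fun j => (L.unitHomEquiv (t j)).val (op ⊤))) :
    ∃ s : Coh.structureModule X ⟶ L, s ≠ 0 ∧
      ∀ i, (p i) (IsLocalRing.closedPoint k) ∉ CohB1.genLocus L s := by
  classical
  choose U hUaff hxU _ e he using fun i =>
    exists_isAffineOpen_isGenerator_of_isInvertible hL ((p i) (IsLocalRing.closedPoint k)) ⊤
      (Opens.mem_top _)
  choose f hf using fun i j =>
    exists_eq_smul_of_isGenerator (he i) (resSec L (le_top : U i ≤ ⊤) (secOf (t j)))
  obtain ⟨c, hc0, hc⟩ := exists_ne_zero_kernel k n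
    (fun i j => evPt (p i) (U i) (hxU i) (f i j))
  let q := (X ↘ Spec (CommRingCat.of k))
  let σ : Γ(L, ⊤) := ∑ j, gl q (c j) • secOf (t j)
  refine ⟨homOfSec L σ, ?_, fun i => ?_⟩
  · intro h0
    have h1 : σ = 0 := by
      have h2 := secOf_homOfSec L σ
      rw [h0] at h2
      exact h2.symm.trans rfl
    apply hc0
    apply ht c
    rw [bridge L (fun j => Coh.toGlobal (X ↘ Spec (CommRingCat.of k)) (c j)) t _ rfl]
    exact h1
  · intro hx
    have key := genLocus_inf_eq_basicOpen (homOfSec L σ) (U i) (e i) (he i)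
      (∑ j, resFn (le_top : U i ≤ ⊤) (gl q (c j)) * f i j) (by
        rw [secOf_homOfSec]
        simp only [σ]
        rw [resSec_sum, Finset.sum_smul]
        refine Finset.sum_congr rfl fun j _ => ?_
        rw [hf i j, mul_smul])
    have hx' : (p i) (IsLocalRing.closedPoint k) ∈
        X.basicOpen (∑ j, resFn (le_top : U i ≤ ⊤) (gl q (c j)) * f i j) := by
      rw [← key]; exact ⟨hx, hxU i⟩
    refine not_mem_basicOpen_of_evPt_eq_zero (p i) (U i) (hxU i) _ ?_ hx'
    rw [map_sum]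
    simp only [map_mul, evPt_toGlobal (p i) q (hp i)]
    exact hc i

end Groth.Agent.Lib.Helper28.LinSerA
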