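import Mathlib

/-! Matroid intersection (Edmonds) in rank-function form, by deletion/contraction induction. -/

namespace Groth.Agent.Lib.Helper28.MatInt

/-- A matroid rank function on finite subsets of `E`. -/
structure RankFn (E : Type*) [DecidableEq E] where
  r : Finset E → ℕ
  le_card : ∀ A, r A ≤ A.card
  mono : ∀ A B, A ⊆ B → r A ≤ r B
  submod : ∀ A B, r (A ∪ B) + r (A ∩ B) ≤ r A + r B

namespace RankFn

variable {E : Type*} [DecidableEq E] (R : RankFn E)

lemma r_empty : R.r ∅ = 0 := by
  have := R.le_card ∅
  simpa using this

lemma r_singleton_le (e : E) : R.r {e} ≤ 1 := by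
  have := R.le_card {e}
  simpa using this

lemma r_eq_zero_of_singletons (A : Finset E) (h : ∀ e ∈ A, R.r {e} = 0) : R.r A = 0 := by
  induction A using Finset.induction_on with
  | empty => exact R.r_empty
  | insert a s ha ih =>
    have h1 := R.submod s {a}
    have h2 : R.r s = 0 := ih (fun e he => h e (Finset.mem_insert_of_mem he))
    have h3 : R.r {a} = 0 := h a (Finset.mem_insert_self _ _)
    have e1 : s ∪ {a} = insert a s := by
      ext x; simp
    rw [e1] at h1
    omega

/-- Contraction by `e`. -/
def contract (e : E) : RankFn E where
  r A := R.r (insert e A) - R.r {e}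
  le_card A := by
    have h1 := R.submod A {e}
    have h2 := R.le_card A
    have e1 : A ∪ {e} = insert e A := by
      ext x; simp
    rw [e1] at h1
    omega
  mono A B h := by
    have := R.mono (insert e A) (insert e B) (Finset.insert_subset_insert e h)
    omega
  submod A B := by
    have h1 := R.submod (insert e A) (insert e B)
    have e1 : insert e A ∪ insert e B = insert e (A ∪ B) := by
      ext x; simp only [Finset.mem_union, Finset.mem_insert]; tauto
    have e2 : insert e A ∩ insert e B = insert e (A ∩ B) := by
      ext x; simp only [Finset.mem_inter, Finset.mem_insert]; tauto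
    rw [e1, e2] at h1
    have m1 := R.mono {e} (insert e (A ∩ B)) (by simp)
    have m2 := R.mono {e} (insert e (A ∪ B)) (by simp)
    have m3 := R.mono {e} (insert e A) (by simp)
    have m4 := R.mono {e} (insert e B) (by simp)
    omega

lemma contract_r (e : E) (A : Finset E) : (R.contract e).r A = R.r (insert e A) - R.r {e} := rfl

end RankFn

open RankFn

variable {E : Type*} [DecidableEq E]

/-- **Matroid intersection theorem** (the nontrivial inequality): if `r₁ U + r₂ (G \ U) ≥ k` for
every `U ⊆ G`, there is a common independent set of size `k` inside `G`. -/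
theorem exists_common_indep_aux : ∀ (n : ℕ) (R₁ R₂ : RankFn E) (G : Finset E) (k : ℕ), G.card = n →
    (∀ U ⊆ G, k ≤ R₁.r U + R₂.r (G \ U)) →
    ∃ I ⊆ G, I.card = k ∧ R₁.r I = k ∧ R₂.r I = k := by
  intro n
  induction n with
  | zero =>
    intro R₁ R₂ G k hG h
    have hG' : G = ∅ := Finset.card_eq_zero.mp hG
    subst hG'
    have := h ∅ (subset_refl _)
    simp only [Finset.sdiff_self, r_empty, add_zero, Nat.le_zero] at this
    subst this
    exact ⟨∅, subset_refl _, by simp, r_empty _, r_empty _⟩
  | succ n ih =>
    intro R₁ R₂ G k hG h
    rcases Nat.eq_zero_or_pos k with hk | hk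
    · subst hk
      exact ⟨∅, Finset.empty_subset _, by simp, r_empty _, r_empty _⟩
    by_cases hloop : ∀ e ∈ G, R₁.r {e} = 0 ∨ R₂.r {e} = 0
    · exfalso
      have := h (G.filter (fun e => R₁.r {e} = 0)) (Finset.filter_subset _ _)
      have h1 : R₁.r (G.filter (fun e => R₁.r {e} = 0)) = 0 :=
        r_eq_zero_of_singletons _ _ (by
          intro e he
          exact (Finset.mem_filter.mp he).2)
      have h2 : R₂.r (G \ G.filter (fun e => R₁.r {e} = 0)) = 0 :=
        r_eq_zero_of_singletons _ _ (by
          intro e he
          rw [Finset.mem_sdiff, Finset.mem_filter] at he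
          rcases hloop e he.1 with h' | h'
          · exact absurd ⟨he.1, h'⟩ he.2
          · exact h')
      omega
    · push Not at hloop
      obtain ⟨e, heG, h1e, h2e⟩ := hloop
      have h1e' : R₁.r {e} = 1 := by
        have := R₁.r_singleton_le e
        omega
      have h2e' : R₂.r {e} = 1 := by
        have := R₂.r_singleton_le e
        omega
      have hcard : (G.erase e).card = n := by
        rw [Finset.card_erase_of_mem heG, hG]; rfl
      by_cases hdel : ∀ U ⊆ G.erase e, k ≤ R₁.r U + R₂.r (G.erase e \ U)
      · obtain ⟨I, hI, hc⟩ := ih R₁ R₂ (G.erase e) k hcard hdel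
        exact ⟨I, hI.trans (Finset.erase_subset _ _), hc⟩
      · push Not at hdel
        obtain ⟨U, hU, hUlt⟩ := hdel
        by_cases hcon : ∀ W ⊆ G.erase e,
            k - 1 ≤ (R₁.contract e).r W + (R₂.contract e).r (G.erase e \ W)
        · obtain ⟨I, hI, hc, hr1, hr2⟩ :=
            ih (R₁.contract e) (R₂.contract e) (G.erase e) (k - 1) hcard hcon
          have heI : e ∉ I := fun he => (Finset.mem_erase.mp (hI he)).1 rfl
          refine ⟨insert e I, ?_, ?_, ?_, ?_⟩
          · intro x hx
            rcases Finset.mem_insert.mp hx with rfl | hx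
            · exact heG
            · exact Finset.mem_of_mem_erase (hI hx)
          · rw [Finset.card_insert_of_notMem heI, hc]; omega
          · rw [contract_r, h1e'] at hr1
            have := R₁.mono {e} (insert e I) (by simp)
            omega
          · rw [contract_r, h2e'] at hr2
            have := R₂.mono {e} (insert e I) (by simp)
            omega
        · push Not at hcon
          obtain ⟨W, hW, hWlt⟩ := hcon
          exfalso
          rw [contract_r, contract_r, h1e', h2e'] at hWlt
          have heU : e ∉ U := fun he => (Finset.mem_erase.mp (hU he)).1 rfl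
          have heW : e ∉ W := fun he => (Finset.mem_erase.mp (hW he)).1 rfl
          have s1 := R₁.submod U (insert e W)
          have s2 := R₂.submod (G.erase e \ U) (insert e (G.erase e \ W))
          have e1 : U ∩ insert e W = U ∩ W := by
            ext x
            simp only [Finset.mem_inter, Finset.mem_insert]
            constructor
            · rintro ⟨hx, rfl | hx'⟩
              · exact absurd hx heU
              · exact ⟨hx, hx'⟩
            · rintro ⟨hx, hx'⟩
              exact ⟨hx, Or.inr hx'⟩
          have e2 : U ∪ insert e W = insert e (U ∪ W) := by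
            ext x; simp only [Finset.mem_union, Finset.mem_insert]; tauto
          have e3 : (G.erase e \ U) ∪ insert e (G.erase e \ W) = G \ (U ∩ W) := by
            ext x
            simp only [Finset.mem_union, Finset.mem_sdiff, Finset.mem_erase, Finset.mem_insert,
              Finset.mem_inter]
            constructor
            · rintro (⟨⟨_, hx⟩, hxU⟩ | rfl | ⟨⟨_, hx⟩, hxW⟩)
              · exact ⟨hx, fun h => hxU h.1⟩
              · exact ⟨heG, fun h => heU h.1⟩
              · exact ⟨hx, fun h => hxW h.2⟩
            · rintro ⟨hx, hn⟩
              by_cases hxe : x = e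
              · exact Or.inr (Or.inl hxe)
              · by_cases hxU : x ∈ U
                · exact Or.inr (Or.inr ⟨⟨hxe, hx⟩, fun hxW => hn ⟨hxU, hxW⟩⟩)
                · exact Or.inl ⟨⟨hxe, hx⟩, hxU⟩
          have e4 : (G.erase e \ U) ∩ insert e (G.erase e \ W) = G \ insert e (U ∪ W) := by
            ext x
            simp only [Finset.mem_inter, Finset.mem_sdiff, Finset.mem_erase, Finset.mem_insert,
              Finset.mem_union]
            constructor
            · rintro ⟨⟨⟨hxe, hx⟩, hxU⟩, rfl | ⟨_, hxW⟩⟩
              · exact absurd rfl hxe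
              · exact ⟨hx, fun h => by rcases h with h | h | h; exacts [hxe h, hxU h, hxW h]⟩
            · rintro ⟨hx, hn⟩
              have hxe : x ≠ e := fun h => hn (Or.inl h)
              exact ⟨⟨⟨hxe, hx⟩, fun h => hn (Or.inr (Or.inl h))⟩,
                Or.inr ⟨⟨hxe, hx⟩, fun h => hn (Or.inr (Or.inr h))⟩⟩
          rw [e1, e2] at s1
          rw [e3, e4] at s2
          have t1 := h (U ∩ W) (fun x hx => Finset.mem_of_mem_erase (hU (Finset.mem_inter.mp hx).1))
          have t2 := h (insert e (U ∪ W)) (by
            intro x hx
            rcases Finset.mem_insert.mp hx with rfl | hx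
            · exact heG
            · rcases Finset.mem_union.mp hx with hx | hx
              · exact Finset.mem_of_mem_erase (hU hx)
              · exact Finset.mem_of_mem_erase (hW hx))
          have m1 := R₁.mono {e} (insert e W) (by simp)
          have m2 := R₂.mono {e} (insert e (G.erase e \ W)) (by simp)
          omega

theorem exists_common_indep (R₁ R₂ : RankFn E) (G : Finset E) (k : ℕ)
    (h : ∀ U ⊆ G, k ≤ R₁.r U + R₂.r (G \ U)) :
    ∃ I ⊆ G, I.card = k ∧ R₁.r I = k ∧ R₂.r I = k :=
  exists_common_indep_aux G.card R₁ R₂ G k rfl h

end Groth.Agent.Lib.Helper28.MatInt
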