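import Mathlib
import Groth.Agent.Lib.Helper28.MatInt

/-! Edmonds' covering / Rado–Horn partition theorem from matroid intersection, and the linear
rank function of a family of vectors. -/

namespace Groth.Agent.Lib.Helper28.MatPart

open Groth.Agent.Lib.Helper28.MatInt

variable {E : Type*} [DecidableEq E] [Fintype E]

/-- Fibre of `U ⊆ E × Fin k` over the colour `c`. -/
def fib {k : ℕ} (U : Finset (E × Fin k)) (c : Fin k) : Finset E :=
  Finset.univ.filter (fun e => (e, c) ∈ U)

@[simp] lemma mem_fib {k : ℕ} (U : Finset (E × Fin k)) (c : Fin k) (e : E) :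
    e ∈ fib U c ↔ (e, c) ∈ U := by
  simp [fib]

lemma sum_card_fib {k : ℕ} (U : Finset (E × Fin k)) : ∑ c, (fib U c).card = U.card := by
  rw [Finset.card_eq_sum_card_fiberwise (f := Prod.snd) (t := Finset.univ) (fun _ _ => Finset.mem_univ _)]
  refine Finset.sum_congr rfl (fun c _ => ?_)
  refine Finset.card_nbij' (fun e => (e, c)) Prod.fst ?_ ?_ ?_ ?_
  · intro e he
    rw [Finset.mem_coe, mem_fib] at he
    rw [Finset.mem_coe, Finset.mem_filter]
    exact ⟨he, rfl⟩
  · intro p hp
    rw [Finset.mem_coe, Finset.mem_filter] at hp
    rw [Finset.mem_coe, mem_fib]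
    obtain ⟨e, c'⟩ := p
    obtain ⟨hp1, hp2⟩ := hp
    simp only at hp2
    subst hp2
    exact hp1
  · intro e _
    rfl
  · intro p hp
    rw [Finset.mem_coe, Finset.mem_filter] at hp
    obtain ⟨e, c'⟩ := p
    obtain ⟨_, hp2⟩ := hp
    simp only at hp2
    subst hp2
    rfl

/-- The `k`-fold direct sum of `R` on `E × Fin k`. -/
def sumRank (R : RankFn E) (k : ℕ) : RankFn (E × Fin k) where
  r U := ∑ c, R.r (fib U c)
  le_card U := by
    rw [← sum_card_fib U]
    exact Finset.sum_le_sum (fun c _ => R.le_card _)
  mono A B h := Finset.sum_le_sum (fun c _ => R.mono _ _ (by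
    intro e he
    rw [mem_fib] at he ⊢
    exact h he))
  submod A B := by
    rw [← Finset.sum_add_distrib, ← Finset.sum_add_distrib]
    refine Finset.sum_le_sum (fun c _ => ?_)
    have := R.submod (fib A c) (fib B c)
    have e1 : fib (A ∪ B) c = fib A c ∪ fib B c := by
      ext e; simp only [mem_fib, Finset.mem_union]
    have e2 : fib (A ∩ B) c = fib A c ∩ fib B c := by
      ext e; simp only [mem_fib, Finset.mem_inter]
    rw [e1, e2]
    exact this

/-- The partition matroid on `E × Fin k` (at most one colour per element). -/
def partRank (k : ℕ) : RankFn (E × Fin k) where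
  r U := (U.image Prod.fst).card
  le_card U := Finset.card_image_le
  mono A B h := Finset.card_le_card (Finset.image_subset_image h)
  submod A B := by
    rw [Finset.image_union]
    have h1 : ((A ∩ B).image Prod.fst).card ≤ (A.image Prod.fst ∩ B.image Prod.fst).card :=
      Finset.card_le_card (Finset.image_inter_subset _ _ _)
    have h2 := Finset.card_union_add_card_inter (A.image Prod.fst) (B.image Prod.fst)
    omega

/-- **Edmonds' covering theorem**: if `|A| ≤ k · r(A)` for all `A`, the ground set can be coloured
with `k` colours such that every colour class is independent. -/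
theorem exists_partition (R : RankFn E) (k : ℕ) (H : ∀ A : Finset E, A.card ≤ k * R.r A) :
    ∃ c : E → Fin k, ∀ t : Fin k,
      R.r (Finset.univ.filter (fun e => c e = t)) = (Finset.univ.filter (fun e => c e = t)).card := by
  classical
  obtain ⟨I, -, hIc, hI1, hI2⟩ := exists_common_indep (sumRank R k) (partRank k) Finset.univ
    (Fintype.card E) (by
      intro U _
      set B : Finset E := Finset.univ.filter (fun e => ∀ c, (e, c) ∈ U) with hB
      have h1 : B.card ≤ (sumRank R k).r U := by
        calc B.card ≤ k * R.r B := H B
          _ = ∑ _c : Fin k, R.r B := by simp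
          _ ≤ ∑ c : Fin k, R.r (fib U c) := Finset.sum_le_sum (fun c _ => R.mono _ _ (by
              intro e he
              rw [mem_fib]
              exact (Finset.mem_filter.mp he).2 c))
      have h2 : (partRank (E := E) k).r (Finset.univ \ U) = Bᶜ.card := by
        change ((Finset.univ \ U).image Prod.fst).card = _
        congr 1
        ext e
        simp only [Finset.mem_image, Finset.mem_sdiff, Finset.mem_univ, true_and, Prod.exists,
          exists_and_right, exists_eq_right, Finset.mem_compl, hB, Finset.mem_filter, not_forall]
      have h3 := Finset.card_add_card_compl B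
      omega)
  have hI2' : (I.image Prod.fst).card = I.card := by
    rw [hIc]; exact hI2
  have hinj : Set.InjOn Prod.fst (I : Set (E × Fin k)) := Finset.card_image_iff.mp hI2'
  have hsurj : I.image Prod.fst = Finset.univ := by
    apply Finset.eq_univ_of_card
    rw [hI2', hIc]
  have hex : ∀ e : E, ∃ c : Fin k, (e, c) ∈ I := by
    intro e
    have : e ∈ I.image Prod.fst := by rw [hsurj]; exact Finset.mem_univ _
    obtain ⟨p, hp, rfl⟩ := Finset.mem_image.mp this
    exact ⟨p.2, hp⟩
  choose c hc using hex
  have hfib : ∀ t, fib I t = Finset.univ.filter (fun e => c e = t) := by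
    intro t
    ext e
    simp only [Finset.mem_filter, Finset.mem_univ, true_and]
    constructor
    · intro h
      have := hinj (Finset.mem_coe.mpr ((mem_fib I t e).mp h)) (Finset.mem_coe.mpr (hc e)) rfl
      exact (Prod.ext_iff.mp this).2.symm
    · rintro rfl
      exact (mem_fib I _ e).mpr (hc e)
  have hsum : ∑ t, R.r (fib I t) = ∑ t, (fib I t).card := by
    rw [sum_card_fib, hIc]
    exact hI1
  have := (Finset.sum_eq_sum_iff_of_le (fun t _ => R.le_card (fib I t))).mp hsum
  refine ⟨c, fun t => ?_⟩
  rw [← hfib t]
  exact this t (Finset.mem_univ _)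

section Linear

variable {K V : Type*} [Field K] [AddCommGroup V] [Module K V] [FiniteDimensional K V]

omit [Fintype E] in
/-- The rank function of a family of vectors. -/
noncomputable def linRank (K : Type*) {V : Type*} [Field K] [AddCommGroup V] [Module K V]
    [FiniteDimensional K V] (y : E → V) : RankFn E where
  r A := Module.finrank K (Submodule.span K (y '' (A : Set E)))
  le_card A := by
    classical
    have h1 : y '' (A : Set E) = ((A.image y : Finset V) : Set V) := by
      rw [Finset.coe_image]
    rw [h1]
    exact (finrank_span_finset_le_card (R := K) (A.image y)).trans Finset.card_image_le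
  mono A B h := Submodule.finrank_mono (Submodule.span_mono (Set.image_mono (by exact_mod_cast h)))
  submod A B := by
    have h1 : Submodule.span K (y '' ((A ∪ B : Finset E) : Set E)) =
        Submodule.span K (y '' (A : Set E)) ⊔ Submodule.span K (y '' (B : Set E)) := by
      rw [Finset.coe_union, Set.image_union, Submodule.span_union]
    have h2 : Submodule.span K (y '' ((A ∩ B : Finset E) : Set E)) ≤
        Submodule.span K (y '' (A : Set E)) ⊓ Submodule.span K (y '' (B : Set E)) := by
      rw [Finset.coe_inter]
      exact le_inf (Submodule.span_mono (Set.image_mono Set.inter_subset_left))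
        (Submodule.span_mono (Set.image_mono Set.inter_subset_right))
    have h3 := Submodule.finrank_sup_add_finrank_inf_eq (Submodule.span K (y '' (A : Set E)))
      (Submodule.span K (y '' (B : Set E)))
    have h4 := Submodule.finrank_mono h2
    rw [h1]
    omega

omit [Fintype E] in
lemma linRank_r (y : E → V) (A : Finset E) :
    (linRank K y).r A = Module.finrank K (Submodule.span K (y '' (A : Set E))) := rfl

omit [Fintype E] in
lemma linearIndependent_of_linRank_eq_card (y : E → V) (A : Finset E)
    (h : (linRank K y).r A = A.card) : LinearIndependent K (fun j : A => y j) := by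
  rw [linearIndependent_iff_card_eq_finrank_span]
  have hset : y '' (A : Set E) = Set.range (fun j : A => y j) := by
    ext v
    constructor
    · rintro ⟨e, he, rfl⟩
      exact ⟨⟨e, he⟩, rfl⟩
    · rintro ⟨⟨e, he⟩, rfl⟩
      exact ⟨e, he, rfl⟩
  rw [Fintype.card_coe, ← h, linRank_r, Set.finrank, hset]

/-- **Rado–Horn theorem**: a finite family of vectors such that every subfamily `A` spans a space
of dimension at least `|A| / k` can be partitioned into `k` linearly independent subfamilies. -/
theorem exists_linearIndependent_partition (y : E → V) (k : ℕ)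
    (H : ∀ A : Finset E, A.card ≤ k * Module.finrank K (Submodule.span K (y '' (A : Set E)))) :
    ∃ c : E → Fin k, ∀ t : Fin k,
      LinearIndependent K (fun j : {e : E // c e = t} => y j) := by
  classical
  obtain ⟨c, hc⟩ := exists_partition (linRank K y) k H
  refine ⟨c, fun t => ?_⟩
  have := linearIndependent_of_linRank_eq_card (K := K) y _ (hc t)
  let e : {e : E // c e = t} ≃ (Finset.univ.filter (fun e => c e = t) : Finset E) :=
    { toFun := fun j => ⟨j.1, by simp [j.2]⟩
      invFun := fun j => ⟨j.1, (Finset.mem_filter.mp j.2).2⟩
      left_inv := fun j => rfl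
      right_inv := fun j => rfl }
  exact (this.comp e e.injective)

end Linear

end Groth.Agent.Lib.Helper28.MatPart
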