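import Mathlib.RingTheory.IntegralClosure.IntegrallyClosed
import Mathlib.RingTheory.Localization.LocalizationLocalization
import Mathlib.RingTheory.Localization.Away.Basic
import Mathlib.RingTheory.Polynomial.ScaleRoots
import Mathlib.RingTheory.Ideal.Operations
import Mathlib.RingTheory.Ideal.BigOperators

/-!
# Normality from a reduced principal divisor with normal complement (helper28)

If `R` is a domain, `x ≠ 0`, the ideal `(x)` is radical and `R[1/x]` is integrally closed, then
`R` is integrally closed.
-/

set_option autoImplicit false

namespace Groth.Agent.Lib.Helper28.NormalAux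

open Polynomial

variable {R : Type*} [CommRing R] [IsDomain R]

/-- if `z` is integral over `R` and `z x^(k+1) ∈ R` with `(x)` radical, then `z x^k ∈ R` -/
lemma dvd_of_isIntegral (x : R) (hred : (Ideal.span {x}).IsRadical)
    (z : FractionRing R) (hz : IsIntegral R z) (k : ℕ) (a : R)
    (ha : algebraMap R (FractionRing R) a = z * (algebraMap R (FractionRing R) x) ^ (k + 1)) :
    x ∣ a := by
  obtain ⟨p, hpm, hp⟩ := hz
  set s : R := x ^ (k + 1) with hs
  set q := scaleRoots p s with hq
  have hqm : q.Monic := (monic_scaleRoots_iff s).2 hpm
  have h1 : aeval (algebraMap R (FractionRing R) s * z) q = 0 :=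
    scaleRoots_aeval_eq_zero (by rw [aeval_def]; exact hp)
  have h2 : algebraMap R (FractionRing R) s * z = algebraMap R (FractionRing R) a := by
    rw [ha, hs, map_pow, mul_comm]
  rw [h2, aeval_algebraMap_apply] at h1
  have h3 : eval a q = 0 := by
    have := (IsFractionRing.injective R (FractionRing R))
    apply this
    rw [map_zero, ← h1]
    rfl
  -- expand `q`
  have hsum := hqm.as_sum
  have hdeg : q.natDegree = p.natDegree := natDegree_scaleRoots p s
  have h4 : a ^ q.natDegree = - ∑ i ∈ Finset.range q.natDegree, q.coeff i * a ^ i := by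
    have : eval a q = a ^ q.natDegree + ∑ i ∈ Finset.range q.natDegree, q.coeff i * a ^ i := by
      conv_lhs => rw [hsum]
      simp [eval_finset_sum]
    rw [h3] at this
    exact eq_neg_of_add_eq_zero_left this.symm
  have h5 : a ^ q.natDegree ∈ Ideal.span {x} := by
    rw [h4]
    apply Ideal.neg_mem_iff _ |>.2
    apply Ideal.sum_mem
    intro i hi
    rw [Finset.mem_range] at hi
    apply Ideal.mul_mem_right
    rw [hq, coeff_scaleRoots, hs]
    apply Ideal.mul_mem_left
    rw [Ideal.mem_span_singleton]
    have hpos : 0 < p.natDegree - i := by omega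
    rw [← pow_mul]
    exact dvd_pow_self x (by positivity)
  have h6 : a ∈ Ideal.span {x} := hred ⟨_, h5⟩
  exact Ideal.mem_span_singleton.1 h6

theorem isIntegrallyClosed_of_away (x : R) (hx : x ≠ 0) (hred : (Ideal.span {x}).IsRadical)
    (hL : IsIntegrallyClosed (Localization.Away x)) : IsIntegrallyClosed R := by
  have hle : Submonoid.powers x ≤ nonZeroDivisors R :=
    powers_le_nonZeroDivisors_of_noZeroDivisors hx
  letI : Algebra (Localization.Away x) (FractionRing R) :=
    IsLocalization.localizationAlgebraOfSubmonoidLe (Localization.Away x) (FractionRing R)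
      (Submonoid.powers x) (nonZeroDivisors R) hle
  haveI : IsScalarTower R (Localization.Away x) (FractionRing R) :=
    IsLocalization.localization_isScalarTower_of_submonoid_le (Localization.Away x)
      (FractionRing R) (Submonoid.powers x) (nonZeroDivisors R) hle
  haveI : IsFractionRing (Localization.Away x) (FractionRing R) :=
    IsFractionRing.isFractionRing_of_isDomain_of_isLocalization (Submonoid.powers x)
      (Localization.Away x) (FractionRing R)
  rw [isIntegrallyClosed_iff (FractionRing R)]
  intro z hz
  -- step A
  have hA : ∃ (k : ℕ) (a : R), algebraMap R (FractionRing R) a =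
      z * (algebraMap R (FractionRing R) x) ^ k := by
    have hzL : IsIntegral (Localization.Away x) z := hz.tower_top
    obtain ⟨l, hl⟩ := (isIntegrallyClosed_iff (FractionRing R)).1 hL hzL
    obtain ⟨a, ⟨y, hy⟩, rfl⟩ := IsLocalization.exists_mk'_eq (Submonoid.powers x) l
    obtain ⟨k, hk⟩ := (Submonoid.mem_powers_iff y x).1 hy
    subst hk
    refine ⟨k, a, ?_⟩
    have h1 := IsLocalization.mk'_spec (Localization.Away x) a
      (⟨x ^ k, ⟨k, rfl⟩⟩ : Submonoid.powers x)
    have h2 := congrArg (algebraMap (Localization.Away x) (FractionRing R)) h1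
    rw [map_mul, hl, ← IsScalarTower.algebraMap_apply, ← IsScalarTower.algebraMap_apply] at h2
    rw [← h2, map_pow]
  obtain ⟨k, a, hka⟩ := hA
  induction k generalizing a with
  | zero => exact ⟨a, by rw [hka, pow_zero, mul_one]⟩
  | succ k ih =>
    obtain ⟨b, rfl⟩ := dvd_of_isIntegral x hred z hz k a hka
    apply ih b
    have hx' : algebraMap R (FractionRing R) x ≠ 0 := by
      intro h0
      exact hx ((IsFractionRing.injective R (FractionRing R)) (by rw [h0, map_zero]))
    rw [map_mul, pow_succ] at hka
    have : algebraMap R (FractionRing R) x * algebraMap R (FractionRing R) b =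
        algebraMap R (FractionRing R) x * (z * algebraMap R (FractionRing R) x ^ k) := by
      rw [hka]; ring
    exact mul_left_cancel₀ hx' this

end Groth.Agent.Lib.Helper28.NormalAux
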