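import Mathlib
import Groth.Statements.S11199
import Groth.Agent.Lib.Helper28.AffPt

set_option autoImplicit false

universe u

open CategoryTheory MonoidalCategory CartesianMonoidalCategory MonObj GrpObj AlgebraicGeometry
open scoped TensorProduct

namespace Groth.Agent.Lib.Helper28.ObsFin

open Groth.Agent.Lib.Helper28.AffPt

attribute [local instance] gammaAlg

section PtMap

variable {k : Type u} [CommRing k] {B B' B'' : Type u} [CommRing B] [Algebra k B]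
  [CommRing B'] [Algebra k B'] [CommRing B''] [Algebra k B'']

theorem ptMap_comp (φ : B →ₐ[k] B') (ψ : B' →ₐ[k] B'') :
    VecGrp.ptMap ψ ≫ VecGrp.ptMap φ = VecGrp.ptMap (ψ.comp φ) := by
  apply Over.OverMorphism.ext
  rw [Over.comp_left, VecGrp.ptMap_left, VecGrp.ptMap_left, VecGrp.ptMap_left]
  exact LieS.specMap_comp φ.toRingHom ψ.toRingHom

theorem ptMap_id : VecGrp.ptMap (AlgHom.id k B) = 𝟙 (VecGrp.pt k B) := by
  apply Over.OverMorphism.ext
  rw [VecGrp.ptMap_left]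
  exact Spec.map_id _

theorem hom_pt_eq (t : VecGrp.pt k B ⟶ VecGrp.pt k k) : t = VecGrp.ptMap (Algebra.ofId k B) := by
  apply Over.OverMorphism.ext
  rw [VecGrp.ptMap_left]
  have hw : t.left ≫ (VecGrp.pt k k).hom = (VecGrp.pt k B).hom := Over.w t
  have h1 : (VecGrp.pt k k).hom = 𝟙 _ := Spec.map_id _
  rw [h1, Category.comp_id] at hw
  rw [hw]
  rfl

end PtMap

section Main

variable {k : Type u} [Field k]
  {G : Over (Spec (CommRingCat.of k))} [GrpObj G] [IsAffine G.left]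

/-- first universal point over `A ⊗ A`. -/
noncomputable def u1 : VecGrp.pt k (Γ(G.left, ⊤) ⊗[k] Γ(G.left, ⊤)) ⟶ G :=
  VecGrp.ptMap Algebra.TensorProduct.includeLeft ≫ uPt G

/-- second universal point over `A ⊗ A`. -/
noncomputable def u2 : VecGrp.pt k (Γ(G.left, ⊤) ⊗[k] Γ(G.left, ⊤)) ⟶ G :=
  VecGrp.ptMap Algebra.TensorProduct.includeRight ≫ uPt G

/-- comultiplication applied to a function. -/
noncomputable def comulFn (f : Γ(G.left, ⊤)) : Γ(G.left, ⊤) ⊗[k] Γ(G.left, ⊤) :=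
  ev ((u1 : _ ⟶ G) * u2) f

/-- `a ⊗ b ↦ a * g(b)`. -/
noncomputable def mg (g : VecGrp.pt k k ⟶ G) : Γ(G.left, ⊤) ⊗[k] Γ(G.left, ⊤) →ₐ[k] Γ(G.left, ⊤) :=
  Algebra.TensorProduct.lift (AlgHom.id k _) ((Algebra.ofId k _).comp (evAlg g))
    (fun _ _ => Commute.all _ _)

theorem mg_tmul (g : VecGrp.pt k k ⟶ G) (a b : Γ(G.left, ⊤)) :
    mg g (a ⊗ₜ[k] b) = a * algebraMap k _ (ev g b) := by
  simp [mg, evAlg_apply]

theorem ptMap_mg_comp (g : VecGrp.pt k k ⟶ G) :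
    VecGrp.ptMap (mg g) ≫ ((u1 : _ ⟶ G) * u2) =
      uPt G * (VecGrp.ptMap (Algebra.ofId k Γ(G.left, ⊤)) ≫ g) := by
  rw [MonObj.comp_mul]
  congr 1
  · rw [u1, ← Category.assoc, ptMap_comp]
    have : (mg g).comp Algebra.TensorProduct.includeLeft = AlgHom.id k _ := by
      ext a; simp [mg]
    rw [this, ptMap_id, Category.id_comp]
  · rw [u2, ← Category.assoc, ptMap_comp]
    have : (mg g).comp Algebra.TensorProduct.includeRight =
        (Algebra.ofId k _).comp (evAlg g) := by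
      ext a; simp [mg]
    rw [this, ← ptMap_comp, Category.assoc, ← eq_ptMap_uPt]

theorem mg_comulFn (g : VecGrp.pt k k ⟶ G) (f : Γ(G.left, ⊤)) :
    mg g (comulFn f) = ev (uPt G * (VecGrp.ptMap (Algebra.ofId k Γ(G.left, ⊤)) ≫ g)) f := by
  rw [← ptMap_mg_comp, ev_ptMap]
  rfl

theorem mul_eq_aux {T : Over (Spec (CommRingCat.of k))} {B : Type u} [CommRing B] [Algebra k B]
    (p : VecGrp.pt k B ⟶ G ⊗ T) (g : T ⟶ G) :
    p ≫ ((G ◁ g) ≫ μ[G]) = (p ≫ fst G T) * ((p ≫ snd G T) ≫ g) := by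
  rw [Hom.mul_def, ← Category.assoc]
  congr 1
  ext <;> simp

theorem mg_of_isRTransInv (g : VecGrp.pt k k ⟶ G) (f : Γ(G.left, ⊤))
    (h : AGF.IsRTransInv g f) : mg g (comulFn f) = f := by
  unfold AGF.IsRTransInv at h
  let p : VecGrp.pt k Γ(G.left, ⊤) ⟶ G ⊗ VecGrp.pt k k :=
    lift (uPt G) (VecGrp.ptMap (Algebra.ofId k Γ(G.left, ⊤)))
  have h2 := congrArg (ev p) h
  rw [← ev_comp, ← ev_comp, mul_eq_aux] at h2
  have h3 : p ≫ fst G _ = uPt G := by simp [p]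
  have h4 : p ≫ snd G _ = VecGrp.ptMap (Algebra.ofId k Γ(G.left, ⊤)) := by simp [p]
  rw [h3, h4, ev_uPt] at h2
  rw [mg_comulFn]
  exact h2

theorem isRTransInv_of_mg [IsAffine (G ⊗ VecGrp.pt k k).left] (g : VecGrp.pt k k ⟶ G)
    (f : Γ(G.left, ⊤)) (h : mg g (comulFn f) = f) : AGF.IsRTransInv g f := by
  unfold AGF.IsRTransInv
  have key : ∀ c c' : Γ((G ⊗ VecGrp.pt k k).left, ⊤),
      ev (uPt (G ⊗ VecGrp.pt k k)) c = ev (uPt (G ⊗ VecGrp.pt k k)) c' → c = c' := by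
    intro c c' h
    rwa [ev_uPt, ev_uPt] at h
  apply key
  rw [← ev_comp, ← ev_comp, mul_eq_aux]
  set x := uPt (G ⊗ VecGrp.pt k k) ≫ fst G (VecGrp.pt k k) with hx
  rw [hom_pt_eq (uPt (G ⊗ VecGrp.pt k k) ≫ snd G (VecGrp.pt k k))]
  have h1 : x = VecGrp.ptMap (evAlg x) ≫ uPt G := eq_ptMap_uPt x
  have h2 : VecGrp.ptMap (Algebra.ofId k Γ((G ⊗ VecGrp.pt k k).left, ⊤)) ≫ g =
      VecGrp.ptMap (evAlg x) ≫ (VecGrp.ptMap (Algebra.ofId k Γ(G.left, ⊤)) ≫ g) := by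
    rw [← Category.assoc, ptMap_comp]
    congr 2
    ext
  rw [h2]
  show _ = evAlg x f
  generalize evAlg x = φx at h1 h2 ⊢
  rw [h1, ← MonObj.comp_mul, ev_ptMap, ← mg_comulFn, h]

/-- `(ψ ⊗ id)`: `a ⊗ b ↦ ψ(a) • b`. -/
noncomputable def slice (ψ : Γ(G.left, ⊤) →ₗ[k] k) :
    Γ(G.left, ⊤) ⊗[k] Γ(G.left, ⊤) →ₗ[k] Γ(G.left, ⊤) :=
  (TensorProduct.lid k _).toLinearMap ∘ₗ (LinearMap.rTensor _ ψ)

theorem slice_tmul (ψ : Γ(G.left, ⊤) →ₗ[k] k) (a b : Γ(G.left, ⊤)) :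
    slice ψ (a ⊗ₜ[k] b) = ψ a • b := by
  simp [slice]

theorem ev_slice (g : VecGrp.pt k k ⟶ G) (ψ : Γ(G.left, ⊤) →ₗ[k] k)
    (D' : Γ(G.left, ⊤) ⊗[k] Γ(G.left, ⊤)) : ev g (slice ψ D') = ψ (mg g D') := by
  induction D' using TensorProduct.induction_on with
  | zero => simp
  | tmul a b =>
    rw [slice_tmul, mg_tmul, ← evAlg_apply, map_smul, evAlg_apply, mul_comm, ← Algebra.smul_def,
      map_smul, smul_eq_mul, smul_eq_mul, mul_comm]
  | add x y hx hy => simp only [map_add, hx, hy]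

/-- the ideal cutting out the rational points fixing `f`. -/
noncomputable def J (f : Γ(G.left, ⊤)) : Ideal Γ(G.left, ⊤) :=
  Ideal.span (Set.range fun ψ : Γ(G.left, ⊤) →ₗ[k] k =>
    slice ψ (comulFn f - f ⊗ₜ[k] (1 : Γ(G.left, ⊤))))

theorem mg_eq_iff (g : VecGrp.pt k k ⟶ G) (f : Γ(G.left, ⊤)) :
    mg g (comulFn f) = f ↔ J f ≤ RingHom.ker (ev g) := by
  have h0 : mg g (f ⊗ₜ[k] (1 : Γ(G.left, ⊤))) = f := by
    rw [mg_tmul, map_one, map_one, _root_.mul_one]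
  constructor
  · intro h
    rw [J, Ideal.span_le]
    rintro _ ⟨ψ, rfl⟩
    show ev g _ = 0
    rw [ev_slice, map_sub, h, h0, sub_self, map_zero]
  · intro h
    rw [← sub_eq_zero]
    have h1 : mg g (comulFn f) - f = mg g (comulFn f - f ⊗ₜ[k] (1 : Γ(G.left, ⊤))) := by
      rw [map_sub, h0]
    rw [h1, ← Module.forall_dual_apply_eq_zero_iff k]
    intro ψ
    have h2 : slice ψ (comulFn f - f ⊗ₜ[k] (1 : Γ(G.left, ⊤))) ∈ J f :=
      Ideal.subset_span ⟨ψ, rfl⟩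
    have h3 := h h2
    rw [RingHom.mem_ker, ev_slice] at h3
    exact h3

end Main

section Noeth

theorem exists_finset_of_noetherian {A : Type*} [CommRing A] [IsNoetherianRing A] {idx : Type*}
    (J : idx → Ideal A) (P : idx → Prop) :
    ∃ s : Finset idx, (∀ i ∈ s, P i) ∧ ∀ i, P i → J i ≤ ⨆ j ∈ s, J j := by
  classical
  let 𝒮 : Set (Ideal A) := {I | ∃ s : Finset idx, (∀ i ∈ s, P i) ∧ I = ⨆ j ∈ s, J j}
  have hne : 𝒮.Nonempty := ⟨_, ∅, by simp, rfl⟩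
  obtain ⟨m, ⟨s, hs, rfl⟩, hmax⟩ := (wellFounded_gt (α := Ideal A)).has_min 𝒮 hne
  refine ⟨s, hs, fun i hi => ?_⟩
  have h1 : (⨆ j ∈ insert i s, J j) ∈ 𝒮 :=
    ⟨insert i s, by
      intro j hj
      rcases Finset.mem_insert.mp hj with rfl | hj
      · exact hi
      · exact hs j hj, rfl⟩
  have h2 : (⨆ j ∈ s, J j) ≤ ⨆ j ∈ insert i s, J j :=
    biSup_mono fun j hj => Finset.mem_insert_of_mem hj
  have h3 : ¬ (⨆ j ∈ insert i s, J j) > ⨆ j ∈ s, J j := hmax _ h1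
  have h4 : (⨆ j ∈ insert i s, J j) = ⨆ j ∈ s, J j := by
    by_contra hne'
    exact h3 (lt_of_le_of_ne h2 (Ne.symm hne'))
  rw [← h4]
  exact le_biSup J (Finset.mem_insert_self i s)

end Noeth

section Final

variable {k : Type u} [Field k]
  {G : Over (Spec (CommRingCat.of k))} [GrpObj G] [IsAffine G.left]

theorem main [IsAffine (G ⊗ VecGrp.pt k k).left] [IsNoetherianRing Γ(G.left, ⊤)]
    (P : Γ(G.left, ⊤) → Prop) :
    ∃ s : Finset Γ(G.left, ⊤), (∀ f ∈ s, P f) ∧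
      ∀ g : VecGrp.pt k k ⟶ G, (∀ f ∈ s, AGF.IsRTransInv g f) →
        ∀ f : Γ(G.left, ⊤), P f → AGF.IsRTransInv g f := by
  obtain ⟨s, hs, hmax⟩ := exists_finset_of_noetherian (fun f : Γ(G.left, ⊤) => J f) P
  refine ⟨s, hs, fun g hg f hf => ?_⟩
  apply isRTransInv_of_mg
  rw [mg_eq_iff]
  refine (hmax f hf).trans ?_
  apply iSup₂_le
  intro f' hf'
  rw [← mg_eq_iff]
  exact mg_of_isRTransInv g f' (hg f' hf')

theorem isNoetherianRing_gamma (G : Over (Spec (CommRingCat.of k))) [IsAffine G.left]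
    [LocallyOfFiniteType G.hom] : IsNoetherianRing Γ(G.left, ⊤) := by
  have h1 : RingHom.FiniteType G.hom.appTop.hom :=
    (HasRingHomProperty.iff_of_isAffine (P := @LocallyOfFiniteType)).mp inferInstance
  have hs : Function.Surjective (Scheme.ΓSpecIso (CommRingCat.of k)).inv.hom := fun x =>
    ⟨(Scheme.ΓSpecIso (CommRingCat.of k)).hom x, Iso.hom_inv_id_apply _ x⟩
  have h2 : RingHom.FiniteType (algebraMap k Γ(G.left, ⊤)) :=
    h1.comp (RingHom.FiniteType.of_surjective _ hs)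
  haveI : Algebra.FiniteType k Γ(G.left, ⊤) := h2
  exact Algebra.FiniteType.isNoetherianRing k _

end Final

end Groth.Agent.Lib.Helper28.ObsFin
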