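import Mathlib
import Groth.Statements.S11191
import Groth.Agent.Lib.Helper28.AffPt

set_option autoImplicit false

universe u

open CategoryTheory MonoidalCategory CartesianMonoidalCategory MonObj GrpObj AlgebraicGeometry
open scoped TensorProduct

namespace Groth.Agent.Lib.Helper28.ObsFix

open Groth.Agent.Lib.Helper28.AffPt

attribute [local instance] gammaAlg

section Coef

variable {k : Type u} [Field k] {M : Type u} [AddCommGroup M] [Module k M]
  {B B' : Type u} [CommRing B] [Algebra k B] [CommRing B'] [Algebra k B']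

/-- `b ⊗ m ↦ φ(m) • b`. -/
noncomputable def coef (B : Type u) [CommRing B] [Algebra k B] (φ : M →ₗ[k] k) : B ⊗[k] M →ₗ[k] B :=
  (TensorProduct.rid k B).toLinearMap ∘ₗ (LinearMap.lTensor B φ)

@[simp] theorem coef_tmul (φ : M →ₗ[k] k) (b : B) (m : M) : coef B φ (b ⊗ₜ[k] m) = φ m • b := by
  simp [coef]

theorem coef_Wmap (φ : M →ₗ[k] k) (ψ : B →ₐ[k] B') (x : B ⊗[k] M) :
    ψ (coef B φ x) = coef B' φ (VecGrp.Wmap ψ x) := by
  induction x using TensorProduct.induction_on with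
  | zero => simp
  | tmul b m => simp
  | add x y hx hy => simp only [map_add, hx, hy]

theorem eq_of_coef_eq (z z' : k ⊗[k] M) (h : ∀ φ : M →ₗ[k] k, coef k φ z = coef k φ z') : z = z' := by
  apply (TensorProduct.lid k M).injective
  rw [← sub_eq_zero, ← map_sub]
  rw [← Module.forall_dual_apply_eq_zero_iff k]
  intro φ
  have h1 : ∀ w : k ⊗[k] M, φ (TensorProduct.lid k M w) = coef k φ w := by
    intro w
    induction w using TensorProduct.induction_on with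
    | zero => simp
    | tmul b m => simp [mul_comm]
    | add x y hx hy => simp only [map_add, hx, hy]
  rw [h1, map_sub, h, sub_self]

end Coef

section Main

variable {k : Type u} [Field k]
  {G : Over (Spec (CommRingCat.of k))} [GrpObj G] [IsAffine G.left]
  {M : Type u} [AddCommGroup M] [Module k M] (ρ : VecGrp.GMod G M)

/-- matrix coefficient `x ↦ φ(x · a)` as a global function on `G`. -/
noncomputable def mc (a : M) (φ : M →ₗ[k] k) : Γ(G.left, ⊤) :=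
  coef Γ(G.left, ⊤) φ (ρ.ρ Γ(G.left, ⊤) (uPt G) ((1 : Γ(G.left, ⊤)) ⊗ₜ[k] a))

theorem ev_mc (a : M) (φ : M →ₗ[k] k) {B : Type u} [CommRing B] [Algebra k B]
    (g : VecGrp.pt k B ⟶ G) :
    ev g (mc ρ a φ) = coef B φ (ρ.ρ B g ((1 : B) ⊗ₜ[k] a)) := by
  have h1 : g = VecGrp.ptMap (evAlg g) ≫ uPt G := eq_ptMap_uPt g
  conv_lhs => rw [h1]
  rw [ev_ptMap, ev_uPt, mc, coef_Wmap, ρ.naturality, ← h1]
  simp

variable {H : Over (Spec (CommRingCat.of k))} [GrpObj H] (i : H ⟶ G)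

theorem isRTransInv_mc [IsAffine (G ⊗ H).left] (a : M) (ha : a ∈ ρ.fixedUnder i)
    (φ : M →ₗ[k] k) : AGF.IsRTransInv i (mc ρ a φ) := by
  unfold AGF.IsRTransInv
  have key : ∀ c c' : Γ((G ⊗ H).left, ⊤), ev (uPt (G ⊗ H)) c = ev (uPt (G ⊗ H)) c' → c = c' := by
    intro c c' h
    rwa [ev_uPt, ev_uPt] at h
  apply key
  rw [← ev_comp, ← ev_comp, ev_mc, ev_mc]
  have h1 : uPt (G ⊗ H) ≫ ((G ◁ i) ≫ μ[G]) =
      (uPt (G ⊗ H) ≫ fst G H) * ((uPt (G ⊗ H) ≫ snd G H) ≫ i) := by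
    rw [Hom.mul_def, ← Category.assoc]
    congr 1
    ext <;> simp
  rw [h1, map_mul, LinearEquiv.mul_apply]
  have h2 := ha Γ((G ⊗ H).left, ⊤) (uPt (G ⊗ H) ≫ snd G H)
  rw [h2]

theorem ev_eq_of_isRTransInv (g : VecGrp.pt k k ⟶ G) (f : Γ(G.left, ⊤))
    (h : AGF.IsRTransInv g f) : ev g f = ev (1 : VecGrp.pt k k ⟶ G) f := by
  unfold AGF.IsRTransInv at h
  let v : VecGrp.pt k k ⟶ G ⊗ VecGrp.pt k k := lift 1 (𝟙 _)
  have h2 := congrArg (ev v) h
  rw [← ev_comp, ← ev_comp] at h2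
  have h3 : v ≫ ((G ◁ g) ≫ μ[G]) = g := by
    have h5 : v ≫ ((G ◁ g) ≫ μ[G]) = (v ≫ fst G _) * ((v ≫ snd G _) ≫ g) := by
      rw [Hom.mul_def, ← Category.assoc]
      congr 1
      ext <;> simp
    rw [h5]
    simp [v]
  have h4 : v ≫ fst G _ = 1 := by simp [v]
  rwa [h3, h4] at h2

theorem main [IsAffine (G ⊗ H).left] (g : VecGrp.pt k k ⟶ G)
    (hg : ∀ f : Γ(G.left, ⊤), AGF.IsRTransInv i f → AGF.IsRTransInv g f)
    (a : M) (ha : a ∈ ρ.fixedUnder i) :
    ρ.ρ k g ((1 : k) ⊗ₜ[k] a) = (1 : k) ⊗ₜ[k] a := by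
  apply eq_of_coef_eq
  intro φ
  have h1 := ev_eq_of_isRTransInv g (mc ρ a φ) (hg _ (isRTransInv_mc ρ i a ha φ))
  rw [ev_mc, ev_mc, map_one] at h1
  exact h1

end Main

end Groth.Agent.Lib.Helper28.ObsFix
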