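import Mathlib
import Groth.Statements.S11192
import Groth.Agent.Lib.Helper28.AffPt
import Groth.Agent.Lib.Helper28.ObsFin
import Groth.Agent.Lib.Helper69.NormalSmooth
import Groth.Agent.Lib.Helper49.AdicNormal

set_option autoImplicit false

universe u

open CategoryTheory MonoidalCategory CartesianMonoidalCategory MonObj GrpObj AlgebraicGeometry
open scoped TensorProduct

namespace Groth.Agent.Lib.Helper28.ObsIC

open Groth.Agent.Lib.Helper28.AffPt

/-- a saturated subring of an integrally closed domain is integrally closed -/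
theorem isIntegrallyClosed_of_sat {P : Type*} [CommRing P] [IsDomain P] [IsIntegrallyClosed P]
    (S : Subring P)
    (hsat : ∀ (c : P) (a b : S), (b : P) ≠ 0 → c * (b : P) = (a : P) → c ∈ S) :
    IsIntegrallyClosed S := by
  rw [isIntegrallyClosed_iff (FractionRing S)]
  intro x hx
  obtain ⟨a, b, hb, rfl⟩ := IsFractionRing.div_surjective (A := S) x
  have hb0 : b ≠ 0 := nonZeroDivisors.ne_zero hb
  have hbP : (b : P) ≠ 0 := fun h => hb0 (Subtype.ext h)
  let L := FractionRing P
  let g : S →+* L := (algebraMap P L).comp S.subtype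
  have hg : Function.Injective g := by
    intro u v huv
    have := IsFractionRing.injective P L huv
    exact Subtype.ext this
  let emb : FractionRing S →+* L := IsFractionRing.lift hg
  have hemb : ∀ s : S, emb (algebraMap S (FractionRing S) s) = algebraMap P L (s : P) := by
    intro s
    exact IsFractionRing.lift_algebraMap hg s
  have hint : IsIntegral P (emb (algebraMap S (FractionRing S) a / algebraMap S (FractionRing S) b)) := by
    refine IsIntegral.map_of_comp_eq S.subtype emb ?_ hx
    ext s
    simp [hemb]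
  rw [map_div₀, hemb, hemb] at hint
  obtain ⟨c, hc⟩ := IsIntegrallyClosed.isIntegral_iff.mp hint
  have hbL : algebraMap P L (b : P) ≠ 0 := by
    intro h
    exact hbP ((IsFractionRing.injective P L) (by simpa using h))
  have hcb : c * (b : P) = (a : P) := by
    apply IsFractionRing.injective P L
    rw [map_mul, hc, div_mul_cancel₀ _ hbL]
  have hcS : c ∈ S := hsat c a b hbP hcb
  refine ⟨⟨c, hcS⟩, ?_⟩
  have hbK : algebraMap S (FractionRing S) b ≠ 0 := by
    intro h
    exact hb0 ((IsFractionRing.injective S (FractionRing S)) (by simpa using h))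
  rw [eq_div_iff hbK, ← map_mul]
  congr 1
  exact Subtype.ext hcb

attribute [local instance] gammaAlg

section Normal

variable {k : Type u} [Field k]

theorem smooth_gamma (X : Over (Spec (CommRingCat.of k))) [IsAffine X.left] [Smooth X.hom] :
    Algebra.Smooth k Γ(X.left, ⊤) := by
  have h1 : RingHom.Smooth X.hom.appTop.hom :=
    (HasRingHomProperty.iff_of_isAffine (P := @Smooth)).mp inferInstance
  have h2 := RingHom.Smooth.respectsIso.2 _
    (Scheme.ΓSpecIso (CommRingCat.of k)).symm.commRingCatIsoToRingEquiv h1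
  exact h2

theorem gamma_normal_domain (X : Over (Spec (CommRingCat.of k))) [IsAffine X.left]
    [Smooth X.hom] [ConnectedSpace X.left] :
    IsDomain Γ(X.left, ⊤) ∧ IsIntegrallyClosed Γ(X.left, ⊤) := by
  haveI := smooth_gamma X
  have hN : EGA4.IsNormalRing Γ(X.left, ⊤) :=
    Groth.Agent.Lib.Helper69.NormalSmooth.isNormalRing_of_smooth_of_isIntegrallyClosed k _
  haveI : IsNoetherianRing Γ(X.left, ⊤) :=
    Groth.Agent.Lib.Helper28.ObsFin.isNoetherianRing_gamma X
  haveI : ConnectedSpace (PrimeSpectrum Γ(X.left, ⊤)) := by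
    have e := Scheme.homeoOfIso X.left.isoSpec
    exact e.surjective.connectedSpace e.continuous
  have hD : IsDomain Γ(X.left, ⊤) :=
    Groth.Agent.Lib.Helper49.AdicNormal.isDomain_of_isNormalRing_of_connected _ hN
  exact ⟨hD, IsIntegrallyClosed.of_localization_maximal fun p _ _ => (hN p).2⟩

end Normal

section Sat

variable {k : Type u} [Field k]
  {G H : Over (Spec (CommRingCat.of k))} [GrpObj G] [IsAffine G.left]

theorem flat_nzd {A C : Type*} [CommRing A] [CommRing C] (φ : A →+* C) (hφ : φ.Flat)
    {b : A} (hb : IsSMulRegular A b) (x : C) (hx : x * φ b = 0) : x = 0 := by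
  letI := φ.toAlgebra
  haveI : Module.Flat A C := hφ
  have h1 : RingTheory.Sequence.IsWeaklyRegular A [b] :=
    (RingTheory.Sequence.isWeaklyRegular_singleton_iff A b).mpr hb
  have h2 := RingTheory.Sequence.IsWeaklyRegular.of_flat (S := C) h1
  rw [List.map_singleton, RingTheory.Sequence.isWeaklyRegular_singleton_iff] at h2
  have h3 : algebraMap A C b • x = algebraMap A C b • (0 : C) := by
    rw [smul_zero, smul_eq_mul, mul_comm]
    exact hx
  exact h2 h3

theorem rTransInv_sat [IsDomain Γ(G.left, ⊤)] [IsAffine H.left] [Flat H.hom] (i : H ⟶ G)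
    (c : Γ(G.left, ⊤)) (a b : AGF.rTransInv i) (hb : (b : Γ(G.left, ⊤)) ≠ 0)
    (hcb : c * (b : Γ(G.left, ⊤)) = (a : Γ(G.left, ⊤))) : c ∈ AGF.rTransInv i := by
  rw [AGF.mem_rTransInv_iff]
  unfold AGF.IsRTransInv
  have ha : ((G ◁ i) ≫ μ[G]).left.appTop (a : Γ(G.left, ⊤)) = (fst G H).left.appTop a := a.2
  have hb' : ((G ◁ i) ≫ μ[G]).left.appTop (b : Γ(G.left, ⊤)) = (fst G H).left.appTop b := b.2
  rw [← hcb, map_mul, map_mul, hb'] at ha
  have hflat : Flat (fst G H).left := by
    show Flat (Limits.pullback.fst G.hom H.hom)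
    infer_instance
  haveI : IsAffine (G ⊗ H).left := by
    show IsAffine (Limits.pullback G.hom H.hom)
    infer_instance
  have hrf : RingHom.Flat (fst G H).left.appTop.hom :=
    (HasRingHomProperty.iff_of_isAffine (P := @Flat)).mp hflat
  have hreg : IsSMulRegular Γ(G.left, ⊤) (b : Γ(G.left, ⊤)) := by
    intro x y hxy
    exact mul_left_cancel₀ hb hxy
  have h0 := flat_nzd _ hrf hreg
    (((G ◁ i) ≫ μ[G]).left.appTop c - (fst G H).left.appTop c) (by
      rw [sub_mul]
      exact sub_eq_zero.mpr ha)
  exact sub_eq_zero.mp h0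

end Sat

end Groth.Agent.Lib.Helper28.ObsIC
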