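import Groth.Agent.Lib.Helper28.PairSFT2

/-!
# First fundamental theorem for `GL_n` (helper28), part 1: two minors of the determinantal ring

`δ₁ = [last n rows | first n columns]` is, up to sign, the restriction of `X_φ`, whose divisor on
the Schubert variety is reduced; `δ₂ = [first n rows | last n columns]` does not vanish on any
component of that divisor.  Hence `δ₂^M` is a nonzerodivisor modulo `δ₁^N` in `K[Z]/I_{n+1}`.
-/

set_option autoImplicit false
set_option linter.style.haveILetI false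

universe u

namespace Groth.Agent.Lib.Helper28.Smt

open W4bk4grassmannian MvPolynomial Matrix
open Groth.Agent.Lib.Helper28.DetCell Groth.Agent.Lib.Helper28.Dehomog

section idx

variable {d r n : ℕ}

def rowsLast (hnr : n < r) : Fin n → Fin r := fun a => ⟨r - n + a.val, by have := a.isLt; omega⟩
def colsFirst (hnd : n < d) : Fin n → Fin d := fun a => ⟨a.val, by have := a.isLt; omega⟩
def rowsFirst (hnr : n < r) : Fin n → Fin r := fun a => ⟨a.val, by have := a.isLt; omega⟩
def colsLast (hnd : n < d) : Fin n → Fin d := fun a => ⟨d - n + a.val, by have := a.isLt; omega⟩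

lemma rowsLast_injective (hnr : n < r) : Function.Injective (rowsLast hnr) := by
  intro a b h
  have h1 : (rowsLast hnr a).val = (rowsLast hnr b).val := by rw [h]
  have h2 : r - n + a.val = r - n + b.val := h1
  exact Fin.ext (by omega)

lemma colsFirst_injective (hnd : n < d) : Function.Injective (colsFirst hnd) := by
  intro a b h
  have h1 : (colsFirst hnd a).val = (colsFirst hnd b).val := by rw [h]
  exact Fin.ext h1

lemma rowsFirst_injective (hnr : n < r) : Function.Injective (rowsFirst hnr) := by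
  intro a b h
  have h1 : (rowsFirst hnr a).val = (rowsFirst hnr b).val := by rw [h]
  exact Fin.ext h1

lemma colsLast_injective (hnd : n < d) : Function.Injective (colsLast hnd) := by
  intro a b h
  have h1 : (colsLast hnd a).val = (colsLast hnd b).val := by rw [h]
  have h2 : d - n + a.val = d - n + b.val := h1
  exact Fin.ext (by omega)

set_option linter.unusedVariables false in
/-- the index of the minor `[first n rows | last n columns]` -/
def theta2 (hnd : n < d) (hnr : n < r) : Idx d (d + r) :=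
  ⟨fun j => if j.val < d - n then ⟨j.val, by have := j.isLt; omega⟩
    else ⟨j.val + n, by have := j.isLt; omega⟩, by
    intro a b hab
    rw [Fin.lt_def] at hab ⊢
    show (if a.val < d - n then (⟨a.val, _⟩ : Fin (d + r)) else ⟨a.val + n, _⟩).val <
      (if b.val < d - n then (⟨b.val, _⟩ : Fin (d + r)) else ⟨b.val + n, _⟩).val
    split_ifs with h1 h2 h2
    · exact hab
    · show a.val < b.val + n
      omega
    · omega
    · show a.val + n < b.val + n
      omega⟩

lemma theta2_val (hnd : n < d) (hnr : n < r) (j : Fin d) :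
    ((theta2 hnd hnr).1 j).val = if j.val < d - n then j.val else j.val + n := by
  show (if j.val < d - n then (⟨j.val, _⟩ : Fin (d + r)) else ⟨j.val + n, _⟩).val = _
  split_ifs <;> rfl

lemma thetaOf_eq {t : ℕ} (htd : t ≤ d) (f : Fin t → Fin r) (g : Fin t → Fin d)
    (hf : Function.Injective f) (hg : Function.Injective g) (θ : Idx d (d + r))
    (hθ : ∀ j, θ.1 j ∈ thetaSet f g) : thetaOf htd f g hf hg = θ := by
  apply Subtype.ext
  have := Finset.orderEmbOfFin_unique (card_thetaSet htd f g hf hg) hθ θ.2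
  rw [this]
  rfl

lemma thetaOf_first (hnd : n < d) (hnr : n < r) :
    thetaOf hnd.le (rowsLast hnr) (colsFirst hnd) (rowsLast_injective hnr)
      (colsFirst_injective hnd) = phiIdx d r (n + 1) (Nat.succ_pos n) hnd hnr := by
  apply thetaOf_eq
  intro j
  have hval := phiIdx_val (Nat.succ_pos n) hnd hnr j
  by_cases hj : j.val ≤ d - (n + 1)
  · rw [if_pos hj] at hval
    have h1 : (phiIdx d r (n + 1) (Nat.succ_pos n) hnd hnr).1 j =
        Fin.castAdd r ⟨n + j.val, by omega⟩ := by
      apply Fin.ext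
      rw [hval, Fin.val_castAdd]
      show n + 1 - 1 + j.val = n + j.val
      omega
    rw [h1, mem_thetaSet_castAdd]
    rintro ⟨a, ha⟩
    have h2 : (colsFirst hnd a).val = n + j.val := by rw [ha]
    have h3 : a.val = n + j.val := h2
    have := a.isLt
    omega
  · rw [if_neg hj] at hval
    have hjlt := j.isLt
    have h1 : (phiIdx d r (n + 1) (Nat.succ_pos n) hnd hnr).1 j =
        Fin.natAdd d ⟨r + j.val - d, by omega⟩ := by
      apply Fin.ext
      rw [hval, Fin.val_natAdd]
      show r + j.val = d + (r + j.val - d)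
      omega
    rw [h1, mem_thetaSet_natAdd]
    refine ⟨⟨j.val - (d - n), by omega⟩, ?_⟩
    apply Fin.ext
    show r - n + (j.val - (d - n)) = r + j.val - d
    omega

lemma thetaOf_second (hnd : n < d) (hnr : n < r) :
    thetaOf hnd.le (rowsFirst hnr) (colsLast hnd) (rowsFirst_injective hnr)
      (colsLast_injective hnd) = theta2 hnd hnr := by
  apply thetaOf_eq
  intro j
  have hval := theta2_val hnd hnr j
  have hjlt := j.isLt
  by_cases hj : j.val < d - n
  · rw [if_pos hj] at hval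
    have h1 : (theta2 hnd hnr).1 j = Fin.castAdd r j := by
      apply Fin.ext
      rw [hval, Fin.val_castAdd]
    rw [h1, mem_thetaSet_castAdd]
    rintro ⟨a, ha⟩
    have h2 : (colsLast hnd a).val = j.val := by rw [ha]
    have h3 : d - n + a.val = j.val := h2
    omega
  · rw [if_neg hj] at hval
    have h1 : (theta2 hnd hnr).1 j = Fin.natAdd d ⟨j.val + n - d, by omega⟩ := by
      apply Fin.ext
      rw [hval, Fin.val_natAdd]
      show j.val + n = d + (j.val + n - d)
      omega
    rw [h1, mem_thetaSet_natAdd]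
    refine ⟨⟨j.val + n - d, by omega⟩, ?_⟩
    apply Fin.ext
    rfl

/-- a Schubert divisor differs from `w` by at most one in each entry -/
lemma divisor_val_le {N : ℕ} (w φ' : Idx d N) (h : φ' ∈ divisors w) (j : Fin d) :
    (w.1 j).val ≤ (φ'.1 j).val + 1 := by
  obtain ⟨hlt, hco⟩ := h
  have hle : ∀ j, (φ'.1 j).val ≤ (w.1 j).val := fun j => Fin.le_def.1 (hlt.le j)
  unfold codeg at hco
  have h1 : ∑ t : Fin d, ((w.1 t).val - t.val) =
      ∑ t : Fin d, ((φ'.1 t).val - t.val) + ∑ t : Fin d, ((w.1 t).val - (φ'.1 t).val) := by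
    rw [← Finset.sum_add_distrib]
    apply Finset.sum_congr rfl
    intro t _
    have := idx_val_le φ' t
    have := hle t
    omega
  have h2 : ∑ t : Fin d, ((w.1 t).val - (φ'.1 t).val) = 1 := by omega
  have h3 := Finset.single_le_sum (f := fun t : Fin d => (w.1 t).val - (φ'.1 t).val)
    (fun _ _ => Nat.zero_le _) (Finset.mem_univ j)
  have h4 : (w.1 j).val - (φ'.1 j).val ≤ 1 := by
    rw [← h2]
    exact h3
  omega

lemma theta2_le_divisor (hnd : n < d) (hnr : n < r) (φ' : Idx d (d + r))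
    (h : φ' ∈ divisors (phiIdx d r (n + 1) (Nat.succ_pos n) hnd hnr)) :
    theta2 hnd hnr ≤ φ' := by
  intro j
  rw [Fin.le_def, theta2_val]
  have h1 := divisor_val_le _ φ' h j
  rw [phiIdx_val] at h1
  have h2 := idx_val_le φ' j
  split_ifs with hj
  · exact h2
  · rw [if_neg (by omega)] at h1
    omega

end idx

section step2

variable (K : Type u) [Field K] {d r n : ℕ} (hnd : n < d) (hnr : n < r)

/-- the minor `[last n rows | first n columns]` -/
noncomputable def delta1 : CellRing K d r :=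
  ((genMatrix K r d).submatrix (rowsLast hnr) (colsFirst hnd)).det

/-- the minor `[first n rows | last n columns]` -/
noncomputable def delta2 : CellRing K d r :=
  ((genMatrix K r d).submatrix (rowsFirst hnr) (colsLast hnd)).det

lemma unit_eq_C {u : CellRing K d r} (hu : u * u = 1) : ∃ ε : K, ε * ε = 1 ∧ u = C ε := by
  have h : (u - 1) * (u + 1) = 0 := by
    have : (u - 1) * (u + 1) = u * u - 1 := by ring
    rw [this, hu, sub_self]
  rcases mul_eq_zero.1 h with h | h
  · refine ⟨1, one_mul 1, ?_⟩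
    rw [C_1]
    exact sub_eq_zero.1 h
  · refine ⟨-1, by ring, ?_⟩
    rw [C_neg, C_1]
    exact eq_neg_of_add_eq_zero_left h

lemma delta1_eq : ∃ ε : K, ε * ε = 1 ∧ delta1 K hnd hnr =
    C ε * cellMinor K d r (phiIdx d r (n + 1) (Nat.succ_pos n) hnd hnr) := by
  obtain ⟨u, hu, _, hdet⟩ := exists_cellMinor_eq (K := K) hnd.le (rowsLast hnr) (colsFirst hnd)
    (rowsLast_injective hnr) (colsFirst_injective hnd)
  obtain ⟨ε, hε, rfl⟩ := unit_eq_C K hu
  rw [thetaOf_first hnd hnr] at hdet
  exact ⟨ε, hε, hdet⟩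

lemma delta2_eq : ∃ ε : K, ε * ε = 1 ∧ delta2 K hnd hnr =
    C ε * cellMinor K d r (theta2 hnd hnr) := by
  obtain ⟨u, hu, _, hdet⟩ := exists_cellMinor_eq (K := K) hnd.le (rowsFirst hnr) (colsLast hnd)
    (rowsFirst_injective hnr) (colsLast_injective hnd)
  obtain ⟨ε, hε, rfl⟩ := unit_eq_C K hu
  rw [thetaOf_second hnd hnr] at hdet
  exact ⟨ε, hε, hdet⟩

variable [Infinite K]

lemma delta1_notMem : delta1 K hnd hnr ∉ CAlgX.minorIdeal (genMatrix K r d) (n + 1) := by
  intro h
  have hd : 0 < d := by omega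
  obtain ⟨ε, hε, hδ⟩ := delta1_eq K hnd hnr
  set φ := phiIdx d r (n + 1) (Nat.succ_pos n) hnd hnr with hφ
  have h1 : cellMinor K d r φ = C ε * delta1 K hnd hnr := by
    rw [hδ, ← mul_assoc, ← C_mul, hε, C_1, one_mul]
  have h2 : cellMap K d r (X φ) ∈ CAlgX.minorIdeal (genMatrix K r d) (n + 1) := by
    rw [cellMap_X, h1]
    exact Ideal.mul_mem_left _ _ h
  have h3 := mem_of_cellMap_mem K hd (Nat.succ_pos n) hnd hnr (X φ) 1 (isHomogeneous_X K φ) h2
  exact X_notMem_schubertVanishing K φ φ le_rfl h3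

include hnd hnr in
/-- `δ₂^M` is a nonzerodivisor modulo `δ₁` in the determinantal ring -/
theorem claimA (hn : 0 < n) (g h : CellRing K d r) (M : ℕ)
    (hrel : g * delta2 K hnd hnr ^ M - delta1 K hnd hnr * h ∈
      CAlgX.minorIdeal (genMatrix K r d) (n + 1)) :
    ∃ h' : CellRing K d r, g - delta1 K hnd hnr * h' ∈
      CAlgX.minorIdeal (genMatrix K r d) (n + 1) := by
  classical
  have hd : 0 < d := by omega
  have ht : 0 < n + 1 := Nat.succ_pos n
  obtain ⟨ε₁, he₁, hδ₁⟩ := delta1_eq K hnd hnr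
  obtain ⟨ε₂, he₂, hδ₂⟩ := delta2_eq K hnd hnr
  set φ := phiIdx d r (n + 1) ht hnd hnr with hφ
  set θ₂ := theta2 hnd hnr with hθ₂
  set ι := iotaIdx (Nat.le_add_right d r) with hι
  obtain ⟨Γ₀, rfl⟩ := cellMap_surjective K d r g
  obtain ⟨H₀, rfl⟩ := cellMap_surjective K d r h
  set N₀ := Γ₀.totalDegree + H₀.totalDegree with hN₀
  have hxι : cellMap K d r (X ι) = 1 := by rw [cellMap_X, cellMinor_iota]
  set Γ := homog ι Γ₀ N₀ with hΓ
  set H := homog ι H₀ (N₀ + M) with hH
  have hΓmap : cellMap K d r Γ = cellMap K d r Γ₀ :=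
    map_homog ι (cellMap K d r) hxι Γ₀ N₀ (by omega)
  have hHmap : cellMap K d r H = cellMap K d r H₀ :=
    map_homog ι (cellMap K d r) hxι H₀ (N₀ + M) (by omega)
  have hΓh : Γ.IsHomogeneous N₀ := homog_isHomogeneous ι Γ₀ N₀
  have hHh : H.IsHomogeneous (N₀ + M) := homog_isHomogeneous ι H₀ (N₀ + M)
  set T : PlRing K d (d + r) := C (ε₂ ^ M) * Γ * X θ₂ ^ M * X ι with hT
  set Ω : PlRing K d (d + r) := T - C ε₁ * X φ * H with hΩ
  have hTh : T.IsHomogeneous (N₀ + M + 1) := by
    have h1 := (((isHomogeneous_C (Idx d (d + r)) (ε₂ ^ M)).mul hΓh).mul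
      ((isHomogeneous_X K θ₂).pow M)).mul (isHomogeneous_X K ι)
    have h2 : 0 + N₀ + 1 * M + 1 = N₀ + M + 1 := by omega
    rwa [h2] at h1
  have hΩh : Ω.IsHomogeneous (N₀ + M + 1) := by
    apply hTh.sub
    have h1 := ((isHomogeneous_C (Idx d (d + r)) ε₁).mul (isHomogeneous_X K φ)).mul hHh
    have h2 : 0 + 1 + (N₀ + M) = N₀ + M + 1 := by omega
    rwa [h2] at h1
  have hΩmap : cellMap K d r Ω =
      cellMap K d r Γ₀ * delta2 K hnd hnr ^ M - delta1 K hnd hnr * cellMap K d r H₀ := by
    have hC : ∀ a : K, cellMap K d r (C a) = C a := fun a => (cellMap K d r).commutes a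
    simp only [hΩ, hT, map_sub, map_mul, map_pow, cellMap_X, hC, hxι, hΓmap, hHmap, hδ₁, hδ₂,
      mul_pow]
    ring
  have hΩJ : Ω ∈ schubertVanishing K d (d + r) φ := by
    apply mem_of_cellMap_mem K hd ht hnd hnr Ω _ hΩh
    rw [hΩmap]
    exact hrel
  have hTJ : T ∈ schubertVanishing K d (d + r) φ ⊔ Ideal.span {(X φ : PlRing K d (d + r))} := by
    have : T = Ω + C ε₁ * X φ * H := by rw [hΩ]; ring
    rw [this]
    apply Ideal.add_mem _ (Ideal.mem_sup_left hΩJ)
    apply Ideal.mem_sup_right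
    rw [Ideal.mem_span_singleton]
    exact ⟨C ε₁ * H, by ring⟩
  have hex : ∃ φ' : Idx d (d + r), φ' < φ := by
    refine ⟨ι, lt_of_le_of_ne (iotaIdx_le _ φ) ?_⟩
    intro heq
    have h1 : ((ι.1 ⟨0, hd⟩).val) = ((φ.1 ⟨0, hd⟩).val) := by rw [heq]
    rw [hφ, phiIdx_val, if_pos (Nat.zero_le _)] at h1
    have h2 : (ι.1 ⟨0, hd⟩).val = 0 := rfl
    rw [h2] at h1
    simp only [add_zero] at h1
    omega
  rw [schubert_sup_span_eq K hd φ hex] at hTJ
  have hΓJ : Γ ∈ ⨅ φ' ∈ divisors φ, schubertVanishing K d (d + r) φ' := by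
    rw [Ideal.mem_iInf]
    intro φ'
    rw [Ideal.mem_iInf]
    intro hφ'
    rw [Ideal.mem_iInf] at hTJ
    have h1 := hTJ φ'
    rw [Ideal.mem_iInf] at h1
    have h2 := h1 hφ'
    haveI hp := isPrime_schubertVanishing K hd (Nat.le_add_right d r) φ'
    have hT' : T = Γ * (C (ε₂ ^ M) * X θ₂ ^ M * X ι) := by rw [hT]; ring
    rw [hT'] at h2
    rcases hp.mem_or_mem h2 with h3 | h3
    · exact h3
    · exfalso
      rcases hp.mem_or_mem h3 with h4 | h4
      · rcases hp.mem_or_mem h4 with h5 | h5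
        · have h6 : (1 : PlRing K d (d + r)) ∈ schubertVanishing K d (d + r) φ' := by
            have : (1 : PlRing K d (d + r)) = C (ε₂ ^ M) * C (ε₂ ^ M) := by
              rw [← C_mul, ← mul_pow, he₂, one_pow, C_1]
            rw [this]
            exact Ideal.mul_mem_left _ _ h5
          exact hp.ne_top ((Ideal.eq_top_iff_one _).2 h6)
        · have h6 := hp.mem_of_pow_mem M h5
          exact X_notMem_schubertVanishing K φ' θ₂ (theta2_le_divisor hnd hnr φ' hφ') h6
      · exact X_notMem_schubertVanishing K φ' ι (iotaIdx_le _ φ') h4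
  rw [← schubert_sup_span_eq K hd φ hex] at hΓJ
  obtain ⟨j, hj, y, hy, hjy⟩ := Submodule.mem_sup.1 hΓJ
  obtain ⟨a, rfl⟩ := Ideal.mem_span_singleton'.1 hy
  refine ⟨cellMap K d r a * C ε₁, ?_⟩
  have h1 : cellMap K d r Γ₀ - delta1 K hnd hnr * (cellMap K d r a * C ε₁) = cellMap K d r j := by
    rw [← hΓmap, ← hjy, map_add, map_mul, cellMap_X, hδ₁]
    have : C ε₁ * cellMinor K d r φ * (cellMap K d r a * C ε₁) =
        (C ε₁ * C ε₁) * (cellMap K d r a * cellMinor K d r φ) := by ring
    rw [this, ← C_mul, he₁, C_1, one_mul]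
    ring
  rw [h1]
  exact cellMap_mem_of_mem K hd ht hnd hnr j hj

include hnd hnr in
theorem step2 (hn : 0 < n) (G₂ : CellRing K d r) (M : ℕ) : ∀ (N : ℕ) (G₁ : CellRing K d r),
    delta2 K hnd hnr ^ M * G₁ - delta1 K hnd hnr ^ N * G₂ ∈
      CAlgX.minorIdeal (genMatrix K r d) (n + 1) →
    ∃ H : CellRing K d r, G₁ - delta1 K hnd hnr ^ N * H ∈
      CAlgX.minorIdeal (genMatrix K r d) (n + 1) := by
  have hd : 0 < d := by omega
  set I := CAlgX.minorIdeal (genMatrix K r d) (n + 1) with hI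
  haveI hdom : IsDomain (CellRing K d r ⧸ I) := detRing_isDomain K hd (Nat.succ_pos n) hnd hnr
  haveI hprime : I.IsPrime := (Ideal.Quotient.isDomain_iff_prime I).1 hdom
  intro N
  induction N with
  | zero =>
    intro G₁ _
    exact ⟨G₁, by rw [pow_zero, one_mul, sub_self]; exact zero_mem _⟩
  | succ N ih =>
    intro G₁ h
    have h1 : G₁ * delta2 K hnd hnr ^ M - delta1 K hnd hnr * (delta1 K hnd hnr ^ N * G₂) ∈ I := by
      have : G₁ * delta2 K hnd hnr ^ M - delta1 K hnd hnr * (delta1 K hnd hnr ^ N * G₂) =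
          delta2 K hnd hnr ^ M * G₁ - delta1 K hnd hnr ^ (N + 1) * G₂ := by ring
      rw [this]
      exact h
    obtain ⟨G₁', hG₁'⟩ := claimA K hnd hnr hn G₁ _ M h1
    have h2 : delta1 K hnd hnr * (delta2 K hnd hnr ^ M * G₁' - delta1 K hnd hnr ^ N * G₂) ∈ I := by
      have : delta1 K hnd hnr * (delta2 K hnd hnr ^ M * G₁' - delta1 K hnd hnr ^ N * G₂) =
          (delta2 K hnd hnr ^ M * G₁ - delta1 K hnd hnr ^ (N + 1) * G₂) -
            delta2 K hnd hnr ^ M * (G₁ - delta1 K hnd hnr * G₁') := by ring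
      rw [this]
      exact Ideal.sub_mem _ h (Ideal.mul_mem_left _ _ hG₁')
    have h3 := (hprime.mem_or_mem h2).resolve_left (delta1_notMem K hnd hnr)
    obtain ⟨H, hH⟩ := ih G₁' h3
    refine ⟨H, ?_⟩
    have : G₁ - delta1 K hnd hnr ^ (N + 1) * H =
        (G₁ - delta1 K hnd hnr * G₁') + delta1 K hnd hnr * (G₁' - delta1 K hnd hnr ^ N * H) := by
      ring
    rw [this]
    exact Ideal.add_mem _ hG₁' (Ideal.mul_mem_left _ _ hH)

end step2

end Groth.Agent.Lib.Helper28.Smt
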