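import Groth.Agent.Lib.Helper28.PairFFT1
import Mathlib.RingTheory.Localization.Away.Basic

/-!
# First fundamental theorem for `GL_n` (helper28), part 2: rationality of invariants on a slice
-/

set_option autoImplicit false
set_option linter.style.haveILetI false

universe u

namespace Groth.Agent.Lib.Helper28.Smt

open W4bk4grassmannian MvPolynomial Matrix

section slice

variable (K : Type u) [Field K] (n m q : ℕ) (ρ : Fin n → Fin m) (γ : Fin n → Fin q)

/-- the `n × n` minor of the generic `m × q` matrix on rows `ρ` and columns `γ` -/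
noncomputable def minorRC : MvPolynomial (Fin m × Fin q) K :=
  ((genMatrix K m q).submatrix ρ γ).det

/-- the `n × n` block of a point -/
def blockRC (y : Fin m × Fin q → K) : Matrix (Fin n) (Fin n) K :=
  Matrix.of fun a b => y (ρ a, γ b)

lemma eval_minorRC (y : Fin m × Fin q → K) :
    eval y (minorRC K n m q ρ γ) = (blockRC K n m q ρ γ y).det :=
  eval_det_submatrix K m q y ρ γ

/-- the slice point: `U = Y_{·γ} (Y_{ργ})⁻¹` -/
noncomputable def sliceU (y : Fin m × Fin q → K) : Fin m × Fin n → K :=
  fun p => (∑ b : Fin n, y (p.1, γ b) * (blockRC K n m q ρ γ y).adjugate b p.2) *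
    ((blockRC K n m q ρ γ y).det)⁻¹

/-- the slice point: `Ξ = Y_{ρ·}` -/
def sliceXi (y : Fin m × Fin q → K) : Fin n × Fin q → K := fun p => y (ρ p.1, p.2)

/-- the slice map into the localization -/
noncomputable def sliceMap : PairRing K n m q →ₐ[K] Localization.Away (minorRC K n m q ρ γ) :=
  aeval (Sum.elim
    (fun p : Fin m × Fin n =>
      algebraMap (MvPolynomial (Fin m × Fin q) K) (Localization.Away (minorRC K n m q ρ γ))
        (∑ b : Fin n, X (p.1, γ b) * ((genMatrix K m q).submatrix ρ γ).adjugate b p.2) *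
      IsLocalization.Away.invSelf (minorRC K n m q ρ γ))
    (fun p : Fin n × Fin q =>
      algebraMap (MvPolynomial (Fin m × Fin q) K) (Localization.Away (minorRC K n m q ρ γ))
        (X (ρ p.1, p.2))))

lemma eval_adjugate (y : Fin m × Fin q → K) (b k : Fin n) :
    eval y (((genMatrix K m q).submatrix ρ γ).adjugate b k) =
      (blockRC K n m q ρ γ y).adjugate b k := by
  have h := RingHom.map_adjugate (eval y) ((genMatrix K m q).submatrix ρ γ)
  have h1 : (eval y).mapMatrix ((genMatrix K m q).submatrix ρ γ) = blockRC K n m q ρ γ y := by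
    ext a b
    rw [RingHom.mapMatrix_apply, Matrix.map_apply, submatrix_apply]
    unfold genMatrix blockRC
    rw [Matrix.of_apply, eval_X, Matrix.of_apply]
  rw [h1] at h
  rw [← h]
  rfl

/-- **rationality on the slice** -/
theorem exists_rational (f : PairRing K n m q) :
    ∃ (N : ℕ) (G : MvPolynomial (Fin m × Fin q) K), ∀ y : Fin m × Fin q → K,
      (blockRC K n m q ρ γ y).det ≠ 0 →
      eval (Sum.elim (sliceU K n m q ρ γ y) (sliceXi K n m q ρ y)) f *
        (blockRC K n m q ρ γ y).det ^ N = eval y G := by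
  set δ := minorRC K n m q ρ γ with hδ
  obtain ⟨⟨G, ⟨s, N, hN⟩⟩, hGs⟩ := IsLocalization.surj (Submonoid.powers δ)
    (sliceMap K n m q ρ γ f)
  refine ⟨N, G, ?_⟩
  intro y hy
  have hδy : eval y δ = (blockRC K n m q ρ γ y).det := eval_minorRC K n m q ρ γ y
  have hu : IsUnit ((eval y) δ) := by
    rw [hδy]
    exact IsUnit.mk0 _ hy
  set ev : Localization.Away δ →+* K := IsLocalization.Away.lift δ hu with hev
  have hevalg : ∀ p, ev (algebraMap _ _ p) = eval y p := fun p =>
    IsLocalization.Away.lift_eq δ hu p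
  have hinv : ev (IsLocalization.Away.invSelf δ) = ((blockRC K n m q ρ γ y).det)⁻¹ := by
    have h1 := congrArg ev (IsLocalization.Away.mul_invSelf (S := Localization.Away δ) δ)
    rw [map_mul, map_one, hevalg, hδy] at h1
    exact eq_inv_of_mul_eq_one_right h1
  have hcomp : ev.comp (sliceMap K n m q ρ γ).toRingHom =
      eval (Sum.elim (sliceU K n m q ρ γ y) (sliceXi K n m q ρ y)) := by
    apply MvPolynomial.ringHom_ext
    · intro a
      rw [RingHom.comp_apply]
      have h1 : (sliceMap K n m q ρ γ).toRingHom (C a) =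
          algebraMap (MvPolynomial (Fin m × Fin q) K) (Localization.Away δ) (C a) := by
        show sliceMap K n m q ρ γ (C a) = _
        have : (C a : PairRing K n m q) = algebraMap K _ a := rfl
        rw [this, AlgHom.commutes, IsScalarTower.algebraMap_apply K
          (MvPolynomial (Fin m × Fin q) K) (Localization.Away δ)]
        rfl
      rw [h1, hevalg, eval_C, eval_C]
    · intro v
      rw [RingHom.comp_apply]
      show ev (sliceMap K n m q ρ γ (X v)) = _
      unfold sliceMap
      rw [aeval_X, eval_X]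
      rcases v with p | p
      · rw [Sum.elim_inl, Sum.elim_inl, map_mul, hevalg, hinv, map_sum]
        unfold sliceU
        congr 1
        apply Finset.sum_congr rfl
        intro b _
        rw [map_mul, eval_X, eval_adjugate]
      · rw [Sum.elim_inr, Sum.elim_inr, hevalg, eval_X]
        rfl
  have h2 := congrArg ev hGs
  rw [map_mul, hevalg, hevalg] at h2
  have h3 : ev (sliceMap K n m q ρ γ f) =
      eval (Sum.elim (sliceU K n m q ρ γ y) (sliceXi K n m q ρ y)) f := by
    rw [← hcomp]
    rfl
  rw [h3] at h2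
  rw [← h2]
  congr 1
  have h4 : s = δ ^ N := hN.symm
  show _ = eval y s
  rw [h4, map_pow, hδy]

end slice

section inv

variable (K : Type u) [Field K] (n m q : ℕ)

lemma eval_glTranslate (A : GL (Fin n) K) (u : Fin m × Fin n → K) (ξ : Fin n × Fin q → K)
    (f : PairRing K n m q) :
    eval (Sum.elim u ξ) (glTranslate K n m q A f) =
      eval (Sum.elim
        (fun p : Fin m × Fin n => ∑ k : Fin n,
          u (p.1, k) * ((A⁻¹ : GL (Fin n) K) : Matrix (Fin n) (Fin n) K) k p.2)
        (fun p : Fin n × Fin q => ∑ k : Fin n,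
          (A : Matrix (Fin n) (Fin n) K) p.1 k * ξ (k, p.2))) f := by
  have h : (aeval (Sum.elim u ξ) : PairRing K n m q →ₐ[K] K).comp (glTranslate K n m q A) =
      aeval (Sum.elim
        (fun p : Fin m × Fin n => ∑ k : Fin n,
          u (p.1, k) * ((A⁻¹ : GL (Fin n) K) : Matrix (Fin n) (Fin n) K) k p.2)
        (fun p : Fin n × Fin q => ∑ k : Fin n,
          (A : Matrix (Fin n) (Fin n) K) p.1 k * ξ (k, p.2))) := by
    apply MvPolynomial.algHom_ext
    intro v
    rw [AlgHom.comp_apply]
    unfold glTranslate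
    rw [aeval_X, aeval_X]
    rcases v with p | p
    · rw [Sum.elim_inl, Sum.elim_inl, map_sum]
      apply Finset.sum_congr rfl
      intro k _
      rw [map_mul, aeval_X, aeval_C, Sum.elim_inl]
      rfl
    · rw [Sum.elim_inr, Sum.elim_inr, map_sum]
      apply Finset.sum_congr rfl
      intro k _
      rw [map_mul, aeval_X, aeval_C, Sum.elim_inr]
      rfl
  have := congrArg (fun g => g f) h
  exact this

/-- the product of the translated point is the product of the point -/
lemma prod_translate (A : GL (Fin n) K) (u : Fin m × Fin n → K) (ξ : Fin n × Fin q → K)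
    (p : Fin m × Fin q) :
    ∑ k : Fin n, (∑ l : Fin n, u (p.1, l) *
        ((A⁻¹ : GL (Fin n) K) : Matrix (Fin n) (Fin n) K) l k) *
      (∑ l : Fin n, (A : Matrix (Fin n) (Fin n) K) k l * ξ (l, p.2)) =
    ∑ k : Fin n, u (p.1, k) * ξ (k, p.2) := by
  set U : Matrix (Fin m) (Fin n) K := Matrix.of fun i k => u (i, k) with hU
  set Ξ : Matrix (Fin n) (Fin q) K := Matrix.of fun k j => ξ (k, j) with hΞ
  have h1 : (U * ((A⁻¹ : GL (Fin n) K) : Matrix (Fin n) (Fin n) K)) *
      ((A : Matrix (Fin n) (Fin n) K) * Ξ) = U * Ξ := by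
    rw [Matrix.mul_assoc, ← Matrix.mul_assoc _ (A : Matrix (Fin n) (Fin n) K) Ξ]
    have : ((A⁻¹ : GL (Fin n) K) : Matrix (Fin n) (Fin n) K) * (A : Matrix (Fin n) (Fin n) K) =
        1 := by
      rw [← Units.val_mul, inv_mul_cancel, Units.val_one]
    rw [this, Matrix.one_mul]
  have h2 := congrFun (congrFun h1 p.1) p.2
  rw [Matrix.mul_apply, Matrix.mul_apply] at h2
  simp only [Matrix.mul_apply] at h2
  exact h2

variable [Infinite K]

/-- the image of the pairing map consists of invariants -/
theorem glTranslate_pairingMap (A : GL (Fin n) K) (g : MvPolynomial (Fin m × Fin q) K) :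
    glTranslate K n m q A (pairingMap K n m q g) = pairingMap K n m q g := by
  apply MvPolynomial.funext
  intro w
  have hw : w = Sum.elim (w ∘ Sum.inl) (w ∘ Sum.inr) := (Sum.elim_comp_inl_inr w).symm
  rw [hw, eval_glTranslate, eval_pairingMap, eval_pairingMap]
  refine congrArg (fun z => eval z g) ?_
  funext p
  exact prod_translate K n m q A _ _ p

/-- **an invariant times a power of a minor is a polynomial in the products** -/
theorem exists_mul_eq (ρ : Fin n → Fin m) (γ : Fin n → Fin q) (f : PairRing K n m q)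
    (hf : ∀ A : GL (Fin n) K, glTranslate K n m q A f = f)
    (hδ : pairingMap K n m q (minorRC K n m q ρ γ) ≠ 0) :
    ∃ (N : ℕ) (G : MvPolynomial (Fin m × Fin q) K),
      pairingMap K n m q (minorRC K n m q ρ γ) ^ N * f = pairingMap K n m q G := by
  classical
  obtain ⟨N, G, hNG⟩ := exists_rational K n m q ρ γ f
  refine ⟨N, G, ?_⟩
  set δ := minorRC K n m q ρ γ with hδdef
  have key : pairingMap K n m q δ * (pairingMap K n m q δ ^ N * f - pairingMap K n m q G) = 0 := by
    apply MvPolynomial.funext
    intro w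
    rw [map_zero, map_mul]
    by_cases hw0 : eval w (pairingMap K n m q δ) = 0
    · rw [hw0, zero_mul]
    · set u : Fin m × Fin n → K := w ∘ Sum.inl with hu
      set ξ : Fin n × Fin q → K := w ∘ Sum.inr with hξ
      have hw : w = Sum.elim u ξ := (Sum.elim_comp_inl_inr w).symm
      set y : Fin m × Fin q → K := fun p => ∑ k : Fin n, u (p.1, k) * ξ (k, p.2) with hy
      have hpm : ∀ g : MvPolynomial (Fin m × Fin q) K,
          eval w (pairingMap K n m q g) = eval y g := by
        intro g
        rw [hw, eval_pairingMap]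
      have hδ0 : (blockRC K n m q ρ γ y).det ≠ 0 := by
        rw [← eval_minorRC, ← hpm]
        exact hw0
      -- the blocks
      set Uρ : Matrix (Fin n) (Fin n) K := Matrix.of fun a k => u (ρ a, k) with hUρ
      set Ξγ : Matrix (Fin n) (Fin n) K := Matrix.of fun k b => ξ (k, γ b) with hΞγ
      have hblock : blockRC K n m q ρ γ y = Uρ * Ξγ := by
        ext a b
        rw [Matrix.mul_apply]
        rfl
      have hdet : Uρ.det * Ξγ.det ≠ 0 := by
        rw [← det_mul, ← hblock]
        exact hδ0
      have hUρdet : Uρ.det ≠ 0 := left_ne_zero_of_mul hdet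
      have hΞγdet : Ξγ.det ≠ 0 := right_ne_zero_of_mul hdet
      set A : GL (Fin n) K := Matrix.GeneralLinearGroup.mkOfDetNeZero Uρ hUρdet with hA
      have hAcoe : (A : Matrix (Fin n) (Fin n) K) = Uρ := rfl
      have hAinv : ((A⁻¹ : GL (Fin n) K) : Matrix (Fin n) (Fin n) K) = Uρ⁻¹ := by
        rw [Matrix.coe_units_inv, hAcoe]
      have hinv := hf A
      have hu' : (fun p : Fin m × Fin n => ∑ k : Fin n,
          u (p.1, k) * ((A⁻¹ : GL (Fin n) K) : Matrix (Fin n) (Fin n) K) k p.2) =
          sliceU K n m q ρ γ y := by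
        funext p
        rw [hAinv]
        -- `U Uρ⁻¹ = (U Ξγ) (Uρ Ξγ)⁻¹`
        set U : Matrix (Fin m) (Fin n) K := Matrix.of fun i k => u (i, k) with hU
        have h2 : U * Uρ⁻¹ = (U * Ξγ) * (Uρ * Ξγ)⁻¹ := by
          rw [Matrix.mul_inv_rev, ← Matrix.mul_assoc, Matrix.mul_assoc U,
            Matrix.mul_nonsing_inv _ (IsUnit.mk0 _ hΞγdet), Matrix.mul_one]
        have h3 : ∑ k : Fin n, u (p.1, k) * Uρ⁻¹ k p.2 = (U * Uρ⁻¹) p.1 p.2 := by
          rw [Matrix.mul_apply]
          rfl
        rw [h3, h2, ← hblock]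
        unfold sliceU
        rw [Matrix.mul_apply, Matrix.inv_def, Ring.inverse_eq_inv', Finset.sum_mul]
        apply Finset.sum_congr rfl
        intro b _
        rw [Matrix.smul_apply, smul_eq_mul]
        have h4 : (U * Ξγ) p.1 b = y (p.1, γ b) := by
          rw [Matrix.mul_apply]
          rfl
        rw [h4]
        ring
      have hξ' : (fun p : Fin n × Fin q => ∑ k : Fin n,
          (A : Matrix (Fin n) (Fin n) K) p.1 k * ξ (k, p.2)) = sliceXi K n m q ρ y := by
        funext p
        rw [hAcoe]
        rfl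
      have h1 : eval w f = eval (Sum.elim (sliceU K n m q ρ γ y) (sliceXi K n m q ρ y)) f := by
        conv_lhs => rw [← hinv, hw, eval_glTranslate]
        rw [hu', hξ']
      have h2 := hNG y hδ0
      rw [map_sub, map_mul, map_pow, hpm, hpm, eval_minorRC, h1, mul_comm _ (eval _ f), h2,
        sub_self, mul_zero]
  rcases mul_eq_zero.1 key with h | h
  · exact absurd h hδ
  · exact sub_eq_zero.1 h

end inv

end Groth.Agent.Lib.Helper28.Smt
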