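import Groth.Agent.Lib.Helper28.PairFFT2

/-!
# First fundamental theorem for `GL_n` (helper28), part 3: the main case, padding, conclusion
-/

set_option autoImplicit false
set_option linter.style.haveILetI false

universe u

namespace Groth.Agent.Lib.Helper28.Smt

open W4bk4grassmannian MvPolynomial Matrix

section main

variable (K : Type u) [Field K] [Infinite K] (n m q : ℕ)

lemma theta2_le_phi {d r n : ℕ} (hnd : n < d) (hnr : n < r) :
    theta2 hnd hnr ≤ phiIdx d r (n + 1) (Nat.succ_pos n) hnd hnr := by
  intro j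
  rw [Fin.le_def, theta2_val, phiIdx_val]
  have := j.isLt
  split_ifs <;> omega

lemma delta2_notMem {d r n : ℕ} (hnd : n < d) (hnr : n < r) :
    delta2 K hnd hnr ∉ CAlgX.minorIdeal (genMatrix K r d) (n + 1) := by
  intro h
  have hd : 0 < d := by omega
  obtain ⟨ε, hε, hδ⟩ := delta2_eq K hnd hnr
  set φ := phiIdx d r (n + 1) (Nat.succ_pos n) hnd hnr with hφ
  set θ₂ := theta2 hnd hnr with hθ₂
  have h1 : cellMinor K d r θ₂ = C ε * delta2 K hnd hnr := by
    rw [hδ, ← mul_assoc, ← C_mul, hε, C_1, one_mul]
  have h2 : cellMap K d r (X θ₂) ∈ CAlgX.minorIdeal (genMatrix K r d) (n + 1) := by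
    rw [cellMap_X, h1]
    exact Ideal.mul_mem_left _ _ h
  have h3 := mem_of_cellMap_mem K hd (Nat.succ_pos n) hnd hnr (X θ₂) 1 (isHomogeneous_X K θ₂) h2
  exact X_notMem_schubertVanishing K φ θ₂ (theta2_le_phi hnd hnr) h3

/-- the main case `0 < n < min(m, q)` -/
theorem mem_range_main (hn : 0 < n) (hnm : n < m) (hnq : n < q) (f : PairRing K n m q)
    (hf : ∀ A : GL (Fin n) K, glTranslate K n m q A f = f) :
    f ∈ (pairingMap K n m q).range := by
  have hker := ker_pairingMap_eq K n m q
  set I := CAlgX.minorIdeal (genMatrix K m q) (n + 1) with hI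
  set pm := pairingMap K n m q with hpm
  have hmem : ∀ g : MvPolynomial (Fin m × Fin q) K, g ∈ I ↔ pm g = 0 := by
    intro g
    rw [← hker]
    exact Iff.rfl
  set δ₁ : MvPolynomial (Fin m × Fin q) K := delta1 K hnq hnm with hδ₁
  set δ₂ : MvPolynomial (Fin m × Fin q) K := delta2 K hnq hnm with hδ₂
  have hδ₁0 : pm δ₁ ≠ 0 := fun h => delta1_notMem K hnq hnm ((hmem _).2 h)
  have hδ₂0 : pm δ₂ ≠ 0 := fun h => delta2_notMem K hnq hnm ((hmem _).2 h)
  obtain ⟨N, G₁, h1⟩ := exists_mul_eq K n m q (rowsLast hnm) (colsFirst hnq) f hf hδ₁0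
  obtain ⟨M, G₂, h2⟩ := exists_mul_eq K n m q (rowsFirst hnm) (colsLast hnq) f hf hδ₂0
  have h1' : pm δ₁ ^ N * f = pm G₁ := h1
  have h2' : pm δ₂ ^ M * f = pm G₂ := h2
  have h3 : δ₂ ^ M * G₁ - δ₁ ^ N * G₂ ∈ I := by
    rw [hmem, map_sub, map_mul, map_mul, map_pow, map_pow, ← h1', ← h2']
    ring
  obtain ⟨H, hH⟩ := step2 K hnq hnm hn G₂ M N G₁ h3
  have h4 : pm G₁ = pm δ₁ ^ N * pm H := by
    have := (hmem _).1 hH
    rw [map_sub, map_mul, map_pow, sub_eq_zero] at this
    exact this
  have h5 : pm δ₁ ^ N * (f - pm H) = 0 := by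
    rw [mul_sub, h1', h4, sub_self]
  have h6 : f = pm H :=
    sub_eq_zero.1 ((mul_eq_zero.1 h5).resolve_left (pow_ne_zero _ hδ₁0))
  exact ⟨H, h6.symm⟩

end main

section padding

variable (K : Type u) [Field K] (n m q m' q' : ℕ) (hm : m ≤ m') (hq : q ≤ q')

/-- enlarging the matrices -/
noncomputable def padIn : PairRing K n m q →ₐ[K] PairRing K n m' q' :=
  rename (Sum.map (Prod.map (Fin.castLE hm) id) (Prod.map id (Fin.castLE hq)))

/-- restricting to the smaller matrices -/
noncomputable def padOut : PairRing K n m' q' →ₐ[K] PairRing K n m q :=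
  aeval (Sum.elim
    (fun p : Fin m' × Fin n => if h : p.1.val < m then X (Sum.inl (⟨p.1.val, h⟩, p.2)) else 0)
    (fun p : Fin n × Fin q' => if h : p.2.val < q then X (Sum.inr (p.1, ⟨p.2.val, h⟩)) else 0))

/-- restricting the product matrix -/
noncomputable def padY : MvPolynomial (Fin m' × Fin q') K →ₐ[K] MvPolynomial (Fin m × Fin q) K :=
  aeval (fun p : Fin m' × Fin q' =>
    if h : p.1.val < m ∧ p.2.val < q then X (⟨p.1.val, h.1⟩, ⟨p.2.val, h.2⟩) else 0)

lemma padOut_padIn (f : PairRing K n m q) :
    padOut K n m q m' q' (padIn K n m q m' q' hm hq f) = f := by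
  have h : (padOut K n m q m' q').comp (padIn K n m q m' q' hm hq) = AlgHom.id K _ := by
    apply MvPolynomial.algHom_ext
    intro v
    rw [AlgHom.comp_apply, AlgHom.id_apply]
    unfold padIn padOut
    rw [rename_X, aeval_X]
    rcases v with p | p
    · rw [Sum.map_inl, Sum.elim_inl]
      have hp : (Prod.map (Fin.castLE hm) id p).1.val < m := p.1.isLt
      rw [dif_pos hp]
      rfl
    · rw [Sum.map_inr, Sum.elim_inr]
      have hp : (Prod.map id (Fin.castLE hq) p).2.val < q := p.2.isLt
      rw [dif_pos hp]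
      rfl
  have := congrArg (fun g => g f) h
  exact this

lemma padOut_pairingMap (g : MvPolynomial (Fin m' × Fin q') K) :
    padOut K n m q m' q' (pairingMap K n m' q' g) = pairingMap K n m q (padY K m q m' q' g) := by
  have h : (padOut K n m q m' q').comp (pairingMap K n m' q') =
      (pairingMap K n m q).comp (padY K m q m' q') := by
    apply MvPolynomial.algHom_ext
    intro p
    rw [AlgHom.comp_apply, AlgHom.comp_apply, pairingMap_X, map_sum]
    unfold padY
    rw [aeval_X]
    by_cases h1 : p.1.val < m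
    · by_cases h2 : p.2.val < q
      · rw [dif_pos ⟨h1, h2⟩, pairingMap_X]
        apply Finset.sum_congr rfl
        intro k _
        unfold padOut
        rw [map_mul, aeval_X, aeval_X, Sum.elim_inl, Sum.elim_inr, dif_pos h1, dif_pos h2]
      · rw [dif_neg (fun h => h2 h.2), map_zero]
        apply Finset.sum_eq_zero
        intro k _
        unfold padOut
        rw [map_mul, aeval_X, aeval_X, Sum.elim_inl, Sum.elim_inr, dif_neg h2, mul_zero]
    · rw [dif_neg (fun h => h1 h.1), map_zero]
      apply Finset.sum_eq_zero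
      intro k _
      unfold padOut
      rw [map_mul, aeval_X, aeval_X, Sum.elim_inl, Sum.elim_inr, dif_neg h1, zero_mul]
  have := congrArg (fun φ => φ g) h
  exact this

lemma glTranslate_padIn (A : GL (Fin n) K) (f : PairRing K n m q) :
    glTranslate K n m' q' A (padIn K n m q m' q' hm hq f) =
      padIn K n m q m' q' hm hq (glTranslate K n m q A f) := by
  have h : (glTranslate K n m' q' A).comp (padIn K n m q m' q' hm hq) =
      (padIn K n m q m' q' hm hq).comp (glTranslate K n m q A) := by
    apply MvPolynomial.algHom_ext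
    intro v
    rw [AlgHom.comp_apply, AlgHom.comp_apply]
    unfold padIn glTranslate
    rw [rename_X, aeval_X, aeval_X]
    rcases v with p | p
    · rw [Sum.map_inl, Sum.elim_inl, Sum.elim_inl, map_sum]
      apply Finset.sum_congr rfl
      intro k _
      rw [map_mul, rename_X, rename_C, Sum.map_inl]
      rfl
    · rw [Sum.map_inr, Sum.elim_inr, Sum.elim_inr, map_sum]
      apply Finset.sum_congr rfl
      intro k _
      rw [map_mul, rename_X, rename_C, Sum.map_inr]
      rfl
  have := congrArg (fun g => g f) h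
  exact this

end padding

section final

variable (K : Type u) [Field K] [Infinite K] (n m q : ℕ)

/-- **first fundamental theorem for `GL_n` acting on pairs of matrices** -/
theorem invariant_iff_mem_range (f : PairRing K n m q) :
    (∀ A : GL (Fin n) K, glTranslate K n m q A f = f) ↔ f ∈ (pairingMap K n m q).range := by
  constructor
  · intro hf
    rcases Nat.eq_zero_or_pos n with hn | hn
    · subst hn
      haveI : IsEmpty ((Fin m × Fin 0) ⊕ (Fin 0 × Fin q)) := by
        constructor
        rintro (p | p)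
        · exact p.2.elim0
        · exact p.1.elim0
      refine ⟨C (coeff 0 f), ?_⟩
      have h1 : pairingMap K 0 m q (C (coeff 0 f)) = C (coeff 0 f) :=
        (pairingMap K 0 m q).commutes _
      show pairingMap K 0 m q (C (coeff 0 f)) = f
      rw [h1]
      exact (MvPolynomial.eq_C_of_isEmpty f).symm
    · set m' := max m (n + 1) with hm'
      set q' := max q (n + 1) with hq'
      have hm : m ≤ m' := le_max_left _ _
      have hq : q ≤ q' := le_max_left _ _
      have hnm : n < m' := lt_of_lt_of_le (Nat.lt_succ_self n) (le_max_right _ _)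
      have hnq : n < q' := lt_of_lt_of_le (Nat.lt_succ_self n) (le_max_right _ _)
      have hinv : ∀ A : GL (Fin n) K, glTranslate K n m' q' A (padIn K n m q m' q' hm hq f) =
          padIn K n m q m' q' hm hq f := by
        intro A
        rw [glTranslate_padIn, hf A]
      obtain ⟨H, hH⟩ := mem_range_main K n m' q' hn hnm hnq _ hinv
      refine ⟨padY K m q m' q' H, ?_⟩
      have hH' : pairingMap K n m' q' H = padIn K n m q m' q' hm hq f := hH
      show pairingMap K n m q (padY K m q m' q' H) = f
      rw [← padOut_pairingMap, hH', padOut_padIn]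
  · rintro ⟨g, rfl⟩ A
    exact glTranslate_pairingMap K n m q A g

end final

end Groth.Agent.Lib.Helper28.Smt
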