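import Groth.Agent.Lib.Helper28.SmtDet2
import Mathlib.LinearAlgebra.Matrix.SchurComplement

/-!
# Second fundamental theorem for `GL_n` (helper28), part 1

* the determinantal ideal is the vanishing ideal of its `K`-points (`K` an infinite field);
* the `(n+1)`-minors of a product of an `m × n` and an `n × q` matrix vanish.
-/

set_option autoImplicit false
set_option linter.style.haveILetI false

universe u

namespace Groth.Agent.Lib.Helper28.Smt

open W4bk4grassmannian MvPolynomial Matrix
open Groth.Agent.Lib.Helper28.DetCell Groth.Agent.Lib.Helper28.Dehomog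

section vanishing

variable (K : Type u) [Field K] [Infinite K] {d r t : ℕ} (hd : 0 < d) (ht : 0 < t) (htd : t ≤ d)
  (htr : t ≤ r)

include hd in
/-- a homogeneous polynomial whose restriction to the cell vanishes at the `K`-points of the
determinantal variety lies in the Schubert ideal `J(φ)` -/
theorem mem_of_forall_eval (F : PlRing K d (d + r)) (N : ℕ) (hF : F.IsHomogeneous N)
    (h : ∀ z : Fin r × Fin d → K,
      CAlgX.minorIdeal (genMatrix K r d) t ≤ RingHom.ker (eval z) →
      eval z (cellMap K d r F) = 0) :
    F ∈ schubertVanishing K d (d + r) (phiIdx d r t ht htd htr) := by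
  classical
  set φ := phiIdx d r t ht htd htr with hφ
  set ι := iotaIdx (Nat.le_add_right d r) with hι
  haveI := isPrime_schubertVanishing K hd (Nat.le_add_right d r) φ
  have hx : (X ι : PlRing K d (d + r)) ∉ schubertVanishing K d (d + r) φ :=
    X_notMem_schubertVanishing K φ ι (iotaIdx_le _ φ)
  have hxF : X ι * F ∈ schubertVanishing K d (d + r) φ := by
    unfold schubertVanishing
    rw [Ideal.mem_iInf]
    intro A
    rw [Ideal.mem_iInf]
    intro hA
    rw [RingHom.mem_ker]
    show evalMinors K d (d + r) A (X ι * F) = 0
    rw [map_mul]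
    set Atop : Matrix (Fin d) (Fin d) K := A.submatrix ι.1 id with hAtop
    have hX : evalMinors K d (d + r) A (X ι) = Atop.det := by
      unfold evalMinors
      rw [aeval_X]
    rw [hX]
    by_cases hδ : Atop.det = 0
    · rw [hδ, zero_mul]
    · have hu : IsUnit Atop.det := IsUnit.mk0 _ hδ
      set Z₀ : Matrix (Fin r) (Fin d) K := A.submatrix (Fin.natAdd d) id * Atop⁻¹ with hZ₀
      set z : Fin r × Fin d → K := fun p => Z₀ p.1 p.2 with hz
      set C₀ : Matrix (Fin (d + r)) (Fin d) K := (cellMatrix K d r).map (eval z) with hC₀
      have hC : C₀ * Atop = A := by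
        ext i j
        rw [Matrix.mul_apply]
        by_cases hi : i.val < d
        · have h1 : ∀ k : Fin d, C₀ i k = if i.val = k.val then 1 else 0 := by
            intro k
            show eval z (cellMatrix K d r i k) = _
            unfold cellMatrix
            rw [Matrix.of_apply, dif_pos hi]
            split_ifs
            · rw [map_one]
            · rw [map_zero]
          simp only [h1]
          rw [Finset.sum_eq_single ⟨i.val, hi⟩]
          · rw [if_pos rfl, one_mul]
            show A (ι.1 ⟨i.val, hi⟩) j = A i j
            congr 1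
          · intro k _ hk
            rw [if_neg, zero_mul]
            intro h'
            exact hk (Fin.ext h'.symm)
          · intro h'
            exact absurd (Finset.mem_univ _) h'
        · have hi' : i.val - d < r := by have := i.isLt; omega
          have h1 : ∀ k : Fin d, C₀ i k = Z₀ ⟨i.val - d, hi'⟩ k := by
            intro k
            show eval z (cellMatrix K d r i k) = _
            unfold cellMatrix
            rw [Matrix.of_apply, dif_neg hi, eval_X]
          simp only [h1]
          rw [← Matrix.mul_apply]
          have h2 : Z₀ * Atop = A.submatrix (Fin.natAdd d) id :=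
            Matrix.nonsing_inv_mul_cancel_right _ _ hu
          rw [h2, submatrix_apply]
          congr 1
          apply Fin.ext
          rw [Fin.val_natAdd]
          show d + (i.val - d) = i.val
          omega
      have hminor : ∀ θ : Idx d (d + r),
          (A.submatrix θ.1 id).det = eval z (cellMinor K d r θ) * Atop.det := by
        intro θ
        rw [eval_cellMinor, ← det_mul]
        congr 1
        conv_lhs => rw [← hC]
        ext a b
        rw [submatrix_apply, Matrix.mul_apply, Matrix.mul_apply]
        rfl
      have hcomp : ∀ G : PlRing K d (d + r),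
          aeval (fun θ : Idx d (d + r) => eval z (cellMinor K d r θ)) G =
            eval z (cellMap K d r G) := by
        intro G
        have h1 : (aeval (fun θ : Idx d (d + r) => eval z (cellMinor K d r θ)) :
            PlRing K d (d + r) →ₐ[K] K) = (aeval z : CellRing K d r →ₐ[K] K).comp
              (cellMap K d r) := by
          apply MvPolynomial.algHom_ext
          intro θ
          rw [aeval_X, AlgHom.comp_apply, cellMap_X]
          rfl
        rw [h1]
        rfl
      have hev : evalMinors K d (d + r) A F = Atop.det ^ N * eval z (cellMap K d r F) := by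
        have h1 : evalMinors K d (d + r) A =
            aeval (fun θ : Idx d (d + r) => eval z (cellMinor K d r θ) * Atop.det) := by
          unfold evalMinors
          congr 1
          funext θ
          exact hminor θ
        rw [h1, aeval_mul_of_isHomogeneous F N hF, hcomp]
      have hzero : eval z (cellMap K d r F) = 0 := by
        apply h z
        rw [← span_cellMinor_eq_minorIdeal K d r t hd ht htd, Ideal.span_le]
        rintro _ ⟨θ, hθ, rfl⟩
        rw [SetLike.mem_coe, RingHom.mem_ker]
        have h1 := hminor θ
        have h2 : (A.submatrix θ.1 id).det = 0 := by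
          apply hA θ
          rw [hφ, le_phiIdx_iff hd ht htd htr]
          omega
        rw [h2] at h1
        exact (mul_eq_zero.1 h1.symm).resolve_right hδ
      rw [hev, hzero, mul_zero, mul_zero]
  exact (Ideal.IsPrime.mem_or_mem inferInstance hxF).resolve_left hx

include hd ht htd htr in
/-- **the determinantal ideal is the vanishing ideal of its `K`-points** -/
theorem mem_minorIdeal_of_forall_eval (g : CellRing K d r)
    (h : ∀ z : Fin r × Fin d → K,
      CAlgX.minorIdeal (genMatrix K r d) t ≤ RingHom.ker (eval z) → eval z g = 0) :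
    g ∈ CAlgX.minorIdeal (genMatrix K r d) t := by
  obtain ⟨f, rfl⟩ := cellMap_surjective K d r g
  set ι := iotaIdx (Nat.le_add_right d r) with hι
  have hmap : cellMap K d r (homog ι f f.totalDegree) = cellMap K d r f :=
    map_homog ι (cellMap K d r) (by rw [cellMap_X, cellMinor_iota]) f _ le_rfl
  have hF := mem_of_forall_eval K hd ht htd htr (homog ι f f.totalDegree) _
    (homog_isHomogeneous ι f _) (by rw [hmap]; exact h)
  rw [← hmap]
  exact cellMap_mem_of_mem K hd ht htd htr _ hF

end vanishing

section pairing

lemma det_mul_eq_zero_of_lt {R : Type*} [CommRing R] {n : ℕ} (U : Matrix (Fin (n + 1)) (Fin n) R)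
    (V : Matrix (Fin n) (Fin (n + 1)) R) : (U * V).det = 0 := by
  let U' : Matrix (Fin (n + 1)) (Fin (n + 1)) R :=
    Matrix.of fun a k => if h : k.val < n then U a ⟨k.val, h⟩ else 0
  let V' : Matrix (Fin (n + 1)) (Fin (n + 1)) R :=
    Matrix.of fun k b => if h : k.val < n then V ⟨k.val, h⟩ b else 0
  have h1 : U * V = U' * V' := by
    ext a b
    rw [Matrix.mul_apply, Matrix.mul_apply, Fin.sum_univ_castSucc]
    have hlast : U' a (Fin.last n) * V' (Fin.last n) b = 0 := by
      show (if h : (Fin.last n).val < n then U a ⟨(Fin.last n).val, h⟩ else 0) * _ = 0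
      rw [dif_neg (by simp), zero_mul]
    rw [hlast, add_zero]
    apply Finset.sum_congr rfl
    intro k _
    show U a k * V k b = (if h : (Fin.castSucc k).val < n then U a ⟨(Fin.castSucc k).val, h⟩ else 0) *
      (if h : (Fin.castSucc k).val < n then V ⟨(Fin.castSucc k).val, h⟩ b else 0)
    have hk : (Fin.castSucc k).val < n := by rw [Fin.val_castSucc]; exact k.isLt
    rw [dif_pos hk, dif_pos hk]
    rfl
  rw [h1, det_mul]
  have h2 : U'.det = 0 := by
    apply det_eq_zero_of_column_eq_zero (Fin.last n)
    intro i
    show (if h : (Fin.last n).val < n then U i ⟨(Fin.last n).val, h⟩ else 0) = 0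
    rw [dif_neg (by simp)]
  rw [h2, zero_mul]

variable (K : Type u) [Field K] (n m q : ℕ)

lemma pairingMap_X (p : Fin m × Fin q) :
    pairingMap K n m q (X p) = ∑ k : Fin n, X (Sum.inl (p.1, k)) * X (Sum.inr (k, p.2)) := by
  unfold pairingMap
  rw [aeval_X]

lemma eval_pairingMap (u : Fin m × Fin n → K) (ξ : Fin n × Fin q → K)
    (g : MvPolynomial (Fin m × Fin q) K) :
    eval (Sum.elim u ξ) (pairingMap K n m q g) =
      eval (fun p : Fin m × Fin q => ∑ k : Fin n, u (p.1, k) * ξ (k, p.2)) g := by
  have h : (aeval (Sum.elim u ξ) : PairRing K n m q →ₐ[K] K).comp (pairingMap K n m q) =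
      aeval (fun p : Fin m × Fin q => ∑ k : Fin n, u (p.1, k) * ξ (k, p.2)) := by
    apply MvPolynomial.algHom_ext
    intro p
    rw [AlgHom.comp_apply, pairingMap_X, aeval_X, map_sum]
    apply Finset.sum_congr rfl
    intro k _
    rw [map_mul, aeval_X, aeval_X]
    rfl
  have := congrArg (fun f => f g) h
  exact this

theorem minorIdeal_le_ker_pairingMap :
    CAlgX.minorIdeal (genMatrix K m q) (n + 1) ≤ RingHom.ker (pairingMap K n m q).toRingHom := by
  unfold CAlgX.minorIdeal
  rw [Ideal.span_le]
  rintro _ ⟨⟨f, g⟩, rfl⟩
  rw [SetLike.mem_coe, RingHom.mem_ker]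
  show pairingMap K n m q ((genMatrix K m q).submatrix f g).det = 0
  rw [AlgHom.map_det]
  let U : Matrix (Fin (n + 1)) (Fin n) (PairRing K n m q) :=
    Matrix.of fun a k => X (Sum.inl (f a, k))
  let V : Matrix (Fin n) (Fin (n + 1)) (PairRing K n m q) :=
    Matrix.of fun k b => X (Sum.inr (k, g b))
  have h1 : (pairingMap K n m q).mapMatrix ((genMatrix K m q).submatrix f g) = U * V := by
    ext a b
    rw [AlgHom.mapMatrix_apply, Matrix.map_apply, submatrix_apply, Matrix.mul_apply]
    unfold genMatrix
    rw [Matrix.of_apply, pairingMap_X]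
    rfl
  rw [h1]
  exact det_mul_eq_zero_of_lt U V

end pairing

end Groth.Agent.Lib.Helper28.Smt
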