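import Groth.Agent.Lib.Helper28.PairSFT1

/-!
# Second fundamental theorem for `GL_n` (helper28), part 2
-/

set_option autoImplicit false
set_option linter.style.haveILetI false

universe u

namespace Groth.Agent.Lib.Helper28.Smt

open W4bk4grassmannian MvPolynomial Matrix

section sft

variable (K : Type u) [Field K] (n m q : ℕ)

lemma eval_det_submatrix {s : ℕ} (z : Fin m × Fin q → K) (f : Fin s → Fin m) (g : Fin s → Fin q) :
    eval z ((genMatrix K m q).submatrix f g).det =
      (Matrix.of fun a b => z (f a, g b)).det := by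
  rw [RingHom.map_det]
  congr 1
  ext a b
  rw [RingHom.mapMatrix_apply, Matrix.map_apply, submatrix_apply]
  unfold genMatrix
  rw [Matrix.of_apply, eval_X, Matrix.of_apply]

lemma eval_det_submatrix' {ι : Type*} [Fintype ι] [DecidableEq ι] (z : Fin m × Fin q → K)
    (f : ι → Fin m) (g : ι → Fin q) :
    eval z ((genMatrix K m q).submatrix f g).det =
      (Matrix.of fun a b => z (f a, g b)).det := by
  rw [RingHom.map_det]
  congr 1
  ext a b
  rw [RingHom.mapMatrix_apply, Matrix.map_apply, submatrix_apply]
  unfold genMatrix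
  rw [Matrix.of_apply, eval_X, Matrix.of_apply]

/-- Schur complement: a point of the determinantal variety with invertible leading block is a
product -/
lemma eq_sum_of_minors_vanish (hm : n ≤ m) (hq : n ≤ q) (z : Fin m × Fin q → K)
    (hz : CAlgX.minorIdeal (genMatrix K m q) (n + 1) ≤ RingHom.ker (eval z))
    (hP : (Matrix.of fun a b : Fin n => z (Fin.castLE hm a, Fin.castLE hq b)).det ≠ 0)
    (i : Fin m) (j : Fin q) :
    ∑ k : Fin n, z (i, Fin.castLE hq k) *
      ((Matrix.of fun a b : Fin n => z (Fin.castLE hm a, Fin.castLE hq b))⁻¹ *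
        (Matrix.of fun (a : Fin n) (j : Fin q) => z (Fin.castLE hm a, j))) k j = z (i, j) := by
  classical
  set P : Matrix (Fin n) (Fin n) K :=
    Matrix.of fun a b : Fin n => z (Fin.castLE hm a, Fin.castLE hq b) with hPdef
  set Ztop : Matrix (Fin n) (Fin q) K :=
    Matrix.of fun (a : Fin n) (j : Fin q) => z (Fin.castLE hm a, j) with hZtop
  let f' : Fin n ⊕ Fin 1 → Fin m := Sum.elim (Fin.castLE hm) (fun _ => i)
  let g' : Fin n ⊕ Fin 1 → Fin q := Sum.elim (Fin.castLE hq) (fun _ => j)
  let e : Fin n ⊕ Fin 1 ≃ Fin (n + 1) := finSumFinEquiv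
  have hmem : ((genMatrix K m q).submatrix (f' ∘ e.symm) (g' ∘ e.symm)).det ∈
      CAlgX.minorIdeal (genMatrix K m q) (n + 1) :=
    Ideal.subset_span ⟨(f' ∘ e.symm, g' ∘ e.symm), rfl⟩
  have h0 : eval z ((genMatrix K m q).submatrix (f' ∘ e.symm) (g' ∘ e.symm)).det = 0 :=
    hz hmem
  have h1 : ((genMatrix K m q).submatrix (f' ∘ e.symm) (g' ∘ e.symm)).det =
      ((genMatrix K m q).submatrix f' g').det := by
    have : (genMatrix K m q).submatrix (f' ∘ e.symm) (g' ∘ e.symm) =
        ((genMatrix K m q).submatrix f' g').submatrix e.symm e.symm := rfl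
    rw [this, det_submatrix_equiv_self]
  rw [h1, eval_det_submatrix'] at h0
  let c : Matrix (Fin n) (Fin 1) K := Matrix.of fun a _ => z (Fin.castLE hm a, j)
  let ρ : Matrix (Fin 1) (Fin n) K := Matrix.of fun _ b => z (i, Fin.castLE hq b)
  let s : Matrix (Fin 1) (Fin 1) K := Matrix.of fun _ _ => z (i, j)
  have h2 : (Matrix.of fun a b : Fin n ⊕ Fin 1 => z (f' a, g' b)) = Matrix.fromBlocks P c ρ s := by
    ext a b
    rcases a with a | a <;> rcases b with b | b <;> rfl
  rw [h2] at h0
  letI : Invertible P := Matrix.invertibleOfIsUnitDet P (IsUnit.mk0 _ hP)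
  rw [det_fromBlocks₁₁, Matrix.invOf_eq_nonsing_inv] at h0
  have h3 : (s - ρ * P⁻¹ * c).det = 0 := (mul_eq_zero.1 h0).resolve_left hP
  rw [det_unique, Matrix.sub_apply] at h3
  have h4 : z (i, j) = (ρ * P⁻¹ * c) default default := sub_eq_zero.1 h3
  rw [h4]
  have h5 : (ρ * P⁻¹ * c) default default = (ρ * (P⁻¹ * Ztop)) default j := by
    rw [← Matrix.mul_assoc, Matrix.mul_apply, Matrix.mul_apply]
    rfl
  rw [h5, Matrix.mul_apply]
  rfl

variable [Infinite K]

/-- **second fundamental theorem**: the kernel of the pairing map is the determinantal ideal -/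
theorem ker_pairingMap_eq :
    RingHom.ker (pairingMap K n m q).toRingHom = CAlgX.minorIdeal (genMatrix K m q) (n + 1) := by
  classical
  apply le_antisymm _ (minorIdeal_le_ker_pairingMap K n m q)
  intro g hg
  have hg0 : pairingMap K n m q g = 0 := hg
  have hprod : ∀ (u : Fin m × Fin n → K) (ξ : Fin n × Fin q → K),
      eval (fun p : Fin m × Fin q => ∑ k : Fin n, u (p.1, k) * ξ (k, p.2)) g = 0 := by
    intro u ξ
    rw [← eval_pairingMap, hg0, map_zero]
  by_cases hm : m ≤ n
  · have hg' : g = 0 := by
      apply MvPolynomial.funext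
      intro z
      rw [map_zero]
      have h1 := hprod (fun p => if p.1.val = p.2.val then 1 else 0)
        (fun p => if h : p.1.val < m then z (⟨p.1.val, h⟩, p.2) else 0)
      have h2 : (fun p : Fin m × Fin q => ∑ k : Fin n,
          (if (p.1, k).1.val = (p.1, k).2.val then (1 : K) else 0) *
            (if h : (k, p.2).1.val < m then z (⟨(k, p.2).1.val, h⟩, (k, p.2).2) else 0)) = z := by
        funext p
        rw [Finset.sum_eq_single ⟨p.1.val, lt_of_lt_of_le p.1.isLt hm⟩]
        · simp only [if_true, one_mul]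
          rw [dif_pos p.1.isLt]
        · intro k _ hk
          rw [if_neg, zero_mul]
          intro h'
          exact hk (Fin.ext h'.symm)
        · intro h'
          exact absurd (Finset.mem_univ _) h'
      rw [h2] at h1
      exact h1
    rw [hg']
    exact zero_mem _
  by_cases hq : q ≤ n
  · have hg' : g = 0 := by
      apply MvPolynomial.funext
      intro z
      rw [map_zero]
      have h1 := hprod (fun p => if h : p.2.val < q then z (p.1, ⟨p.2.val, h⟩) else 0)
        (fun p => if p.1.val = p.2.val then 1 else 0)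
      have h2 : (fun p : Fin m × Fin q => ∑ k : Fin n,
          (if h : (p.1, k).2.val < q then z ((p.1, k).1, ⟨(p.1, k).2.val, h⟩) else 0) *
            (if (k, p.2).1.val = (k, p.2).2.val then (1 : K) else 0)) = z := by
        funext p
        rw [Finset.sum_eq_single ⟨p.2.val, lt_of_lt_of_le p.2.isLt hq⟩]
        · simp only [if_true, mul_one]
          rw [dif_pos p.2.isLt]
        · intro k _ hk
          rw [if_neg, mul_zero]
          intro h'
          exact hk (Fin.ext h')
        · intro h'
          exact absurd (Finset.mem_univ _) h'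
      rw [h2] at h1
      exact h1
    rw [hg']
    exact zero_mem _
  -- main case
  rw [not_le] at hm hq
  have hm' : n ≤ m := hm.le
  have hq' : n ≤ q := hq.le
  have hd : 0 < q := by omega
  have ht : 0 < n + 1 := Nat.succ_pos n
  have htd : n + 1 ≤ q := hq
  have htr : n + 1 ≤ m := hm
  set I := CAlgX.minorIdeal (genMatrix K m q) (n + 1) with hI
  haveI hdom : IsDomain (MvPolynomial (Fin m × Fin q) K ⧸ I) := detRing_isDomain K hd ht htd htr
  haveI hprime : I.IsPrime := (Ideal.Quotient.isDomain_iff_prime I).1 hdom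
  set Δ : MvPolynomial (Fin m × Fin q) K :=
    ((genMatrix K m q).submatrix (Fin.castLE hm') (Fin.castLE hq')).det with hΔ
  have hgΔ : g * Δ ∈ I := by
    apply mem_minorIdeal_of_forall_eval K hd ht htd htr
    intro z hz
    rw [map_mul, hΔ, eval_det_submatrix]
    by_cases hP : (Matrix.of fun a b : Fin n => z (Fin.castLE hm' a, Fin.castLE hq' b)).det = 0
    · rw [hP, mul_zero]
    · have h1 := hprod (fun p => z (p.1, Fin.castLE hq' p.2))
        (fun p => ((Matrix.of fun a b : Fin n => z (Fin.castLE hm' a, Fin.castLE hq' b))⁻¹ *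
          (Matrix.of fun (a : Fin n) (j : Fin q) => z (Fin.castLE hm' a, j))) p.1 p.2)
      have h2 : (fun p : Fin m × Fin q => ∑ k : Fin n, z (p.1, Fin.castLE hq' k) *
          ((Matrix.of fun a b : Fin n => z (Fin.castLE hm' a, Fin.castLE hq' b))⁻¹ *
            (Matrix.of fun (a : Fin n) (j : Fin q) => z (Fin.castLE hm' a, j))) k p.2) = z := by
        funext p
        exact eq_sum_of_minors_vanish K n m q hm' hq' z hz hP p.1 p.2
      rw [h2] at h1
      rw [h1, zero_mul]
  have hΔ' : Δ ∉ I := by
    intro hΔI
    set u₁ : Fin m × Fin n → K := fun p => if p.1.val = p.2.val then 1 else 0 with hu₁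
    set ξ₁ : Fin n × Fin q → K := fun p => if p.1.val = p.2.val then 1 else 0 with hξ₁
    set z₁ : Fin m × Fin q → K := fun p => ∑ k : Fin n, u₁ (p.1, k) * ξ₁ (k, p.2) with hz₁
    have h1 : eval z₁ Δ = 0 := by
      rw [hz₁, ← eval_pairingMap]
      have : pairingMap K n m q Δ = 0 := minorIdeal_le_ker_pairingMap K n m q hΔI
      rw [this, map_zero]
    rw [hΔ, eval_det_submatrix] at h1
    have h2 : (Matrix.of fun a b : Fin n => z₁ (Fin.castLE hm' a, Fin.castLE hq' b)) = 1 := by
      ext a b
      rw [Matrix.of_apply, Matrix.one_apply]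
      show ∑ k : Fin n, u₁ (Fin.castLE hm' a, k) * ξ₁ (k, Fin.castLE hq' b) = _
      rw [Finset.sum_eq_single a]
      · have h3 : u₁ (Fin.castLE hm' a, a) = 1 := by
          rw [hu₁]
          show (if (Fin.castLE hm' a).val = a.val then (1 : K) else 0) = 1
          rw [if_pos (by simp)]
        rw [h3, one_mul, hξ₁]
        show (if a.val = (Fin.castLE hq' b).val then (1 : K) else 0) = _
        by_cases hab : a = b
        · rw [if_pos hab, if_pos (by rw [hab]; simp)]
        · rw [if_neg hab, if_neg]
          intro h'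
          apply hab
          apply Fin.ext
          rw [h']
          simp
      · intro k _ hk
        have h3 : u₁ (Fin.castLE hm' a, k) = 0 := by
          rw [hu₁]
          show (if (Fin.castLE hm' a).val = k.val then (1 : K) else 0) = 0
          rw [if_neg]
          intro h'
          apply hk
          apply Fin.ext
          rw [← h']
          simp
        rw [h3, zero_mul]
      · intro h'
        exact absurd (Finset.mem_univ _) h'
    rw [h2, det_one] at h1
    exact one_ne_zero h1
  exact (Ideal.IsPrime.mem_or_mem hprime hgΔ).resolve_right hΔ'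

end sft

end Groth.Agent.Lib.Helper28.Smt
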