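import Mathlib
import Groth.Prelude.Def_W4c3degenlocivbPfaff

/-! Pfaffians (Prelude definition): functoriality, homogeneity, tridiagonal matrices. -/

set_option autoImplicit false

namespace Groth.Agent.Lib.Helper28.Pf

open W4c3degenlocivb

section Map

variable {R S : Type*} [CommRing R] [CommRing S]

theorem pf_map (f : R →+* S) : ∀ (n : ℕ) (T : Matrix (Fin n) (Fin n) R),
    pf n (T.map f) = f (pf n T)
  | 0, _ => by simp [pf]
  | 1, _ => by simp [pf]
  | n + 2, T => by
    rw [pf, pf, map_sum]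
    apply Finset.sum_congr rfl
    intro j _
    rw [map_mul, map_mul, map_pow, map_neg, map_one]
    congr 1
    rw [← pf_map f n]
    rfl

end Map

section Homog

variable {σ R : Type*} [CommRing R]

theorem pf_isHomogeneous : ∀ (n : ℕ) (T : Matrix (Fin n) (Fin n) (MvPolynomial σ R)),
    (∀ i j, (T i j).IsHomogeneous 1) → (pf n T).IsHomogeneous (n / 2)
  | 0, _, _ => by
    rw [pf]
    exact MvPolynomial.isHomogeneous_one σ R
  | 1, _, _ => by
    rw [pf]
    exact MvPolynomial.isHomogeneous_zero σ R _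
  | n + 2, T, hT => by
    rw [pf]
    apply MvPolynomial.IsHomogeneous.sum
    intro j _
    have h1 : ((-1 : MvPolynomial σ R) ^ ((j : ℕ) + 1)).IsHomogeneous 0 := by
      have := ((MvPolynomial.isHomogeneous_one σ R).neg).pow ((j : ℕ) + 1)
      simpa using this
    have h2 := hT (Fin.last (n + 1)) (Fin.castSucc j)
    have h3 := pf_isHomogeneous n (T.submatrix (Fin.castSucc ∘ j.succAbove)
      (Fin.castSucc ∘ j.succAbove)) (fun a b => hT _ _)
    have h4 := (h1.mul h2).mul h3
    have e : 0 + 1 + n / 2 = (n + 2) / 2 := by omega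
    rw [e] at h4
    exact h4

end Homog

section Tri

variable {R : Type*} [CommRing R]

/-- The tridiagonal alternating matrix with superdiagonal entries `ℓ 0, ℓ 1, …`. -/
def tri (n : ℕ) (ℓ : ℕ → R) : Matrix (Fin n) (Fin n) R :=
  Matrix.of fun i j =>
    if (i : ℕ) + 1 = (j : ℕ) then ℓ i else if (j : ℕ) + 1 = (i : ℕ) then -ℓ j else 0

lemma tri_apply (n : ℕ) (ℓ : ℕ → R) (i j : Fin n) :
    tri n ℓ i j =
      if (i : ℕ) + 1 = (j : ℕ) then ℓ i else if (j : ℕ) + 1 = (i : ℕ) then -ℓ j else 0 := rfl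

lemma tri_submatrix (n : ℕ) (ℓ : ℕ → R) :
    (tri (n + 2) ℓ).submatrix (Fin.castSucc ∘ (Fin.last n).succAbove)
      (Fin.castSucc ∘ (Fin.last n).succAbove) = tri n ℓ := by
  ext i j
  simp only [Matrix.submatrix_apply, Function.comp_apply, Fin.succAbove_last, tri_apply,
    Fin.val_castSucc]

theorem pf_tri_step (n : ℕ) (ℓ : ℕ → R) :
    pf (n + 2) (tri (n + 2) ℓ) = (-1) ^ n * ℓ n * pf n (tri n ℓ) := by
  rw [pf]
  rw [Finset.sum_eq_single (Fin.last n)]
  · rw [tri_submatrix, tri_apply]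
    simp only [Fin.val_last, Fin.val_castSucc]
    rw [if_neg (by omega), if_pos trivial]
    rw [pow_succ]
    ring
  · intro j _ hj
    have hjn : (j : ℕ) ≠ n := fun h => hj (Fin.ext (by simpa using h))
    have hjlt : (j : ℕ) < n + 1 := j.2
    rw [tri_apply]
    simp only [Fin.val_last, Fin.val_castSucc]
    rw [if_neg (by omega), if_neg (by omega)]
    ring
  · intro h
    exact absurd (Finset.mem_univ _) h

theorem pf_tri_even (ℓ : ℕ → R) : ∀ m : ℕ,
    pf (2 * m) (tri (2 * m) ℓ) = ∏ t ∈ Finset.range m, ℓ (2 * t)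
  | 0 => by
    change pf 0 _ = _
    simp [pf]
  | m + 1 => by
    change pf (2 * m + 2) (tri (2 * m + 2) ℓ) = _
    rw [pf_tri_step, pf_tri_even ℓ m, Finset.prod_range_succ]
    have : ((-1 : R)) ^ (2 * m) = 1 := by
      rw [pow_mul]; simp
    rw [this]
    ring

end Tri

end Groth.Agent.Lib.Helper28.Pf
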