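import Mathlib
import Groth.Agent.Lib.Helper28.Pf1

/-! The explicit tridiagonal example. -/

set_option autoImplicit false

namespace Groth.Agent.Lib.Helper28.Pf

open W4c3degenlocivb MvPolynomial

variable {k : Type*} [Field k]

/-- Superdiagonal entries of the example: `y_0, y_1, y_0, y_1, …`. -/
noncomputable def ℓ₀ (k : Type*) [Field k] (j : ℕ) : MvPolynomial (Fin 2) k :=
  if j % 2 = 0 then X 0 else X 1

/-- Superdiagonal entries after deleting the index `i`. -/
noncomputable def ℓdel (k : Type*) [Field k] (i : ℕ) (j : ℕ) : MvPolynomial (Fin 2) k :=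
  if j + 1 < i then ℓ₀ k j else if j + 1 = i then 0 else ℓ₀ k (j + 1)

lemma val_succAbove {n : ℕ} (i : Fin (n + 1)) (a : Fin n) :
    ((i.succAbove a : Fin (n + 1)) : ℕ) = if (a : ℕ) < (i : ℕ) then (a : ℕ) else (a : ℕ) + 1 := by
  by_cases h : (a : ℕ) < (i : ℕ)
  · rw [if_pos h, Fin.succAbove_of_castSucc_lt _ _ (by simpa [Fin.lt_def] using h)]
    rfl
  · rw [if_neg h, Fin.succAbove_of_le_castSucc _ _ (by simpa [Fin.le_def] using not_lt.mp h)]
    rfl

lemma tri_submatrix_succAbove (n : ℕ) (i : Fin (n + 1)) :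
    (tri (n + 1) (ℓ₀ k)).submatrix i.succAbove i.succAbove = tri n (ℓdel k i) := by
  ext a b
  rw [Matrix.submatrix_apply, tri_apply, tri_apply, val_succAbove, val_succAbove]
  unfold ℓdel
  by_cases ha : (a : ℕ) < (i : ℕ) <;> by_cases hb : (b : ℕ) < (i : ℕ)
  · rw [if_pos ha, if_pos hb]
    by_cases h1 : (a : ℕ) + 1 = (b : ℕ)
    · rw [if_pos h1, if_pos h1, if_pos (by omega)]
    · rw [if_neg h1, if_neg h1]
      by_cases h2 : (b : ℕ) + 1 = (a : ℕ)
      · rw [if_pos h2, if_pos h2, if_pos (by omega)]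
      · rw [if_neg h2, if_neg h2]
  · rw [if_pos ha, if_neg hb]
    rw [if_neg (by omega), if_neg (by omega)]
    by_cases h1 : (a : ℕ) + 1 = (b : ℕ)
    · rw [if_pos h1, if_neg (by omega), if_pos (by omega)]
    · rw [if_neg h1, if_neg (by omega)]
  · rw [if_neg ha, if_pos hb]
    rw [if_neg (by omega), if_neg (by omega)]
    by_cases h1 : (b : ℕ) + 1 = (a : ℕ)
    · rw [if_neg (by omega), if_pos h1, if_neg (by omega), if_pos (by omega), neg_zero]
    · rw [if_neg (by omega), if_neg h1]
  · rw [if_neg ha, if_neg hb]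
    by_cases h1 : (a : ℕ) + 1 = (b : ℕ)
    · rw [if_pos (by omega), if_pos h1, if_neg (by omega), if_neg (by omega)]
    · rw [if_neg (by omega), if_neg h1]
      by_cases h2 : (b : ℕ) + 1 = (a : ℕ)
      · rw [if_pos (by omega), if_pos h2, if_neg (by omega), if_neg (by omega)]
      · rw [if_neg (by omega), if_neg h2]

lemma prod_ite_lt {M : Type*} [CommMonoid M] (a b : M) (r m : ℕ) (hm : m ≤ r) :
    ∏ t ∈ Finset.range r, (if t < m then a else b) = a ^ m * b ^ (r - m) := by
  rw [Finset.prod_ite, Finset.prod_const, Finset.prod_const]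
  have h1 : (Finset.range r).filter (fun t => t < m) = Finset.range m := by
    ext t
    simp only [Finset.mem_filter, Finset.mem_range]
    omega
  have h2 : ((Finset.range r).filter (fun t => ¬ t < m)).card = r - m := by
    have := Finset.card_filter_add_card_filter_not (s := Finset.range r) (fun t => t < m)
    rw [h1, Finset.card_range, Finset.card_range] at this
    omega
  rw [h1, h2, Finset.card_range]

/-- The Pfaffian of the example with the (even) index `2m` deleted. -/
theorem pf_example (r m : ℕ) (hm : m ≤ r) (i : Fin (2 * r + 1)) (hi : (i : ℕ) = 2 * m) :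
    pf (2 * r) ((tri (2 * r + 1) (ℓ₀ k)).submatrix i.succAbove i.succAbove) =
      (X 0 : MvPolynomial (Fin 2) k) ^ m * X 1 ^ (r - m) := by
  rw [tri_submatrix_succAbove, pf_tri_even, ← prod_ite_lt _ _ r m hm]
  apply Finset.prod_congr rfl
  intro t _
  unfold ℓdel ℓ₀
  rw [hi]
  by_cases ht : t < m
  · rw [if_pos ht, if_pos (by omega), if_pos (by omega)]
  · rw [if_neg ht, if_neg (by omega), if_neg (by omega), if_neg (by omega)]

end Groth.Agent.Lib.Helper28.Pf
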