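import Mathlib
import Groth.Agent.Lib.Helper28.Pf2

/-! Binary forms, the universal determinant and the main theorem on principal sub-Pfaffians. -/

set_option autoImplicit false

namespace Groth.Agent.Lib.Helper28.Pf

open W4c3degenlocivb MvPolynomial

variable {k : Type*} [Field k]

/-- The exponent vector of `y_0^a y_1^(r-a)`. -/
noncomputable def mono (r : ℕ) (a : Fin (r + 1)) : Fin 2 →₀ ℕ :=
  Finsupp.single 0 (a : ℕ) + Finsupp.single 1 (r - (a : ℕ))

lemma mono_apply0 (r : ℕ) (a : Fin (r + 1)) : mono r a 0 = a := by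
  simp [mono]

lemma mono_apply1 (r : ℕ) (a : Fin (r + 1)) : mono r a 1 = r - a := by
  simp [mono]

lemma mono_injective (r : ℕ) : Function.Injective (mono r) := by
  intro a b h
  have := DFunLike.congr_fun h 0
  rw [mono_apply0, mono_apply0] at this
  exact Fin.ext this

lemma X_pow_mul_eq_monomial (r : ℕ) (a : Fin (r + 1)) :
    (X 0 : MvPolynomial (Fin 2) k) ^ (a : ℕ) * X 1 ^ (r - (a : ℕ)) = monomial (mono r a) 1 := by
  rw [X_pow_eq_monomial, X_pow_eq_monomial, monomial_mul, mul_one, mono]

/-- A binary form of degree `r` is the combination of the `r + 1` monomials. -/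
lemma eq_sum_mono (r : ℕ) (p : MvPolynomial (Fin 2) k) (hp : p.IsHomogeneous r) :
    p = ∑ a : Fin (r + 1), coeff (mono r a) p • monomial (mono r a) (1 : k) := by
  classical
  have h1 : ∑ a : Fin (r + 1), coeff (mono r a) p • monomial (mono r a) (1 : k) =
      ∑ d ∈ Finset.univ.image (mono r), monomial d (coeff d p) := by
    rw [Finset.sum_image (fun a _ b _ h => mono_injective r h)]
    apply Finset.sum_congr rfl
    intro a _
    rw [smul_monomial, smul_eq_mul, mul_one]
  rw [h1]
  have hsub : p.support ⊆ Finset.univ.image (mono r) := by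
    intro d hd
    have hdeg : Finsupp.weight 1 d = r := hp (mem_support_iff.mp hd)
    have hdeg' : d 0 + d 1 = r := by
      have h2 : Finsupp.degree d = Finsupp.weight (fun _ => 1) d := by
        rw [Finsupp.degree_eq_weight_one]
      have h3 := Finsupp.degree_eq_sum d
      rw [Fin.sum_univ_two] at h3
      have h4 : Finsupp.weight (fun _ => 1) d = Finsupp.weight 1 d := rfl
      omega
    rw [Finset.mem_image]
    refine ⟨⟨d 0, by omega⟩, Finset.mem_univ _, ?_⟩
    ext l
    fin_cases l
    · change mono r ⟨d 0, _⟩ 0 = d 0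
      rw [mono_apply0]
    · change mono r ⟨d 0, _⟩ 1 = d 1
      rw [mono_apply1]
      simp only
      omega
  rw [← Finset.sum_subset hsub]
  · exact (support_sum_monomial_coeff p).symm
  · intro d _ hd
    rw [mem_support_iff, not_not] at hd
    rw [hd, monomial_zero]

section Universal

variable (k) (r : ℕ)

/-- Index type of the coefficient variables. -/
abbrev Idx := Fin (2 * r + 1) × Fin (2 * r + 1) × Fin 2

/-- The universal matrix of linear forms. -/
noncomputable def U : Matrix (Fin (2 * r + 1)) (Fin (2 * r + 1))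
    (MvPolynomial (Fin 2) (MvPolynomial (Idx r) k)) :=
  Matrix.of fun a b => ∑ l : Fin 2, C (X (a, b, l)) * X l

/-- The matrix of linear forms with coefficient array `c`. -/
noncomputable def Nc (c : Fin (2 * r + 1) → Fin (2 * r + 1) → Fin 2 → k) :
    Matrix (Fin (2 * r + 1)) (Fin (2 * r + 1)) (MvPolynomial (Fin 2) k) :=
  Matrix.of fun a b => ∑ l : Fin 2, C (c a b l) * X l

/-- The even indices `0, 2, …, 2r`. -/
def idx (m : Fin (r + 1)) : Fin (2 * r + 1) := ⟨2 * (m : ℕ), by have := m.2; omega⟩

/-- Evaluation of coefficient polynomials at `c`, on binary forms. -/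
noncomputable def evc (c : Fin (2 * r + 1) → Fin (2 * r + 1) → Fin 2 → k) :
    MvPolynomial (Fin 2) (MvPolynomial (Idx r) k) →+* MvPolynomial (Fin 2) k :=
  MvPolynomial.map (MvPolynomial.eval (fun p : Idx r => c p.1 p.2.1 p.2.2))

lemma U_map (c : Fin (2 * r + 1) → Fin (2 * r + 1) → Fin 2 → k) :
    (U k r).map (evc k r c) = Nc k r c := by
  ext a b : 1
  simp only [Matrix.map_apply, U, Nc, Matrix.of_apply, evc, map_sum, map_mul, map_C, map_X,
    eval_X]

/-- The sub-Pfaffian with index `i` deleted. -/
noncomputable def subPf (c : Fin (2 * r + 1) → Fin (2 * r + 1) → Fin 2 → k)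
    (i : Fin (2 * r + 1)) : MvPolynomial (Fin 2) k :=
  pf (2 * r) ((Nc k r c).submatrix i.succAbove i.succAbove)

lemma subPf_eq (c : Fin (2 * r + 1) → Fin (2 * r + 1) → Fin 2 → k) (i : Fin (2 * r + 1)) :
    subPf k r c i = evc k r c (pf (2 * r) ((U k r).submatrix i.succAbove i.succAbove)) := by
  rw [← pf_map, subPf, ← U_map]
  rfl

lemma subPf_isHomogeneous (c : Fin (2 * r + 1) → Fin (2 * r + 1) → Fin 2 → k)
    (i : Fin (2 * r + 1)) : (subPf k r c i).IsHomogeneous r := by
  have := pf_isHomogeneous (2 * r) ((Nc k r c).submatrix i.succAbove i.succAbove) (by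
    intro a b
    rw [Matrix.submatrix_apply, Nc, Matrix.of_apply]
    apply IsHomogeneous.sum
    intro l _
    have := (isHomogeneous_C (Fin 2) (c (i.succAbove a) (i.succAbove b) l)).mul
      (isHomogeneous_X k l)
    rwa [zero_add] at this)
  have e : 2 * r / 2 = r := by omega
  rwa [e] at this

/-- The universal determinant. -/
noncomputable def Phi : MvPolynomial (Idx r) k :=
  Matrix.det (Matrix.of fun (a m : Fin (r + 1)) =>
    coeff (mono r a) (pf (2 * r) ((U k r).submatrix (idx r m).succAbove (idx r m).succAbove)))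

/-- The coefficient matrix of the even sub-Pfaffians. -/
noncomputable def coefMat (c : Fin (2 * r + 1) → Fin (2 * r + 1) → Fin 2 → k) :
    Matrix (Fin (r + 1)) (Fin (r + 1)) k :=
  Matrix.of fun (a m : Fin (r + 1)) => coeff (mono r a) (subPf k r c (idx r m))

lemma eval_Phi (c : Fin (2 * r + 1) → Fin (2 * r + 1) → Fin 2 → k) :
    MvPolynomial.eval (fun p : Idx r => c p.1 p.2.1 p.2.2) (Phi k r) = (coefMat k r c).det := by
  rw [Phi, RingHom.map_det]
  congr 1
  ext a m
  simp only [RingHom.mapMatrix_apply, Matrix.map_apply, Matrix.of_apply, coefMat]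
  rw [subPf_eq, evc, coeff_map]

end Universal

end Groth.Agent.Lib.Helper28.Pf
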