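import Mathlib
import Groth.Agent.Lib.Helper28.Pf3

/-! Main theorem: sub-Pfaffians of a general alternating matrix of binary linear forms span. -/

set_option autoImplicit false

namespace Groth.Agent.Lib.Helper28.Pf

open W4c3degenlocivb MvPolynomial

variable (k : Type*) [Field k] (r : ℕ)

/-- The coefficient array of the tridiagonal example. -/
def c₀ : Fin (2 * r + 1) → Fin (2 * r + 1) → Fin 2 → k := fun a b l =>
  if (a : ℕ) + 1 = (b : ℕ) then (if (l : ℕ) = (a : ℕ) % 2 then 1 else 0)
  else if (b : ℕ) + 1 = (a : ℕ) then -(if (l : ℕ) = (b : ℕ) % 2 then 1 else 0) else 0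

lemma c₀_antisymm (i j : Fin (2 * r + 1)) (l : Fin 2) : c₀ k r j i l = -c₀ k r i j l := by
  unfold c₀
  by_cases h1 : (i : ℕ) + 1 = (j : ℕ)
  · rw [if_neg (by omega), if_pos h1, if_pos h1]
  · by_cases h2 : (j : ℕ) + 1 = (i : ℕ)
    · rw [if_pos h2, if_neg h1, if_pos h2, neg_neg]
    · rw [if_neg h2, if_neg h1, if_neg h1, if_neg h2, neg_zero]

lemma Nc_c₀ : Nc k r (c₀ k r) = tri (2 * r + 1) (ℓ₀ k) := by
  ext a b
  rw [Nc, Matrix.of_apply, tri_apply, Fin.sum_univ_two]
  unfold c₀ ℓ₀
  by_cases h1 : (a : ℕ) + 1 = (b : ℕ)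
  · rw [if_pos h1, if_pos h1, if_pos h1]
    by_cases h2 : (a : ℕ) % 2 = 0
    · rw [if_pos h2]
      simp [h2]
    · rw [if_neg h2]
      have h3 : (a : ℕ) % 2 = 1 := by omega
      simp [h3]
  · rw [if_neg h1, if_neg h1, if_neg h1]
    by_cases h2 : (b : ℕ) + 1 = (a : ℕ)
    · rw [if_pos h2, if_pos h2, if_pos h2]
      by_cases h3 : (b : ℕ) % 2 = 0
      · rw [if_pos h3]
        simp [h3]
      · rw [if_neg h3]
        have h4 : (b : ℕ) % 2 = 1 := by omega
        simp [h4]
    · rw [if_neg h2, if_neg h2, if_neg h2]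
      simp

lemma subPf_c₀ (m : Fin (r + 1)) :
    subPf k r (c₀ k r) (idx r m) = monomial (mono r m) (1 : k) := by
  rw [subPf, Nc_c₀, pf_example r m (Nat.lt_succ_iff.mp m.2) (idx r m) rfl,
    X_pow_mul_eq_monomial]

lemma coefMat_c₀ : coefMat k r (c₀ k r) = 1 := by
  classical
  ext a m
  rw [coefMat, Matrix.of_apply, subPf_c₀, coeff_monomial, Matrix.one_apply]
  by_cases h : a = m
  · subst h
    rw [if_pos rfl, if_pos rfl]
  · rw [if_neg h, if_neg]
    intro h'
    exact h (mono_injective r h').symm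

theorem exists_good : ∃ c : Fin (2 * r + 1) → Fin (2 * r + 1) → Fin 2 → k,
    (∀ i j l, c j i l = -c i j l) ∧
      MvPolynomial.eval (fun p : Idx r => c p.1 p.2.1 p.2.2) (Phi k r) ≠ 0 := by
  refine ⟨c₀ k r, c₀_antisymm k r, ?_⟩
  rw [eval_Phi, coefMat_c₀, Matrix.det_one]
  exact one_ne_zero

theorem span_eq_of_Phi_ne_zero (c : Fin (2 * r + 1) → Fin (2 * r + 1) → Fin 2 → k)
    (hc : MvPolynomial.eval (fun p : Idx r => c p.1 p.2.1 p.2.2) (Phi k r) ≠ 0) :
    Submodule.span k (Set.range (subPf k r c)) = homogeneousSubmodule (Fin 2) k r := by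
  classical
  apply le_antisymm
  · rw [Submodule.span_le]
    rintro _ ⟨i, rfl⟩
    exact (mem_homogeneousSubmodule _ _).mpr (subPf_isHomogeneous k r c i)
  · rw [eval_Phi] at hc
    set M := coefMat k r c with hM
    have hunit : IsUnit M.det := isUnit_iff_ne_zero.mpr hc
    have hMinv : M * M⁻¹ = 1 := Matrix.mul_nonsing_inv M hunit
    -- each even sub-Pfaffian in terms of monomials
    have hP : ∀ m : Fin (r + 1), subPf k r c (idx r m) =
        ∑ a : Fin (r + 1), M a m • monomial (mono r a) (1 : k) := by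
      intro m
      exact eq_sum_mono r _ (subPf_isHomogeneous k r c (idx r m))
    -- each monomial is in the span
    have hmono : ∀ b : Fin (r + 1), monomial (mono r b) (1 : k) ∈
        Submodule.span k (Set.range (subPf k r c)) := by
      intro b
      have h1 : ∑ m : Fin (r + 1), M⁻¹ m b • subPf k r c (idx r m) =
          monomial (mono r b) (1 : k) := by
        simp_rw [hP, Finset.smul_sum, smul_smul]
        rw [Finset.sum_comm]
        simp_rw [← Finset.sum_smul]
        have h2 : ∀ a : Fin (r + 1), ∑ m : Fin (r + 1), M⁻¹ m b * M a m = (1 : Matrix _ _ k) a b := by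
          intro a
          rw [← hMinv, Matrix.mul_apply]
          apply Finset.sum_congr rfl
          intro m _
          ring
        simp_rw [h2, Matrix.one_apply]
        rw [Finset.sum_eq_single b]
        · rw [if_pos rfl, one_smul]
        · intro a _ hab
          rw [if_neg hab, zero_smul]
        · intro h
          exact absurd (Finset.mem_univ _) h
      rw [← h1]
      apply Submodule.sum_mem
      intro m _
      exact Submodule.smul_mem _ _ (Submodule.subset_span ⟨idx r m, rfl⟩)
    intro p hp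
    rw [eq_sum_mono r p ((mem_homogeneousSubmodule _ _).mp hp)]
    apply Submodule.sum_mem
    intro a _
    exact Submodule.smul_mem _ _ (hmono a)

end Groth.Agent.Lib.Helper28.Pf
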