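import Mathlib

open Polynomial

namespace Groth.Agent.Lib.Helper28.RadPrimeA

section Koszul

variable {T : Type*} [CommRing T] [IsDomain T]

/-- Koszul-type: if `f1` is regular mod `a` and `f2` is regular mod `(a, f1)`,
then `a` is regular mod `(f1, f2)`. -/
theorem koszul_nzd (a f1 f2 : T) (ha : a ≠ 0)
    (h1 : ∀ r, a ∣ f1 * r → a ∣ r)
    (h2 : ∀ r, f2 * r ∈ Ideal.span {a, f1} → r ∈ Ideal.span {a, f1})
    (r : T) (hr : a * r ∈ Ideal.span {f1, f2}) : r ∈ Ideal.span {f1, f2} := by
  rw [Ideal.mem_span_pair] at hr ⊢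
  obtain ⟨s1, s2, hs⟩ := hr
  have h3 : f2 * s2 ∈ Ideal.span {a, f1} := by
    rw [Ideal.mem_span_pair]
    exact ⟨r, -s1, by linear_combination -hs⟩
  obtain ⟨p, q', hpq⟩ := Ideal.mem_span_pair.mp (h2 s2 h3)
  have h4 : a ∣ f1 * (s1 + f2 * q') := by
    refine ⟨r - f2 * p, ?_⟩
    linear_combination hs + f2 * hpq
  obtain ⟨m, hm⟩ := h1 _ h4
  refine ⟨m, p, ?_⟩
  apply mul_left_cancel₀ ha
  linear_combination (-f1) * hm + hs + f2 * hpq

end Koszul

section Poly

variable {A : Type*} [CommRing A]

theorem span_pair_C (a b : A) :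
    Ideal.span {C a, C b + X * C a} = Ideal.map (C : A →+* A[X]) (Ideal.span {a, b}) := by
  rw [Ideal.map_span, Set.image_pair]
  apply le_antisymm
  · rw [Ideal.span_le]
    rintro x (rfl | rfl)
    · exact Ideal.subset_span (by simp)
    · exact Ideal.add_mem _ (Ideal.subset_span (by simp))
        (Ideal.mul_mem_left _ _ (Ideal.subset_span (by simp)))
  · rw [Ideal.span_le]
    rintro x (rfl | rfl)
    · exact Ideal.subset_span (by simp)
    · have : C b = (C b + X * C a) - X * C a := by ring
      rw [this]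
      exact Ideal.sub_mem _ (Ideal.subset_span (by simp))
        (Ideal.mul_mem_left _ _ (Ideal.subset_span (by simp)))

theorem nzd_poly [IsDomain A] (a b c d : A) (ha : Prime a) (hab : ¬ a ∣ b)
    (hc : ∀ z, c * z ∈ Ideal.span {a, b} → z ∈ Ideal.span {a, b})
    (r : A[X]) (hr : C a * r ∈ Ideal.span {C b + X * C a, C d + X * C c}) :
    r ∈ Ideal.span {C b + X * C a, C d + X * C c} := by
  refine koszul_nzd (C a) _ _ (by simpa using ha.ne_zero) ?_ ?_ r hr
  · intro s hs
    have h1 : C a ∣ C b * s := by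
      have : C b * s = (C b + X * C a) * s - C a * (X * s) := by ring
      rw [this]
      exact dvd_sub hs (dvd_mul_right _ _)
    rw [Polynomial.C_dvd_iff_dvd_coeff] at h1 ⊢
    intro i
    have := h1 i
    rw [coeff_C_mul] at this
    exact (ha.dvd_or_dvd this).resolve_left hab
  · intro s hs
    rw [span_pair_C, Ideal.mem_map_C_iff] at hs ⊢
    have key : ∀ k n, n + k = s.natDegree + 1 → s.coeff n ∈ Ideal.span {a, b} := by
      intro k
      induction k with
      | zero =>
        intro n hn
        rw [coeff_eq_zero_of_natDegree_lt (by omega)]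
        exact Ideal.zero_mem _
      | succ k ih =>
        intro n hn
        have h1 := ih (n + 1) (by omega)
        have h2 := hs (n + 1)
        have h3 : ((C d + X * C c) * s).coeff (n + 1) = d * s.coeff (n + 1) + c * s.coeff n := by
          have : (C d + X * C c) * s = C d * s + X * (C c * s) := by ring
          rw [this, coeff_add, coeff_C_mul, coeff_X_mul, coeff_C_mul]
        rw [h3] at h2
        apply hc
        have := Ideal.sub_mem _ h2 (Ideal.mul_mem_left _ d h1)
        simpa using this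
    intro n
    by_cases hn : n ≤ s.natDegree + 1
    · exact key (s.natDegree + 1 - n) n (by omega)
    · rw [coeff_eq_zero_of_natDegree_lt (by omega)]
      exact Ideal.zero_mem _

/-- Reduction of a polynomial in `Y` modulo `C b + Y * C a` after multiplying by a power of `a`. -/
theorem exists_pow_mul_sub_C_mem (a b : A) (f : A[X]) :
    ∃ (N : ℕ) (h : A), (C a) ^ N * f - C h ∈ Ideal.span {C b + X * C a} := by
  induction f using Polynomial.induction_on' with
  | add p q hp hq =>
    obtain ⟨Np, hp', hp⟩ := hp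
    obtain ⟨Nq, hq', hq⟩ := hq
    refine ⟨Np + Nq, a ^ Nq * hp' + a ^ Np * hq', ?_⟩
    have : (C a) ^ (Np + Nq) * (p + q) - C (a ^ Nq * hp' + a ^ Np * hq')
        = (C a) ^ Nq * ((C a) ^ Np * p - C hp') + (C a) ^ Np * ((C a) ^ Nq * q - C hq') := by
      simp only [map_add, map_mul, map_pow]
      ring
    rw [this]
    exact Ideal.add_mem _ (Ideal.mul_mem_left _ _ hp) (Ideal.mul_mem_left _ _ hq)
  | monomial n r =>
    refine ⟨n, r * (-b) ^ n, ?_⟩
    rw [Ideal.mem_span_singleton]
    have h1 : (C a) ^ n * monomial n r - C (r * (-b) ^ n)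
        = C r * ((X * C a) ^ n - (- C b) ^ n) := by
      rw [← C_mul_X_pow_eq_monomial]
      simp only [map_mul, map_pow, map_neg]
      ring
    rw [h1]
    have h2 : C b + X * C a = X * C a - (- C b) := by ring
    rw [h2]
    exact Dvd.dvd.mul_left (sub_dvd_pow_sub_pow _ _ n) _

theorem radical_isPrime_of [IsDomain A] (a b c d g : A) (hg : g = a * d - b * c) (hgp : Prime g)
    (hga : ¬ g ∣ a)
    (hnzd : ∀ r : A[X], C a * r ∈ Ideal.span {C b + X * C a, C d + X * C c} →
      r ∈ Ideal.span {C b + X * C a, C d + X * C c}) :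
    (Ideal.span {C b + X * C a, C d + X * C c} : Ideal A[X]).radical.IsPrime := by
  classical
  set I : Ideal A[X] := Ideal.span {C b + X * C a, C d + X * C c} with hI
  have hg0 : g ≠ 0 := hgp.ne_zero
  have hprime : (Ideal.span {g} : Ideal A).IsPrime := (Ideal.span_singleton_prime hg0).mpr hgp
  let K := FractionRing (A ⧸ Ideal.span {g})
  let ι : A →+* K := (algebraMap (A ⧸ Ideal.span {g}) K).comp (Ideal.Quotient.mk _)
  have hι : ∀ x, ι x = 0 ↔ g ∣ x := by
    intro x
    simp only [ι, RingHom.comp_apply]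
    rw [map_eq_zero_iff _ (IsFractionRing.injective (A ⧸ Ideal.span {g}) K),
      Ideal.Quotient.eq_zero_iff_mem, Ideal.mem_span_singleton]
  have hιa : ι a ≠ 0 := fun h => hga ((hι a).mp h)
  have hιg : ι a * ι d - ι b * ι c = 0 := by
    rw [← map_mul, ← map_mul, ← map_sub, ← hg, hι]
  let y0 : K := - ι b / ι a
  let φ : A[X] →+* K := Polynomial.eval₂RingHom ι y0
  have hφC : ∀ x, φ (C x) = ι x := fun x => by simp [φ]
  have hφX : φ X = y0 := by simp [φ]
  let P : Ideal A[X] := RingHom.ker φ
  have hP : P.IsPrime := RingHom.ker_isPrime φ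
  have hf1 : C b + X * C a ∈ P := by
    rw [RingHom.mem_ker, map_add, map_mul, hφC, hφC, hφX]
    rw [show y0 = - ι b / ι a from rfl, div_mul_cancel₀ _ hιa]
    ring
  have hf2 : C d + X * C c ∈ P := by
    rw [RingHom.mem_ker, map_add, map_mul, hφC, hφC, hφX]
    have : ι d + (- ι b / ι a) * ι c = (ι a * ι d - ι b * ι c) / ι a := by
      rw [eq_div_iff hιa]
      have h0 := div_mul_cancel₀ (-ι b) hιa
      linear_combination (ι c) * h0
    rw [show y0 = - ι b / ι a from rfl, this, hιg, zero_div]
  have hIP : I ≤ P := by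
    rw [hI, Ideal.span_le]
    rintro x (rfl | rfl)
    · exact hf1
    · exact hf2
  have hCg : C g ∈ I := by
    have : C g = C a * (C d + X * C c) - C c * (C b + X * C a) := by
      rw [hg]; simp only [map_sub, map_mul]; ring
    rw [this]
    exact Ideal.sub_mem _ (Ideal.mul_mem_left _ _ (Ideal.subset_span (by simp)))
      (Ideal.mul_mem_left _ _ (Ideal.subset_span (by simp)))
  have hkey : ∀ f ∈ P, ∃ N : ℕ, (C a) ^ N * f ∈ I := by
    intro f hf
    obtain ⟨N, h, hNh⟩ := exists_pow_mul_sub_C_mem a b f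
    refine ⟨N, ?_⟩
    have h1 : (C a) ^ N * f - C h ∈ P :=
      (Ideal.span_le.mpr (by simpa using hf1)) hNh
    have h2 : C h ∈ P := by
      have := Ideal.sub_mem _ (Ideal.mul_mem_left P ((C a) ^ N) hf) h1
      simpa using this
    have h3 : g ∣ h := by
      rw [← hι, ← hφC]; exact h2
    obtain ⟨w, rfl⟩ := h3
    have h4 : C (g * w) ∈ I := by
      rw [map_mul]; exact Ideal.mul_mem_right _ _ hCg
    have h5 : (C a) ^ N * f - C (g * w) ∈ I := by
      refine (Ideal.span_le.mpr ?_) hNh
      rintro x rfl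
      exact Ideal.subset_span (by simp)
    have := Ideal.add_mem _ h5 h4
    simpa using this
  have hmin : ∀ Q ∈ I.minimalPrimes, Q = P := by
    intro Q hQ
    have haQ : C a ∉ Q := by
      intro haQ
      obtain ⟨y, hy, hay⟩ := Ideal.exists_mul_mem_of_mem_minimalPrimes hQ haQ
      exact hy (hnzd y hay)
    have hPQ : P ≤ Q := by
      intro f hf
      obtain ⟨N, hN⟩ := hkey f hf
      rcases hQ.1.1.mem_or_mem (hQ.1.2 hN) with h | h
      · exact absurd (hQ.1.1.mem_of_pow_mem _ h) haQ
      · exact h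
    exact le_antisymm (hQ.2 ⟨hP, hIP⟩ hPQ) hPQ
  have hrad : I.radical = P := by
    rw [← Ideal.sInf_minimalPrimes]
    obtain ⟨Q, hQ, -⟩ := Ideal.exists_minimalPrimes_le hIP
    have : I.minimalPrimes = {P} := by
      ext Q'
      constructor
      · intro h; exact hmin Q' h
      · rintro rfl
        rw [← hmin Q hQ]; exact hQ
    rw [this, sInf_singleton]
  rw [hrad]
  exact hP

end Poly

end Groth.Agent.Lib.Helper28.RadPrimeA
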