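import Mathlib
import Groth.Agent.Lib.Helper28.RadPrimeA

open Polynomial

namespace Groth.Agent.Lib.Helper28.RadPrimeB

open Groth.Agent.Lib.Helper28.RadPrimeA

section Gen

variable {B : Type*} [CommRing B] [IsDomain B]

theorem lin_dvd_iff (s : B) (p : B[X]) : (X + C s) ∣ p ↔ p.eval (-s) = 0 := by
  have : (X + C s : B[X]) = X - C (-s) := by simp
  rw [this, Polynomial.dvd_iff_isRoot, IsRoot.def]

theorem lin_prime (s : B) : Prime (X + C s : B[X]) := by
  have : (X + C s : B[X]) = X - C (-s) := by simp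
  rw [this]
  exact Polynomial.prime_X_sub_C _

/-- membership in `(X + C s, b)` is divisibility after evaluation at `-s`. -/
theorem mem_span_lin_iff (s : B) (b z : B[X]) :
    z ∈ Ideal.span {X + C s, b} ↔ b.eval (-s) ∣ z.eval (-s) := by
  have hlin : (X + C s : B[X]) = X - C (-s) := by simp
  constructor
  · intro h
    obtain ⟨u, v, rfl⟩ := Ideal.mem_span_pair.mp h
    simp only [eval_add, eval_mul, eval_X, eval_C]
    refine ⟨v.eval (-s), ?_⟩
    ring
  · rintro ⟨w, hw⟩
    have hz : z = (X + C s) * (z /ₘ (X - C (-s))) + C (z.eval (-s)) := by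
      conv_lhs => rw [← modByMonic_add_div z (X - C (-s))]
      rw [modByMonic_X_sub_C_eq_C_eval, hlin]; ring
    have hb : b = (X + C s) * (b /ₘ (X - C (-s))) + C (b.eval (-s)) := by
      conv_lhs => rw [← modByMonic_add_div b (X - C (-s))]
      rw [modByMonic_X_sub_C_eq_C_eval, hlin]; ring
    rw [Ideal.mem_span_pair]
    refine ⟨z /ₘ (X - C (-s)) - (b /ₘ (X - C (-s))) * C w, C w, ?_⟩
    conv_rhs => rw [hz, hw, map_mul]
    have hb' : C (b.eval (-s)) = b - (X + C s) * (b /ₘ (X - C (-s))) := by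
      rw [eq_sub_iff_add_eq']
      exact hb.symm
    rw [hb']
    ring

theorem coeff_quad (α β γ : B) :
    (C α * X ^ 2 + C β * X + C γ).coeff 0 = γ ∧ (C α * X ^ 2 + C β * X + C γ).coeff 1 = β ∧
      (C α * X ^ 2 + C β * X + C γ).coeff 2 = α := by
  refine ⟨?_, ?_, ?_⟩ <;> simp [coeff_X, coeff_C, coeff_X_pow]

theorem dvd_of_dvd_prime_mul {l q w : B} (hl : Prime l) (hlq : ¬ l ∣ q) (h : q ∣ l * w) : q ∣ w := by
  obtain ⟨u, hu⟩ := h
  have h1 : l ∣ q * u := ⟨w, hu.symm⟩
  obtain ⟨u', rfl⟩ := (hl.dvd_or_dvd h1).resolve_left hlq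
  refine ⟨u', ?_⟩
  apply mul_left_cancel₀ hl.ne_zero
  rw [hu]; ring

end Gen

section Main

variable {B : Type*} [CommRing B] [IsDomain B] [UniqueFactorizationMonoid B]

theorem gen_main (s1 s2 s3 : B) (h2 : Prime s2) (h23 : ¬ s2 ∣ s3)
    (hq : s2 - s1 ^ 2 ≠ 0)
    (hα : ∀ w, (s2 - s1 ^ 2) ∣ (s3 - s1 * s2) * w → (s2 - s1 ^ 2) ∣ w) :
    (Ideal.span {C (C s2 + X * C s1) + X * C (C s1 + X),
      C (X * C s3) + X * C (C s3 + X * C s2)} : Ideal B[X][X]).radical.IsPrime := by
  set a : B[X] := C s1 + X with ha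
  set b : B[X] := C s2 + X * C s1 with hb
  set c : B[X] := C s3 + X * C s2 with hc
  set d : B[X] := X * C s3 with hd
  have hα0 : s3 - s1 * s2 ≠ 0 := by
    intro h
    apply h23
    rw [sub_eq_zero] at h
    rw [h]; exact dvd_mul_left _ _
  set g : B[X] := C (s3 - s1 * s2) * X ^ 2 + C (- s2 ^ 2) * X + C (- (s2 * s3)) with hgdef
  have hg : g = a * d - b * c := by
    rw [hgdef, ha, hb, hc, hd]
    simp only [map_sub, map_mul, map_neg, map_pow]
    ring
  have hgdeg : g.natDegree = 2 := natDegree_quadratic hα0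
  have hglead : g.leadingCoeff = s3 - s1 * s2 := leadingCoeff_quadratic hα0
  have hgc0 : g.coeff 0 = - (s2 * s3) := (coeff_quad _ _ _).1
  have hgc1 : g.coeff 1 = - s2 ^ 2 := (coeff_quad _ _ _).2.1
  have hgc2 : g.coeff 2 = s3 - s1 * s2 := (coeff_quad _ _ _).2.2
  have hgirr : Irreducible g := by
    have hP : (Ideal.span {s2} : Ideal B).IsPrime := (Ideal.span_singleton_prime h2.ne_zero).mpr h2
    apply Polynomial.irreducible_of_eisenstein_criterion hP
    · rw [hglead, Ideal.mem_span_singleton]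
      intro h
      apply h23
      have : s3 = (s3 - s1 * s2) + s1 * s2 := by ring
      rw [this]
      exact dvd_add h (dvd_mul_left _ _)
    · intro n hn
      rw [degree_eq_natDegree (by intro h; rw [h] at hgdeg; simp at hgdeg), hgdeg] at hn
      have hn' : n < 2 := by exact_mod_cast hn
      rw [Ideal.mem_span_singleton]
      interval_cases n
      · rw [hgc0]; exact (dvd_mul_right _ _).neg_right
      · rw [hgc1]; exact (dvd_pow_self _ two_ne_zero).neg_right
    · rw [degree_eq_natDegree (by intro h; rw [h] at hgdeg; simp at hgdeg), hgdeg]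
      norm_num
    · rw [hgc0, Ideal.span_singleton_pow, Ideal.mem_span_singleton]
      intro h
      apply h23
      rw [dvd_neg, pow_two] at h
      exact (mul_dvd_mul_iff_left h2.ne_zero).mp h
    · intro r hr
      rw [Polynomial.C_dvd_iff_dvd_coeff] at hr
      have hr1 := hr 1
      have hr2 := hr 2
      rw [hgc1, dvd_neg] at hr1
      rw [hgc2] at hr2
      obtain ⟨i, hi, hassoc⟩ := (dvd_prime_pow h2 2).mp hr1
      rcases Nat.eq_zero_or_pos i with rfl | hpos
      · rw [pow_zero] at hassoc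
        exact associated_one_iff_isUnit.mp hassoc
      · exfalso
        apply h23
        have h3 : s2 ∣ r := (dvd_pow_self s2 hpos.ne').trans hassoc.symm.dvd
        have h4 : s2 ∣ s3 - s1 * s2 := h3.trans hr2
        have : s3 = (s3 - s1 * s2) + s1 * s2 := by ring
        rw [this]
        exact dvd_add h4 (dvd_mul_left _ _)
  have hgp : Prime g := hgirr.prime
  have haeq : a = X + C s1 := by rw [ha]; ring
  have ha0 : a ≠ 0 := by
    rw [haeq]; exact (lin_prime s1).ne_zero
  have hga : ¬ g ∣ a := by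
    intro h
    have := natDegree_le_of_dvd h ha0
    rw [hgdeg, haeq, natDegree_X_add_C] at this
    omega
  have hbev : b.eval (-s1) = s2 - s1 ^ 2 := by
    rw [hb]; simp; ring
  have hcev : c.eval (-s1) = s3 - s1 * s2 := by
    rw [hc]; simp; ring
  have hap : Prime a := by rw [haeq]; exact lin_prime s1
  have hab : ¬ a ∣ b := by
    rw [haeq, lin_dvd_iff, hbev]; exact hq
  have hcz : ∀ z, c * z ∈ Ideal.span {a, b} → z ∈ Ideal.span {a, b} := by
    intro z hz
    rw [haeq, mem_span_lin_iff, hbev] at hz ⊢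
    rw [eval_mul, hcev] at hz
    exact hα _ hz
  have hnzd := nzd_poly a b c d hap hab hcz
  exact radical_isPrime_of a b c d g hg hgp hga hnzd

end Main

end Groth.Agent.Lib.Helper28.RadPrimeB
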