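import Mathlib
import Groth.Agent.Lib.Helper28.RadPrimeB

open Polynomial

set_option maxSynthPendingDepth 3

namespace Groth.Agent.Lib.Helper28.RadPrimeC

open Groth.Agent.Lib.Helper28.RadPrimeA Groth.Agent.Lib.Helper28.RadPrimeB

variable {R1 : Type*} [CommRing R1] [IsDomain R1] [UniqueFactorizationMonoid R1]

theorem tower_main (x : R1) (hx : x ≠ 0) :
    Ideal.IsPrime (Ideal.radical (Ideal.span
      ({C (C (C (X * C x) + X * C (C x + X)) + X * C (C (C x + X) + X))
        + X * C (C (C (C x + X) + X) + X),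
      C (X * C (X * C (X * C x))) + X * C (C (X * C (X * C x))
        + X * C (C (X * C x) + X * C (C x + X)))} : Set R1[X][X][X][X]))) := by
  set p1 : R1[X] := C x + X with hp1
  set p2 : R1[X] := X * C x with hp2
  set s1 : R1[X][X] := C p1 + X with hs1
  set s2 : R1[X][X] := C p2 + X * C p1 with hs2
  set s3 : R1[X][X] := X * C p2 with hs3
  have hp1eq : p1 = X + C x := by rw [hp1]; ring
  have hp1p : Prime p1 := by rw [hp1eq]; exact lin_prime x
  have hp20 : p2 ≠ 0 := by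
    rw [hp2]; exact mul_ne_zero X_ne_zero (by simpa using hx)
  have hp1p2 : ¬ p1 ∣ p2 := by
    intro h
    rw [hp2] at h
    rcases hp1p.dvd_or_dvd h with h | h
    · rw [hp1eq, lin_dvd_iff] at h
      simp at h
      exact hx h
    · rw [hp1eq, lin_dvd_iff] at h
      simp at h
      exact hx h
  -- (i)
  have hs2eq : s2 = C p1 * X + C p2 := by rw [hs2]; ring
  have h2 : Prime s2 := by
    rw [hs2eq]
    exact (irreducible_C_mul_X_add_C hp1p.ne_zero
      (hp1p.irreducible.isRelPrime_iff_not_dvd.mpr hp1p2)).prime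
  -- (ii)
  have h23 : ¬ s2 ∣ s3 := by
    intro h
    have h1 : s2 ∣ C (p2 ^ 2) := by
      have : C (p2 ^ 2) = C p2 * s2 - C p1 * s3 := by
        rw [hs2, hs3]; simp only [map_pow]; ring
      rw [this]
      exact dvd_sub (dvd_mul_left _ _) (h.mul_left _)
    have h0 : (C (p2 ^ 2) : R1[X][X]) ≠ 0 := by
      simpa using hp20
    have := natDegree_le_of_dvd h1 h0
    rw [hs2eq, natDegree_linear hp1p.ne_zero, natDegree_C] at this
    omega
  -- (iii)
  have hqeq : s2 - s1 ^ 2 = C (-1) * X ^ 2 + C (- p1) * X + C (p2 - p1 ^ 2) := by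
    rw [hs1, hs2]; simp only [map_sub, map_neg, map_pow, map_one]; ring
  have hq : s2 - s1 ^ 2 ≠ 0 := by
    intro h
    have h1 := (coeff_quad (-1 : R1[X]) (-p1) (p2 - p1 ^ 2)).2.2
    rw [← hqeq, h] at h1
    simp at h1
  -- (iv)
  have hαeq : s3 - s1 * s2 = (C (-p1)) * ((X + C (C x)) * (X + C X)) := by
    rw [hs1, hs2, hs3, hp2, hp1]; simp only [map_add, map_mul, map_neg]; ring
  have hnorm : (-(C x) ^ 2 - X ^ 2 : R1[X]) ≠ 0 := by
    intro h
    have h1 := (coeff_quad (-1 : R1) 0 (- x ^ 2)).2.2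
    have h2 : (C (-1 : R1) * X ^ 2 + C 0 * X + C (- x ^ 2) : R1[X]) = -(C x) ^ 2 - X ^ 2 := by
      simp only [map_neg, map_pow, map_one, map_zero]; ring
    rw [h2, h] at h1
    simp at h1
  have hl1 : Prime (C (-p1) : R1[X][X]) := by
    rw [Polynomial.prime_C_iff]; exact hp1p.neg
  have hl1q : ¬ (C (-p1) : R1[X][X]) ∣ s2 - s1 ^ 2 := by
    intro h
    rw [Polynomial.C_dvd_iff_dvd_coeff] at h
    have h1 := h 2
    rw [hqeq, (coeff_quad _ _ _).2.2] at h1
    have : IsUnit (-p1) := isUnit_of_dvd_unit h1 (by simp)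
    exact hp1p.neg.not_isUnit this
  have hl2q : ¬ (X + C (C x) : R1[X][X]) ∣ s2 - s1 ^ 2 := by
    rw [lin_dvd_iff]
    intro h
    apply hnorm
    rw [← h, hs1, hs2, hp1, hp2]
    simp
    ring
  have hl3q : ¬ (X + C X : R1[X][X]) ∣ s2 - s1 ^ 2 := by
    rw [lin_dvd_iff]
    intro h
    apply hnorm
    rw [← h, hs1, hs2, hp1, hp2]
    simp
    ring
  have hα : ∀ w, (s2 - s1 ^ 2) ∣ (s3 - s1 * s2) * w → (s2 - s1 ^ 2) ∣ w := by
    intro w hw
    rw [hαeq, mul_assoc, mul_assoc] at hw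
    have h1 := dvd_of_dvd_prime_mul hl1 hl1q hw
    have h2 := dvd_of_dvd_prime_mul (lin_prime _) hl2q h1
    exact dvd_of_dvd_prime_mul (lin_prime _) hl3q h2
  exact gen_main s1 s2 s3 h2 h23 hq hα

end Groth.Agent.Lib.Helper28.RadPrimeC
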