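import Mathlib
import Groth.Agent.Lib.Helper28.RadPrimeC

open Polynomial

set_option maxSynthPendingDepth 3

namespace Groth.Agent.Lib.Helper28.RadPrimeD

open Groth.Agent.Lib.Helper28.RadPrimeC

theorem esymm5_2 {S : Type*} [CommSemiring S] (v : Fin 5 → S) :
    (Finset.univ.val.map v).esymm 2 =
      v 0 * v 1 + v 0 * v 2 + v 0 * v 3 + v 0 * v 4 + v 1 * v 2 + v 1 * v 3 + v 1 * v 4
        + v 2 * v 3 + v 2 * v 4 + v 3 * v 4 := by
  rw [Fin.univ_val_map]
  simp [List.ofFn_succ, Multiset.esymm, Multiset.powersetCard_coe, List.sublistsLen,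
    List.sublistsLenAux]
  ring

theorem esymm5_4 {S : Type*} [CommSemiring S] (v : Fin 5 → S) :
    (Finset.univ.val.map v).esymm 4 =
      v 0 * v 1 * v 2 * v 3 + v 0 * v 1 * v 2 * v 4 + v 0 * v 1 * v 3 * v 4
        + v 0 * v 2 * v 3 * v 4 + v 1 * v 2 * v 3 * v 4 := by
  rw [Fin.univ_val_map]
  simp [List.ofFn_succ, Multiset.esymm, Multiset.powersetCard_coe, List.sublistsLen,
    List.sublistsLenAux]
  ring

variable (k : Type*) [Field k]

/-- the five variables in the tower `k[X][X][X][X][X]`. -/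
noncomputable def y : Fin 5 → k[X][X][X][X][X] :=
  ![X, C X, C (C X), C (C (C X)), C (C (C (C X)))]

noncomputable def φ : MvPolynomial (Fin 5) k →+* k[X][X][X][X][X] :=
  (MvPolynomial.aeval (y k) : MvPolynomial (Fin 5) k →ₐ[k] k[X][X][X][X][X]).toRingHom

noncomputable def ψ : k[X][X][X][X][X] →+* MvPolynomial (Fin 5) k :=
  eval₂RingHom (eval₂RingHom (eval₂RingHom (eval₂RingHom (eval₂RingHom MvPolynomial.C
    (MvPolynomial.X 4)) (MvPolynomial.X 3)) (MvPolynomial.X 2)) (MvPolynomial.X 1))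
    (MvPolynomial.X 0)

theorem φ_X (i : Fin 5) : φ k (MvPolynomial.X i) = y k i := by
  simp [φ]

theorem φ_C (r : k) : φ k (MvPolynomial.C r) = C (C (C (C (C r)))) := by
  simp [φ, Polynomial.algebraMap_apply]

theorem φψ : (φ k).comp (ψ k) = RingHom.id _ := by
  apply Polynomial.ringHom_ext'
  · apply Polynomial.ringHom_ext'
    · apply Polynomial.ringHom_ext'
      · apply Polynomial.ringHom_ext'
        · apply Polynomial.ringHom_ext'
          · ext r
            simp [ψ, φ_C]
          · simp [ψ, φ_X, y]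
        · simp [ψ, φ_X, y]
      · simp [ψ, φ_X, y]
    · simp [ψ, φ_X, y]
  · simp [ψ, φ_X, y]

theorem ψφ : (ψ k).comp (φ k) = RingHom.id _ := by
  apply MvPolynomial.ringHom_ext
  · intro r
    simp [φ_C, ψ]
  · intro i
    fin_cases i <;> simp [φ_X, ψ, y]

noncomputable def e : MvPolynomial (Fin 5) k ≃+* k[X][X][X][X][X] :=
  RingEquiv.ofRingHom (φ k) (ψ k) (φψ k) (ψφ k)

theorem e_apply (p : MvPolynomial (Fin 5) k) : e k p = φ k p := rfl

theorem φ_esymm (n : ℕ) :
    φ k (MvPolynomial.esymm (Fin 5) k n) = (Finset.univ.val.map (y k)).esymm n := by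
  simp only [φ]
  exact MvPolynomial.aeval_esymm_eq_multiset_esymm (Fin 5) k n (y k)

theorem φ_esymm2 : φ k (MvPolynomial.esymm (Fin 5) k 2) =
    C (C (C (X * C X) + X * C (C X + X)) + X * C (C (C X + X) + X))
        + X * C (C (C (C X + X) + X) + X) := by
  rw [φ_esymm]
  refine (esymm5_2 (y k)).trans ?_
  simp only [y, Matrix.cons_val_zero, Matrix.cons_val_one, Matrix.cons_val]
  simp only [map_add, map_mul]
  ring

theorem φ_esymm4 : φ k (MvPolynomial.esymm (Fin 5) k 4) =
    C (X * C (X * C (X * C X))) + X * C (C (X * C (X * C X))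
        + X * C (C (X * C X) + X * C (C X + X))) := by
  rw [φ_esymm]
  refine (esymm5_4 (y k)).trans ?_
  simp only [y, Matrix.cons_val_zero, Matrix.cons_val_one, Matrix.cons_val]
  simp only [map_add, map_mul]
  ring

theorem main : (Ideal.span ({MvPolynomial.esymm (Fin 5) k 2, MvPolynomial.esymm (Fin 5) k 4} :
      Set (MvPolynomial (Fin 5) k))).radical.IsPrime := by
  set I := Ideal.span ({MvPolynomial.esymm (Fin 5) k 2, MvPolynomial.esymm (Fin 5) k 4} :
      Set (MvPolynomial (Fin 5) k)) with hI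
  have hmap : I.map (e k : MvPolynomial (Fin 5) k →+* k[X][X][X][X][X]) = Ideal.span
      ({C (C (C (X * C X) + X * C (C X + X)) + X * C (C (C X + X) + X))
        + X * C (C (C (C X + X) + X) + X),
      C (X * C (X * C (X * C X))) + X * C (C (X * C (X * C X))
        + X * C (C (X * C X) + X * C (C X + X)))} : Set k[X][X][X][X][X]) := by
    rw [hI, Ideal.map_span, Set.image_pair]
    simp only [RingEquiv.coe_toRingHom, e_apply, φ_esymm2, φ_esymm4]
  have hprime := tower_main (R1 := k[X]) (X : k[X]) X_ne_zero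
  rw [← hmap] at hprime
  have h1 : I.radical = ((I.map (e k : MvPolynomial (Fin 5) k →+* k[X][X][X][X][X])).radical).comap
      (e k : MvPolynomial (Fin 5) k →+* k[X][X][X][X][X]) := by
    have h2 := Ideal.comap_radical (e k : MvPolynomial (Fin 5) k →+* k[X][X][X][X][X])
      (I.map (e k : MvPolynomial (Fin 5) k →+* k[X][X][X][X][X]))
    rw [Ideal.comap_map_of_bijective (e k : MvPolynomial (Fin 5) k →+* k[X][X][X][X][X])
      (e k).bijective] at h2
    exact h2.symm
  rw [h1]
  exact Ideal.comap_isPrime _ _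

end Groth.Agent.Lib.Helper28.RadPrimeD
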