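import Mathlib.Algebra.Polynomial.AlgebraMap
import Mathlib.Algebra.Polynomial.Div
import Mathlib.LinearAlgebra.Basis.Basic
import Mathlib.LinearAlgebra.FreeModule.Basic
import Mathlib.RingTheory.Ideal.Quotient.Operations
import Mathlib.LinearAlgebra.LinearIndependent.Lemmas

/-!
# The Rees algebra of a filtration given by a weighted basis (helper28)

`B` a commutative algebra over a field `K` with a basis `b i`, a weight `ω i`, and
`F N = span {b i | ω i ≤ N}` multiplicative.  The Rees algebra `R = ⊕ F_n t^n ⊆ B[t]` is free over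
`K[t]` on the `b i t^{ω i}`, its fibre at `c ≠ 0` is `B`.
-/

set_option autoImplicit false
set_option linter.style.haveILetI false

universe u

namespace Groth.Agent.Lib.Helper28.ReesAux

open Polynomial

variable (K : Type u) [Field K] (B : Type u) [CommRing B] [Algebra K B] (ι : Type*)

/-- a weighted basis with multiplicative filtration -/
structure FilData where
  b : ι → B
  ω : ι → ℕ
  li : LinearIndependent K b
  sp : Submodule.span K (Set.range b) = ⊤
  one_mem : (1 : B) ∈ Submodule.span K {y | ∃ i, ω i ≤ 0 ∧ y = b i}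
  mul_mem : ∀ i j, b i * b j ∈ Submodule.span K {y | ∃ l, ω l ≤ ω i + ω j ∧ y = b l}

variable {K B ι} (D : FilData K B ι)

namespace FilData

/-- the filtration -/
def F (N : ℕ) : Submodule K B := Submodule.span K {y | ∃ i, D.ω i ≤ N ∧ y = D.b i}

lemma F_mono {N N' : ℕ} (h : N ≤ N') : D.F N ≤ D.F N' := by
  unfold F
  apply Submodule.span_mono
  rintro y ⟨i, hi, rfl⟩
  exact ⟨i, hi.trans h, rfl⟩

lemma b_mem_F (i : ι) : D.b i ∈ D.F (D.ω i) := Submodule.subset_span ⟨i, le_rfl, rfl⟩

lemma mul_mem_F {N N' : ℕ} {x y : B} (hx : x ∈ D.F N) (hy : y ∈ D.F N') : x * y ∈ D.F (N + N') := by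
  unfold F at hx
  induction hx using Submodule.span_induction with
  | mem x hx =>
    obtain ⟨i, hi, rfl⟩ := hx
    unfold F at hy
    induction hy using Submodule.span_induction with
    | mem y hy =>
      obtain ⟨j, hj, rfl⟩ := hy
      exact D.F_mono (add_le_add hi hj) (D.mul_mem i j)
    | zero => rw [mul_zero]; exact Submodule.zero_mem _
    | add y z _ _ hy hz => rw [mul_add]; exact Submodule.add_mem _ hy hz
    | smul a y _ hy => rw [mul_smul_comm]; exact Submodule.smul_mem _ a hy
  | zero => rw [zero_mul]; exact Submodule.zero_mem _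
  | add x z _ _ hx hz => rw [add_mul]; exact Submodule.add_mem _ hx hz
  | smul a x _ hx => rw [smul_mul_assoc]; exact Submodule.smul_mem _ a hx

lemma one_mem_F (N : ℕ) : (1 : B) ∈ D.F N := D.F_mono (Nat.zero_le N) D.one_mem

lemma algebraMap_mem_F (a : K) (N : ℕ) : algebraMap K B a ∈ D.F N := by
  rw [Algebra.algebraMap_eq_smul_one]
  exact Submodule.smul_mem _ a (D.one_mem_F N)

/-- the Rees algebra -/
def rees : Subalgebra K B[X] where
  carrier := {p | ∀ n, p.coeff n ∈ D.F n}
  mul_mem' := by
    intro p q hp hq n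
    rw [coeff_mul]
    apply Submodule.sum_mem
    intro x hx
    rw [Finset.mem_antidiagonal] at hx
    rw [← hx]
    exact D.mul_mem_F (hp x.1) (hq x.2)
  add_mem' := by
    intro p q hp hq n
    rw [coeff_add]
    exact Submodule.add_mem _ (hp n) (hq n)
  algebraMap_mem' := by
    intro a n
    rw [Polynomial.algebraMap_apply, coeff_C]
    split_ifs
    · exact D.algebraMap_mem_F a n
    · exact Submodule.zero_mem _

lemma mem_rees (p : B[X]) : p ∈ D.rees ↔ ∀ n, p.coeff n ∈ D.F n := Iff.rfl

lemma monomial_mem_rees {n : ℕ} {y : B} (hy : y ∈ D.F n) : monomial n y ∈ D.rees := by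
  intro k
  rw [coeff_monomial]
  split_ifs with h
  · subst h; exact hy
  · exact Submodule.zero_mem _

lemma map_mem_rees (p : K[X]) : p.map (algebraMap K B) ∈ D.rees := by
  intro n
  rw [coeff_map]
  exact D.algebraMap_mem_F _ n

/-- the structure map `K[t] → R` -/
noncomputable def toRees : K[X] →+* D.rees :=
  (Polynomial.mapRingHom (algebraMap K B)).codRestrict D.rees.toSubring
    (fun p => D.map_mem_rees p)

noncomputable instance instAlgebraRees : Algebra K[X] D.rees := (D.toRees).toAlgebra

lemma algebraMap_rees_coe (p : K[X]) :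
    ((algebraMap K[X] D.rees p : D.rees) : B[X]) = p.map (algebraMap K B) := rfl

lemma smul_rees_coe (p : K[X]) (r : D.rees) :
    ((p • r : D.rees) : B[X]) = p.map (algebraMap K B) * (r : B[X]) := by
  rw [Algebra.smul_def]
  rfl

instance instIsScalarTowerRees : IsScalarTower K K[X] D.rees := by
  apply IsScalarTower.of_algebraMap_eq
  intro a
  apply Subtype.ext
  rw [algebraMap_rees_coe]
  show algebraMap K B[X] a = _
  rw [Polynomial.algebraMap_apply, Polynomial.algebraMap_apply, Algebra.algebraMap_self_apply,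
    map_C]

/-- the basis elements `b i t^{ω i}` -/
noncomputable def E (i : ι) : D.rees := ⟨monomial (D.ω i) (D.b i), D.monomial_mem_rees (D.b_mem_F i)⟩

lemma E_coe (i : ι) : ((D.E i : D.rees) : B[X]) = C (D.b i) * X ^ (D.ω i) := by
  show monomial (D.ω i) (D.b i) = _
  rw [C_mul_X_pow_eq_monomial]

lemma coeff_smul_E (p : K[X]) (i : ι) (n : ℕ) :
    ((p • D.E i : D.rees) : B[X]).coeff n =
      if D.ω i ≤ n then p.coeff (n - D.ω i) • D.b i else 0 := by
  rw [smul_rees_coe, E_coe, ← mul_assoc, coeff_mul_X_pow', mul_comm, coeff_C_mul, coeff_map]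
  split_ifs
  · rw [Algebra.smul_def, mul_comm]
  · rfl

theorem linearIndependent_E : LinearIndependent K[X] D.E := by
  classical
  rw [linearIndependent_iff']
  intro s g hg i his
  ext k
  rw [coeff_zero]
  have h1 : ((∑ j ∈ s, g j • D.E j : D.rees) : B[X]).coeff (k + D.ω i) = 0 := by
    rw [hg]
    rfl
  rw [AddSubmonoidClass.coe_finsetSum, finsetSum_coeff] at h1
  have h2 : ∀ j ∈ s, ((g j • D.E j : D.rees) : B[X]).coeff (k + D.ω i) =
      (if D.ω j ≤ k + D.ω i then (g j).coeff (k + D.ω i - D.ω j) else 0) • D.b j := by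
    intro j _
    rw [coeff_smul_E]
    split_ifs
    · rfl
    · rw [zero_smul]
  rw [Finset.sum_congr rfl h2] at h1
  have h3 := linearIndependent_iff'.1 D.li s
    (fun j => if D.ω j ≤ k + D.ω i then (g j).coeff (k + D.ω i - D.ω j) else 0) h1 i his
  beta_reduce at h3
  rw [if_pos (Nat.le_add_left _ _), Nat.add_sub_cancel] at h3
  exact h3

lemma monomial_mem_span {n : ℕ} {y : B} (hy : y ∈ D.F n) :
    (⟨monomial n y, D.monomial_mem_rees hy⟩ : D.rees) ∈ Submodule.span K[X] (Set.range D.E) := by
  have key : ∀ y (hy : y ∈ D.F n), (⟨monomial n y, D.monomial_mem_rees hy⟩ : D.rees) ∈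
      Submodule.span K[X] (Set.range D.E) := by
    intro y hy
    unfold F at hy
    induction hy using Submodule.span_induction with
    | mem y hy =>
      obtain ⟨i, hi, rfl⟩ := hy
      have : (⟨monomial n (D.b i), D.monomial_mem_rees (D.F_mono hi (D.b_mem_F i))⟩ : D.rees) =
          (X ^ (n - D.ω i) : K[X]) • D.E i := by
        apply Subtype.ext
        rw [smul_rees_coe, E_coe, Polynomial.map_pow, map_X, mul_comm, mul_assoc, ← pow_add,
          Nat.add_sub_cancel' hi, C_mul_X_pow_eq_monomial]
      rw [this]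
      exact Submodule.smul_mem _ _ (Submodule.subset_span ⟨i, rfl⟩)
    | zero =>
      have : (⟨monomial n (0 : B), D.monomial_mem_rees (Submodule.zero_mem _)⟩ : D.rees) = 0 := by
        apply Subtype.ext
        simp
      rw [this]
      exact Submodule.zero_mem _
    | add y z hy' hz' hy hz =>
      have : (⟨monomial n (y + z), D.monomial_mem_rees (Submodule.add_mem _ hy' hz')⟩ : D.rees) =
          ⟨monomial n y, D.monomial_mem_rees hy'⟩ + ⟨monomial n z, D.monomial_mem_rees hz'⟩ := by
        apply Subtype.ext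
        simp
      rw [this]
      exact Submodule.add_mem _ hy hz
    | smul a y hy' hy =>
      have : (⟨monomial n (a • y), D.monomial_mem_rees (Submodule.smul_mem _ a hy')⟩ : D.rees) =
          (C a : K[X]) • ⟨monomial n y, D.monomial_mem_rees hy'⟩ := by
        apply Subtype.ext
        rw [smul_rees_coe]
        show monomial n (a • y) = map (algebraMap K B) (C a) * monomial n y
        rw [map_C, C_mul_monomial, Algebra.smul_def]
      rw [this]
      exact Submodule.smul_mem _ _ hy
  exact key y hy

theorem span_E : Submodule.span K[X] (Set.range D.E) = ⊤ := by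
  classical
  rw [eq_top_iff]
  rintro ⟨p, hp⟩ -
  have : (⟨p, hp⟩ : D.rees) =
      ∑ n ∈ p.support, (⟨monomial n (p.coeff n), D.monomial_mem_rees (hp n)⟩ : D.rees) := by
    apply Subtype.ext
    rw [AddSubmonoidClass.coe_finsetSum]
    exact p.as_sum_support
  rw [this]
  apply Submodule.sum_mem
  intro n _
  exact D.monomial_mem_span (hp n)

theorem free_rees : Module.Free K[X] D.rees :=
  Module.Free.of_basis (Module.Basis.mk D.linearIndependent_E (le_of_eq D.span_E.symm))

/-- evaluation at `t = c` -/
noncomputable def evc (c : K) : D.rees →ₐ[K] B :=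
  ((Polynomial.aeval (R := B) (algebraMap K B c)).restrictScalars K).comp D.rees.val

lemma evc_apply (c : K) (r : D.rees) : D.evc c r = (r : B[X]).eval (algebraMap K B c) := by
  unfold evc
  rw [AlgHom.comp_apply]
  show Polynomial.aeval (algebraMap K B c) (r : B[X]) = _
  rw [Polynomial.coe_aeval_eq_eval]

lemma evc_surjective (c : K) (hc : c ≠ 0) : Function.Surjective (D.evc c) := by
  have hle : Submodule.span K (Set.range D.b) ≤ Subalgebra.toSubmodule (D.evc c).range := by
    rw [Submodule.span_le]
    rintro y ⟨i, rfl⟩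
    show D.b i ∈ (D.evc c).range
    rw [AlgHom.mem_range]
    refine ⟨⟨monomial (D.ω i) ((c⁻¹) ^ (D.ω i) • D.b i),
      D.monomial_mem_rees (Submodule.smul_mem _ _ (D.b_mem_F i))⟩, ?_⟩
    rw [evc_apply]
    show (monomial (D.ω i) ((c⁻¹) ^ (D.ω i) • D.b i)).eval (algebraMap K B c) = D.b i
    rw [eval_monomial, ← map_pow, Algebra.smul_def, mul_assoc, mul_comm (D.b i), ← mul_assoc,
      ← map_mul, ← mul_pow, inv_mul_cancel₀ hc, one_pow, map_one, one_mul]
  intro y
  have hy : y ∈ Subalgebra.toSubmodule (D.evc c).range := hle (by rw [D.sp]; trivial)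
  exact hy

lemma ker_evc (c : K) (hc : c ≠ 0) :
    RingHom.ker (D.evc c) = Ideal.span {algebraMap K[X] D.rees (X - C c)} := by
  apply le_antisymm
  · rintro ⟨p, hp⟩ hker
    rw [RingHom.mem_ker, evc_apply] at hker
    have hroot : IsRoot p (algebraMap K B c) := hker
    obtain ⟨q, hq⟩ := dvd_iff_isRoot.2 hroot
    have hqmem : q ∈ D.rees := by
      have hrec0 : (algebraMap K B c) * q.coeff 0 = - p.coeff 0 := by
        rw [hq, sub_mul, coeff_sub, coeff_X_mul_zero, coeff_C_mul, zero_sub, neg_neg]
      have hrec : ∀ n, (algebraMap K B c) * q.coeff (n + 1) = q.coeff n - p.coeff (n + 1) := by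
        intro n
        rw [hq, sub_mul, coeff_sub, coeff_X_mul, coeff_C_mul]
        ring
      have hinv : ∀ (z : B) (N : ℕ), algebraMap K B c * z ∈ D.F N → z ∈ D.F N := by
        intro z N hz
        have := Submodule.smul_mem _ (c⁻¹) hz
        rw [Algebra.smul_def, ← mul_assoc, ← map_mul, inv_mul_cancel₀ hc, map_one, one_mul] at this
        exact this
      intro n
      induction n with
      | zero =>
        apply hinv
        rw [hrec0]
        exact Submodule.neg_mem _ (hp 0)
      | succ n ih =>
        apply hinv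
        rw [hrec]
        exact Submodule.sub_mem _ (D.F_mono (Nat.le_succ n) ih) (hp (n + 1))
    rw [Ideal.mem_span_singleton']
    refine ⟨⟨q, hqmem⟩, ?_⟩
    apply Subtype.ext
    show q * ((X - C c : K[X]).map (algebraMap K B)) = p
    rw [Polynomial.map_sub, map_X, map_C, hq, mul_comm]
  · rw [Ideal.span_le, Set.singleton_subset_iff, SetLike.mem_coe, RingHom.mem_ker, evc_apply,
      algebraMap_rees_coe, Polynomial.map_sub, map_X, map_C, eval_sub, eval_X, eval_C, sub_self]

/-- the fibre of the Rees algebra at `c ≠ 0` is `B` -/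
noncomputable def fibreEquiv (c : K) (hc : c ≠ 0) :
    (D.rees ⧸ Ideal.span {algebraMap K[X] D.rees (X - C c)}) ≃ₐ[K] B :=
  (Ideal.quotientEquivAlgOfEq K (D.ker_evc c hc).symm).trans
    (Ideal.quotientKerAlgEquivOfSurjective (D.evc_surjective c hc))

/-- the ideal `(t)` of the Rees algebra -/
noncomputable def T : Ideal D.rees := Ideal.span {algebraMap K[X] D.rees X}

lemma monomial_succ_mem_T {n : ℕ} {y : B} (hy : y ∈ D.F n) :
    (⟨monomial (n + 1) y, D.monomial_mem_rees (D.F_mono (Nat.le_succ n) hy)⟩ : D.rees) ∈ D.T := by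
  unfold T
  rw [Ideal.mem_span_singleton']
  refine ⟨⟨monomial n y, D.monomial_mem_rees hy⟩, ?_⟩
  apply Subtype.ext
  show monomial n y * (X : K[X]).map (algebraMap K B) = monomial (n + 1) y
  rw [map_X, monomial_mul_X]

lemma coeff_of_mem_T {r : D.rees} (hr : r ∈ D.T) :
    (r : B[X]).coeff 0 = 0 ∧ ∀ n, (r : B[X]).coeff (n + 1) ∈ D.F n := by
  unfold T at hr
  rw [Ideal.mem_span_singleton'] at hr
  obtain ⟨q, rfl⟩ := hr
  have : ((q * algebraMap K[X] D.rees X : D.rees) : B[X]) = (q : B[X]) * X := by
    show (q : B[X]) * (X : K[X]).map (algebraMap K B) = _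
    rw [map_X]
  rw [this]
  constructor
  · rw [coeff_mul_X_zero]
  · intro n
    rw [coeff_mul_X]
    exact q.2 n

theorem linearIndependent_mk_E :
    LinearIndependent K (fun i => Ideal.Quotient.mk D.T (D.E i)) := by
  classical
  rw [linearIndependent_iff']
  intro s g hg i₀ hi₀
  have hmem : (∑ i ∈ s, g i • D.E i) ∈ D.T := by
    rw [← Ideal.Quotient.eq_zero_iff_mem, map_sum, ← hg]
    apply Finset.sum_congr rfl
    intro i _
    exact map_smul (Ideal.Quotient.mkₐ K D.T) (g i) (D.E i)
  obtain ⟨h0, hsucc⟩ := D.coeff_of_mem_T hmem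
  set n := D.ω i₀ with hn
  -- the coefficient of degree `n`
  have hco : ((∑ i ∈ s, g i • D.E i : D.rees) : B[X]).coeff n =
      ∑ i ∈ s.filter (fun i => D.ω i = n), g i • D.b i := by
    rw [AddSubmonoidClass.coe_finsetSum, finsetSum_coeff, Finset.sum_filter]
    apply Finset.sum_congr rfl
    intro i _
    show (g i • monomial (D.ω i) (D.b i)).coeff n = _
    rw [coeff_smul, coeff_monomial]
    split_ifs
    · rfl
    · rw [smul_zero]
  have hv1 : (∑ i ∈ s.filter (fun i => D.ω i = n), g i • D.b i) ∈
      Submodule.span K (D.b '' {i | D.ω i = n}) := by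
    apply Submodule.sum_mem
    intro i hi
    rw [Finset.mem_filter] at hi
    exact Submodule.smul_mem _ _ (Submodule.subset_span ⟨i, hi.2, rfl⟩)
  have hv0 : (∑ i ∈ s.filter (fun i => D.ω i = n), g i • D.b i) = 0 := by
    rcases Nat.eq_zero_or_pos n with hn0 | hnpos
    · rw [← hco, hn0]
      exact h0
    · obtain ⟨k, hk⟩ := Nat.exists_eq_succ_of_ne_zero hnpos.ne'
      have h2 := hsucc k
      rw [← Nat.succ_eq_add_one, ← hk, hco] at h2
      have hv2 : (∑ i ∈ s.filter (fun i => D.ω i = n), g i • D.b i) ∈
          Submodule.span K (D.b '' {j | D.ω j ≤ k}) := by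
        have hF : D.F k = Submodule.span K (D.b '' {j | D.ω j ≤ k}) := by
          unfold F
          congr 1
          ext y
          constructor
          · rintro ⟨i, hi, rfl⟩
            exact ⟨i, hi, rfl⟩
          · rintro ⟨i, hi, rfl⟩
            exact ⟨i, hi, rfl⟩
        rw [← hF]
        exact h2
      have hdisj : Disjoint {i | D.ω i = n} {j | D.ω j ≤ k} := by
        rw [Set.disjoint_left]
        intro i hi hj
        rw [Set.mem_ofPred_eq] at hi hj
        omega
      have := D.li.disjoint_span_image hdisj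
      exact (Submodule.disjoint_def.1 this) _ hv1 hv2
  have h3 := linearIndependent_iff'.1 D.li _ _ hv0 i₀ (Finset.mem_filter.2 ⟨hi₀, rfl⟩)
  exact h3

theorem span_mk_E :
    Submodule.span K (Set.range fun i => Ideal.Quotient.mk D.T (D.E i)) = ⊤ := by
  classical
  rw [eq_top_iff]
  rintro z -
  obtain ⟨⟨p, hp⟩, rfl⟩ := Ideal.Quotient.mk_surjective z
  have key : ∀ (n : ℕ) (y : B) (hy : y ∈ D.F n),
      Ideal.Quotient.mk D.T (⟨monomial n y, D.monomial_mem_rees hy⟩ : D.rees) ∈
        Submodule.span K (Set.range fun i => Ideal.Quotient.mk D.T (D.E i)) := by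
    intro n y hy
    unfold F at hy
    induction hy using Submodule.span_induction with
    | mem y hy =>
      obtain ⟨i, hi, rfl⟩ := hy
      rcases Nat.eq_or_lt_of_le hi with heq | hlt
      · apply Submodule.subset_span
        refine ⟨i, ?_⟩
        have e : D.E i = (⟨monomial n (D.b i),
            D.monomial_mem_rees (D.F_mono hi (D.b_mem_F i))⟩ : D.rees) := by
          apply Subtype.ext
          show monomial (D.ω i) (D.b i) = monomial n (D.b i)
          rw [heq]
        show Ideal.Quotient.mk D.T (D.E i) = _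
        rw [e]
      · obtain ⟨k, hk⟩ := Nat.exists_eq_succ_of_ne_zero (Nat.ne_of_gt (Nat.lt_of_le_of_lt (Nat.zero_le _) hlt))
        have hbk : D.b i ∈ D.F k := D.F_mono (by omega) (D.b_mem_F i)
        have h0 : Ideal.Quotient.mk D.T (⟨monomial n (D.b i),
            D.monomial_mem_rees (D.F_mono hi (D.b_mem_F i))⟩ : D.rees) = 0 := by
          rw [Ideal.Quotient.eq_zero_iff_mem]
          have := D.monomial_succ_mem_T hbk
          have e : (⟨monomial n (D.b i), D.monomial_mem_rees (D.F_mono hi (D.b_mem_F i))⟩ : D.rees) =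
              ⟨monomial (k + 1) (D.b i), D.monomial_mem_rees (D.F_mono (Nat.le_succ k) hbk)⟩ := by
            apply Subtype.ext
            show monomial n (D.b i) = monomial (k + 1) (D.b i)
            rw [hk]
          rw [e]
          exact this
        rw [h0]
        exact Submodule.zero_mem _
    | zero =>
      have : (⟨monomial n (0 : B), D.monomial_mem_rees (Submodule.zero_mem _)⟩ : D.rees) = 0 := by
        apply Subtype.ext
        simp
      rw [this, map_zero]
      exact Submodule.zero_mem _
    | add y z hy' hz' hy hz =>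
      have : (⟨monomial n (y + z), D.monomial_mem_rees (Submodule.add_mem _ hy' hz')⟩ : D.rees) =
          ⟨monomial n y, D.monomial_mem_rees hy'⟩ + ⟨monomial n z, D.monomial_mem_rees hz'⟩ := by
        apply Subtype.ext
        simp
      rw [this, map_add]
      exact Submodule.add_mem _ hy hz
    | smul a y hy' hy =>
      have : (⟨monomial n (a • y), D.monomial_mem_rees (Submodule.smul_mem _ a hy')⟩ : D.rees) =
          a • ⟨monomial n y, D.monomial_mem_rees hy'⟩ := by
        apply Subtype.ext
        show monomial n (a • y) = a • monomial n y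
        rw [smul_monomial]
      rw [this]
      have e2 : Ideal.Quotient.mk D.T (a • (⟨monomial n y, D.monomial_mem_rees hy'⟩ : D.rees)) =
          a • Ideal.Quotient.mk D.T (⟨monomial n y, D.monomial_mem_rees hy'⟩ : D.rees) :=
        map_smul (Ideal.Quotient.mkₐ K D.T) a _
      rw [e2]
      exact Submodule.smul_mem _ a hy
  have : (⟨p, hp⟩ : D.rees) =
      ∑ n ∈ p.support, (⟨monomial n (p.coeff n), D.monomial_mem_rees (hp n)⟩ : D.rees) := by
    apply Subtype.ext
    rw [AddSubmonoidClass.coe_finsetSum]
    exact p.as_sum_support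
  rw [this, map_sum]
  apply Submodule.sum_mem
  intro n _
  exact key n _ (hp n)

end FilData

end Groth.Agent.Lib.Helper28.ReesAux
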