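import Mathlib.LinearAlgebra.RootSystem.BaseExists
import Mathlib.LinearAlgebra.RootSystem.WeylGroup
import Groth.Prelude.Def_W4sga3xxiRoot

/-!
Basic lemmas on root data (root pairings over `ℤ`) used for the `RootD.*` statements.
-/

set_option autoImplicit false

namespace Groth.Agent.Lib.Helper28

open RootPairing Module Submodule Set

variable {ι M N : Type*} [AddCommGroup M] [AddCommGroup N] (P : RootPairing ι ℤ M N)

include P in
lemma isTorsionFree_weight : Module.IsTorsionFree ℤ M := by
  have : IsReflexive ℤ M := .of_isPerfPair P.toLinearMap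
  infer_instance

include P in
lemma isTorsionFree_coweight : Module.IsTorsionFree ℤ N := by
  have : IsReflexive ℤ N := .of_isPerfPair P.flip.toLinearMap
  infer_instance

include P in
lemma isAddTorsionFree_weight : IsAddTorsionFree M := by
  exact Module.isTorsionFree_int_iff_isAddTorsionFree.mp (isTorsionFree_weight P)

include P in
lemma isAddTorsionFree_coweight : IsAddTorsionFree N := by
  exact Module.isTorsionFree_int_iff_isAddTorsionFree.mp (isTorsionFree_coweight P)

lemma pairingIn_int (i j : ι) : P.pairingIn ℤ i j = P.pairing i j := by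
  simpa using P.algebraMap_pairingIn ℤ i j

lemma root_neg (i : ι) : P.root (P.reflectionPerm i i) = -P.root i := by
  simp

lemma pairing_neg_left (i j : ι) : P.pairing (P.reflectionPerm i i) j = -P.pairing i j := by
  simp

lemma pairing_neg_right (i j : ι) : P.pairing i (P.reflectionPerm j j) = -P.pairing i j := by
  simp

variable [Finite ι]

/-- If `⟨αᵢ, αⱼ^∨⟩ > 0` and `i ≠ j` then `αᵢ - αⱼ` is a root. -/
lemma root_sub_root_mem {i j : ι} (h : 0 < P.pairing i j) (h' : i ≠ j) :
    P.root i - P.root j ∈ range P.root :=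
  P.root_sub_root_mem_of_pairingIn_pos (by rwa [pairingIn_int]) h'

/-- If `⟨αᵢ, αⱼ^∨⟩ < 0` and `αᵢ ≠ -αⱼ` then `αᵢ + αⱼ` is a root. -/
lemma root_add_root_mem {i j : ι} (h : P.pairing i j < 0) (h' : P.root i ≠ -P.root j) :
    P.root i + P.root j ∈ range P.root :=
  P.root_add_root_mem_of_pairingIn_neg (by rwa [pairingIn_int]) h'

omit [Finite ι] in
/-- Membership in `natSpan` via finitely supported `ℕ`-valued coefficient functions. -/
lemma mem_natSpan_iff (S : Set ι) (x : M) :
    x ∈ RootD.natSpan P S ↔
      ∃ c : ι →₀ ℕ, (↑c.support ⊆ S) ∧ Finsupp.linearCombination ℕ P.root c = x := by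
  unfold RootD.natSpan
  rw [← Submodule.span_nat_eq_addSubmonoidClosure, Submodule.mem_toAddSubmonoid,
    Finsupp.mem_span_image_iff_linearCombination]
  simp only [Finsupp.mem_supported]

/-- Cast a `ℕ`-valued coefficient function to a `ℤ`-valued one. -/
noncomputable def natToInt (c : ι →₀ ℕ) : ι →₀ ℤ := c.mapRange (fun n : ℕ => (n : ℤ)) rfl

omit [Finite ι] in
@[simp] lemma natToInt_apply (c : ι →₀ ℕ) (i : ι) : natToInt c i = (c i : ℤ) := rfl

omit [Finite ι] in
lemma support_natToInt (c : ι →₀ ℕ) : (natToInt c).support = c.support := by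
  ext i; simp [natToInt]

omit [Finite ι] in
lemma natToInt_injective : Function.Injective (natToInt (ι := ι)) := by
  intro c d h
  ext i
  have := DFunLike.congr_fun h i
  simpa using this

omit [Finite ι] in
lemma linearCombination_natToInt (c : ι →₀ ℕ) :
    Finsupp.linearCombination ℤ P.root (natToInt c) = Finsupp.linearCombination ℕ P.root c := by
  simp only [Finsupp.linearCombination_apply, natToInt]
  rw [Finsupp.sum_mapRange_index (by simp)]
  simp [Finsupp.sum]

/-- Variant of `LinearMap.BilinForm.linearIndependent_of_pairwise_le_zero` where the half-space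
hypothesis is replaced by: no non-trivial non-negative combination vanishes. -/
lemma linearIndependent_of_pairwise_le_zero_of_cone {ι R M : Type*}
    [CommRing R] [LinearOrder R] [IsStrictOrderedRing R] [AddCommGroup M] [Module R M]
    (B : LinearMap.BilinForm R M) (hB : B.toQuadraticMap.PosDef)
    (v : ι → M)
    (H : ∀ (s : Finset ι) (c : ι → R), ∑ i ∈ s with 0 < c i, c i • v i = 0 → ∀ i ∈ s, c i ≤ 0)
    (hn : Pairwise fun i j ↦ B (v i) (v j) ≤ 0) :
    LinearIndependent R v := by
  refine linearIndependent_iff'.mpr fun s c hc ↦ ?_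
  set x := ∑ i ∈ s with 0 < c i, c i • v i with hx
  set y := ∑ i ∈ s with 0 < -c i, (-c i) • v i with hy
  replace hc : x = y := by
    classical
    simp_rw [hx, hy, neg_smul, Finset.sum_neg_distrib, ← add_eq_zero_iff_eq_neg]
    rw [← hc, ← Finset.sum_union, Finset.sum_subset]
    · grind only [= Finset.subset_iff, = Finset.mem_union, = Finset.mem_filter]
    · simp +contextual [eq_comm (a := (0 : R))]
    · grind only [Finset.disjoint_filter]
  have hx₀ : x = 0 := by
    suffices B x y ≤ 0 by simpa [hc, ← hB.le_zero_iff, B.toQuadraticMap_apply]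
    suffices 0 ≤ ∑ x ∈ s with c x < 0, ∑ i ∈ s with 0 < c i, c x * (c i * (B (v i)) (v x)) by
      simpa [hx, hy, map_neg, Finset.mul_sum]
    refine Finset.sum_nonneg fun i hi ↦ Finset.sum_nonneg fun j hj ↦ ?_
    grind [Pairwise, mul_nonneg_iff, mul_nonpos_iff]
  replace hx (i : ι) (hi : i ∈ s) : c i ≤ 0 := H s c (by grind) i hi
  replace hy (i : ι) (hi : i ∈ s) : -c i ≤ 0 := H s (-c ·) (by grind) i hi
  grind

/-- **Key lemma.** A set of roots with pairwise non-positive pairings such that the opposite of none of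
them is a non-negative integer combination of the set is linearly independent. -/
theorem linearIndepOn_of_pairing_le_zero (Δ : Set ι)
    (hpair : ∀ i ∈ Δ, ∀ j ∈ Δ, i ≠ j → P.pairing i j ≤ 0)
    (hneg : ∀ i ∈ Δ, -P.root i ∉ RootD.natSpan P Δ) :
    LinearIndepOn ℤ P.root Δ := by
  have : Fintype ι := Fintype.ofFinite ι
  let M₀ := span ℤ (range P.root)
  let v (i : Δ) : M₀ := P.rootSpanMem ℤ i
  change LinearIndependent ℤ (M₀.subtype ∘ v)
  suffices LinearIndependent ℤ v by
    rwa [LinearMap.linearIndependent_iff_of_disjoint M₀.subtype (by simp)]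
  obtain ⟨B, hB⟩ : ∃ B : P.RootPositiveForm ℤ, B.posForm.toQuadraticMap.PosDef :=
    ⟨P.posRootForm ℤ, by simpa using P.posRootForm_rootFormIn_posDef ℤ⟩
  have hn : Pairwise fun (i j : Δ) ↦ B.posForm (v i) (v j) ≤ 0 := by
    rintro ⟨i, hi⟩ ⟨j, hj⟩ hij
    rw [B.posForm_apply_root_root_le_zero_iff, pairingIn_int]
    exact hpair i hi j hj (by simpa using hij)
  refine linearIndependent_of_pairwise_le_zero_of_cone B.posForm hB v ?_ hn
  intro s c hc i hi
  by_contra hci
  push Not at hci
  -- `-v i` is a non-negative combination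
  apply hneg i.1 i.2
  have hc' : ∑ j ∈ s with 0 < c j, c j • P.root j = 0 := by
    have := congrArg M₀.subtype hc
    simpa [v] using this
  classical
  have hmem : i ∈ s.filter (fun j => 0 < c j) := by simp [hi, hci]
  rw [← Finset.add_sum_erase _ _ hmem] at hc'
  have h1 : -P.root i = (c i - 1) • P.root i +
      ∑ j ∈ (s.filter (fun j => 0 < c j)).erase i, c j • P.root (j : ι) := by
    have hrest := eq_neg_of_add_eq_zero_right hc'
    rw [hrest, sub_smul, one_smul]
    abel
  rw [h1]
  have hnat : ∀ (n : ℤ) (j : Δ), 0 ≤ n → n • P.root (j : ι) ∈ RootD.natSpan P Δ := by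
    intro n j hn0
    obtain ⟨m, rfl⟩ := Int.eq_ofNat_of_zero_le hn0
    rw [natCast_zsmul]
    have hj : P.root (j : ι) ∈ RootD.natSpan P Δ :=
      AddSubmonoid.subset_closure (Set.mem_image_of_mem _ j.2)
    exact AddSubmonoid.nsmul_mem _ hj m
  refine add_mem (hnat _ _ (by omega)) (sum_mem fun j hj => hnat _ _ ?_)
  simp only [Finset.mem_erase, Finset.mem_filter] at hj
  exact hj.2.2.le

section natSpan
omit [Finite ι]

lemma root_mem_natSpan {S : Set ι} {i : ι} (hi : i ∈ S) : P.root i ∈ RootD.natSpan P S :=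
  AddSubmonoid.subset_closure (Set.mem_image_of_mem _ hi)

lemma natSpan_le_of_forall {S : Set ι} {T : AddSubmonoid M} (h : ∀ i ∈ S, P.root i ∈ T) :
    RootD.natSpan P S ≤ T := by
  refine AddSubmonoid.closure_le.mpr ?_
  rintro - ⟨i, hi, rfl⟩
  exact h i hi

lemma natSpan_mono {S T : Set ι} (h : S ⊆ T) : RootD.natSpan P S ≤ RootD.natSpan P T :=
  AddSubmonoid.closure_mono (Set.image_mono h)

/-- For a linearly independent set of roots, two `ℕ`-combinations with the same value agree. -/
lemma natCoeff_unique {Δ : Set ι} (hli : LinearIndepOn ℤ P.root Δ) {c d : ι →₀ ℕ}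
    (hc : (↑c.support : Set ι) ⊆ Δ) (hd : (↑d.support : Set ι) ⊆ Δ)
    (h : Finsupp.linearCombination ℕ P.root c = Finsupp.linearCombination ℕ P.root d) : c = d := by
  apply natToInt_injective
  refine linearIndepOn_iffₛ.mp hli _ ?_ _ ?_ ?_
  · rw [Finsupp.mem_supported, support_natToInt]; exact hc
  · rw [Finsupp.mem_supported, support_natToInt]; exact hd
  · rw [linearCombination_natToInt, linearCombination_natToInt, h]

lemma intCoeff_unique {Δ : Set ι} (hli : LinearIndepOn ℤ P.root Δ) {c d : ι →₀ ℤ}
    (hc : (↑c.support : Set ι) ⊆ Δ) (hd : (↑d.support : Set ι) ⊆ Δ)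
    (h : Finsupp.linearCombination ℤ P.root c = Finsupp.linearCombination ℤ P.root d) : c = d :=
  linearIndepOn_iffₛ.mp hli _ (by rwa [Finsupp.mem_supported]) _ (by rwa [Finsupp.mem_supported]) h

/-- For linearly independent `Δ`, the monoid `natSpan Δ` contains no pair of opposite non-zero
elements. -/
lemma eq_zero_of_mem_natSpan_of_neg_mem {Δ : Set ι} (hli : LinearIndepOn ℤ P.root Δ) {x : M}
    (hx : x ∈ RootD.natSpan P Δ) (hx' : -x ∈ RootD.natSpan P Δ) : x = 0 := by
  classical
  obtain ⟨c, hc, rfl⟩ := (mem_natSpan_iff P Δ x).mp hx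
  obtain ⟨d, hd, hd'⟩ := (mem_natSpan_iff P Δ _).mp hx'
  have h0 : c + d = 0 := by
    refine natCoeff_unique P hli (c := c + d) (d := 0) ?_ (by simp) ?_
    · intro i hi
      have := Finsupp.support_add hi
      rcases Finset.mem_union.mp this with h | h
      · exact hc h
      · exact hd h
    · rw [map_add, hd']; simp
  have hc0 : c = 0 := by
    ext i
    have := DFunLike.congr_fun h0 i
    simp only [Finsupp.coe_add, Pi.add_apply, Finsupp.coe_zero, Pi.zero_apply] at this
    simp; omega
  simp [hc0]

/-- Simple roots are atoms of the monoid they generate. -/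
lemma eq_zero_or_eq_zero_of_root_eq_add {Δ : Set ι} (hli : LinearIndepOn ℤ P.root Δ) {i : ι}
    (hi : i ∈ Δ) {a b : M} (ha : a ∈ RootD.natSpan P Δ) (hb : b ∈ RootD.natSpan P Δ)
    (h : P.root i = a + b) : a = 0 ∨ b = 0 := by
  classical
  obtain ⟨c, hc, rfl⟩ := (mem_natSpan_iff P Δ a).mp ha
  obtain ⟨d, hd, rfl⟩ := (mem_natSpan_iff P Δ b).mp hb
  have h0 : c + d = Finsupp.single i 1 := by
    refine natCoeff_unique P hli (c := c + d) (d := Finsupp.single i 1) ?_ ?_ ?_
    · intro j hj
      have := Finsupp.support_add hj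
      rcases Finset.mem_union.mp this with h | h
      · exact hc h
      · exact hd h
    · intro j hj
      have := Finsupp.support_single_subset hj
      rw [Finset.mem_singleton] at this
      rw [this]; exact hi
    · rw [map_add, ← h]; simp
  have hi1 : c i + d i = 1 := by
    have := DFunLike.congr_fun h0 i
    simpa using this
  have hj0 : ∀ j, j ≠ i → c j = 0 ∧ d j = 0 := by
    intro j hj
    have := DFunLike.congr_fun h0 j
    rw [Finsupp.add_apply, Finsupp.single_apply, if_neg hj.symm] at this
    omega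
  rcases Nat.eq_zero_or_pos (c i) with hci | hci
  · left
    have : c = 0 := by
      ext j
      by_cases hj : j = i
      · simp [hj, hci]
      · simp [(hj0 j hj).1]
    simp [this]
  · right
    have hdi : d i = 0 := by omega
    have : d = 0 := by
      ext j
      by_cases hj : j = i
      · simp [hj, hdi]
      · simp [(hj0 j hj).2]
    simp [this]

end natSpan

end Groth.Agent.Lib.Helper28
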