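import Groth.Agent.Lib.Helper28.RootGen

/-!
Words in simple reflections: the deletion argument and simple transitivity of the Weyl group on
simple systems.
-/

set_option autoImplicit false

namespace Groth.Agent.Lib.Helper28

open RootPairing Module Submodule Set RootD

variable {ι M N : Type*} [AddCommGroup M] [AddCommGroup N] {P : RootPairing ι ℤ M N}

/-- The product of the simple reflections along a word. -/
noncomputable def wordProd (P : RootPairing ι ℤ M N) (l : List ι) : P.Aut :=
  (l.map fun a => Equiv.reflection P a).prod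

@[simp] lemma wordProd_nil : wordProd P [] = 1 := rfl

@[simp] lemma wordProd_cons (a : ι) (l : List ι) :
    wordProd P (a :: l) = Equiv.reflection P a * wordProd P l := by
  simp [wordProd]

@[simp] lemma wordProd_append (l₁ l₂ : List ι) :
    wordProd P (l₁ ++ l₂) = wordProd P l₁ * wordProd P l₂ := by
  simp [wordProd]

lemma reflection_mul_self (i : ι) : Equiv.reflection P i * Equiv.reflection P i = 1 := by
  have := Equiv.reflection_inv P i
  exact mul_eq_one_iff_inv_eq.mpr this

lemma wordProd_reverse (l : List ι) : wordProd P l.reverse = (wordProd P l)⁻¹ := by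
  induction l with
  | nil => simp
  | cons a l ih =>
    rw [List.reverse_cons, wordProd_append, ih, wordProd_cons, wordProd_cons, wordProd_nil,
      mul_one, mul_inv_rev, Equiv.reflection_inv]

variable [Finite ι]

omit [Finite ι] in
/-- Simple roots (of a simple system) are indivisible. -/
lemma isIndiv_of_mem_simpleSys {Δ : Set ι} (hΔ : IsSimpleSys P Δ) {i : ι} (hi : i ∈ Δ) :
    IsIndiv P i := by
  intro j h
  have hli := hΔ.linInd
  rw [two_smul] at h
  rcases hΔ.mem_or_neg_mem j with hj | hj
  · rcases eq_zero_or_eq_zero_of_root_eq_add P hli hi hj hj h.symm with h0 | h0 <;>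
      exact P.ne_zero j h0
  · have h1 : -P.root i ∈ natSpan P Δ := by
      rw [← h, neg_add]
      exact add_mem hj hj
    exact P.ne_zero i (eq_zero_of_mem_natSpan_of_neg_mem P hli (root_mem_natSpan P hi) h1)

omit [Finite ι] in
/-- Exchange lemma: if a word in simple reflections maps the simple root `t` to a negative root, then
some suffix of the word maps `t` to the simple root just before that suffix. -/
lemma exists_split_of_wordProd_smul_notMem_posOf {Δ : Set ι} (hΔ : IsSimpleSys P Δ) {t : ι}
    (ht : t ∈ Δ) :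
    ∀ l : List ι, (∀ a ∈ l, a ∈ Δ) → wordProd P l • t ∉ posOf P Δ →
      ∃ (l₁ l₂ : List ι) (a : ι), l = l₁ ++ a :: l₂ ∧ wordProd P l₂ • t = a := by
  intro l
  induction l with
  | nil =>
    intro _ h
    exfalso
    apply h
    rw [wordProd_nil, one_smul]
    exact subset_posOf ht
  | cons a l ih =>
    intro hl h
    have hl' : ∀ b ∈ l, b ∈ Δ := fun b hb => hl b (List.mem_cons_of_mem _ hb)
    have ha : a ∈ Δ := hl a (List.mem_cons_self)
    by_cases hβ : wordProd P l • t ∈ posOf P Δ
    · rw [wordProd_cons, mul_smul, reflection_smul_idx] at h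
      rcases reflectionPerm_mem_posOf_or hΔ ha hβ with h' | ⟨n, hn⟩
      · exact absurd h' h
      · have hind : IsIndiv P (wordProd P l • t) := isIndiv_smul _ (isIndiv_of_mem_simpleSys hΔ ht)
        rcases eq_one_or_two_of_root_eq_nsmul hn with rfl | rfl
        · rw [one_smul] at hn
          exact ⟨[], l, a, rfl, P.root.injective hn⟩
        · exfalso
          apply hind a
          rw [hn, ofNat_zsmul]
    · obtain ⟨l₁, l₂, a', hl₁₂, ha'⟩ := ih hl' hβ
      exact ⟨a :: l₁, l₂, a', by rw [hl₁₂]; rfl, ha'⟩

omit [Finite ι] in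
/-- Deletion: if a word in simple reflections maps the simple root `t` to a negative root, then the
word followed by `t` can be shortened by two letters. -/
lemma exists_shorter_of_wordProd_smul_notMem_posOf {Δ : Set ι} (hΔ : IsSimpleSys P Δ) {t : ι}
    (ht : t ∈ Δ) (l : List ι) (hl : ∀ a ∈ l, a ∈ Δ) (h : wordProd P l • t ∉ posOf P Δ) :
    ∃ l' : List ι, (∀ a ∈ l', a ∈ Δ) ∧ wordProd P l' = wordProd P (l ++ [t]) ∧
      l'.length + 1 = l.length := by
  obtain ⟨l₁, l₂, a, rfl, ha⟩ := exists_split_of_wordProd_smul_notMem_posOf hΔ ht l hl h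
  refine ⟨l₁ ++ l₂, ?_, ?_, ?_⟩
  · intro b hb
    apply hl
    rcases List.mem_append.mp hb with hb | hb
    · exact List.mem_append_left _ hb
    · exact List.mem_append_right _ (List.mem_cons_of_mem _ hb)
  · have hconj := conj_reflection (wordProd P l₂) t
    rw [ha] at hconj
    simp only [wordProd_append, wordProd_cons, wordProd_nil, mul_one]
    rw [← hconj]
    simp only [mul_assoc, inv_mul_cancel_left, reflection_mul_self, mul_one]
  · simp only [List.length_append, List.length_cons]
    omega

/-- If `w = s_{a₁} ⋯ s_{aₘ}` is a word of minimal length in the simple reflections, then `w(aₘ)` is a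
negative root. -/
theorem neg_root_mem_natSpan_of_minimal {Δ : Set ι} (hΔ : IsSimpleSys P Δ) (l : List ι)
    (hl : ∀ a ∈ l, a ∈ Δ) (hne : l ≠ [])
    (hmin : ∀ l' : List ι, (∀ a ∈ l', a ∈ Δ) → wordProd P l' = wordProd P l → l.length ≤ l'.length) :
    -P.root (wordProd P l • l.getLast hne) ∈ natSpan P Δ := by
  set t := l.getLast hne with ht
  have hsplit : l = l.dropLast ++ [t] := (List.dropLast_append_getLast hne).symm
  have htΔ : t ∈ Δ := hl t (List.getLast_mem hne)
  have hl₀ : ∀ a ∈ l.dropLast, a ∈ Δ := fun a ha => hl a (List.mem_of_mem_dropLast ha)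
  have hw : wordProd P l • t = P.reflectionPerm (wordProd P l.dropLast • t) (wordProd P l.dropLast • t) := by
    conv_lhs => rw [hsplit]
    rw [wordProd_append, wordProd_cons, wordProd_nil, mul_one, mul_smul, reflection_smul_idx,
      aut_smul_neg]
  rw [hw, root_neg, neg_neg]
  by_contra hneg
  obtain ⟨l', hl', hprod, hlen⟩ :=
    exists_shorter_of_wordProd_smul_notMem_posOf hΔ htΔ l.dropLast hl₀ hneg
  rw [← hsplit] at hprod
  have := hmin l' hl' hprod
  have hlen2 : l.length = l.dropLast.length + 1 := by
    conv_lhs => rw [hsplit]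
    simp
  omega

omit [Finite ι] in
/-- Every element of the subgroup generated by the simple reflections is a word in them. -/
lemma exists_word_of_mem_closure {Δ : Set ι} {g : P.Aut}
    (hg : g ∈ Subgroup.closure ((fun i : ι => Equiv.reflection P i) '' Δ)) :
    ∃ l : List ι, (∀ a ∈ l, a ∈ Δ) ∧ wordProd P l = g := by
  induction hg using Subgroup.closure_induction with
  | mem x hx =>
    obtain ⟨i, hi, rfl⟩ := hx
    exact ⟨[i], by simpa using hi, by simp⟩
  | one => exact ⟨[], by simp, rfl⟩
  | mul x y _ _ hx hy =>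
    obtain ⟨l₁, h₁, rfl⟩ := hx
    obtain ⟨l₂, h₂, rfl⟩ := hy
    refine ⟨l₁ ++ l₂, ?_, wordProd_append _ _⟩
    intro a ha
    rcases List.mem_append.mp ha with h | h
    · exact h₁ a h
    · exact h₂ a h
  | inv x _ hx =>
    obtain ⟨l, h, rfl⟩ := hx
    exact ⟨l.reverse, fun a ha => h a (List.mem_reverse.mp ha), wordProd_reverse l⟩

/-- An element of the Weyl group mapping a simple system into its positive roots is trivial. -/
theorem weylGroup_eq_one_of_image_subset_posOf {Δ : Set ι} (hΔ : IsSimpleSys P Δ) {g : P.Aut}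
    (hg : g ∈ P.weylGroup) (h : ∀ i ∈ Δ, g • i ∈ posOf P Δ) : g = 1 := by
  classical
  rw [← closure_simple_reflections hΔ] at hg
  have hex : ∃ n : ℕ, ∃ l : List ι, (∀ a ∈ l, a ∈ Δ) ∧ wordProd P l = g ∧ l.length = n := by
    obtain ⟨l, hl, hlg⟩ := exists_word_of_mem_closure hg
    exact ⟨_, l, hl, hlg, rfl⟩
  obtain ⟨l, hl, hlg, hlen⟩ := Nat.find_spec hex
  by_cases hne : l = []
  · rw [← hlg, hne, wordProd_nil]
  · exfalso
    have hmin : ∀ l' : List ι, (∀ a ∈ l', a ∈ Δ) → wordProd P l' = wordProd P l →
        l.length ≤ l'.length := by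
      intro l' hl' hprod
      rw [hlen]
      exact Nat.find_min' hex ⟨l', hl', hprod.trans hlg, rfl⟩
    have hneg := neg_root_mem_natSpan_of_minimal hΔ l hl hne hmin
    rw [hlg] at hneg
    have hpos := h _ (hl _ (List.getLast_mem hne))
    exact P.ne_zero _ (eq_zero_of_mem_natSpan_of_neg_mem P hΔ.linInd hpos hneg)

end Groth.Agent.Lib.Helper28
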