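import Groth.Agent.Lib.Helper28.RootGen

/-!
The system of simple coroots `ind(Δ^∨)` attached to a system of simple roots `Δ`.
-/

set_option autoImplicit false

namespace Groth.Agent.Lib.Helper28

open RootPairing Module Submodule Set RootD

variable {ι M N : Type*} [AddCommGroup M] [AddCommGroup N] {P : RootPairing ι ℤ M N}

/-- The set `ind(Δ^∨)`: the coroots of `Δ`, each divisible one replaced by its half. -/
def indCo (P : RootPairing ι ℤ M N) (Δ : Set ι) : Set ι :=
  {j | ∃ i ∈ Δ, (j = i ∧ IsIndiv P.flip i) ∨ (2 : ℤ) • P.coroot j = P.coroot i}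

section general

/-- Twice the polarization maps the cone of `S` into any additive submonoid containing the coroots
of `S`. -/
lemma two_smul_polarization_mem [Fintype ι] {S : Set ι} {C : AddSubmonoid N}
    (hC : ∀ s ∈ S, P.coroot s ∈ C) {x : M} (hx : x ∈ natSpan P S) :
    (2 : ℕ) • P.Polarization x ∈ C := by
  have htf := isTorsionFree_weight P
  induction hx using AddSubmonoid.closure_induction with
  | mem x hx =>
    obtain ⟨s, hs, rfl⟩ := hx
    rw [← P.rootForm_self_smul_coroot s]
    have hpos : 0 < P.RootForm (P.root s) (P.root s) :=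
      P.rootForm_pos_of_ne_zero (Submodule.subset_span (mem_range_self s)) (P.ne_zero s)
    obtain ⟨n, hn⟩ := Int.eq_ofNat_of_zero_le hpos.le
    rw [hn, natCast_zsmul]
    exact nsmul_mem (hC s hs) n
  | zero => rw [map_zero, smul_zero]; exact zero_mem _
  | add x y _ _ ihx ihy => rw [map_add, smul_add]; exact add_mem ihx ihy

/-- The cone of a linearly independent set of roots is saturated in the lattice they span. -/
lemma mem_natSpan_of_nsmul_mem {T : Set ι} (hli : LinearIndepOn ℤ P.root T) {x : M}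
    (hx : x ∈ span ℤ (P.root '' T)) {n : ℕ} (hn : 0 < n) (hnx : n • x ∈ natSpan P T) :
    x ∈ natSpan P T := by
  obtain ⟨d, hd, rfl⟩ := (Finsupp.mem_span_image_iff_linearCombination ℤ).mp hx
  rw [Finsupp.mem_supported] at hd
  obtain ⟨c, hc, hc0, hcx⟩ := exists_int_coeff_of_mem_natSpan P hnx
  have hnd : (↑((n : ℤ) • d).support : Set ι) ⊆ T := by
    intro j hj
    apply hd
    rw [Finset.mem_coe, Finsupp.mem_support_iff] at hj ⊢
    intro h0
    apply hj
    rw [Finsupp.smul_apply, h0, smul_zero]
  have heq : c = (n : ℤ) • d := by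
    refine intCoeff_unique P hli hc hnd ?_
    rw [hcx, map_smul, natCast_zsmul]
  refine linearCombination_mem_natSpan_of_nonneg P d hd fun j => ?_
  have h1 : 0 ≤ (n : ℤ) * d j := by
    have := hc0 j
    rw [heq, Finsupp.smul_apply, smul_eq_mul] at this
    exact this
  have h2 : (0 : ℤ) < n := by exact_mod_cast hn
  exact nonneg_of_mul_nonneg_right h1 h2

/-- A property of root indices stable under the simple reflections is stable under the group they
generate. -/
lemma smul_induction_of_mem_closure {Δ : Set ι} {p : ι → Prop}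
    (hs : ∀ i ∈ Δ, ∀ k, p k → p (P.reflectionPerm i k)) {g : P.Aut}
    (hg : g ∈ Subgroup.closure ((fun i : ι => Equiv.reflection P i) '' Δ)) :
    ∀ k, p k → p (g • k) := by
  induction hg using Subgroup.closure_induction'' with
  | one => intro k hk; rwa [one_smul]
  | mem x hx =>
    obtain ⟨i, hi, rfl⟩ := hx
    intro k hk
    exact hs i hi k hk
  | inv_mem x hx =>
    obtain ⟨i, hi, rfl⟩ := hx
    intro k hk
    rw [Equiv.reflection_inv]
    exact hs i hi k hk
  | mul x y _ _ ihx ihy =>
    intro k hk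
    rw [mul_smul]
    exact ihx _ (ihy k hk)

end general

variable [Finite ι]

lemma indCo_exists {Δ : Set ι} {j : ι} (hj : j ∈ indCo P Δ) :
    ∃ i ∈ Δ, ∃ ε : ℕ, 0 < ε ∧ P.root j = ε • P.root i ∧ P.coroot i = ε • P.coroot j := by
  have h1 := isAddTorsionFree_weight P
  have h2 := isAddTorsionFree_coweight P
  obtain ⟨i, hi, h | h⟩ := hj
  · obtain ⟨rfl, -⟩ := h
    exact ⟨j, hi, 1, one_pos, by rw [one_smul], by rw [one_smul]⟩
  · refine ⟨i, hi, 2, two_pos, ?_, ?_⟩
    · have := (P.coroot_eq_smul_coroot_iff (i := i) (j := j) (t := 2)).mp h.symm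
      rw [this, ofNat_zsmul]
    · rw [← h, ofNat_zsmul]

lemma exists_indCo {Δ : Set ι} {i : ι} (hi : i ∈ Δ) :
    ∃ j ∈ indCo P Δ, ∃ ε : ℕ, 0 < ε ∧ P.root j = ε • P.root i ∧ P.coroot i = ε • P.coroot j := by
  by_cases hind : IsIndiv P.flip i
  · exact ⟨i, ⟨i, hi, Or.inl ⟨rfl, hind⟩⟩, 1, one_pos, by rw [one_smul], by rw [one_smul]⟩
  · unfold IsIndiv at hind
    push Not at hind
    obtain ⟨j, hj⟩ := hind
    have hj' : (2 : ℤ) • P.coroot j = P.coroot i := hj
    have hmem : j ∈ indCo P Δ := ⟨i, hi, Or.inr hj'⟩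
    obtain ⟨i', hi', ε, hε, h1, h2⟩ := indCo_exists hmem
    have h1' := isAddTorsionFree_weight P
    have h2' := isAddTorsionFree_coweight P
    refine ⟨j, hmem, 2, two_pos, ?_, ?_⟩
    · have := (P.coroot_eq_smul_coroot_iff (i := i) (j := j) (t := 2)).mp hj'.symm
      rw [this, ofNat_zsmul]
    · rw [← hj', ofNat_zsmul]

lemma coroot_mem_natSpan_indCo {Δ : Set ι} {i : ι} (hi : i ∈ Δ) :
    P.coroot i ∈ natSpan P.flip (indCo P Δ) := by
  obtain ⟨j, hj, ε, -, -, h⟩ := exists_indCo (P := P) hi
  rw [h]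
  exact nsmul_mem (root_mem_natSpan P.flip hj) ε

lemma root_mem_natSpan_of_mem_indCo {Δ : Set ι} {j : ι} (hj : j ∈ indCo P Δ) :
    P.root j ∈ natSpan P Δ := by
  obtain ⟨i, hi, ε, -, h, -⟩ := indCo_exists hj
  rw [h]
  exact nsmul_mem (root_mem_natSpan P hi) ε

/-- The roots indexed by `ind(Δ^∨)` are not multipliable. -/
lemma nonmult_of_mem_indCo {Δ : Set ι} {j : ι} (hj : j ∈ indCo P Δ) (k : ι) :
    P.root k ≠ (2 : ℕ) • P.root j := by
  have h1 := isAddTorsionFree_weight P
  have h2 := isAddTorsionFree_coweight P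
  intro hk
  obtain ⟨i, hi, h | h⟩ := hj
  · obtain ⟨rfl, hind⟩ := h
    apply hind k
    change (2 : ℤ) • P.coroot k = P.coroot j
    refine P.smul_coroot_eq_of_root_eq_smul j k 2 ?_
    rw [hk, ofNat_zsmul]
  · have hr : P.root j = (2 : ℤ) • P.root i :=
      (P.coroot_eq_smul_coroot_iff (i := i) (j := j) (t := 2)).mp h.symm
    have : P.root k = (4 : ℕ) • P.root i := by
      rw [hk, hr, ofNat_zsmul, ← mul_smul]
      norm_num
    have := eq_one_or_two_of_root_eq_nsmul this
    omega

/-- Distinct simple roots have non-positive pairing. -/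
lemma pairing_le_zero_of_mem_simpleSys {Δ : Set ι} (hΔ : IsSimpleSys P Δ) {i j : ι} (hi : i ∈ Δ)
    (hj : j ∈ Δ) (hij : i ≠ j) : P.pairing i j ≤ 0 := by
  have hS := isPosSys_posOf hΔ
  have heq : Δ = indec P (posOf P Δ) :=
    simpleSys_eq_of_subset_posSys hS hΔ (isSimpleSys_indec hS) subset_posOf (indec_subset _)
  rw [heq] at hi hj
  exact pairing_le_zero_of_mem_indec hS hi hj hij

/-- The coroots of `ind(Δ^∨)` are linearly independent. -/
theorem linearIndepOn_coroot_indCo {Δ : Set ι} (hΔ : IsSimpleSys P Δ) :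
    LinearIndepOn ℤ P.flip.root (indCo P Δ) := by
  have : Fintype ι := Fintype.ofFinite ι
  have h1' := isAddTorsionFree_weight P
  have h2' := isAddTorsionFree_coweight P
  refine linearIndepOn_of_pairing_le_zero P.flip _ ?_ ?_
  · intro j hj j' hj' hne
    change P.pairing j' j ≤ 0
    obtain ⟨i, hi, ε, hε, hr, hc⟩ := indCo_exists hj
    obtain ⟨i', hi', ε', hε', hr', hc'⟩ := indCo_exists hj'
    have hii : i ≠ i' := by
      rintro rfl
      rcases eq_one_or_two_of_root_eq_nsmul hr with rfl | rfl <;>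
        rcases eq_one_or_two_of_root_eq_nsmul hr' with rfl | rfl
      · exact hne (P.root.injective (hr.trans hr'.symm))
      · rw [one_smul] at hr
        exact nonmult_of_mem_indCo hj j' (by rw [hr', hr])
      · rw [one_smul] at hr'
        exact nonmult_of_mem_indCo hj' j (by rw [hr, hr'])
      · exact hne (P.root.injective (hr.trans hr'.symm))
    have hle : P.pairing i' i ≤ 0 :=
      pairing_le_zero_of_mem_simpleSys hΔ hi' hi (fun h => hii h.symm)
    have e1 : (ε' : ℤ) * P.pairing i' i = (ε : ℤ) * P.pairing j' j := by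
      have : P.pairing j' i = (ε' : ℤ) * P.pairing i' i := by
        rw [← P.root_coroot'_eq_pairing, hr', map_nsmul, P.root_coroot'_eq_pairing,
          nsmul_eq_mul]
      have h2 : P.pairing j' i = (ε : ℤ) * P.pairing j' j := by
        change P.toLinearMap (P.root j') (P.coroot i) = _
        rw [hc, map_nsmul, nsmul_eq_mul]
        rfl
      rw [← this, h2]
    have hε0 : (0 : ℤ) < ε := by exact_mod_cast hε
    have hε'0 : (0 : ℤ) < ε' := by exact_mod_cast hε'
    nlinarith
  · intro j hj hneg
    have hmem : (2 : ℕ) • P.flip.Polarization (-P.flip.root j) ∈ natSpan P Δ :=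
      two_smul_polarization_mem (P := P.flip) (S := indCo P Δ) (C := natSpan P Δ)
        (fun s hs => root_mem_natSpan_of_mem_indCo hs) hneg
    have hmem' : (2 : ℕ) • P.flip.Polarization (P.flip.root j) ∈ natSpan P Δ :=
      two_smul_polarization_mem (P := P.flip) (S := indCo P Δ) (C := natSpan P Δ)
        (fun s hs => root_mem_natSpan_of_mem_indCo hs) (root_mem_natSpan P.flip hj)
    rw [map_neg, smul_neg] at hmem
    have h0 := eq_zero_of_mem_natSpan_of_neg_mem P hΔ.linInd hmem' hmem
    have h3 := P.flip.rootForm_self_smul_coroot j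
    rw [h0] at h3
    have htfN := isTorsionFree_weight P.flip
    have hpos : 0 < P.flip.RootForm (P.flip.root j) (P.flip.root j) :=
      P.flip.rootForm_pos_of_ne_zero (Submodule.subset_span (mem_range_self j)) (P.flip.ne_zero j)
    rcases smul_eq_zero.mp h3 with h4 | h4
    · omega
    · exact P.ne_zero j h4

/-- Every coroot lies in the lattice spanned by `ind(Δ^∨)`. -/
theorem coroot_mem_span_indCo {Δ : Set ι} (hΔ : IsSimpleSys P Δ) (k : ι) :
    P.coroot k ∈ span ℤ (P.flip.root '' indCo P Δ) := by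
  have h1' := isAddTorsionFree_weight P
  have h2' := isAddTorsionFree_coweight P
  set L := span ℤ (P.flip.root '' indCo P Δ) with hL
  have hle : natSpan P.flip (indCo P Δ) ≤ L.toAddSubmonoid :=
    natSpan_le_of_forall P.flip fun j hj => Submodule.subset_span (Set.mem_image_of_mem _ hj)
  have hΔL : ∀ i ∈ Δ, P.coroot i ∈ L := fun i hi => hle (coroot_mem_natSpan_indCo hi)
  have hs : ∀ i ∈ Δ, ∀ k, P.coroot k ∈ L → P.coroot (P.reflectionPerm i k) ∈ L := by
    intro i hi k hk
    rw [P.coroot_reflectionPerm, P.coreflection_apply_coroot]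
    exact Submodule.sub_mem _ hk (Submodule.smul_mem _ _ (hΔL i hi))
  rcases isIndiv_or_exists_two_smul (P := P) k with hind | ⟨j, hjind, hkj⟩
  · obtain ⟨g, hg, i, hi, rfl⟩ := exists_simple_conj hΔ hind
    exact smul_induction_of_mem_closure (p := fun k => P.coroot k ∈ L) hs hg i (hΔL i hi)
  · obtain ⟨g, hg, i, hi, hgi⟩ := exists_simple_conj hΔ hjind
    have hroot : P.root (g⁻¹ • k) = (2 : ℤ) • P.root i := by
      rw [aut_root, hkj, ← hgi, aut_root, smul_comm, inv_smul_smul]
    have hco : P.coroot i = (2 : ℤ) • P.coroot (g⁻¹ • k) :=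
      (P.coroot_eq_smul_coroot_iff (i := i) (j := g⁻¹ • k) (t := 2)).mpr hroot
    have hmem : g⁻¹ • k ∈ indCo P Δ := ⟨i, hi, Or.inr hco.symm⟩
    have hp : P.coroot (g⁻¹ • k) ∈ L := Submodule.subset_span (Set.mem_image_of_mem _ hmem)
    have := smul_induction_of_mem_closure (p := fun k => P.coroot k ∈ L) hs hg _ hp
    rwa [smul_inv_smul] at this

/-- The coroot of a positive root is a non-negative combination of the coroots of `ind(Δ^∨)`. -/
lemma coroot_mem_natSpan_indCo_of_mem_posOf {Δ : Set ι} (hΔ : IsSimpleSys P Δ) {k : ι}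
    (hk : P.root k ∈ natSpan P Δ) : P.coroot k ∈ natSpan P.flip (indCo P Δ) := by
  have : Fintype ι := Fintype.ofFinite ι
  have htf := isTorsionFree_weight P
  have h1 := two_smul_polarization_mem (P := P) (S := Δ) (C := natSpan P.flip (indCo P Δ))
    (fun s hs => coroot_mem_natSpan_indCo hs) hk
  rw [← P.rootForm_self_smul_coroot k] at h1
  have hpos : 0 < P.RootForm (P.root k) (P.root k) :=
    P.rootForm_pos_of_ne_zero (Submodule.subset_span (mem_range_self k)) (P.ne_zero k)
  obtain ⟨n, hn⟩ := Int.eq_ofNat_of_zero_le hpos.le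
  rw [hn, natCast_zsmul] at h1
  have hn0 : 0 < n := by omega
  exact mem_natSpan_of_nsmul_mem (P := P.flip) (linearIndepOn_coroot_indCo hΔ)
    (coroot_mem_span_indCo hΔ k) hn0 h1

/-- `ind(Δ^∨)` is a system of simple roots of the dual root datum. -/
theorem isSimpleSys_flip_indCo {Δ : Set ι} (hΔ : IsSimpleSys P Δ) :
    IsSimpleSys P.flip (indCo P Δ) where
  linInd := linearIndepOn_coroot_indCo hΔ
  mem_or_neg_mem k := by
    rcases hΔ.mem_or_neg_mem k with h | h
    · exact Or.inl (coroot_mem_natSpan_indCo_of_mem_posOf hΔ h)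
    · right
      have h' : P.root (P.reflectionPerm k k) ∈ natSpan P Δ := by rwa [root_neg]
      have := coroot_mem_natSpan_indCo_of_mem_posOf hΔ h'
      have hneg : P.coroot (P.reflectionPerm k k) = -P.coroot k := by
        rw [P.coroot_reflectionPerm, P.coreflection_apply_self]
      rw [hneg] at this
      exact this

/-- Integrality of the coefficients of a coroot along `ind(Δ^∨)`, expressed through the canonical
quadratic form. -/
theorem exists_rootForm_mul_eq [Fintype ι] {Δ : Set ι} (hΔ : IsSimpleSys P Δ) (k : ι) (c : ι →₀ ℤ)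
    (hc : (↑c.support : Set ι) ⊆ Δ) (hck : Finsupp.linearCombination ℤ P.root c = P.root k)
    {i : ι} (hi : i ∈ Δ) :
    ∃ d ε : ℤ, (ε = 1 ∨ ε = 2) ∧ (IsIndiv P.flip i → ε = 1) ∧
      P.RootForm (P.root k) (P.root k) * d = c i * P.RootForm (P.root i) (P.root i) * ε := by
  classical
  have h1' := isAddTorsionFree_weight P
  have h2' := isAddTorsionFree_coweight P
  have htf := isTorsionFree_weight P
  -- choice of the representatives
  have H : ∀ j : ι, ∃ t : ι, ∃ ε : ℕ, j ∈ Δ →
      (t ∈ indCo P Δ ∧ 0 < ε ∧ P.root t = ε • P.root j ∧ P.coroot j = ε • P.coroot t) := by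
    intro j
    by_cases hj : j ∈ Δ
    · obtain ⟨t, ht, ε, h1, h2, h3⟩ := exists_indCo (P := P) hj
      exact ⟨t, ε, fun _ => ⟨ht, h1, h2, h3⟩⟩
    · exact ⟨j, 0, fun h => absurd h hj⟩
  choose t ε ht using H
  have hε12 : ∀ j ∈ Δ, ε j = 1 ∨ ε j = 2 := fun j hj =>
    eq_one_or_two_of_root_eq_nsmul (ht j hj).2.2.1
  have htinj : ∀ j ∈ Δ, ∀ j' ∈ Δ, t j = t j' → j = j' := by
    intro j hj j' hj' h
    have e1 : (ε j : ℤ) • P.root j = (ε j' : ℤ) • P.root j' := by
      rw [natCast_zsmul, natCast_zsmul, ← (ht j hj).2.2.1, ← (ht j' hj').2.2.1, h]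
    have e2 : Finsupp.single j (ε j : ℤ) = Finsupp.single j' (ε j' : ℤ) := by
      refine intCoeff_unique P hΔ.linInd ?_ ?_ ?_
      · intro x hx
        have := Finsupp.support_single_subset hx
        rw [Finset.mem_singleton] at this
        exact this ▸ hj
      · intro x hx
        have := Finsupp.support_single_subset hx
        rw [Finset.mem_singleton] at this
        exact this ▸ hj'
      · rw [Finsupp.linearCombination_single, Finsupp.linearCombination_single, e1]
    have hne : (ε j : ℤ) ≠ 0 := by exact_mod_cast (ht j hj).2.1.ne'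
    rcases (Finsupp.single_eq_single_iff _ _ _ _).mp e2 with h3 | h3
    · exact h3.1
    · exact absurd h3.1 hne
  set ℓ : ι → ℤ := fun j => P.RootForm (P.root j) (P.root j) with hℓ
  -- the coefficients of `coroot k`
  obtain ⟨d, hd, hdk⟩ := (Finsupp.mem_span_image_iff_linearCombination ℤ).mp
    (coroot_mem_span_indCo hΔ k)
  rw [Finsupp.mem_supported] at hd
  -- the other expression
  set e : ι →₀ ℤ := ∑ j ∈ c.support, Finsupp.single (t j) (c j * ℓ j * ε j) with he
  have hesupp : (↑e.support : Set ι) ⊆ indCo P Δ := by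
    intro x hx
    rw [Finset.mem_coe] at hx
    have := Finsupp.support_finsetSum hx
    rw [Finset.mem_biUnion] at this
    obtain ⟨j, hj, hxj⟩ := this
    have := Finsupp.support_single_subset hxj
    rw [Finset.mem_singleton] at this
    rw [this]
    exact (ht j (hc hj)).1
  have hpol : (2 : ℕ) • P.Polarization (P.root k) = ∑ j ∈ c.support, (c j * ℓ j) • P.coroot j := by
    rw [← hck, Finsupp.linearCombination_apply, Finsupp.sum, map_sum, Finset.smul_sum]
    refine Finset.sum_congr rfl fun j _ => ?_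
    rw [map_smul, smul_comm, ← P.rootForm_self_smul_coroot j, mul_smul]
  have helin : Finsupp.linearCombination ℤ P.flip.root e = ℓ k • P.coroot k := by
    rw [he, map_sum]
    simp only [Finsupp.linearCombination_single]
    have : ℓ k • P.coroot k = (2 : ℕ) • P.Polarization (P.root k) :=
      P.rootForm_self_smul_coroot k
    rw [this, hpol]
    refine Finset.sum_congr rfl fun j hj => ?_
    have h3 := (ht j (hc hj)).2.2.2
    change (c j * ℓ j * ε j) • P.coroot (t j) = _
    rw [mul_smul, natCast_zsmul, ← h3]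
  have hdsupp : (↑(ℓ k • d).support : Set ι) ⊆ indCo P Δ := by
    intro j hj
    apply hd
    rw [Finset.mem_coe, Finsupp.mem_support_iff] at hj ⊢
    intro h0
    apply hj
    rw [Finsupp.smul_apply, h0, smul_zero]
  have heq : e = ℓ k • d := by
    refine intCoeff_unique P.flip (linearIndepOn_coroot_indCo hΔ) hesupp hdsupp ?_
    rw [helin, map_smul, hdk]
  have hval : e (t i) = c i * ℓ i * ε i := by
    rw [he, Finsupp.finsetSum_apply]
    by_cases hic : i ∈ c.support
    · rw [Finset.sum_eq_single_of_mem i hic]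
      · rw [Finsupp.single_eq_same]
      · intro j hj hji
        rw [Finsupp.single_apply, if_neg]
        intro h
        exact hji (htinj j (hc hj) i hi h)
    · rw [Finsupp.notMem_support_iff.mp hic, zero_mul, zero_mul]
      refine Finset.sum_eq_zero fun j hj => ?_
      rw [Finsupp.single_apply, if_neg]
      intro h
      have := htinj j (hc hj) i hi h
      exact hic (this ▸ hj)
  refine ⟨d (t i), ε i, ?_, ?_, ?_⟩
  · rcases hε12 i hi with h | h <;> rw [h]
    · left; norm_num
    · right; norm_num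
  · intro hind
    rcases hε12 i hi with h | h
    · rw [h]; norm_num
    · exfalso
      have h3 := (ht i hi).2.2.2
      rw [h] at h3
      apply hind (t i)
      change (2 : ℤ) • P.coroot (t i) = P.coroot i
      rw [h3, ofNat_zsmul]
  · have := DFunLike.congr_fun heq (t i)
    rw [hval, Finsupp.smul_apply, smul_eq_mul] at this
    exact this.symm

end Groth.Agent.Lib.Helper28
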