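import Groth.Agent.Lib.Helper28.RootHeight

/-!
Generation of the Weyl group by simple reflections; conjugacy of indivisible roots to simple roots.
-/

set_option autoImplicit false

namespace Groth.Agent.Lib.Helper28

open RootPairing Module Submodule Set RootD

variable {ι M N : Type*} [AddCommGroup M] [AddCommGroup N] {P : RootPairing ι ℤ M N}

/-- `u s_α u⁻¹ = s_{u(α)}`. -/
lemma conj_reflection (u : P.Aut) (i : ι) :
    u * Equiv.reflection P i * u⁻¹ = Equiv.reflection P (u • i) := by
  apply Equiv.weightHom_injective
  ext x
  simp only [map_mul, Equiv.weightHom_apply, LinearEquiv.mul_apply, Equiv.reflection_weightEquiv]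
  obtain ⟨y, rfl⟩ : ∃ y, x = Equiv.weightEquiv P P u y := ⟨(Equiv.weightEquiv P P u).symm x, by simp⟩
  have h1 : (Equiv.weightEquiv P P u⁻¹) ((Equiv.weightEquiv P P u) y) = y := by
    rw [Equiv.weightEquiv_inv]; simp
  rw [h1, RootPairing.reflection_apply, RootPairing.reflection_apply, map_sub, map_smul]
  have h2 : (Equiv.weightEquiv P P u) (P.root i) = P.root (u • i) := by
    rw [Equiv.weightEquiv_apply]
    exact Hom.root_weightMap_apply P P i u.toHom
  rw [h2]
  congr 2
  change P.toLinearMap y (P.coroot i) = P.toLinearMap (u.weightMap y) (P.coroot (u • i))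
  rw [aut_pairing_weightMap, aut_coweightMap_coroot_smul]

lemma reflection_eq_of_forall (i j : ι)
    (h : ∀ x : M, P.coroot' i x • P.root i = P.coroot' j x • P.root j) :
    Equiv.reflection P i = Equiv.reflection P j := by
  apply Equiv.weightHom_injective
  ext x
  simp only [Equiv.weightHom_apply, Equiv.reflection_weightEquiv]
  rw [RootPairing.reflection_apply, RootPairing.reflection_apply, h x]

variable [Finite ι]

/-- The reflections in `α` and `2α` coincide. -/
lemma reflection_eq_of_root_eq_two_smul {j k : ι} (h : P.root k = (2 : ℤ) • P.root j) :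
    Equiv.reflection P k = Equiv.reflection P j := by
  have := isAddTorsionFree_coweight P
  have hco : (2 : ℤ) • P.coroot k = P.coroot j := P.smul_coroot_eq_of_root_eq_smul j k 2 h
  refine reflection_eq_of_forall k j fun x => ?_
  have h2 : P.coroot' j x = 2 * P.coroot' k x := by
    change P.toLinearMap x (P.coroot j) = 2 * P.toLinearMap x (P.coroot k)
    rw [← hco, map_smul, smul_eq_mul]
  rw [h2, h, smul_smul, mul_comm]

omit [Finite ι] in
/-- The reflections in `α` and `-α` coincide. -/
lemma reflection_neg (k : ι) :
    Equiv.reflection P (P.reflectionPerm k k) = Equiv.reflection P k := by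
  refine reflection_eq_of_forall _ k fun x => ?_
  have h2 : P.coroot' (P.reflectionPerm k k) x = -P.coroot' k x := by
    change P.toLinearMap x (P.coroot (P.reflectionPerm k k)) = -P.toLinearMap x (P.coroot k)
    rw [P.coroot_reflectionPerm, P.coreflection_apply_self, map_neg]
  rw [h2, root_neg, neg_smul, smul_neg, neg_neg]

omit [Finite ι] in
lemma isIndiv_smul (u : P.Aut) {k : ι} (h : IsIndiv P k) : IsIndiv P (u • k) := by
  intro j hj
  apply h (u⁻¹ • j)
  rw [aut_root, ← smul_comm, hj, ← aut_root, inv_smul_smul]

omit [Finite ι] in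
lemma isIndiv_neg {k : ι} (h : IsIndiv P k) : IsIndiv P (P.reflectionPerm k k) := by
  intro j hj
  apply h (P.reflectionPerm j j)
  rw [root_neg, smul_neg, hj, root_neg, neg_neg]

/-- Every indivisible positive root is conjugate to a simple root under the group generated by the
simple reflections. -/
lemma exists_simple_conj_of_pos {Δ : Set ι} (hΔ : IsSimpleSys P Δ) :
    ∀ (n : ℕ) (k : ι), k ∈ posOf P Δ → height hΔ k = n → IsIndiv P k →
      ∃ g ∈ Subgroup.closure ((fun i : ι => Equiv.reflection P i) '' Δ), ∃ i ∈ Δ, g • i = k := by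
  intro n
  induction n using Nat.strong_induction_on with
  | _ n ih =>
    intro k hk hn hind
    by_cases hkΔ : k ∈ Δ
    · exact ⟨1, one_mem _, k, hkΔ, one_smul _ _⟩
    · obtain ⟨j, hj, hpos, -⟩ := exists_simple_add_of_mem_posOf hΔ hk hkΔ
      have hpos' : 0 < P.pairing k j := (pairing_pos_iff j k).mp hpos
      have hmem : P.reflectionPerm j k ∈ posOf P Δ := by
        rcases reflectionPerm_mem_posOf_or hΔ hj hk with h | ⟨m, hm⟩
        · exact h
        · exfalso
          rcases eq_one_or_two_of_root_eq_nsmul hm with rfl | rfl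
          · rw [one_smul] at hm
            exact hkΔ (P.root.injective hm ▸ hj)
          · apply hind j
            rw [hm, ofNat_zsmul]
      have hht : height hΔ (P.reflectionPerm j k) = height hΔ k - P.pairing k j := by
        rw [height_reflectionPerm, height_simple hΔ hj, mul_one]
      have hht0 := height_pos_of_mem_posOf hΔ hmem
      obtain ⟨g, hg, i, hi, hgi⟩ := ih (height hΔ (P.reflectionPerm j k)).toNat (by omega)
        (P.reflectionPerm j k) hmem (by omega) (by
          have := isIndiv_smul (Equiv.reflection P j) hind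
          rwa [reflection_smul_idx] at this)
      refine ⟨Equiv.reflection P j * g,
        mul_mem (Subgroup.subset_closure (Set.mem_image_of_mem _ hj)) hg, i, hi, ?_⟩
      rw [mul_smul, hgi, reflection_smul_idx, P.reflectionPerm_self]

/-- Every indivisible root is conjugate to a simple root under the group generated by the simple
reflections. -/
theorem exists_simple_conj {Δ : Set ι} (hΔ : IsSimpleSys P Δ) {k : ι} (hind : IsIndiv P k) :
    ∃ g ∈ Subgroup.closure ((fun i : ι => Equiv.reflection P i) '' Δ), ∃ i ∈ Δ, g • i = k := by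
  rcases (isPosSys_posOf hΔ).cover k with hk | hk
  · have h0 := height_pos_of_mem_posOf hΔ hk
    exact exists_simple_conj_of_pos hΔ (height hΔ k).toNat k hk (by omega) hind
  · have h0 := height_pos_of_mem_posOf hΔ hk
    obtain ⟨g, hg, i, hi, hgi⟩ := exists_simple_conj_of_pos hΔ _ _ hk
      (Int.toNat_of_nonneg h0.le).symm (isIndiv_neg hind)
    refine ⟨g * Equiv.reflection P i,
      mul_mem hg (Subgroup.subset_closure (Set.mem_image_of_mem _ hi)), i, hi, ?_⟩
    rw [mul_smul, reflection_smul_idx, aut_smul_neg, hgi]
    apply P.root.injective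
    rw [root_neg, root_neg, neg_neg]

omit [Finite ι] in
/-- Every root is indivisible or twice an indivisible root. -/
lemma isIndiv_or_exists_two_smul (k : ι) :
    IsIndiv P k ∨ ∃ j, IsIndiv P j ∧ P.root k = (2 : ℤ) • P.root j := by
  by_cases h : IsIndiv P k
  · exact Or.inl h
  · right
    unfold IsIndiv at h
    push Not at h
    obtain ⟨j, hj⟩ := h
    refine ⟨j, ?_, hj.symm⟩
    intro j' hj'
    have h4 : P.root k = 4 • P.root j' := by
      rw [← hj, ← hj', smul_smul, ← natCast_zsmul]; norm_num
    rcases eq_one_or_two_of_root_eq_nsmul h4 with h | h <;> omega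

/-- Every reflection lies in the subgroup generated by the simple reflections. -/
theorem reflection_mem_closure_simple {Δ : Set ι} (hΔ : IsSimpleSys P Δ) (k : ι) :
    Equiv.reflection P k ∈ Subgroup.closure ((fun i : ι => Equiv.reflection P i) '' Δ) := by
  have key : ∀ j, IsIndiv P j →
      Equiv.reflection P j ∈ Subgroup.closure ((fun i : ι => Equiv.reflection P i) '' Δ) := by
    intro j hj
    obtain ⟨g, hg, i, hi, hgi⟩ := exists_simple_conj hΔ hj
    rw [← hgi, ← conj_reflection]
    exact mul_mem (mul_mem hg (Subgroup.subset_closure (Set.mem_image_of_mem _ hi)))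
      (inv_mem hg)
  rcases isIndiv_or_exists_two_smul (P := P) k with h | ⟨j, hj, hkj⟩
  · exact key k h
  · rw [reflection_eq_of_root_eq_two_smul hkj]
    exact key j hj

/-- The simple reflections generate the Weyl group. -/
theorem closure_simple_reflections {Δ : Set ι} (hΔ : IsSimpleSys P Δ) :
    Subgroup.closure ((fun i : ι => Equiv.reflection P i) '' Δ) = P.weylGroup := by
  apply le_antisymm
  · rw [Subgroup.closure_le]
    rintro - ⟨i, -, rfl⟩
    exact P.reflection_mem_weylGroup i
  · unfold RootPairing.weylGroup
    rw [Subgroup.closure_le]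
    rintro - ⟨k, rfl⟩
    exact reflection_mem_closure_simple hΔ k

end Groth.Agent.Lib.Helper28
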