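import Groth.Agent.Lib.Helper28.RootWeyl

/-!
Coefficients and height of roots along a simple system.
-/

set_option autoImplicit false

namespace Groth.Agent.Lib.Helper28

open RootPairing Module Submodule Set RootD

variable {ι M N : Type*} [AddCommGroup M] [AddCommGroup N] {P : RootPairing ι ℤ M N}

section Coeff

lemma exists_coeff {Δ : Set ι} (hΔ : IsSimpleSys P Δ) (k : ι) :
    ∃ c : ι →₀ ℤ, (↑c.support : Set ι) ⊆ Δ ∧ Finsupp.linearCombination ℤ P.root c = P.root k := by
  rcases hΔ.mem_or_neg_mem k with h | h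
  · obtain ⟨c, hc, -, hck⟩ := exists_int_coeff_of_mem_natSpan P h
    exact ⟨c, hc, hck⟩
  · obtain ⟨c, hc, -, hck⟩ := exists_int_coeff_of_mem_natSpan P h
    refine ⟨-c, by rwa [Finsupp.support_neg], ?_⟩
    rw [map_neg, hck, neg_neg]

/-- The coefficient vector of a root along a simple system. -/
noncomputable def coeff {Δ : Set ι} (hΔ : IsSimpleSys P Δ) (k : ι) : ι →₀ ℤ :=
  Classical.choose (exists_coeff hΔ k)

lemma coeff_support {Δ : Set ι} (hΔ : IsSimpleSys P Δ) (k : ι) :
    (↑(coeff hΔ k).support : Set ι) ⊆ Δ :=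
  (Classical.choose_spec (exists_coeff hΔ k)).1

lemma coeff_linearCombination {Δ : Set ι} (hΔ : IsSimpleSys P Δ) (k : ι) :
    Finsupp.linearCombination ℤ P.root (coeff hΔ k) = P.root k :=
  (Classical.choose_spec (exists_coeff hΔ k)).2

lemma coeff_eq {Δ : Set ι} (hΔ : IsSimpleSys P Δ) {k : ι} {c : ι →₀ ℤ}
    (hc : (↑c.support : Set ι) ⊆ Δ) (h : Finsupp.linearCombination ℤ P.root c = P.root k) :
    coeff hΔ k = c :=
  intCoeff_unique P hΔ.linInd (coeff_support hΔ k) hc ((coeff_linearCombination hΔ k).trans h.symm)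

lemma coeff_apply_eq_zero {Δ : Set ι} (hΔ : IsSimpleSys P Δ) (k : ι) {j : ι} (hj : j ∉ Δ) :
    coeff hΔ k j = 0 := by
  by_contra h
  exact hj (coeff_support hΔ k (Finsupp.mem_support_iff.mpr h))

lemma coeff_simple {Δ : Set ι} (hΔ : IsSimpleSys P Δ) {i : ι} (hi : i ∈ Δ) :
    coeff hΔ i = Finsupp.single i 1 := by
  classical
  refine coeff_eq hΔ ?_ (by simp)
  intro j hj
  have := Finsupp.support_single_subset hj
  rw [Finset.mem_singleton] at this
  rw [this]; exact hi

lemma coeff_neg {Δ : Set ι} (hΔ : IsSimpleSys P Δ) (k : ι) :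
    coeff hΔ (P.reflectionPerm k k) = -coeff hΔ k := by
  refine coeff_eq hΔ ?_ ?_
  · rw [Finsupp.support_neg]; exact coeff_support hΔ k
  · rw [map_neg, coeff_linearCombination, root_neg]

lemma support_add_subset {Δ : Set ι} {c d : ι →₀ ℤ} (hc : (↑c.support : Set ι) ⊆ Δ)
    (hd : (↑d.support : Set ι) ⊆ Δ) : (↑(c + d).support : Set ι) ⊆ Δ := by
  classical
  intro j hj
  rcases Finset.mem_union.mp (Finsupp.support_add hj) with h | h
  · exact hc h
  · exact hd h

lemma support_smul_subset {Δ : Set ι} {c : ι →₀ ℤ} (hc : (↑c.support : Set ι) ⊆ Δ) (a : ℤ) :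
    (↑(a • c).support : Set ι) ⊆ Δ := fun _ hj => hc (Finsupp.support_smul hj)

lemma support_sub_subset {Δ : Set ι} {c d : ι →₀ ℤ} (hc : (↑c.support : Set ι) ⊆ Δ)
    (hd : (↑d.support : Set ι) ⊆ Δ) : (↑(c - d).support : Set ι) ⊆ Δ := by
  rw [sub_eq_add_neg]
  exact support_add_subset hc (by rwa [Finsupp.support_neg])

lemma coeff_add {Δ : Set ι} (hΔ : IsSimpleSys P Δ) {i j k : ι}
    (h : P.root k = P.root i + P.root j) : coeff hΔ k = coeff hΔ i + coeff hΔ j := by
  refine coeff_eq hΔ (support_add_subset (coeff_support hΔ i) (coeff_support hΔ j)) ?_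
  rw [map_add, coeff_linearCombination, coeff_linearCombination, h]

lemma coeff_reflectionPerm {Δ : Set ι} (hΔ : IsSimpleSys P Δ) (i k : ι) :
    coeff hΔ (P.reflectionPerm i k) = coeff hΔ k - P.pairing k i • coeff hΔ i := by
  refine coeff_eq hΔ (support_sub_subset (coeff_support hΔ k)
    (support_smul_subset (coeff_support hΔ i) _)) ?_
  rw [map_sub, map_smul, coeff_linearCombination, coeff_linearCombination,
    P.root_reflectionPerm, P.reflection_apply_root]

lemma mem_posOf_iff_coeff_nonneg {Δ : Set ι} (hΔ : IsSimpleSys P Δ) (k : ι) :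
    k ∈ posOf P Δ ↔ ∀ j, 0 ≤ coeff hΔ k j := by
  constructor
  · intro hk
    obtain ⟨c, hc, hc0, hck⟩ := exists_int_coeff_of_mem_natSpan P hk
    rw [coeff_eq hΔ hc hck]
    exact hc0
  · intro h
    have := linearCombination_mem_natSpan_of_nonneg P (coeff hΔ k) (coeff_support hΔ k) h
    rwa [coeff_linearCombination] at this

lemma coeff_nonneg_or_nonpos {Δ : Set ι} (hΔ : IsSimpleSys P Δ) (k : ι) :
    (∀ j, 0 ≤ coeff hΔ k j) ∨ (∀ j, coeff hΔ k j ≤ 0) := by
  rcases (isPosSys_posOf hΔ).cover k with h | h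
  · exact Or.inl ((mem_posOf_iff_coeff_nonneg hΔ k).mp h)
  · right
    intro j
    have := (mem_posOf_iff_coeff_nonneg hΔ _).mp h j
    rw [coeff_neg, Finsupp.neg_apply] at this
    omega

lemma coeff_ne_zero {Δ : Set ι} (hΔ : IsSimpleSys P Δ) (k : ι) : coeff hΔ k ≠ 0 := by
  intro h
  have := coeff_linearCombination hΔ k
  rw [h, map_zero] at this
  exact P.ne_zero k this.symm

/-- A root with one positive coefficient is positive. -/
lemma mem_posOf_of_coeff_pos {Δ : Set ι} (hΔ : IsSimpleSys P Δ) {k j : ι}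
    (h : 0 < coeff hΔ k j) : k ∈ posOf P Δ := by
  rw [mem_posOf_iff_coeff_nonneg hΔ]
  rcases coeff_nonneg_or_nonpos hΔ k with h' | h'
  · exact h'
  · exact absurd (h' j) (not_le.mpr h)

/-- The height of a root along a simple system: the sum of its coefficients. -/
noncomputable def height {Δ : Set ι} (hΔ : IsSimpleSys P Δ) (k : ι) : ℤ :=
  (coeff hΔ k).sum (fun _ a => a)

lemma height_simple {Δ : Set ι} (hΔ : IsSimpleSys P Δ) {i : ι} (hi : i ∈ Δ) : height hΔ i = 1 := by
  rw [height, coeff_simple hΔ hi]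
  simp

lemma height_neg {Δ : Set ι} (hΔ : IsSimpleSys P Δ) (k : ι) :
    height hΔ (P.reflectionPerm k k) = -height hΔ k := by
  rw [height, height, coeff_neg, Finsupp.sum_neg_index (by simp)]
  simp [Finsupp.sum]

lemma height_add {Δ : Set ι} (hΔ : IsSimpleSys P Δ) {i j k : ι}
    (h : P.root k = P.root i + P.root j) : height hΔ k = height hΔ i + height hΔ j := by
  classical
  rw [height, height, height, coeff_add hΔ h, Finsupp.sum_add_index' (by simp) (by simp)]

lemma height_reflectionPerm {Δ : Set ι} (hΔ : IsSimpleSys P Δ) (i k : ι) :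
    height hΔ (P.reflectionPerm i k) = height hΔ k - P.pairing k i * height hΔ i := by
  classical
  rw [height, height, height, coeff_reflectionPerm, sub_eq_add_neg,
    Finsupp.sum_add_index' (by simp) (by simp), Finsupp.sum_neg_index (by simp),
    Finsupp.sum_smul_index (by simp)]
  simp only [Finsupp.sum, Finset.sum_neg_distrib, smul_eq_mul, Finset.mul_sum]
  ring

lemma height_pos_of_mem_posOf {Δ : Set ι} (hΔ : IsSimpleSys P Δ) {k : ι} (hk : k ∈ posOf P Δ) :
    0 < height hΔ k := by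
  have h0 := (mem_posOf_iff_coeff_nonneg hΔ k).mp hk
  obtain ⟨j, hj⟩ : ∃ j, coeff hΔ k j ≠ 0 := by
    by_contra hcon
    push Not at hcon
    exact coeff_ne_zero hΔ k (Finsupp.ext hcon)
  rw [height, Finsupp.sum]
  refine Finset.sum_pos' (fun i _ => h0 i) ⟨j, Finsupp.mem_support_iff.mpr hj, ?_⟩
  exact lt_of_le_of_ne (h0 j) (Ne.symm hj)

lemma height_pos_iff {Δ : Set ι} (hΔ : IsSimpleSys P Δ) (k : ι) :
    0 < height hΔ k ↔ k ∈ posOf P Δ := by
  refine ⟨fun h => ?_, height_pos_of_mem_posOf hΔ⟩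
  rcases (isPosSys_posOf hΔ).cover k with hk | hk
  · exact hk
  · have := height_pos_of_mem_posOf hΔ hk
    rw [height_neg] at this
    omega

end Coeff

end Groth.Agent.Lib.Helper28
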