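import Groth.Agent.Lib.Helper28.RootBasic

/-!
Irreducible root data (in the sense: no proper nonempty subset which is closed and symmetric with
closed and symmetric complement): a function on roots which agrees on non-orthogonal pairs is
constant.
-/

set_option autoImplicit false

namespace Groth.Agent.Lib.Helper28

open RootPairing Module Submodule Set RootD

variable {ι M N : Type*} [AddCommGroup M] [AddCommGroup N] (P : RootPairing ι ℤ M N)

/-- If `γ = α + β` are roots then `γ` is not orthogonal to `α` or to `β`. -/
lemma pairing_ne_zero_or_of_root_eq_add {i j k : ι} (h : P.root k = P.root i + P.root j) :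
    P.pairing i k ≠ 0 ∨ P.pairing j k ≠ 0 := by
  by_contra hcon
  push Not at hcon
  have h1 : P.pairing k k = P.pairing i k + P.pairing j k := by
    simp only [← P.root_coroot'_eq_pairing]
    rw [h, map_add]
  rw [P.pairing_same, hcon.1, hcon.2] at h1
  norm_num at h1

/-- In an irreducible root datum, a function on the roots taking the same value on any two
non-orthogonal roots is constant. -/
theorem const_of_irreducible
    (hirr : ∀ R' : Set ι, RootD.IsClosedSub P R' → RootD.IsSymmSub P R' → RootD.IsClosedSub P R'ᶜ →
      RootD.IsSymmSub P R'ᶜ → R' = ∅ ∨ R' = Set.univ)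
    {X : Type*} (c : ι → X) (hc : ∀ i j : ι, P.pairing i j ≠ 0 → c i = c j) (i j : ι) :
    c i = c j := by
  have hneg : ∀ k : ι, c (P.reflectionPerm k k) = c k := by
    intro k
    apply hc
    rw [pairing_neg_left, P.pairing_same]
    norm_num
  set R₁ : Set ι := {k | c k = c i} with hR₁
  have hadd : ∀ a b k : ι, P.root k = P.root a + P.root b → c k = c a ∨ c k = c b := by
    intro a b k h
    rcases pairing_ne_zero_or_of_root_eq_add P h with h1 | h1
    · exact Or.inl (hc a k h1).symm
    · exact Or.inr (hc b k h1).symm
  have h1 : RootD.IsClosedSub P R₁ := by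
    intro a b k ha hb h
    rcases hadd a b k h with h2 | h2
    · exact h2.trans ha
    · exact h2.trans hb
  have h2 : RootD.IsSymmSub P R₁ := by
    intro a ha
    exact (hneg a).trans ha
  have h3 : RootD.IsClosedSub P R₁ᶜ := by
    intro a b k ha hb h hk
    rcases hadd a b k h with h2 | h2
    · exact ha (h2.symm.trans hk)
    · exact hb (h2.symm.trans hk)
  have h4 : RootD.IsSymmSub P R₁ᶜ := by
    intro a ha ha'
    exact ha ((hneg a).symm.trans ha')
  rcases hirr R₁ h1 h2 h3 h4 with h | h
  · exfalso
    have : i ∈ R₁ := rfl
    rw [h] at this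
    exact this
  · have : j ∈ R₁ := by rw [h]; trivial
    exact this.symm

end Groth.Agent.Lib.Helper28
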