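import Groth.Agent.Lib.Helper28.RootPMorSys
import Groth.Agent.Lib.Helper28.RootHeight
import Groth.Agent.Lib.Helper28.RootDual

/-!
Transport of bases along an isogeny of reduced root data, using only the relation on roots:
`f (P'.root (u i)) = q i • P.root i` with `f` injective and `q i > 0`.
-/

set_option autoImplicit false
set_option linter.unusedSectionVars false

namespace Groth.Agent.Lib.Helper28

open RootPairing Module Submodule Set RootD

section Single

variable {ι M N : Type*} [AddCommGroup M] [AddCommGroup N] {P : RootPairing ι ℤ M N}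

/-- If a positive multiple of a simple root is a positive combination of two positive roots, both
are that simple root. -/
lemma eq_simple_of_smul_eq_add [Finite ι] [P.IsReduced] {Δ : Set ι} (hΔ : IsSimpleSys P Δ) {s j k : ι}
    (hs : s ∈ Δ) (hj : j ∈ posOf P Δ) (hk : k ∈ posOf P Δ) {a b c : ℤ} (hb : 0 < b) (hc : 0 < c)
    (h : a • P.root s = b • P.root j + c • P.root k) : j = s := by
  classical
  have hcj := (mem_posOf_iff_coeff_nonneg hΔ j).mp hj
  have hck := (mem_posOf_iff_coeff_nonneg hΔ k).mp hk
  have heq : a • (Finsupp.single s (1 : ℤ)) = b • coeff hΔ j + c • coeff hΔ k := by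
    refine intCoeff_unique P hΔ.linInd ?_ ?_ ?_
    · intro t ht
      have h1 := Finsupp.support_smul ht
      have h2 := Finsupp.support_single_subset h1
      rw [Finset.mem_singleton] at h2
      rw [h2]; exact hs
    · exact support_add_subset (support_smul_subset (coeff_support hΔ j) _)
        (support_smul_subset (coeff_support hΔ k) _)
    · rw [map_smul, map_add, map_smul, map_smul, coeff_linearCombination, coeff_linearCombination]
      simpa using h
  have hzero : ∀ t, t ≠ s → coeff hΔ j t = 0 := by
    intro t hts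
    have h1 := DFunLike.congr_fun heq t
    simp only [Finsupp.smul_apply, Finsupp.add_apply, Finsupp.single_apply, if_neg (Ne.symm hts),
      smul_eq_mul, mul_zero] at h1
    have h2 := hcj t
    have h3 := hck t
    have h4 : 0 ≤ c * coeff hΔ k t := mul_nonneg hc.le h3
    have h5 : b * coeff hΔ j t ≤ 0 := by linarith
    by_contra hne
    have h6 : 0 < coeff hΔ j t := lt_of_le_of_ne h2 (Ne.symm hne)
    have h7 : 0 < b * coeff hΔ j t := mul_pos hb h6
    linarith
  have hcoef : coeff hΔ j = coeff hΔ j s • Finsupp.single s (1 : ℤ) := by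
    ext t
    by_cases hts : t = s
    · subst hts; simp
    · rw [hzero t hts]; simp [Ne.symm hts]
  have hroot : P.root j = coeff hΔ j s • P.root s := by
    have := coeff_linearCombination hΔ j
    rw [hcoef, map_smul] at this
    simpa using this.symm
  have hpos : 0 < coeff hΔ j s := by
    rcases (hcj s).lt_or_eq with h1 | h1
    · exact h1
    · exfalso
      rw [← h1, zero_smul] at hroot
      exact P.ne_zero j hroot
  have := eq_of_smul_root_eq_smul_root P (a := 1) (b := coeff hΔ j s) one_pos hpos
    (by rw [one_smul]; exact hroot)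
  exact this.1

/-- In a reduced root datum no coroot is twice a coroot. -/
lemma two_smul_coroot_ne [Finite ι] [P.IsReduced] (i j : ι) : (2 : ℤ) • P.coroot j ≠ P.coroot i := by
  have htf := isTorsionFree_coweight P
  have htfM := isTorsionFree_weight P
  intro h
  have := eq_of_smul_root_eq_smul_root P.flip (a := 2) (b := 1) (k := j) (l := i) (by norm_num)
    one_pos (by rw [one_smul]; exact h)
  omega

lemma indCo_eq_self [Finite ι] [P.IsReduced] (Δ : Set ι) : indCo P Δ = Δ := by
  ext j
  constructor
  · rintro ⟨i, hi, (⟨rfl, -⟩ | h)⟩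
    · exact hi
    · exact absurd h (two_smul_coroot_ne (P := P) i j)
  · intro hj
    exact ⟨j, hj, Or.inl ⟨rfl, fun k => two_smul_coroot_ne (P := P) j k⟩⟩

/-- In a reduced root datum a simple system of roots gives a simple system of coroots. -/
theorem isSimpleSys_flip [Finite ι] [P.IsReduced] {Δ : Set ι} (hΔ : IsSimpleSys P Δ) :
    IsSimpleSys P.flip Δ := by
  have := isSimpleSys_flip_indCo hΔ
  rwa [indCo_eq_self] at this

/-- A base from a simple system of a reduced root datum. -/
noncomputable def baseOfSimpleSys [Finite ι] [P.IsReduced] (s : Finset ι)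
    (hΔ : IsSimpleSys P (↑s : Set ι)) : P.Base where
  support := s
  linearIndepOn_root := hΔ.linInd
  linearIndepOn_coroot := (isSimpleSys_flip hΔ).linInd
  root_mem_or_neg_mem := hΔ.mem_or_neg_mem
  coroot_mem_or_neg_mem := (isSimpleSys_flip hΔ).mem_or_neg_mem

lemma isSimpleSys_of_base (b : P.Base) : IsSimpleSys P (↑b.support : Set ι) where
  linInd := b.linearIndepOn_root
  mem_or_neg_mem := b.root_mem_or_neg_mem

end Single

section Isog

variable {ι M N ι' M' N' : Type*} [AddCommGroup M] [AddCommGroup N] [AddCommGroup M']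
  [AddCommGroup N'] {P : RootPairing ι ℤ M N} {P' : RootPairing ι' ℤ M' N'}
  {f : M' →ₗ[ℤ] M} (hf : Function.Injective f)
  {u : ι ≃ ι'} {q : ι → ℕ} (hq : ∀ i, 0 < q i)
  (hroot : ∀ i : ι, f (P'.root (u i)) = (q i : ℤ) • P.root i)

include hf hq hroot in
lemma isog_neg [P.IsReduced] (i : ι) :
    u (P.reflectionPerm i i) = P'.reflectionPerm (u i) (u i) := by
  set k' := P'.reflectionPerm (u i) (u i) with hk'
  set k := u.symm k' with hk
  have huk : u k = k' := u.apply_symm_apply k'
  have h1 : f (P'.root k') = (q i : ℤ) • P.root (P.reflectionPerm i i) := by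
    rw [hk', root_neg, map_neg, hroot, root_neg, smul_neg]
  have h2 : f (P'.root k') = (q k : ℤ) • P.root k := by rw [← huk, hroot]
  have h3 := eq_of_smul_root_eq_smul_root P (by exact_mod_cast hq k) (by exact_mod_cast hq i)
    (h2.symm.trans h1)
  rw [← h3.1, huk]

include hf hq hroot in
theorem isog_isPosSys_image [P.IsReduced] {S : Set ι} (hS : IsPosSys P S) :
    IsPosSys P' (u '' S) where
  disjoint := by
    rintro _ ⟨i, hi, rfl⟩ ⟨j, hj, hji⟩
    rw [← isog_neg hf hq hroot i] at hji
    exact hS.disjoint hi (u.injective hji ▸ hj)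
  cover := by
    intro i'
    obtain ⟨i, rfl⟩ := u.surjective i'
    rcases hS.cover i with h | h
    · exact Or.inl ⟨i, h, rfl⟩
    · exact Or.inr ⟨_, h, isog_neg hf hq hroot i⟩
  sat := by
    intro k' n hn hk'
    obtain ⟨k, rfl⟩ := u.surjective k'
    have := pmor_map_natSpan hroot S hk'
    rw [map_nsmul, hroot, natCast_zsmul, ← mul_smul] at this
    exact ⟨k, hS.sat (n * q k) (Nat.mul_pos hn (hq k)) this, rfl⟩

include hf hq hroot in
theorem isog_isSimpleSys_image [Finite ι] [Finite ι'] [P.IsReduced] [P'.IsReduced] {Δ : Set ι}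
    (hΔ : IsSimpleSys P Δ) : IsSimpleSys P' (u '' Δ) := by
  classical
  have hS : IsPosSys P (posOf P Δ) := isPosSys_posOf hΔ
  have hS' : IsPosSys P' (u '' posOf P Δ) := isog_isPosSys_image hf hq hroot hS
  have hΔ' : IsSimpleSys P' (indec P' (u '' posOf P Δ)) := isSimpleSys_indec hS'
  suffices h : u '' Δ = indec P' (u '' posOf P Δ) by rw [h]; exact hΔ'
  have hA : u '' Δ ⊆ indec P' (u '' posOf P Δ) := by
    rintro _ ⟨s, hs, rfl⟩
    refine ⟨⟨s, subset_posOf hs, rfl⟩, ?_⟩
    rintro _ ⟨j, hj, rfl⟩ _ ⟨k, hk, rfl⟩ hsum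
    have h1 := congrArg f hsum
    rw [map_add, hroot, hroot, hroot] at h1
    have hqj : (0 : ℤ) < q j := by exact_mod_cast hq j
    have hqk : (0 : ℤ) < q k := by exact_mod_cast hq k
    have hjs : j = s := eq_simple_of_smul_eq_add hΔ hs hj hk hqj hqk h1
    have hks : k = s := eq_simple_of_smul_eq_add hΔ hs hk hj hqk hqj (by rw [h1, add_comm])
    rw [hjs, hks] at hsum
    have : P'.root (u s) = 0 := by
      have h2 : P'.root (u s) + 0 = P'.root (u s) + P'.root (u s) := by rw [add_zero]; exact hsum
      exact (add_left_cancel h2).symm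
    exact P'.ne_zero _ this
  apply Set.Subset.antisymm hA
  intro i' hi'
  obtain ⟨a, ha, rfl⟩ := indec_subset _ hi'
  by_contra hna
  have haΔ : a ∉ Δ := fun h => hna ⟨a, h, rfl⟩
  -- coefficients of `a`
  set c := coeff hΔ a with hc
  have hcsupp := coeff_support hΔ a
  have hclc := coeff_linearCombination hΔ a
  set Q : ℤ := ∏ s ∈ c.support, (q s : ℤ) with hQ
  have hQpos : 0 < Q := Finset.prod_pos fun s _ => by exact_mod_cast hq s
  have hdvd : ∀ s ∈ c.support, (q s : ℤ) ∣ Q := fun s hs => Finset.dvd_prod_of_mem _ hs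
  -- the relation
  have hrel : Q • P'.root (u a) = ∑ s ∈ c.support, (Q / (q s : ℤ) * (q a : ℤ) * c s) • P'.root (u s) := by
    apply hf
    rw [map_smul, hroot, map_sum]
    have : ∀ s ∈ c.support, f ((Q / (q s : ℤ) * (q a : ℤ) * c s) • P'.root (u s)) =
        (Q * (q a : ℤ)) • (c s • P.root s) := by
      intro s hs
      rw [map_smul, hroot, smul_smul, smul_smul]
      congr 1
      obtain ⟨r, hr⟩ := hdvd s hs
      have hqs : (q s : ℤ) ≠ 0 := by exact_mod_cast (hq s).ne'
      rw [hr, Int.mul_ediv_cancel_left _ hqs]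
      ring
    rw [Finset.sum_congr rfl this, ← Finset.smul_sum, smul_smul]
    congr 1
    rw [← hclc, Finsupp.linearCombination_apply, Finsupp.sum]
  -- contradiction with linear independence
  have hli := hΔ'.linInd
  rw [linearIndepOn_iff'] at hli
  have hnotmem : u a ∉ c.support.image u := by
    intro h
    obtain ⟨s, hs, hsa⟩ := Finset.mem_image.mp h
    exact haΔ (u.injective hsa ▸ hcsupp hs)
  have := hli (insert (u a) (c.support.image u))
    (fun i' => if i' = u a then Q else -(Q / (q (u.symm i') : ℤ) * (q a : ℤ) * c (u.symm i')))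
    (by
      intro i' hi
      rcases Finset.mem_insert.mp hi with rfl | hi
      · exact hi'
      · obtain ⟨s, hs, rfl⟩ := Finset.mem_image.mp hi
        exact hA ⟨s, hcsupp hs, rfl⟩)
    (by
      rw [Finset.sum_insert hnotmem, if_pos rfl, Finset.sum_image (fun x _ y _ h => u.injective h),
        hrel, ← Finset.sum_add_distrib]
      apply Finset.sum_eq_zero
      intro s hs
      have hne : u s ≠ u a := fun h => hnotmem (h ▸ Finset.mem_image_of_mem u hs)
      rw [if_neg hne, Equiv.symm_apply_apply, neg_smul, add_neg_cancel])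
    (u a) (Finset.mem_insert_self _ _)
  rw [if_pos rfl] at this
  omega

end Isog

end Groth.Agent.Lib.Helper28
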