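import Groth.Agent.Lib.Helper28.RootWeyl

/-!
`p`-morphisms of reduced root data: a pair of transposed maps `f`, `g`, a bijection `u` on roots and
positive exponents `q` with `f (u α) = q α • α` and `g (α^∨) = q α • (u α)^∨`.
-/

set_option autoImplicit false

namespace Groth.Agent.Lib.Helper28

open RootPairing Module Submodule Set RootD

section Reduced

variable {ι M N : Type*} [AddCommGroup M] [AddCommGroup N] (P : RootPairing ι ℤ M N)

/-- In a reduced root datum two roots having proportional positive multiples coincide. -/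
lemma eq_of_smul_root_eq_smul_root [P.IsReduced] {a b : ℤ} (ha : 0 < a) (hb : 0 < b) {k l : ι}
    (h : a • P.root k = b • P.root l) : k = l ∧ a = b := by
  have htf := isTorsionFree_weight P
  have hnli : ¬ LinearIndependent ℤ ![P.root k, P.root l] := by
    rw [LinearIndependent.pair_iff]
    intro hli
    have := hli a (-b) (by rw [neg_smul, h, add_neg_cancel])
    omega
  rcases IsReduced.eq_or_eq_neg (P := P) k l hnli with h1 | h1
  · have hkl : k = l := P.root.injective h1
    refine ⟨hkl, ?_⟩
    subst hkl
    exact smul_left_injective ℤ (P.ne_zero k) h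
  · exfalso
    rw [h1, smul_neg, ← neg_smul] at h
    have := smul_left_injective ℤ (P.ne_zero l) h
    omega

end Reduced

section PMor

variable {ι M N ι' M' N' : Type*} [AddCommGroup M] [AddCommGroup N] [AddCommGroup M']
  [AddCommGroup N'] {P : RootPairing ι ℤ M N} {P' : RootPairing ι' ℤ M' N'}
  {f : M' →ₗ[ℤ] M} {g : N →ₗ[ℤ] N'}
  (hfg : ∀ (m' : M') (n : N), P.toLinearMap (f m') n = P'.toLinearMap m' (g n))
  {u : ι ≃ ι'} {q : ι → ℕ} (hq : ∀ i, 0 < q i)
  (hroot : ∀ i : ι, f (P'.root (u i)) = (q i : ℤ) • P.root i)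
  (hcoroot : ∀ i : ι, g (P.coroot i) = (q i : ℤ) • P'.coroot (u i))

include hfg hroot hcoroot in
/-- Comparison of the Cartan integers along a `p`-morphism. -/
lemma pmor_pairing (i j : ι) :
    (q j : ℤ) * P'.pairing (u i) (u j) = (q i : ℤ) * P.pairing i j := by
  have := hfg (P'.root (u i)) (P.coroot j)
  rw [hroot, hcoroot, map_smul, map_smul, LinearMap.smul_apply] at this
  simp only [smul_eq_mul] at this
  exact this.symm

include hfg hq hroot hcoroot in
/-- A `p`-morphism of reduced root data is compatible with the reflections. -/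
lemma pmor_reflectionPerm [P.IsReduced] (i j : ι) :
    q (P.reflectionPerm i j) = q j ∧ u (P.reflectionPerm i j) = P'.reflectionPerm (u i) (u j) := by
  set k' := P'.reflectionPerm (u i) (u j) with hk'
  set k := u.symm k' with hk
  have huk : u k = k' := u.apply_symm_apply k'
  have h1 : f (P'.root k') = (q j : ℤ) • P.root (P.reflectionPerm i j) := by
    rw [hk', P'.root_reflectionPerm, P'.reflection_apply_root, map_sub, map_smul, hroot, hroot,
      P.root_reflectionPerm, P.reflection_apply_root, smul_sub, smul_smul, smul_smul,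
      mul_comm _ (q i : ℤ), pmor_pairing hfg hroot hcoroot j i]
  have h2 : f (P'.root k') = (q k : ℤ) • P.root k := by rw [← huk, hroot]
  have h3 := eq_of_smul_root_eq_smul_root P (by exact_mod_cast hq k) (by exact_mod_cast hq j)
    (h2.symm.trans h1)
  constructor
  · rw [← h3.1]
    exact_mod_cast h3.2
  · rw [← h3.1, huk]

include hfg hq hroot hcoroot in
/-- The exponents of a `p`-morphism are invariant under the Weyl group. -/
lemma pmor_weyl_q [P.IsReduced] {w : P.Aut} (hw : w ∈ P.weylGroup) (i : ι) : q (w • i) = q i := by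
  induction hw using weylGroup.induction generalizing i with
  | mem j =>
    rw [reflection_smul_idx]
    exact (pmor_reflectionPerm hfg hq hroot hcoroot j i).1
  | one => rw [one_smul]
  | mul x y hx hy ihx ihy => rw [mul_smul, ihx, ihy]

end PMor

section Faithful

variable {ι M N : Type*} [AddCommGroup M] [AddCommGroup N] (P : RootPairing ι ℤ M N)

lemma weylGroupToPerm_apply (w : P.weylGroup) (i : ι) :
    P.weylGroupToPerm w i = (w : P.Aut) • i := rfl

/-- The permutation representation of the Weyl group on the roots is faithful. -/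
lemma weylGroupToPerm_injective [Finite ι] : Function.Injective P.weylGroupToPerm := by
  rw [injective_iff_map_eq_one]
  rintro ⟨w, hw⟩ h
  have : w = 1 := weylGroup_eq_one_of_fix hw (fun i => by
    have := congrArg (fun σ : Equiv.Perm ι => σ i) h
    exact this)
  exact Subtype.ext this

lemma weylGroupToPerm_ofIdx (i : ι) :
    P.weylGroupToPerm (weylGroup.ofIdx P i) = P.reflectionPerm i := by
  ext j
  rw [weylGroupToPerm_apply]
  exact reflection_smul_idx i j

end Faithful

section PMorWeyl

variable {ι M N ι' M' N' : Type*} [AddCommGroup M] [AddCommGroup N] [AddCommGroup M']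
  [AddCommGroup N'] {P : RootPairing ι ℤ M N} {P' : RootPairing ι' ℤ M' N'}
  {f : M' →ₗ[ℤ] M} {g : N →ₗ[ℤ] N'}
  (hfg : ∀ (m' : M') (n : N), P.toLinearMap (f m') n = P'.toLinearMap m' (g n))
  {u : ι ≃ ι'} {q : ι → ℕ} (hq : ∀ i, 0 < q i)
  (hroot : ∀ i : ι, f (P'.root (u i)) = (q i : ℤ) • P.root i)
  (hcoroot : ∀ i : ι, g (P.coroot i) = (q i : ℤ) • P'.coroot (u i))

include hfg hq hroot hcoroot in
lemma pmor_permCongr_reflectionPerm [P.IsReduced] (i : ι) :
    u.permCongrHom (P.reflectionPerm i) = P'.reflectionPerm (u i) := by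
  ext j'
  change u (P.reflectionPerm i (u.symm j')) = _
  rw [(pmor_reflectionPerm hfg hq hroot hcoroot i (u.symm j')).2, Equiv.apply_symm_apply]

include hfg hq hroot hcoroot in
/-- A `p`-morphism of reduced root data induces an isomorphism of Weyl groups. -/
theorem pmor_weylEquiv [Finite ι] [Finite ι'] [P.IsReduced] :
    ∃ ubar : P.weylGroup ≃* P'.weylGroup,
      (∀ i : ι, ubar (weylGroup.ofIdx P i) = weylGroup.ofIdx P' (u i)) ∧
      ∀ (w : P.weylGroup) (i : ι),
        u ((w : P.Aut) • i) = ((ubar w : P'.weylGroup) : P'.Aut) • u i := by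
  set conj : Equiv.Perm ι ≃* Equiv.Perm ι' := u.permCongrHom with hconj
  set Φ : P.weylGroup →* Equiv.Perm ι' := conj.toMonoidHom.comp P.weylGroupToPerm with hΦ
  have hΦinj : Function.Injective Φ := conj.injective.comp (weylGroupToPerm_injective P)
  have himage : (conj.toMonoidHom : Equiv.Perm ι →* Equiv.Perm ι') '' (range P.reflectionPerm) =
      range P'.reflectionPerm := by
    ext σ
    constructor
    · rintro ⟨_, ⟨i, rfl⟩, rfl⟩
      exact ⟨u i, (pmor_permCongr_reflectionPerm hfg hq hroot hcoroot i).symm⟩
    · rintro ⟨i', rfl⟩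
      refine ⟨P.reflectionPerm (u.symm i'), ⟨_, rfl⟩, ?_⟩
      have := pmor_permCongr_reflectionPerm hfg hq hroot hcoroot (u.symm i')
      rw [Equiv.apply_symm_apply] at this
      exact this
  have hrange : Φ.range = P'.weylGroupToPerm.range := by
    rw [hΦ, MonoidHom.range_comp, P.range_weylGroupToPerm, MonoidHom.map_closure, himage,
      P'.range_weylGroupToPerm]
  set e₁ := MonoidHom.ofInjective hΦinj with he₁
  set e₂ := MonoidHom.ofInjective (weylGroupToPerm_injective P') with he₂
  set ubar : P.weylGroup ≃* P'.weylGroup :=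
    e₁.trans ((MulEquiv.subgroupCongr hrange).trans e₂.symm) with hubar
  have hkey : ∀ w : P.weylGroup, P'.weylGroupToPerm (ubar w) = Φ w := by
    intro w
    have h1 : e₂ (ubar w) = (MulEquiv.subgroupCongr hrange) (e₁ w) := by
      simp only [hubar, MulEquiv.trans_apply, MulEquiv.apply_symm_apply]
    have h2 := congrArg (fun x : P'.weylGroupToPerm.range => (x : Equiv.Perm ι')) h1
    simpa only [he₁, he₂, MonoidHom.ofInjective_apply, MulEquiv.subgroupCongr_apply] using h2
  refine ⟨ubar, ?_, ?_⟩
  · intro i
    apply weylGroupToPerm_injective P'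
    rw [hkey, weylGroupToPerm_ofIdx, hΦ, MonoidHom.comp_apply, weylGroupToPerm_ofIdx]
    exact pmor_permCongr_reflectionPerm hfg hq hroot hcoroot i
  · intro w i
    rw [← weylGroupToPerm_apply P' (ubar w), hkey, hΦ, MonoidHom.comp_apply]
    change _ = u (P.weylGroupToPerm w (u.symm (u i)))
    rw [Equiv.symm_apply_apply, weylGroupToPerm_apply]

end PMorWeyl

end Groth.Agent.Lib.Helper28
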