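import Groth.Agent.Lib.Helper28.RootPMor

/-!
Transport of systems of positive roots and of simple roots along a `p`-morphism of reduced root data.
-/

set_option autoImplicit false

namespace Groth.Agent.Lib.Helper28

open RootPairing Module Submodule Set RootD

section SimpleChar

variable {ι M N : Type*} [AddCommGroup M] [AddCommGroup N] {P : RootPairing ι ℤ M N}

/-- Characterisation of the simple roots among the positive ones through their reflections. -/
lemma mem_simpleSys_iff_reflectionPerm [Finite ι] [P.IsReduced] {Δ : Set ι} (hΔ : IsSimpleSys P Δ)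
    {i : ι} (hi : i ∈ posOf P Δ) :
    i ∈ Δ ↔ ∀ j ∈ posOf P Δ, j ≠ i → P.reflectionPerm i j ∈ posOf P Δ := by
  have hatf := isAddTorsionFree_weight P
  constructor
  · intro hiΔ j hj hji
    rcases reflectionPerm_mem_posOf_or hΔ hiΔ hj with h | ⟨n, hn⟩
    · exact h
    · exfalso
      rcases eq_one_or_two_of_root_eq_nsmul hn with rfl | rfl
      · rw [one_smul] at hn
        exact hji (P.root.injective hn)
      · exact P.nsmul_notMem_range_root (n := 2) (i := i) ⟨j, hn⟩
  · intro h
    by_contra hiΔ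
    obtain ⟨j, hjΔ, hpos, l, hl, hil⟩ := exists_simple_add_of_mem_posOf hΔ hi hiΔ
    have hji : j ≠ i := fun h' => hiΔ (h' ▸ hjΔ)
    have hmem := h j (subset_posOf hjΔ) hji
    have hroot : P.root (P.reflectionPerm i j) = P.root j - P.pairing j i • P.root i := by
      rw [P.root_reflectionPerm, P.reflection_apply_root]
    obtain ⟨m, hm⟩ : ∃ m : ℕ, P.pairing j i = (m : ℤ) + 1 :=
      ⟨(P.pairing j i - 1).toNat, by have := hpos; omega⟩
    have hneg : -P.root (P.reflectionPerm i j) ∈ natSpan P Δ := by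
      have : -P.root (P.reflectionPerm i j) = m • P.root j + (m + 1) • P.root l := by
        rw [hroot, hm, hil]
        simp only [add_smul, one_smul, smul_add, natCast_zsmul]
        abel
      rw [this]
      exact add_mem (nsmul_mem (root_mem_natSpan P hjΔ) _) (nsmul_mem hl _)
    have := eq_zero_of_mem_natSpan_of_neg_mem P hΔ.linInd hmem hneg
    exact P.ne_zero _ this

end SimpleChar

section PMorSys

variable {ι M N ι' M' N' : Type*} [AddCommGroup M] [AddCommGroup N] [AddCommGroup M']
  [AddCommGroup N'] {P : RootPairing ι ℤ M N} {P' : RootPairing ι' ℤ M' N'}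
  {f : M' →ₗ[ℤ] M} {g : N →ₗ[ℤ] N'}
  (hfg : ∀ (m' : M') (n : N), P.toLinearMap (f m') n = P'.toLinearMap m' (g n))
  {u : ι ≃ ι'} {q : ι → ℕ} (hq : ∀ i, 0 < q i)
  (hroot : ∀ i : ι, f (P'.root (u i)) = (q i : ℤ) • P.root i)
  (hcoroot : ∀ i : ι, g (P.coroot i) = (q i : ℤ) • P'.coroot (u i))

include hfg hq hcoroot in
/-- The weight map of a `p`-morphism is injective on the root lattice. -/
lemma pmor_injOn_span [Finite ι'] {m' : M'} (hm' : m' ∈ span ℤ (range P'.root)) (h : f m' = 0) :
    m' = 0 := by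
  refine eq_zero_of_mem_span_of_forall_coroot hm' fun k' => ?_
  obtain ⟨k, rfl⟩ := u.surjective k'
  have h1 := hfg m' (P.coroot k)
  rw [h, map_zero, LinearMap.zero_apply, hcoroot, map_smul, smul_eq_mul] at h1
  have hqk : (q k : ℤ) ≠ 0 := by exact_mod_cast (hq k).ne'
  rcases mul_eq_zero.mp h1.symm with h2 | h2
  · exact absurd h2 hqk
  · exact h2

include hroot in
/-- The weight map sends the cone of `u '' S` into the cone of `S`. -/
lemma pmor_map_natSpan (S : Set ι) {x : M'} (hx : x ∈ natSpan P' (u '' S)) : f x ∈ natSpan P S := by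
  induction hx using AddSubmonoid.closure_induction with
  | mem x hx =>
    obtain ⟨_, ⟨i, hi, rfl⟩, rfl⟩ := hx
    rw [hroot, natCast_zsmul]
    exact nsmul_mem (root_mem_natSpan P hi) _
  | zero => rw [map_zero]; exact zero_mem _
  | add x y _ _ ihx ihy => rw [map_add]; exact add_mem ihx ihy

include hroot hq in
/-- Conversely a positive multiple of any element of the cone of `S` comes from the cone of
`u '' S`. -/
lemma pmor_exists_nsmul_mem_map (S : Set ι) {x : M} (hx : x ∈ natSpan P S) :
    ∃ n : ℕ, 0 < n ∧ ∃ y ∈ natSpan P' (u '' S), f y = n • x := by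
  induction hx using AddSubmonoid.closure_induction with
  | mem x hx =>
    obtain ⟨i, hi, rfl⟩ := hx
    refine ⟨q i, hq i, P'.root (u i), root_mem_natSpan P' (Set.mem_image_of_mem _ hi), ?_⟩
    rw [hroot, natCast_zsmul]
  | zero => exact ⟨1, one_pos, 0, zero_mem _, by simp⟩
  | add x y _ _ ihx ihy =>
    obtain ⟨n₁, hn₁, y₁, hy₁, h₁⟩ := ihx
    obtain ⟨n₂, hn₂, y₂, hy₂, h₂⟩ := ihy
    refine ⟨n₁ * n₂, Nat.mul_pos hn₁ hn₂, n₂ • y₁ + n₁ • y₂,
      add_mem (nsmul_mem hy₁ _) (nsmul_mem hy₂ _), ?_⟩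
    rw [map_add, map_nsmul, map_nsmul, h₁, h₂, smul_add, ← mul_smul, ← mul_smul, mul_comm n₂ n₁]

include hfg hq hroot hcoroot in
lemma pmor_neg [P.IsReduced] (i : ι) :
    u (P.reflectionPerm i i) = P'.reflectionPerm (u i) (u i) :=
  (pmor_reflectionPerm hfg hq hroot hcoroot i i).2

include hfg hq hroot hcoroot in
/-- The root bijection of a `p`-morphism carries positive systems to positive systems. -/
theorem pmor_isPosSys_image [P.IsReduced] {S : Set ι} (hS : IsPosSys P S) :
    IsPosSys P' (u '' S) where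
  disjoint := by
    rintro _ ⟨i, hi, rfl⟩ ⟨j, hj, hji⟩
    rw [← pmor_neg hfg hq hroot hcoroot i] at hji
    exact hS.disjoint hi (u.injective hji ▸ hj)
  cover := by
    intro i'
    obtain ⟨i, rfl⟩ := u.surjective i'
    rcases hS.cover i with h | h
    · exact Or.inl ⟨i, h, rfl⟩
    · exact Or.inr ⟨_, h, pmor_neg hfg hq hroot hcoroot i⟩
  sat := by
    intro k' n hn hk'
    obtain ⟨k, rfl⟩ := u.surjective k'
    have := pmor_map_natSpan hroot S hk'
    rw [map_nsmul, hroot, natCast_zsmul, ← mul_smul] at this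
    exact ⟨k, hS.sat (n * q k) (Nat.mul_pos hn (hq k)) this, rfl⟩

include hfg hq hroot hcoroot in
/-- The root bijection of a `p`-morphism reflects positive systems. -/
theorem pmor_isPosSys_of_image [Finite ι'] [P.IsReduced] {S : Set ι}
    (hS : IsPosSys P' (u '' S)) : IsPosSys P S where
  disjoint := by
    intro i hi hi'
    refine hS.disjoint ⟨i, hi, rfl⟩ ?_
    rw [← pmor_neg hfg hq hroot hcoroot i]
    exact ⟨_, hi', rfl⟩
  cover := by
    intro i
    rcases hS.cover (u i) with ⟨j, hj, hji⟩ | ⟨j, hj, hji⟩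
    · exact Or.inl (u.injective hji ▸ hj)
    · rw [← pmor_neg hfg hq hroot hcoroot i] at hji
      exact Or.inr (u.injective hji ▸ hj)
  sat := by
    intro k n hn hk
    obtain ⟨N, hN, y, hy, hfy⟩ := pmor_exists_nsmul_mem_map hq hroot S hk
    have hle : natSpan P' (u '' S) ≤ (span ℤ (range P'.root)).toAddSubmonoid :=
      natSpan_le_of_forall P' fun i _ => Submodule.subset_span (mem_range_self i)
    have hz : (N * n) • P'.root (u k) - q k • y = 0 := by
      refine pmor_injOn_span hfg hq hcoroot ?_ ?_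
      · refine Submodule.sub_mem _ ?_ ?_
        · exact Submodule.smul_of_tower_mem _ _ (Submodule.subset_span (mem_range_self _))
        · exact Submodule.smul_of_tower_mem _ _ (hle hy)
      · rw [map_sub, map_nsmul, map_nsmul, hroot, hfy, natCast_zsmul, ← mul_smul, ← mul_smul,
          ← mul_smul, sub_eq_zero]
        congr 1
        ring
    have hmem : (N * n) • P'.root (u k) ∈ natSpan P' (u '' S) := by
      rw [sub_eq_zero.mp hz]
      exact nsmul_mem hy _
    obtain ⟨j, hj, hjk⟩ := hS.sat (N * n) (Nat.mul_pos hN hn) hmem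
    exact u.injective hjk ▸ hj

include hfg hq hroot hcoroot in
/-- The root bijection of a `p`-morphism carries simple systems to simple systems. -/
theorem pmor_isSimpleSys_image [Finite ι] [Finite ι'] [P.IsReduced] [P'.IsReduced] {Δ : Set ι}
    (hΔ : IsSimpleSys P Δ) : IsSimpleSys P' (u '' Δ) := by
  have hS : IsPosSys P (posOf P Δ) := isPosSys_posOf hΔ
  have hS' : IsPosSys P' (u '' posOf P Δ) := pmor_isPosSys_image hfg hq hroot hcoroot hS
  have hΔ' : IsSimpleSys P' (indec P' (u '' posOf P Δ)) := isSimpleSys_indec hS'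
  have hpos : u '' posOf P Δ = posOf P' (indec P' (u '' posOf P Δ)) :=
    IsPosSys_eq_posOf hS' hΔ' (indec_subset _)
  have hrefl : ∀ i j : ι, u (P.reflectionPerm i j) = P'.reflectionPerm (u i) (u j) := fun i j =>
    (pmor_reflectionPerm hfg hq hroot hcoroot i j).2
  suffices h : u '' Δ = indec P' (u '' posOf P Δ) by rw [h]; exact hΔ'
  apply Set.Subset.antisymm
  · rintro _ ⟨i, hi, rfl⟩
    have hui : u i ∈ posOf P' (indec P' (u '' posOf P Δ)) := by
      rw [← hpos]; exact ⟨i, subset_posOf hi, rfl⟩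
    refine (mem_simpleSys_iff_reflectionPerm hΔ' hui).mpr ?_
    intro j' hj' hne
    rw [← hpos] at hj' ⊢
    obtain ⟨j, hj, rfl⟩ := hj'
    have hji : j ≠ i := fun h => hne (h ▸ rfl)
    refine ⟨P.reflectionPerm i j, ?_, hrefl i j⟩
    exact (mem_simpleSys_iff_reflectionPerm hΔ (subset_posOf hi)).mp hi j hj hji
  · intro i' hi'
    have hi'S : i' ∈ u '' posOf P Δ := indec_subset _ hi'
    obtain ⟨i, hi, rfl⟩ := hi'S
    refine ⟨i, ?_, rfl⟩
    refine (mem_simpleSys_iff_reflectionPerm hΔ hi).mpr ?_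
    intro j hj hji
    have huj : u j ∈ posOf P' (indec P' (u '' posOf P Δ)) := by
      rw [← hpos]; exact ⟨j, hj, rfl⟩
    have hui : u i ∈ posOf P' (indec P' (u '' posOf P Δ)) := by
      rw [← hpos]; exact ⟨i, hi, rfl⟩
    have hne : u j ≠ u i := fun h => hji (u.injective h)
    have := (mem_simpleSys_iff_reflectionPerm hΔ' hui).mp hi' (u j) huj hne
    rw [← hpos, ← hrefl] at this
    obtain ⟨k, hk, hkk⟩ := this
    exact u.injective hkk ▸ hk

include hfg hq hroot hcoroot in
/-- The root bijection of a `p`-morphism reflects simple systems. -/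
theorem pmor_isSimpleSys_of_image [Finite ι] [Finite ι'] [P.IsReduced] [P'.IsReduced] {Δ : Set ι}
    (hΔ' : IsSimpleSys P' (u '' Δ)) : IsSimpleSys P Δ := by
  have hS' : IsPosSys P' (posOf P' (u '' Δ)) := isPosSys_posOf hΔ'
  set S : Set ι := u ⁻¹' posOf P' (u '' Δ) with hSdef
  have hSim : u '' S = posOf P' (u '' Δ) := u.image_preimage _
  have hS : IsPosSys P S := pmor_isPosSys_of_image hfg hq hroot hcoroot (by rw [hSim]; exact hS')
  have hΔ₀ : IsSimpleSys P (indec P S) := isSimpleSys_indec hS
  have h₁ : IsSimpleSys P' (u '' indec P S) := pmor_isSimpleSys_image hfg hq hroot hcoroot hΔ₀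
  have hsub₁ : u '' indec P S ⊆ posOf P' (u '' Δ) := by
    rw [← hSim]
    exact Set.image_mono (indec_subset _)
  have heq := simpleSys_eq_of_subset_posSys hS' h₁ hΔ' hsub₁ subset_posOf
  have : indec P S = Δ := by
    apply Set.image_injective.mpr u.injective
    exact heq
  rw [← this]
  exact hΔ₀

end PMorSys

end Groth.Agent.Lib.Helper28
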