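import Groth.Agent.Lib.Helper28.RootBasic

/-!
Positive systems and simple systems of roots of a root datum (in the sense of `RootD.IsPosSys`,
`RootD.IsSimpleSys`).
-/

set_option autoImplicit false

namespace Groth.Agent.Lib.Helper28

open RootPairing Module Submodule Set RootD

variable {ι M N : Type*} [AddCommGroup M] [AddCommGroup N] (P : RootPairing ι ℤ M N)

section general

/-- A non-zero element of `natSpan S` is a root of `S` plus an element of `natSpan S`. -/
lemma exists_eq_root_add_of_mem_natSpan {S : Set ι} {x : M} (hx : x ∈ natSpan P S) (hx0 : x ≠ 0) :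
    ∃ j ∈ S, ∃ y ∈ natSpan P S, x = P.root j + y := by
  induction hx using AddSubmonoid.closure_induction with
  | mem x hx =>
    obtain ⟨j, hj, rfl⟩ := hx
    exact ⟨j, hj, 0, zero_mem _, by simp⟩
  | zero => exact absurd rfl hx0
  | add x y hx hy ihx ihy =>
    by_cases hx' : x = 0
    · subst hx'
      rw [zero_add] at hx0 ⊢
      exact ihy hx0
    · obtain ⟨j, hj, z, hz, rfl⟩ := ihx hx'
      exact ⟨j, hj, z + y, add_mem hz hy, by abel⟩

/-- A `ℤ`-combination with non-negative coefficients supported in `S` lies in `natSpan S`. -/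
lemma linearCombination_mem_natSpan_of_nonneg {S : Set ι} (c : ι →₀ ℤ)
    (hc : (↑c.support : Set ι) ⊆ S) (h0 : ∀ j, 0 ≤ c j) :
    Finsupp.linearCombination ℤ P.root c ∈ natSpan P S := by
  rw [Finsupp.linearCombination_apply, Finsupp.sum]
  refine sum_mem fun j hj => ?_
  obtain ⟨m, hm⟩ := Int.eq_ofNat_of_zero_le (h0 j)
  rw [hm, natCast_zsmul]
  exact AddSubmonoid.nsmul_mem _ (root_mem_natSpan P (hc hj)) m

/-- An element of `natSpan S` is a `ℤ`-combination with non-negative coefficients supported in `S`. -/
lemma exists_int_coeff_of_mem_natSpan {S : Set ι} {x : M} (hx : x ∈ natSpan P S) :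
    ∃ c : ι →₀ ℤ, (↑c.support : Set ι) ⊆ S ∧ (∀ j, 0 ≤ c j) ∧
      Finsupp.linearCombination ℤ P.root c = x := by
  obtain ⟨c, hc, rfl⟩ := (mem_natSpan_iff P S x).mp hx
  refine ⟨natToInt c, by rwa [support_natToInt], fun j => by simp, linearCombination_natToInt P c⟩

end general

variable [Finite ι]

omit [Finite ι] in
/-- If a root is a non-negative integer combination of roots, one of them (with non-zero
coefficient) pairs positively with it. -/
lemma exists_pairing_pos_of_linearCombination (c : ι →₀ ℕ) (k : ι)
    (h : Finsupp.linearCombination ℕ P.root c = P.root k) :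
    ∃ j ∈ c.support, 0 < P.pairing j k := by
  have h1 := congrArg (P.coroot' k) h
  rw [Finsupp.linearCombination_apply, Finsupp.sum, map_sum] at h1
  simp only [map_nsmul, P.root_coroot'_eq_pairing, P.pairing_same] at h1
  have hpos : (0 : ℤ) < ∑ j ∈ c.support, c j • P.pairing j k := by rw [h1]; norm_num
  obtain ⟨j, hj, hl⟩ := Finset.exists_lt_of_sum_lt (f := fun _ => (0 : ℤ)) (by simpa using hpos)
  refine ⟨j, hj, ?_⟩
  have hm' : (0 : ℤ) < (c j : ℤ) := by
    have := Finsupp.mem_support_iff.mp hj
    exact_mod_cast Nat.pos_of_ne_zero this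
  exact (mul_pos_iff_of_pos_left hm').mp hl

/-- A closed set of roots contains every root lying in the additive monoid it generates. -/
lemma mem_of_root_mem_natSpan_of_isClosedSub {S : Set ι} (hS : IsClosedSub P S) {k : ι}
    (hk : P.root k ∈ natSpan P S) : k ∈ S := by
  classical
  obtain ⟨c, hc, hck⟩ := (mem_natSpan_iff P S _).mp hk
  clear hk
  generalize hN : c.sum (fun _ n => n) = N
  induction N using Nat.strong_induction_on generalizing c k with
  | _ N ih =>
    obtain ⟨j, hj, hpos⟩ := exists_pairing_pos_of_linearCombination P c k hck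
    by_cases hjk : j = k
    · exact hjk ▸ hc hj
    · obtain ⟨k', hk'⟩ : P.root k - P.root j ∈ range P.root := by
        have := root_sub_root_mem P hpos hjk
        rw [← P.neg_mem_range_root_iff]
        simpa using this
      have hcj : 1 ≤ c j := Nat.one_le_iff_ne_zero.mpr (Finsupp.mem_support_iff.mp hj)
      set c' : ι →₀ ℕ := c - Finsupp.single j 1 with hc'
      have hcc' : c = c' + Finsupp.single j 1 := by
        ext x
        by_cases hx : x = j
        · subst hx; simp [hc']; omega
        · simp [hc', Ne.symm hx]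
      have hsupp : (↑c'.support : Set ι) ⊆ S := by
        intro x hx
        apply hc
        simp only [Finset.mem_coe, Finsupp.mem_support_iff] at hx ⊢
        intro h0
        apply hx
        simp [hc', h0]
      have hlc : Finsupp.linearCombination ℕ P.root c' = P.root k' := by
        have : Finsupp.linearCombination ℕ P.root c =
            Finsupp.linearCombination ℕ P.root c' + P.root j := by
          conv_lhs => rw [hcc']
          rw [map_add]; simp
        rw [hk', ← hck, this]; abel
      have hsum : c'.sum (fun _ n => n) < N := by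
        rw [← hN]
        conv_rhs => rw [hcc']
        rw [Finsupp.sum_add_index' (by simp) (by simp)]
        simp
      have hk'S : k' ∈ S := ih _ hsum c' hsupp hlc rfl
      exact hS hk'S (hc hj) (by rw [hk']; abel)

section PosSys

variable {P}

omit [Finite ι] in
/-- The opposite of a root of a positive system does not lie in the monoid it generates. -/
lemma IsPosSys_neg_root_notMem {S : Set ι} (hS : IsPosSys P S) {i : ι} (hi : i ∈ S) :
    -P.root i ∉ natSpan P S := by
  intro h
  refine hS.disjoint hi (hS.sat 1 one_pos ?_)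
  rwa [one_smul, root_neg]

/-- The indecomposable elements of a set of roots `S`: those which are not the sum of two elements
of `S`. -/
def indec (P : RootPairing ι ℤ M N) (S : Set ι) : Set ι :=
  {i | i ∈ S ∧ ∀ j ∈ S, ∀ k ∈ S, P.root i ≠ P.root j + P.root k}

omit [Finite ι] in
lemma indec_subset (S : Set ι) : indec P S ⊆ S := fun _ h => h.1

/-- Every root of a positive system is a non-negative combination of indecomposable ones. -/
lemma root_mem_natSpan_indec {S : Set ι} (hS : IsPosSys P S) {i : ι} (hi : i ∈ S) :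
    P.root i ∈ natSpan P (indec P S) := by
  classical
  -- the "down-set" of `i`
  let down : ι → Set ι := fun i => {x | x ∈ S ∧ P.root i - P.root x ∈ natSpan P S}
  generalize hN : (down i).ncard = n
  induction n using Nat.strong_induction_on generalizing i with
  | _ n ih =>
    by_cases hind : i ∈ indec P S
    · exact root_mem_natSpan P hind
    · have : ∃ j ∈ S, ∃ k ∈ S, P.root i = P.root j + P.root k := by
        by_contra hcon
        push Not at hcon
        exact hind ⟨hi, hcon⟩
      obtain ⟨j, hj, k, hk, hjk⟩ := this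
      have hlt : ∀ a ∈ S, ∀ b ∈ S, P.root i = P.root a + P.root b →
          (down a).ncard < (down i).ncard := by
        intro a ha b hb hab
        refine Set.ncard_lt_ncard ⟨?_, ?_⟩ (Set.toFinite _)
        · rintro x ⟨hx, hx'⟩
          refine ⟨hx, ?_⟩
          have : P.root i - P.root x = (P.root a - P.root x) + P.root b := by rw [hab]; abel
          rw [this]
          exact add_mem hx' (root_mem_natSpan P hb)
        · intro hsub
          have hii : i ∈ down i := ⟨hi, by simp⟩
          have := (hsub hii).2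
          have h2 : P.root a - P.root i = -P.root b := by rw [hab]; abel
          rw [h2] at this
          exact IsPosSys_neg_root_notMem hS hb this
      have h1 := ih _ (hN ▸ hlt j hj k hk hjk) hj rfl
      have h2 := ih _ (hN ▸ hlt k hk j hj (by rw [hjk]; abel)) hk rfl
      rw [hjk]
      exact add_mem h1 h2

/-- Distinct indecomposable roots of a positive system have non-positive pairing. -/
lemma pairing_le_zero_of_mem_indec {S : Set ι} (hS : IsPosSys P S) {i j : ι}
    (hi : i ∈ indec P S) (hj : j ∈ indec P S) (hij : i ≠ j) : P.pairing i j ≤ 0 := by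
  by_contra hpos
  push Not at hpos
  obtain ⟨k, hk⟩ := root_sub_root_mem P hpos hij
  rcases hS.cover k with hk' | hk'
  · exact hi.2 j hj.1 k hk' (by rw [hk]; abel)
  · exact hj.2 i hi.1 _ hk' (by rw [root_neg, hk]; abel)

/-- The indecomposable roots of a positive system form a simple system. -/
theorem isSimpleSys_indec {S : Set ι} (hS : IsPosSys P S) : IsSimpleSys P (indec P S) where
  linInd := by
    refine linearIndepOn_of_pairing_le_zero P _
      (fun i hi j hj hij => pairing_le_zero_of_mem_indec hS hi hj hij) ?_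
    intro i hi h
    exact IsPosSys_neg_root_notMem hS hi.1 (natSpan_mono P (indec_subset S) h)
  mem_or_neg_mem i := by
    rcases hS.cover i with hi | hi
    · exact Or.inl (root_mem_natSpan_indec hS hi)
    · right
      rw [← root_neg]
      exact root_mem_natSpan_indec hS hi

omit [Finite ι] in
/-- A positive system containing a simple system `Δ` is contained in `posOf Δ`. -/
lemma IsPosSys_subset_posOf {S Δ : Set ι} (hS : IsPosSys P S) (hΔ : IsSimpleSys P Δ)
    (hΔS : Δ ⊆ S) : S ⊆ posOf P Δ := by
  intro k hk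
  rcases hΔ.mem_or_neg_mem k with h | h
  · exact h
  · exact absurd (natSpan_mono P hΔS h) (IsPosSys_neg_root_notMem hS hk)

omit [Finite ι] in
/-- A positive system containing a simple system `Δ` equals `posOf Δ`. -/
lemma IsPosSys_eq_posOf {S Δ : Set ι} (hS : IsPosSys P S) (hΔ : IsSimpleSys P Δ)
    (hΔS : Δ ⊆ S) : S = posOf P Δ := by
  refine Set.Subset.antisymm (IsPosSys_subset_posOf hS hΔ hΔS) ?_
  intro k hk
  refine hS.sat 1 one_pos ?_
  rw [one_smul]
  exact natSpan_mono P hΔS hk

omit [Finite ι] in
/-- Two simple systems contained in the same positive system coincide (one inclusion). -/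
lemma simpleSys_subset_of_subset_posSys {S Δ₁ Δ₂ : Set ι} (hS : IsPosSys P S)
    (h₁ : IsSimpleSys P Δ₁) (h₂ : IsSimpleSys P Δ₂) (hΔ₁ : Δ₁ ⊆ S) (hΔ₂ : Δ₂ ⊆ S) : Δ₁ ⊆ Δ₂ := by
  intro i hi
  have hi2 : P.root i ∈ natSpan P Δ₂ := IsPosSys_subset_posOf hS h₂ hΔ₂ (hΔ₁ hi)
  obtain ⟨j, hj, y, hy, hijy⟩ := exists_eq_root_add_of_mem_natSpan P hi2 (P.ne_zero i)
  have hj1 : P.root j ∈ natSpan P Δ₁ := IsPosSys_subset_posOf hS h₁ hΔ₁ (hΔ₂ hj)
  have hy1 : y ∈ natSpan P Δ₁ :=
    natSpan_le_of_forall P (fun a ha => IsPosSys_subset_posOf hS h₁ hΔ₁ (hΔ₂ ha)) hy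
  rcases eq_zero_or_eq_zero_of_root_eq_add P h₁.linInd hi hj1 hy1 hijy with h0 | h0
  · exact absurd h0 (P.ne_zero j)
  · rw [h0, add_zero] at hijy
    exact P.root.injective hijy ▸ hj

omit [Finite ι] in
lemma simpleSys_eq_of_subset_posSys {S Δ₁ Δ₂ : Set ι} (hS : IsPosSys P S)
    (h₁ : IsSimpleSys P Δ₁) (h₂ : IsSimpleSys P Δ₂) (hΔ₁ : Δ₁ ⊆ S) (hΔ₂ : Δ₂ ⊆ S) : Δ₁ = Δ₂ :=
  Set.Subset.antisymm (simpleSys_subset_of_subset_posSys hS h₁ h₂ hΔ₁ hΔ₂)
    (simpleSys_subset_of_subset_posSys hS h₂ h₁ hΔ₂ hΔ₁)

omit [Finite ι] in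
/-- The positive roots of a simple system form a positive system. -/
theorem isPosSys_posOf {Δ : Set ι} (hΔ : IsSimpleSys P Δ) : IsPosSys P (posOf P Δ) where
  disjoint := by
    intro i hi hi'
    have h1 : P.root i ∈ natSpan P Δ := hi
    have h2 : -P.root i ∈ natSpan P Δ := by
      have : P.root (P.reflectionPerm i i) ∈ natSpan P Δ := hi'
      rwa [root_neg] at this
    exact P.ne_zero i (eq_zero_of_mem_natSpan_of_neg_mem P hΔ.linInd h1 h2)
  cover := by
    intro i
    rcases hΔ.mem_or_neg_mem i with h | h
    · exact Or.inl h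
    · right
      change P.root (P.reflectionPerm i i) ∈ natSpan P Δ
      rwa [root_neg]
  sat := by
    intro k n hn hk
    have hk' : n • P.root k ∈ natSpan P Δ := natSpan_le_of_forall P (fun a ha => ha) hk
    rcases hΔ.mem_or_neg_mem k with h | h
    · exact h
    · exfalso
      have h2 : -(n • P.root k) ∈ natSpan P Δ := by
        rw [← smul_neg]
        exact AddSubmonoid.nsmul_mem _ h n
      have h3 := eq_zero_of_mem_natSpan_of_neg_mem P hΔ.linInd hk' h2
      have := isAddTorsionFree_weight P
      exact P.ne_zero k ((nsmul_eq_zero_iff_right hn.ne').mp h3)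

omit [Finite ι] in
lemma subset_posOf {Δ : Set ι} : Δ ⊆ posOf P Δ := fun _ hi => root_mem_natSpan P hi

/-- A positive root which is not simple is the sum of a positive root and a simple root pairing
positively with it. -/
lemma exists_simple_add_of_mem_posOf {Δ : Set ι} (hΔ : IsSimpleSys P Δ) {k : ι}
    (hk : k ∈ posOf P Δ) (hkΔ : k ∉ Δ) :
    ∃ j ∈ Δ, 0 < P.pairing j k ∧ ∃ l ∈ posOf P Δ, P.root k = P.root l + P.root j := by
  obtain ⟨c, hc, hck⟩ := (mem_natSpan_iff P Δ _).mp hk
  obtain ⟨j, hj, hpos⟩ := exists_pairing_pos_of_linearCombination P c k hck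
  have hjΔ : j ∈ Δ := hc hj
  have hjk : j ≠ k := fun h => hkΔ (h ▸ hjΔ)
  obtain ⟨l, hl⟩ : P.root k - P.root j ∈ range P.root := by
    have := root_sub_root_mem P hpos hjk
    rw [← P.neg_mem_range_root_iff]
    simpa using this
  refine ⟨j, hjΔ, hpos, l, ?_, by rw [hl]; abel⟩
  rcases hΔ.mem_or_neg_mem l with h | h
  · exact h
  · exfalso
    have h1 : P.root j = P.root k + -P.root l := by rw [hl]; abel
    rcases eq_zero_or_eq_zero_of_root_eq_add P hΔ.linInd hjΔ hk h h1 with h0 | h0
    · exact P.ne_zero k h0
    · exact P.ne_zero l (neg_eq_zero.mp h0)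

end PosSys

end Groth.Agent.Lib.Helper28
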