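import Groth.Agent.Lib.Helper28.RootWeyl
import Mathlib.Algebra.Order.Group.PiLex

/-!
Separating functionals for a saturated set of roots `R'` (the trace on the roots of a rational
subspace): an additive map to a lexicographically ordered group vanishing exactly on the roots of
`R'`.  It is built from the sums of the orbits of the roots under the group generated by the
reflections of `R'`, paired through the canonical bilinear form.
-/

set_option autoImplicit false

namespace Groth.Agent.Lib.Helper28

open RootPairing Module Submodule Set RootD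

variable {ι M N : Type*} [AddCommGroup M] [AddCommGroup N] (P : RootPairing ι ℤ M N)

/-- The subgroup generated by the reflections in the roots of `R'`. -/
noncomputable def subWeyl (R' : Set ι) : Subgroup P.Aut :=
  Subgroup.closure ((fun r : ι => Equiv.reflection P r) '' R')

lemma reflection_mem_subWeyl {R' : Set ι} {r : ι} (hr : r ∈ R') :
    Equiv.reflection P r ∈ subWeyl P R' :=
  Subgroup.subset_closure ⟨r, hr, rfl⟩

/-- Elements of `subWeyl P R'` move every weight by an element of the span of `R'`. -/
lemma subWeyl_smul_sub_mem {R' : Set ι} {g : P.Aut} (hg : g ∈ subWeyl P R') (x : M) :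
    g • x - x ∈ span ℤ (P.root '' R') := by
  induction hg using Subgroup.closure_induction'' generalizing x with
  | one => rw [one_smul, sub_self]; exact zero_mem _
  | mem g hg =>
    obtain ⟨r, hr, rfl⟩ := hg
    rw [Equiv.reflection_smul, P.reflection_apply, sub_sub_cancel_left]
    exact Submodule.neg_mem _ (Submodule.smul_mem _ _ (Submodule.subset_span ⟨r, hr, rfl⟩))
  | inv_mem g hg =>
    obtain ⟨r, hr, rfl⟩ := hg
    rw [Equiv.reflection_inv, Equiv.reflection_smul, P.reflection_apply, sub_sub_cancel_left]
    exact Submodule.neg_mem _ (Submodule.smul_mem _ _ (Submodule.subset_span ⟨r, hr, rfl⟩))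
  | mul g h _ _ ihg ihh =>
    have : (g * h) • x - x = (g • (h • x) - h • x) + (h • x - x) := by rw [mul_smul]; abel
    rw [this]
    exact add_mem (ihg _) (ihh _)

/-- The orbit of a root index under `subWeyl P R'`. -/
def subOrbit (R' : Set ι) (k : ι) : Set ι := {l | ∃ g ∈ subWeyl P R', g • k = l}

lemma mem_subOrbit_self (R' : Set ι) (k : ι) : k ∈ subOrbit P R' k :=
  ⟨1, one_mem _, one_smul _ _⟩

lemma reflectionPerm_mem_subOrbit {R' : Set ι} {r : ι} (hr : r ∈ R') {k l : ι}
    (hl : l ∈ subOrbit P R' k) : P.reflectionPerm r l ∈ subOrbit P R' k := by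
  obtain ⟨g, hg, rfl⟩ := hl
  exact ⟨Equiv.reflection P r * g, mul_mem (reflection_mem_subWeyl P hr) hg, by
    rw [mul_smul]; rfl⟩

lemma reflectionPerm_mem_subOrbit_iff {R' : Set ι} {r : ι} (hr : r ∈ R') {k l : ι} :
    l ∈ subOrbit P R' k ↔ P.reflectionPerm r l ∈ subOrbit P R' k := by
  refine ⟨reflectionPerm_mem_subOrbit P hr, fun h => ?_⟩
  have := reflectionPerm_mem_subOrbit P hr h
  rwa [P.reflectionPerm_self] at this

lemma root_sub_mem_of_mem_subOrbit {R' : Set ι} {k l : ι} (hl : l ∈ subOrbit P R' k) :
    P.root l - P.root k ∈ span ℤ (P.root '' R') := by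
  obtain ⟨g, hg, rfl⟩ := hl
  rw [aut_root]
  exact subWeyl_smul_sub_mem P hg _

section OrbitSum

variable [Fintype ι]

open Classical in
/-- The sum of the roots in the orbit of `k`. -/
noncomputable def orbitSum (R' : Set ι) (k : ι) : M :=
  ∑ l ∈ Finset.univ.filter (fun l => l ∈ subOrbit P R' k), P.root l

lemma orbitSum_mem_span (R' : Set ι) (k : ι) : orbitSum P R' k ∈ span ℤ (range P.root) :=
  Submodule.sum_mem _ fun l _ => Submodule.subset_span (mem_range_self l)

lemma reflection_orbitSum {R' : Set ι} {r : ι} (hr : r ∈ R') (k : ι) :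
    P.reflection r (orbitSum P R' k) = orbitSum P R' k := by
  classical
  unfold orbitSum
  rw [map_sum]
  simp only [← P.root_reflectionPerm]
  refine (Finset.sum_equiv (P.reflectionPerm r) ?_ ?_).symm
  · intro l
    simp only [Finset.mem_filter, Finset.mem_univ, true_and]
    exact reflectionPerm_mem_subOrbit_iff P hr
  · intro l _
    rw [P.reflectionPerm_self]

lemma rootForm_orbitSum_root {R' : Set ι} {r : ι} (hr : r ∈ R') (k : ι) :
    P.RootForm (orbitSum P R' k) (P.root r) = 0 := by
  have h := P.rootForm_reflection_reflection_apply r (orbitSum P R' k) (P.root r)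
  rw [reflection_orbitSum P hr, P.reflection_apply_self, map_neg] at h
  omega

lemma rootForm_orbitSum_of_mem_span {R' : Set ι} (k : ι) {v : M}
    (hv : v ∈ span ℤ (P.root '' R')) : P.RootForm (orbitSum P R' k) v = 0 := by
  induction hv using Submodule.span_induction with
  | mem v hv =>
    obtain ⟨r, hr, rfl⟩ := hv
    exact rootForm_orbitSum_root P hr k
  | zero => rw [map_zero]
  | add x y _ _ hx hy => rw [map_add, hx, hy, add_zero]
  | smul c x _ hx => rw [map_smul, hx, smul_zero]

open Classical in
lemma orbitSum_sub_mem (R' : Set ι) (k : ι) :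
    orbitSum P R' k - (Finset.univ.filter (fun l => l ∈ subOrbit P R' k)).card • P.root k ∈
      span ℤ (P.root '' R') := by
  unfold orbitSum
  rw [← Finset.sum_const, ← Finset.sum_sub_distrib]
  refine Submodule.sum_mem _ fun l hl => ?_
  rw [Finset.mem_filter] at hl
  exact root_sub_mem_of_mem_subOrbit P hl.2

/-- For a saturated set of roots `R'` and a root `k` outside it, the orbit sum of `k` pairs
positively with `k` and is orthogonal to `R'`. -/
lemma rootForm_orbitSum_root_pos {R' : Set ι}
    (hsat : ∀ k : ι, (∃ n : ℕ, 0 < n ∧ n • P.root k ∈ span ℤ (P.root '' R')) → k ∈ R')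
    {k : ι} (hk : k ∉ R') : 0 < P.RootForm (orbitSum P R' k) (P.root k) := by
  classical
  have htf := isTorsionFree_weight P
  set c := (Finset.univ.filter (fun l => l ∈ subOrbit P R' k)).card with hc
  have hcpos : 0 < c := Finset.card_pos.mpr ⟨k, by simp [mem_subOrbit_self]⟩
  have hmem := orbitSum_sub_mem P R' k
  have hne : orbitSum P R' k ≠ 0 := by
    intro h0
    rw [h0, zero_sub] at hmem
    have := Submodule.neg_mem _ hmem
    rw [neg_neg] at this
    exact hk (hsat k ⟨c, hcpos, this⟩)
  have hpos := P.rootForm_pos_of_ne_zero (orbitSum_mem_span P R' k) hne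
  have h1 := rootForm_orbitSum_of_mem_span P k hmem
  rw [map_sub, map_nsmul, sub_eq_zero] at h1
  rw [h1, nsmul_eq_mul] at hpos
  have hc0 : (0 : ℤ) < c := by exact_mod_cast hcpos
  exact (pos_iff_pos_of_mul_pos hpos).mp hc0

end OrbitSum

/-- A separating additive map for a saturated set of roots: it vanishes on the roots of `R'` and on
no other root. -/
theorem exists_separating [Finite ι] {R' : Set ι}
    (hsat : ∀ k : ι, (∃ n : ℕ, 0 < n ∧ n • P.root k ∈ span ℤ (P.root '' R')) → k ∈ R') :
    ∃ (n : ℕ) (φ : M →+ Lex (Fin n → ℤ)),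
      (∀ r ∈ R', φ (P.root r) = 0) ∧ ∀ k, k ∉ R' → φ (P.root k) ≠ 0 := by
  classical
  have : Fintype ι := Fintype.ofFinite ι
  let e : ι ≃ Fin (Fintype.card ι) := Fintype.equivFin ι
  let φ : M →+ Lex (Fin (Fintype.card ι) → ℤ) :=
    AddMonoidHom.mk' (fun m => toLex (fun j => P.RootForm (orbitSum P R' (e.symm j)) m)) (by
      intro a b
      rw [← toLex_add]
      congr 1
      ext j
      simp)
  refine ⟨_, φ, ?_, ?_⟩
  · intro r hr
    change toLex (fun j => P.RootForm (orbitSum P R' (e.symm j)) (P.root r)) = 0
    rw [← toLex_zero]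
    congr 1
    ext j
    exact rootForm_orbitSum_root P hr _
  · intro k hk h0
    have := congrFun (congrArg ofLex h0) (e k)
    simp only [φ, AddMonoidHom.mk'_apply, ofLex_toLex, Equiv.symm_apply_apply] at this
    have hpos := rootForm_orbitSum_root_pos P hsat hk
    change P.RootForm (orbitSum P R' k) (P.root k) = 0 at this
    omega

end Groth.Agent.Lib.Helper28
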