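import Groth.Agent.Lib.Helper28.RootSub

/-!
Extension of a system of simple roots of a saturated set of roots to a system of simple roots of the
whole root datum.
-/

set_option autoImplicit false

namespace Groth.Agent.Lib.Helper28

open RootPairing Module Submodule Set RootD

variable {ι M N : Type*} [AddCommGroup M] [AddCommGroup N] (P : RootPairing ι ℤ M N)

/-- A saturated set of roots is symmetric. -/
lemma neg_mem_of_sat {R' : Set ι}
    (hsat : ∀ k : ι, (∃ n : ℕ, 0 < n ∧ n • P.root k ∈ span ℤ (P.root '' R')) → k ∈ R')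
    {k : ι} (hk : k ∈ R') : P.reflectionPerm k k ∈ R' := by
  refine hsat _ ⟨1, one_pos, ?_⟩
  rw [one_smul, root_neg]
  exact Submodule.neg_mem _ (Submodule.subset_span ⟨k, hk, rfl⟩)

/-- Every system of simple roots of a saturated set of roots extends to a system of simple roots. -/
theorem exists_simpleSys_extending [Finite ι] {R' : Set ι}
    (hsat : ∀ k : ι, (∃ n : ℕ, 0 < n ∧ n • P.root k ∈ span ℤ (P.root '' R')) → k ∈ R')
    {Δ' : Set ι} (hΔ'R : Δ' ⊆ R') (hli : LinearIndepOn ℤ P.root Δ')
    (hgen : ∀ k ∈ R', P.root k ∈ natSpan P Δ' ∨ -P.root k ∈ natSpan P Δ') :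
    ∃ Δ : Set ι, IsSimpleSys P Δ ∧ Δ' ⊆ Δ := by
  have hatf := isAddTorsionFree_weight P
  obtain ⟨n, φ, hφ0, hφne⟩ := exists_separating P hsat
  have f1 : ∀ k ∈ R', φ (P.root k) = 0 := hφ0
  have f2 : ∀ k, φ (P.root k) = 0 → k ∈ R' := fun k h => by
    by_contra hk
    exact hφne k hk h
  have f3 : ∀ k, φ (P.root (P.reflectionPerm k k)) = -φ (P.root k) := fun k => by
    rw [root_neg, map_neg]
  set A : Set ι := {k | 0 < φ (P.root k)} with hA
  set B : Set ι := {k | k ∈ R' ∧ P.root k ∈ natSpan P Δ'} with hB
  set S : Set ι := A ∪ B with hS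
  have f5 : ∀ x ∈ natSpan P S, 0 ≤ φ x ∧ (φ x = 0 → x ∈ natSpan P Δ') := by
    intro x hx
    induction hx using AddSubmonoid.closure_induction with
    | mem x hx =>
      obtain ⟨s, hs, rfl⟩ := hx
      rcases hs with hs | hs
      · exact ⟨le_of_lt hs, fun h => absurd h (ne_of_gt hs)⟩
      · exact ⟨le_of_eq (f1 s hs.1).symm, fun _ => hs.2⟩
    | zero => exact ⟨le_of_eq (map_zero φ).symm, fun _ => zero_mem _⟩
    | add x y _ _ ihx ihy =>
      refine ⟨by rw [map_add]; exact add_nonneg ihx.1 ihy.1, fun h => ?_⟩
      rw [map_add] at h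
      have := (add_eq_zero_iff_of_nonneg ihx.1 ihy.1).mp h
      exact add_mem (ihx.2 this.1) (ihy.2 this.2)
  have hSpos : IsPosSys P S := by
    refine ⟨?_, ?_, ?_⟩
    · intro k hk hk'
      rcases hk with hkA | hkB
      · have hkA' : 0 < φ (P.root k) := hkA
        rcases hk' with h | h
        · have h' : 0 < φ (P.root (P.reflectionPerm k k)) := h
          rw [f3] at h'
          exact lt_asymm hkA' (neg_pos.mp h')
        · have := f1 _ h.1
          rw [f3, neg_eq_zero] at this
          exact (ne_of_gt hkA') this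
      · have h0 := f1 k hkB.1
        rcases hk' with h | h
        · have h' : 0 < φ (P.root (P.reflectionPerm k k)) := h
          rw [f3, h0, neg_zero] at h'
          exact lt_irrefl _ h'
        · have h2 := h.2
          rw [root_neg] at h2
          exact P.ne_zero k (eq_zero_of_mem_natSpan_of_neg_mem P hli hkB.2 h2)
    · intro k
      rcases lt_trichotomy (φ (P.root k)) 0 with h | h | h
      · right; left
        change 0 < φ (P.root (P.reflectionPerm k k))
        rw [f3]
        exact neg_pos.mpr h
      · have hkR := f2 k h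
        rcases hgen k hkR with h2 | h2
        · left; right
          exact ⟨hkR, h2⟩
        · right; right
          exact ⟨neg_mem_of_sat P hsat hkR, by rwa [root_neg]⟩
      · left; left
        exact h
    · intro k m hm hk
      obtain ⟨h0, h1⟩ := f5 _ hk
      rw [map_nsmul] at h0 h1
      by_cases hpos : 0 < φ (P.root k)
      · left; exact hpos
      · have hzero : φ (P.root k) = 0 := by
          rcases lt_trichotomy (φ (P.root k)) 0 with h | h | h
          · exfalso
            have h2 : 0 < m • (-φ (P.root k)) := nsmul_pos (neg_pos.mpr h) hm.ne'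
            rw [neg_nsmul] at h2
            exact (lt_of_lt_of_le (neg_pos.mp h2) h0).false
          · exact h
          · exact absurd h hpos
        have hkR := f2 k hzero
        right
        refine ⟨hkR, ?_⟩
        rcases hgen k hkR with h2 | h2
        · exact h2
        · exfalso
          have h3 : m • P.root k ∈ natSpan P Δ' := h1 (by rw [hzero, nsmul_zero])
          have h4 : -(m • P.root k) ∈ natSpan P Δ' := by
            rw [← smul_neg]
            exact nsmul_mem h2 m
          have h5 := eq_zero_of_mem_natSpan_of_neg_mem P hli h3 h4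
          exact P.ne_zero k ((nsmul_eq_zero_iff_right hm.ne').mp h5)
  refine ⟨indec P S, isSimpleSys_indec hSpos, ?_⟩
  intro α hα
  have hαB : α ∈ B := ⟨hΔ'R hα, root_mem_natSpan P hα⟩
  refine ⟨Or.inr hαB, ?_⟩
  intro j hj k hk h
  have hnonneg : ∀ s ∈ S, 0 ≤ φ (P.root s) := fun s hs => (f5 _ (root_mem_natSpan P hs)).1
  have hsum : φ (P.root j) + φ (P.root k) = 0 := by
    rw [← map_add, ← h]
    exact f1 α hαB.1
  have hz := (add_eq_zero_iff_of_nonneg (hnonneg j hj) (hnonneg k hk)).mp hsum
  have hjm : P.root j ∈ natSpan P Δ' := (f5 _ (root_mem_natSpan P hj)).2 hz.1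
  have hkm : P.root k ∈ natSpan P Δ' := (f5 _ (root_mem_natSpan P hk)).2 hz.2
  rcases eq_zero_or_eq_zero_of_root_eq_add P hli hα hjm hkm h with h0 | h0
  · exact P.ne_zero j h0
  · exact P.ne_zero k h0

end Groth.Agent.Lib.Helper28
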