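import Groth.Agent.Lib.Helper28.SmtBasic
import Mathlib.GroupTheory.Perm.Fin
import Mathlib.LinearAlgebra.Matrix.Determinant.Basic

/-!
# Evaluation of the signed Plücker coordinates at the minors of a matrix (helper28)

`evalMinors_coord` : `coord a` evaluates to the minor on the rows `a` (in the given order).
-/

set_option autoImplicit false

namespace Groth.Agent.Lib.Helper28.Smt

open W4bk4grassmannian MvPolynomial

variable {d n : ℕ} (K : Type*) [CommRing K]

lemma evalMinors_X (A : Matrix (Fin n) (Fin d) K) (θ : Idx d n) :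
    evalMinors K d n A (X θ) = (A.submatrix θ.1 id).det := by
  unfold evalMinors; rw [aeval_X]

/-- the sign of a permutation of `Fin d` through its inversions, in `ℤ` -/
lemma sign_eq_neg_one_pow_inv (σ : Equiv.Perm (Fin d)) :
    ((Equiv.Perm.sign σ : ℤˣ) : ℤ) =
      (-1) ^ (Finset.univ.filter fun p : Fin d × Fin d => p.1 < p.2 ∧ σ p.2 < σ p.1).card := by
  rw [Equiv.Perm.sign_eq_prod_prod_Iio, Units.coe_prod]
  have h1 : ∀ j : Fin d, ((∏ i ∈ Finset.Iio j, (if σ i < σ j then (1 : ℤˣ) else -1) : ℤˣ) : ℤ)
      = ∏ i : Fin d, (if i < j ∧ σ j < σ i then (-1 : ℤ) else 1) := by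
    intro j
    rw [Units.coe_prod]
    have hIio : Finset.Iio j = Finset.univ.filter (fun i : Fin d => i < j) := by
      ext i; simp
    rw [hIio, Finset.prod_filter]
    apply Finset.prod_congr rfl
    intro i _
    by_cases hij : i < j
    · have hne : σ i ≠ σ j := fun h => (ne_of_lt hij) (σ.injective h)
      by_cases hs : σ i < σ j
      · rw [if_pos hij, if_pos hs, if_neg (fun h => absurd h.2 (not_lt.2 hs.le))]; rfl
      · have hs' : σ j < σ i := lt_of_le_of_ne (not_lt.1 hs) (Ne.symm hne)
        rw [if_pos hij, if_neg hs, if_pos ⟨hij, hs'⟩]; rfl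
    · rw [if_neg hij, if_neg (fun h => hij h.1)]
  rw [Finset.prod_congr rfl (fun j _ => h1 j)]
  rw [Finset.prod_comm, ← Finset.prod_product' (f := fun i j : Fin d =>
    if i < j ∧ σ j < σ i then (-1 : ℤ) else 1), Finset.univ_product_univ, Finset.prod_ite,
    Finset.prod_const, Finset.prod_const_one, mul_one]

lemma invCount_eq_of_strictMono (θ : Fin d → Fin n) (hθ : StrictMono θ) (σ : Equiv.Perm (Fin d)) :
    invCount d n (θ ∘ σ) =
      (Finset.univ.filter fun p : Fin d × Fin d => p.1 < p.2 ∧ σ p.2 < σ p.1).card := by
  unfold invCount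
  congr 1
  ext p
  simp only [Finset.mem_filter, Finset.mem_univ, true_and, Function.comp_apply, hθ.lt_iff_lt]

/-- `coord a` evaluates to the minor on the rows `a` -/
theorem evalMinors_coord (A : Matrix (Fin n) (Fin d) K) (a : Fin d → Fin n) :
    evalMinors K d n A (coord K d n a) = (A.submatrix a id).det := by
  unfold coord
  split_ifs with h
  · rw [map_mul, map_pow, map_neg, map_one, evalMinors_X]
    have hinj := injective_of_card_image h
    let iso := (Finset.univ.image a).orderIsoOfFin h
    let σfun : Fin d → Fin d := fun t =>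
      iso.symm ⟨a t, Finset.mem_image_of_mem _ (Finset.mem_univ t)⟩
    have hσinj : Function.Injective σfun := by
      intro s t hst
      have h1 := iso.symm.injective hst
      exact hinj (Subtype.ext_iff.1 h1)
    let σ : Equiv.Perm (Fin d) := Equiv.ofBijective σfun (Finite.injective_iff_bijective.1 hσinj)
    have hθσ : ∀ t, (sortIdx d n a h).1 (σ t) = a t := by
      intro t
      show (Finset.univ.image a).orderEmbOfFin h (σfun t) = a t
      rw [← Finset.coe_orderIsoOfFin_apply]
      show ((iso (iso.symm _) : (Finset.univ.image a)) : Fin n) = a t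
      rw [OrderIso.apply_symm_apply]
    have ha : a = (sortIdx d n a h).1 ∘ σ := by
      funext t; exact (hθσ t).symm
    have hsub : A.submatrix a id = (A.submatrix (sortIdx d n a h).1 id).submatrix σ id := by
      ext t c
      simp only [Matrix.submatrix_apply, id_eq]
      rw [hθσ]
    rw [hsub, Matrix.det_permute]
    congr 1
    have key := sign_eq_neg_one_pow_inv σ
    rw [← invCount_eq_of_strictMono (sortIdx d n a h).1 (sortIdx d n a h).2 σ, ← ha] at key
    have := congrArg (Int.cast : ℤ → K) key
    rw [Int.cast_pow, Int.cast_neg, Int.cast_one] at this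
    exact this.symm
  · rw [map_zero]
    have hni : ¬ Function.Injective a := fun hi => h (card_image_of_injective' hi)
    rw [Function.Injective] at hni
    simp only [not_forall] at hni
    obtain ⟨s, t, hst, hne⟩ := hni
    refine (Matrix.det_zero_of_row_eq hne ?_).symm
    ext c
    simp only [Matrix.submatrix_apply, id_eq, hst]

end Groth.Agent.Lib.Helper28.Smt
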