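import Groth.Agent.Lib.Helper28.SmtDim
import Groth.Agent.Lib.Helper28.SmtCoord
import Groth.Agent.Lib.Helper28.SmtDet1
import Mathlib.RingTheory.Localization.Away.Basic
import Mathlib.LinearAlgebra.Matrix.Adjugate

/-!
# First fundamental theorem for `SL_d` (helper28), part 1: rationality on a slice

For `θ ∈ I(d,n)` and an `n × d` matrix `A` with `δ = det A_θ ≠ 0`, the matrix
`g = A_θ⁻¹ diag(δ,1,…,1)` lies in `SL_d` and the entries of `A g` are Plücker coordinates of `A`
divided by `1` (first column) or `δ` (other columns).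
-/

set_option autoImplicit false
set_option linter.style.haveILetI false

universe u

namespace Groth.Agent.Lib.Helper28.Smt

open W4bk4grassmannian MvPolynomial Matrix

section slice

variable (K : Type u) [Field K] {d n : ℕ} (hd : 0 < d) (θ : Idx d n)

/-- the matrix of a point -/
def matOf (a : Fin n × Fin d → K) : Matrix (Fin n) (Fin d) K := Matrix.of fun i j => a (i, j)

/-- the slice point -/
noncomputable def sliceA (a : Fin n × Fin d → K) : Fin n × Fin d → K :=
  fun p => ((matOf K a).submatrix (Function.update θ.1 p.2 p.1) id).det *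
    (if p.2 = ⟨0, hd⟩ then 1 else (((matOf K a).submatrix θ.1 id).det)⁻¹)

/-- the slice map into the localization of the Plücker ring -/
noncomputable def sliceMapSL : MatRing K d n →ₐ[K] Localization.Away (X θ : PlRing K d n) :=
  aeval fun p : Fin n × Fin d =>
    algebraMap (PlRing K d n) (Localization.Away (X θ : PlRing K d n))
      (coord K d n (Function.update θ.1 p.2 p.1)) *
    (if p.2 = ⟨0, hd⟩ then 1 else IsLocalization.Away.invSelf (X θ : PlRing K d n))

/-- **rationality on the slice** -/
theorem exists_rational_SL (f : MatRing K d n) :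
    ∃ (N : ℕ) (G : PlRing K d n), ∀ a : Fin n × Fin d → K,
      ((matOf K a).submatrix θ.1 id).det ≠ 0 →
      eval (sliceA K hd θ a) f * ((matOf K a).submatrix θ.1 id).det ^ N =
        evalMinors K d n (matOf K a) G := by
  set δ : PlRing K d n := X θ with hδ
  obtain ⟨⟨G, ⟨s, N, hN⟩⟩, hGs⟩ := IsLocalization.surj (Submonoid.powers δ)
    (sliceMapSL K hd θ f)
  refine ⟨N, G, ?_⟩
  intro a ha
  have hδa : (evalMinors K d n (matOf K a)).toRingHom δ = ((matOf K a).submatrix θ.1 id).det := by
    show evalMinors K d n (matOf K a) (X θ) = _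
    unfold evalMinors
    rw [aeval_X]
  have hu : IsUnit ((evalMinors K d n (matOf K a)).toRingHom δ) := by
    rw [hδa]
    exact IsUnit.mk0 _ ha
  set ev : Localization.Away δ →+* K := IsLocalization.Away.lift δ hu with hev
  have hevalg : ∀ p, ev (algebraMap _ _ p) = evalMinors K d n (matOf K a) p := fun p =>
    IsLocalization.Away.lift_eq δ hu p
  have hinv : ev (IsLocalization.Away.invSelf δ) = (((matOf K a).submatrix θ.1 id).det)⁻¹ := by
    have h1 := congrArg ev (IsLocalization.Away.mul_invSelf (S := Localization.Away δ) δ)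
    rw [map_mul, map_one, hevalg] at h1
    have h2 : evalMinors K d n (matOf K a) δ = ((matOf K a).submatrix θ.1 id).det := hδa
    rw [h2] at h1
    exact eq_inv_of_mul_eq_one_right h1
  have hcomp : ev.comp (sliceMapSL K hd θ).toRingHom = eval (sliceA K hd θ a) := by
    apply MvPolynomial.ringHom_ext
    · intro c
      rw [RingHom.comp_apply]
      have h1 : (sliceMapSL K hd θ).toRingHom (C c) =
          algebraMap (PlRing K d n) (Localization.Away δ) (C c) := by
        show sliceMapSL K hd θ (C c) = _
        have : (C c : MatRing K d n) = algebraMap K _ c := rfl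
        rw [this, AlgHom.commutes, IsScalarTower.algebraMap_apply K
          (PlRing K d n) (Localization.Away δ)]
        rfl
      rw [h1, hevalg, eval_C]
      exact (evalMinors K d n (matOf K a)).commutes c
    · intro p
      rw [RingHom.comp_apply]
      show ev (sliceMapSL K hd θ (X p)) = _
      unfold sliceMapSL
      rw [aeval_X, eval_X, map_mul, hevalg, evalMinors_coord]
      unfold sliceA
      congr 1
      split_ifs
      · rw [map_one]
      · exact hinv
  have h2 := congrArg ev hGs
  rw [map_mul, hevalg, hevalg] at h2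
  have h3 : ev (sliceMapSL K hd θ f) = eval (sliceA K hd θ a) f := by
    rw [← hcomp]
    rfl
  rw [h3] at h2
  rw [← h2]
  congr 1
  have h4 : s = δ ^ N := hN.symm
  show _ = evalMinors K d n (matOf K a) s
  rw [h4, map_pow]
  congr 1
  exact hδa.symm

end slice

section inv

variable (K : Type u) [Field K] {d n : ℕ}

lemma eval_rightTranslate (g : Matrix.SpecialLinearGroup (Fin d) K) (a : Fin n × Fin d → K)
    (f : MatRing K d n) :
    eval a (rightTranslate K d n g f) =
      eval (fun p : Fin n × Fin d => ∑ k : Fin d, a (p.1, k) *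
        (g : Matrix (Fin d) (Fin d) K) k p.2) f := by
  have h : (aeval a : MatRing K d n →ₐ[K] K).comp (rightTranslate K d n g) =
      aeval (fun p : Fin n × Fin d => ∑ k : Fin d, a (p.1, k) *
        (g : Matrix (Fin d) (Fin d) K) k p.2) := by
    apply MvPolynomial.algHom_ext
    intro p
    rw [AlgHom.comp_apply]
    unfold rightTranslate
    rw [aeval_X, aeval_X, map_sum]
    apply Finset.sum_congr rfl
    intro k _
    rw [map_mul, aeval_X, aeval_C]
    rfl
  have := congrArg (fun φ => φ f) h
  exact this

lemma eval_pluckerMap (a : Fin n × Fin d → K) (G : PlRing K d n) :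
    eval a (pluckerMap K d n G) = evalMinors K d n (matOf K a) G := by
  have h : (aeval a : MatRing K d n →ₐ[K] K).comp (pluckerMap K d n) =
      evalMinors K d n (matOf K a) := by
    apply MvPolynomial.algHom_ext
    intro θ
    rw [AlgHom.comp_apply]
    unfold pluckerMap evalMinors minor
    rw [aeval_X, aeval_X]
    have : (aeval a : MatRing K d n →ₐ[K] K)
        (Matrix.det (Matrix.of fun s t : Fin d => (X (θ.1 s, t) : MatRing K d n))) =
        (eval a) (Matrix.det (Matrix.of fun s t : Fin d => (X (θ.1 s, t) : MatRing K d n))) := rfl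
    rw [this, RingHom.map_det]
    congr 1
    ext s t
    rw [RingHom.mapMatrix_apply, Matrix.map_apply, Matrix.of_apply, eval_X, submatrix_apply]
    rfl
  have := congrArg (fun φ => φ G) h
  exact this

lemma eval_minor (a : Fin n × Fin d → K) (θ : Idx d n) :
    eval a (minor K d n θ.1) = ((matOf K a).submatrix θ.1 id).det := by
  have h := eval_pluckerMap K a (X θ)
  unfold pluckerMap evalMinors at h
  rw [aeval_X, aeval_X] at h
  exact h

lemma sum_mul_adjugate (M : Matrix (Fin d) (Fin d) K) (b : Fin d → K) (j : Fin d) :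
    ∑ k : Fin d, b k * M.adjugate k j = (M.updateRow j b).det := by
  rw [← cramer_transpose_apply, cramer_eq_adjugate_mulVec, ← adjugate_transpose]
  unfold mulVec dotProduct
  apply Finset.sum_congr rfl
  intro k _
  show b k * M.adjugate k j = M.adjugate k j * b k
  ring

variable (hd : 0 < d) (θ : Idx d n)

/-- the element of `SL_d` moving a matrix to the slice -/
noncomputable def sliceSL (a : Fin n × Fin d → K)
    (ha : ((matOf K a).submatrix θ.1 id).det ≠ 0) : Matrix.SpecialLinearGroup (Fin d) K :=
  ⟨((matOf K a).submatrix θ.1 id)⁻¹ * Matrix.diagonal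
      (fun j => if j = ⟨0, hd⟩ then ((matOf K a).submatrix θ.1 id).det else 1), by
    rw [det_mul, det_nonsing_inv, Ring.inverse_eq_inv', det_diagonal, Finset.prod_ite_eq']
    rw [if_pos (Finset.mem_univ _)]
    exact inv_mul_cancel₀ ha⟩

lemma sliceA_eq (a : Fin n × Fin d → K) (ha : ((matOf K a).submatrix θ.1 id).det ≠ 0)
    (p : Fin n × Fin d) :
    ∑ k : Fin d, a (p.1, k) *
      ((sliceSL K hd θ a ha : Matrix.SpecialLinearGroup (Fin d) K) :
        Matrix (Fin d) (Fin d) K) k p.2 = sliceA K hd θ a p := by
  classical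
  set M := (matOf K a).submatrix θ.1 id with hM
  set δ₀ := M.det with hδ₀
  have h1 : ∀ k, ((sliceSL K hd θ a ha : Matrix.SpecialLinearGroup (Fin d) K) :
      Matrix (Fin d) (Fin d) K) k p.2 =
      M⁻¹ k p.2 * (if p.2 = (⟨0, hd⟩ : Fin d) then δ₀ else 1) := by
    intro k
    show (M⁻¹ * Matrix.diagonal (fun j => if j = (⟨0, hd⟩ : Fin d) then δ₀ else 1)) k p.2 = _
    rw [Matrix.mul_diagonal]
  simp only [h1]
  have h2 : ∀ k, M⁻¹ k p.2 = δ₀⁻¹ * M.adjugate k p.2 := by
    intro k
    rw [Matrix.inv_def, Ring.inverse_eq_inv', Matrix.smul_apply, smul_eq_mul]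
  simp only [h2]
  have h3 : ∑ k : Fin d, a (p.1, k) * (δ₀⁻¹ * M.adjugate k p.2 *
      (if p.2 = (⟨0, hd⟩ : Fin d) then δ₀ else 1)) =
      (∑ k : Fin d, a (p.1, k) * M.adjugate k p.2) *
        (δ₀⁻¹ * (if p.2 = (⟨0, hd⟩ : Fin d) then δ₀ else 1)) := by
    rw [Finset.sum_mul]
    apply Finset.sum_congr rfl
    intro k _
    ring
  rw [h3, sum_mul_adjugate]
  unfold sliceA
  have h4 : M.updateRow p.2 (fun k => a (p.1, k)) =
      (matOf K a).submatrix (Function.update θ.1 p.2 p.1) id := by
    ext s t
    rw [Matrix.updateRow_apply, submatrix_apply]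
    by_cases hs : s = p.2
    · rw [if_pos hs, hs, Function.update_self]
      rfl
    · rw [if_neg hs, Function.update_of_ne hs]
      rfl
  rw [h4]
  congr 1
  split_ifs
  · exact inv_mul_cancel₀ ha
  · rw [mul_one]

omit hd in
lemma minor_ne_zero : minor K d n θ.1 ≠ 0 := by
  classical
  intro h
  have h1 := eval_minor K (fun p : Fin n × Fin d => if p.1 = θ.1 p.2 then (1 : K) else 0) θ
  rw [h, map_zero] at h1
  have h2 : (matOf K (fun p : Fin n × Fin d => if p.1 = θ.1 p.2 then (1 : K) else 0)).submatrix
      θ.1 id = 1 := by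
    ext s t
    rw [submatrix_apply, Matrix.one_apply]
    show (if θ.1 s = θ.1 t then (1 : K) else 0) = _
    by_cases hst : s = t
    · rw [if_pos hst, if_pos (by rw [hst])]
    · rw [if_neg hst, if_neg (fun h' => hst (θ.2.injective h'))]
  rw [h2, det_one] at h1
  exact zero_ne_one h1

variable [Infinite K]

include hd in
/-- **an invariant times a power of a minor is a polynomial in the minors** -/
theorem exists_mul_eq_SL (f : MatRing K d n)
    (hf : ∀ g : Matrix.SpecialLinearGroup (Fin d) K, rightTranslate K d n g f = f) :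
    ∃ (N : ℕ) (G : PlRing K d n), minor K d n θ.1 ^ N * f = pluckerMap K d n G := by
  obtain ⟨N, G, hNG⟩ := exists_rational_SL K hd θ f
  refine ⟨N, G, ?_⟩
  have key : minor K d n θ.1 * (minor K d n θ.1 ^ N * f - pluckerMap K d n G) = 0 := by
    apply MvPolynomial.funext
    intro a
    rw [map_zero, map_mul]
    by_cases ha : ((matOf K a).submatrix θ.1 id).det = 0
    · rw [eval_minor, ha, zero_mul]
    · have h1 : eval a f = eval (sliceA K hd θ a) f := by
        conv_lhs => rw [← hf (sliceSL K hd θ a ha), eval_rightTranslate]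
        congr 2
        funext p
        exact sliceA_eq K hd θ a ha p
      have h2 := hNG a ha
      rw [map_sub, map_mul, map_pow, eval_minor, eval_pluckerMap, h1, mul_comm _ (eval _ f), h2,
        sub_self, mul_zero]
  rcases mul_eq_zero.1 key with h | h
  · exact absurd h (minor_ne_zero K θ)
  · exact sub_eq_zero.1 h

end inv

end Groth.Agent.Lib.Helper28.Smt
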