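import Groth.Agent.Lib.Helper28.SmtShape

/-!
# Shape of the straightening relation of a skew pair, part 2 (helper28)

Main result `straightening_shape`: over an infinite field, `X_τ X_φ - X_{τ∨φ} X_{τ∧φ}` is modulo
the shuffle relations a combination of `X_α X_β`, `β ≤ α`, `τ ∨ φ < α`, `β < τ ∧ φ`.
-/

set_option autoImplicit false

universe u

namespace Groth.Agent.Lib.Helper28.Smt

open W4bk4grassmannian MvPolynomial

section patterns

variable {d n : ℕ}

/-- the full pattern -/
def pTrue : Fin n → Fin d → Prop := fun _ _ => True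

/-- the upper staircase pattern -/
def pUp (w : Idx d n) : Fin n → Fin d → Prop := fun a t => a ≤ w.1 t

/-- the lower staircase pattern -/
def pLow (v : Idx d n) : Fin n → Fin d → Prop := fun a t => v.1 t ≤ a

instance (a : Fin n) (t : Fin d) : Decidable (pTrue a t) := by unfold pTrue; infer_instance
instance (w : Idx d n) (a : Fin n) (t : Fin d) : Decidable (pUp w a t) := by
  unfold pUp; infer_instance
instance (v : Idx d n) (a : Fin n) (t : Fin d) : Decidable (pLow v a t) := by
  unfold pLow; infer_instance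

lemma adm_pTrue (θ : Idx d n) : Adm (pTrue (n := n) (d := d)) θ := fun _ => trivial

lemma adm_pUp_iff (w θ : Idx d n) : Adm (pUp w) θ ↔ θ ≤ w := Iff.rfl

lemma adm_pLow_iff (v θ : Idx d n) : Adm (pLow v) θ ↔ v ≤ θ := Iff.rfl

variable (K : Type*) [CommRing K]

lemma evP_pTrue_zero (φ : Idx d n) (h : ¬ Adm (pTrue (n := n) (d := d)) φ) :
    evP K (pTrue (n := n) (d := d)) (X φ) = 0 := absurd (adm_pTrue φ) h

lemma evP_pUp_zero (w φ : Idx d n) (h : ¬ Adm (pUp w) φ) : evP K (pUp w) (X φ) = 0 := by
  rw [evP_X]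
  apply det_submatrix_eq_zero_of_not_le _ w φ _ h
  intro a t hat
  exact genP_zero K _ a t hat

lemma evP_pLow_zero (v φ : Idx d n) (h : ¬ Adm (pLow v) φ) : evP K (pLow v) (X φ) = 0 := by
  rw [evP_X]
  apply det_submatrix_eq_zero_of_not_ge _ v φ _ h
  intro a t hat
  exact genP_zero K _ a t hat

/-- the expansion identity after evaluation -/
lemma evP_expansion [IsDomain K] [Infinite K] (p : Fin n → Fin d → Prop)
    [∀ a t, Decidable (p a t)] (f₀ : PlRing K d n) (g : Chain d n →₀ K)
    (hg : f₀ - (g.sum fun c a => a • chainMon K c.2.1) ∈ plIdealTop (d := d) (n := n) K) :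
    evP K p f₀ = ∑ c ∈ g.support, g c • evP K p (chainMon K c.2.1) := by
  have h1 : evP K p (f₀ - (g.sum fun c a => a • chainMon K c.2.1)) = 0 :=
    plIdealTop_le_ker_evP K p hg
  rw [map_sub, sub_eq_zero] at h1
  rw [h1]
  unfold Finsupp.sum
  rw [map_sum]
  apply Finset.sum_congr rfl
  intro c _
  rw [map_smul]

/-- if `f₀` is killed by the evaluation, the admissible standard monomials do not occur in it -/
lemma coeff_zero_of_evP_zero [IsDomain K] [Infinite K] (hd : 0 < d)
    (p : Fin n → Fin d → Prop) [∀ a t, Decidable (p a t)]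
    (hzero : ∀ φ : Idx d n, ¬ Adm p φ → evP K p (X φ) = 0)
    (f₀ : PlRing K d n) (g : Chain d n →₀ K)
    (hg : f₀ - (g.sum fun c a => a • chainMon K c.2.1) ∈ plIdealTop (d := d) (n := n) K)
    (h0 : evP K p f₀ = 0) (c : Chain d n) (hc : ∀ k, Adm p (c.2.1 k)) : g c = 0 := by
  by_cases hcs : c ∈ g.support
  · have h1 := evP_expansion K p f₀ g hg
    rw [h0] at h1
    exact indepP K p hd hzero (fun c : Chain d n => c.1) (fun c => c.2.1) (fun c => c.2.2)
      chain_inj g.support g h1.symm c hcs hc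
  · exact Finsupp.notMem_support_iff.1 hcs

end patterns

section supinf

variable {d n : ℕ}

lemma wt_sup_add_inf (τ φ : Idx d n) :
    wt (W4bk4grassmannian.sup τ φ).1 + wt (W4bk4grassmannian.inf τ φ).1 = wt τ.1 + wt φ.1 := by
  unfold wt
  rw [← Finset.sum_add_distrib, ← Finset.sum_add_distrib]
  apply Finset.sum_congr rfl
  intro t _
  show (max (τ.1 t) (φ.1 t)).val + (min (τ.1 t) (φ.1 t)).val = _
  rcases le_total (τ.1 t) (φ.1 t) with h | h
  · rw [max_eq_right h, min_eq_left h, add_comm]
  · rw [max_eq_left h, min_eq_right h]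

lemma expo_sup_add_inf (τ φ : Idx d n) :
    expo (W4bk4grassmannian.sup τ φ).1 1 + expo (W4bk4grassmannian.inf τ φ).1 1 =
      expo τ.1 1 + expo φ.1 1 := by
  unfold expo
  rw [← Finset.sum_add_distrib, ← Finset.sum_add_distrib]
  apply Finset.sum_congr rfl
  intro t _
  show Finsupp.single (toLex (max (τ.1 t) (φ.1 t), t)) 1 +
    Finsupp.single (toLex (min (τ.1 t) (φ.1 t), t)) 1 = _
  rcases le_total (τ.1 t) (φ.1 t) with h | h
  · rw [max_eq_right h, min_eq_left h, add_comm]
    rfl
  · rw [max_eq_left h, min_eq_right h]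
    rfl

lemma inf_le_sup' (τ φ : Idx d n) : W4bk4grassmannian.inf τ φ ≤ W4bk4grassmannian.sup τ φ := by
  intro t
  exact min_le_max

lemma le_sup_iff' (τ φ α : Idx d n) : W4bk4grassmannian.sup τ φ ≤ α ↔ τ ≤ α ∧ φ ≤ α := by
  constructor
  · intro h
    exact ⟨fun t => (le_max_left _ _).trans (h t), fun t => (le_max_right _ _).trans (h t)⟩
  · rintro ⟨h1, h2⟩ t
    exact max_le (h1 t) (h2 t)

lemma le_inf_iff'' (τ φ β : Idx d n) : β ≤ W4bk4grassmannian.inf τ φ ↔ β ≤ τ ∧ β ≤ φ := by
  constructor
  · intro h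
    exact ⟨fun t => (h t).trans (min_le_left _ _), fun t => (h t).trans (min_le_right _ _)⟩
  · rintro ⟨h1, h2⟩ t
    exact le_min (h1 t) (h2 t)

/-- a two-element chain -/
def pairChain (α β : Idx d n) (h : β ≤ α) : Chain d n :=
  ⟨2, ![α, β], by
    intro i j hij
    fin_cases i <;> fin_cases j
    · exact le_rfl
    · exact h
    · exact absurd hij (by decide)
    · exact le_rfl⟩

lemma E_pairChain (α β : Idx d n) (h : β ≤ α) :
    E (pairChain α β h).2.1 = expo α.1 1 + expo β.1 1 := by
  show ∑ k : Fin 2, expo ((![α, β] k).1) 1 = _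
  rw [Fin.sum_univ_two]
  rfl

lemma chainMon_pairChain (K : Type*) [CommRing K] (α β : Idx d n) (h : β ≤ α) :
    chainMon K (pairChain α β h).2.1 = (X α * X β : PlRing K d n) := by
  show ∏ k : Fin 2, (X (![α, β] k) : PlRing K d n) = _
  rw [Fin.prod_univ_two]
  rfl

end supinf


section main

variable (K : Type u) [Field K] [Infinite K] {d n : ℕ} (hd : 0 < d) (τ φ : Idx d n)

include hd in
/-- every standard monomial occurring in the expansion of `X_τ X_φ` is a product `X_α X_β` with
`β ≤ α`, `τ ∨ φ ≤ α`, `β ≤ τ ∧ φ` and `wt α + wt β = wt τ + wt φ` -/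
lemma support_shape (g : Chain d n →₀ K)
    (hg : (X τ * X φ : PlRing K d n) - (g.sum fun c a => a • chainMon K c.2.1) ∈
      plIdealTop (d := d) (n := n) K) (ch : Chain d n) (hch : ch ∈ g.support) :
    ∃ (α β : Idx d n) (h : β ≤ α), ch = pairChain α β h ∧
      W4bk4grassmannian.sup τ φ ≤ α ∧ β ≤ W4bk4grassmannian.inf τ φ ∧
      wt α.1 + wt β.1 = wt τ.1 + wt φ.1 := by
  classical
  have hgne : g ch ≠ 0 := Finsupp.mem_support_iff.1 hch
  -- step 1: bidegree
  have hbg : chainBg ch.2.1 = (d + d, wt τ.1 + wt φ.1) := by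
    by_contra hbad
    have hid := evP_expansion K (pTrue (n := n) (d := d)) _ g hg
    have hf₀ : BiHom K ((d, wt τ.1) + (d, wt φ.1))
        (evP K (pTrue (n := n) (d := d)) (X τ * X φ)) := by
      rw [map_mul, evP_X, evP_X]
      exact biHom_mul K (biHom_det K _ τ) (biHom_det K _ φ)
    have hzero := sum_bad_eq_zero K g.support
      (fun c => g c • evP K (pTrue (n := n) (d := d)) (chainMon K c.2.1))
      (fun c => chainBg c.2.1)
      (fun c _ => biHom_smul K (biHom_evP_chainMon K _ c.2.1) (g c)) _ _ hf₀ hid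
    have := indepP K (pTrue (n := n) (d := d)) hd (evP_pTrue_zero K)
      (fun c : Chain d n => c.1) (fun c => c.2.1) (fun c => c.2.2) chain_inj
      (g.support.filter (fun c => chainBg c.2.1 ≠ (d, wt τ.1) + (d, wt φ.1))) g hzero ch
      (Finset.mem_filter.2 ⟨hch, hbad⟩) (fun k => adm_pTrue _)
    exact hgne this
  obtain ⟨m, c, hc⟩ := ch
  have hm : m = 2 := by
    have h1 := congrArg Prod.fst hbg
    unfold chainBg at h1
    simp only at h1
    have : m * d = 2 * d := by rw [h1]; ring
    exact Nat.eq_of_mul_eq_mul_right hd this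
  subst hm
  have hwt : wt (c 0).1 + wt (c 1).1 = wt τ.1 + wt φ.1 := by
    have h1 := congrArg Prod.snd hbg
    unfold chainBg at h1
    simp only at h1
    rw [Fin.sum_univ_two] at h1
    exact h1
  have h10 : c 1 ≤ c 0 := hc (by decide)
  -- step 2: bounds
  have hup : τ ≤ c 0 ∧ φ ≤ c 0 := by
    by_contra hcon
    have h0 : evP K (pUp (c 0)) (X τ * X φ : PlRing K d n) = 0 := by
      rw [map_mul]
      rw [not_and_or] at hcon
      rcases hcon with h | h
      · rw [evP_pUp_zero K (c 0) τ h, zero_mul]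
      · rw [evP_pUp_zero K (c 0) φ h, mul_zero]
    apply hgne
    apply coeff_zero_of_evP_zero K hd (pUp (c 0)) (evP_pUp_zero K (c 0)) _ g hg h0
    intro k
    show c k ≤ c 0
    exact hc (Fin.zero_le k)
  have hlow : c 1 ≤ τ ∧ c 1 ≤ φ := by
    by_contra hcon
    have h0 : evP K (pLow (c 1)) (X τ * X φ : PlRing K d n) = 0 := by
      rw [map_mul]
      rw [not_and_or] at hcon
      rcases hcon with h | h
      · rw [evP_pLow_zero K (c 1) τ h, zero_mul]
      · rw [evP_pLow_zero K (c 1) φ h, mul_zero]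
    apply hgne
    apply coeff_zero_of_evP_zero K hd (pLow (c 1)) (evP_pLow_zero K (c 1)) _ g hg h0
    intro k
    show c 1 ≤ c k
    apply hc
    have : k.val < 2 := k.isLt
    rw [Fin.le_def]
    simp only [Fin.val_one]
    omega
  refine ⟨c 0, c 1, h10, ?_, (le_sup_iff' τ φ (c 0)).2 hup, (le_inf_iff'' τ φ (c 1)).2 hlow, hwt⟩
  unfold pairChain
  congr 1
  apply Subtype.ext
  funext k
  fin_cases k <;> rfl


omit [Infinite K] in
include hd in
/-- the coefficient of the leading monomial of a maximal standard monomial -/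
lemma coeff_sum_eq (s : Finset (Chain d n)) (g : Chain d n → K) (c₀ : Chain d n)
    (hmax : ∀ c ∈ s, (MonomialOrder.lex (σ := Var n d)).toSyn (E c.2.1) ≤
      (MonomialOrder.lex (σ := Var n d)).toSyn (E c₀.2.1)) :
    coeff (E c₀.2.1) (∑ c ∈ s, g c • evP K (pTrue (n := n) (d := d)) (chainMon K c.2.1)) =
      if c₀ ∈ s then g c₀ else 0 := by
  classical
  rw [coeff_sum]
  have hterm : ∀ c ∈ s, c ≠ c₀ →
      coeff (E c₀.2.1) (g c • evP K (pTrue (n := n) (d := d)) (chainMon K c.2.1)) = 0 := by
    intro c hc hne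
    rw [coeff_smul]
    have hlt : (MonomialOrder.lex (σ := Var n d)).toSyn (E c.2.1) <
        (MonomialOrder.lex (σ := Var n d)).toSyn (E c₀.2.1) := by
      apply lt_of_le_of_ne (hmax c hc)
      intro heq
      apply hne
      apply chain_inj
      exact E_inj hd c.2.1 c₀.2.1 c.2.2 c₀.2.2
        ((MonomialOrder.lex (σ := Var n d)).toSyn.injective heq)
    rw [MonomialOrder.coeff_eq_zero_of_lt (m := MonomialOrder.lex (σ := Var n d)), smul_zero]
    rw [(monic_evP_chainMon K _ c.2.1 (fun k => adm_pTrue _)).2]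
    exact hlt
  by_cases hc₀ : c₀ ∈ s
  · rw [if_pos hc₀, Finset.sum_eq_single c₀]
    · rw [coeff_smul, ← (monic_evP_chainMon K _ c₀.2.1 (fun k => adm_pTrue _)).2,
        (monic_evP_chainMon K _ c₀.2.1 (fun k => adm_pTrue _)).1.coeff_degree, smul_eq_mul, mul_one]
    · intro c hc hne
      exact hterm c hc hne
    · intro h; exact absurd hc₀ h
  · rw [if_neg hc₀]
    apply Finset.sum_eq_zero
    intro c hc
    exact hterm c hc (fun h => hc₀ (h ▸ hc))

include hd in
/-- the standard monomial `X_{τ∨φ} X_{τ∧φ}` occurs with coefficient one -/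
lemma coeff_star (g : Chain d n →₀ K)
    (hg : (X τ * X φ : PlRing K d n) - (g.sum fun c a => a • chainMon K c.2.1) ∈
      plIdealTop (d := d) (n := n) K) :
    g (pairChain (W4bk4grassmannian.sup τ φ) (W4bk4grassmannian.inf τ φ) (inf_le_sup' τ φ)) = 1 := by
  classical
  set star := pairChain (W4bk4grassmannian.sup τ φ) (W4bk4grassmannian.inf τ φ) (inf_le_sup' τ φ)
    with hstar
  have hid := evP_expansion K (pTrue (n := n) (d := d)) _ g hg
  -- the left side
  have hmon := monic_evP_chainMon K (pTrue (n := n) (d := d)) ![τ, φ] (fun k => adm_pTrue _)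
  have hcm : chainMon K ![τ, φ] = (X τ * X φ : PlRing K d n) := by
    unfold chainMon
    rw [Fin.prod_univ_two]
    rfl
  rw [hcm] at hmon
  have hE2 : E ![τ, φ] = expo τ.1 1 + expo φ.1 1 := by
    unfold E
    rw [Fin.sum_univ_two]
    rfl
  have hEstar : E star.2.1 = E ![τ, φ] := by
    rw [hE2, ← expo_sup_add_inf]
    exact E_pairChain _ _ _
  -- all occurring standard monomials have smaller leading monomials
  have hA : ∀ c ∈ g.support, (MonomialOrder.lex (σ := Var n d)).toSyn (E c.2.1) ≤
      (MonomialOrder.lex (σ := Var n d)).toSyn (E star.2.1) := by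
    by_contra hcon
    simp only [not_forall, not_le] at hcon
    obtain ⟨c₁, hc₁, hlt₁⟩ := hcon
    obtain ⟨cm, hcm', hmax⟩ := Finset.exists_max_image g.support
      (fun c => (MonomialOrder.lex (σ := Var n d)).toSyn (E c.2.1)) ⟨c₁, hc₁⟩
    have hlt : (MonomialOrder.lex (σ := Var n d)).toSyn (E star.2.1) <
        (MonomialOrder.lex (σ := Var n d)).toSyn (E cm.2.1) := lt_of_lt_of_le hlt₁ (hmax c₁ hc₁)
    have h1 := coeff_sum_eq K hd g.support g cm hmax
    rw [← hid, if_pos hcm'] at h1
    rw [MonomialOrder.coeff_eq_zero_of_lt (m := MonomialOrder.lex (σ := Var n d))] at h1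
    · exact (Finsupp.mem_support_iff.1 hcm') h1.symm
    · rw [hmon.2, ← hEstar]
      exact hlt
  have h2 := coeff_sum_eq K hd g.support g star hA
  rw [← hid, hEstar, ← hmon.2, hmon.1.coeff_degree] at h2
  by_cases hs : star ∈ g.support
  · rw [if_pos hs] at h2
    exact h2.symm
  · rw [if_neg hs] at h2
    exact absurd h2 one_ne_zero

include hd in
/-- **shape of the straightening relation of a skew pair** -/
theorem straightening_shape :
    ∃ g' ∈ Submodule.span K {f : PlRing K d n | ∃ α β : Idx d n,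
        β ≤ α ∧ W4bk4grassmannian.sup τ φ < α ∧ β < W4bk4grassmannian.inf τ φ ∧
          f = X α * X β},
      (X τ * X φ : PlRing K d n) -
          X (W4bk4grassmannian.sup τ φ) * X (W4bk4grassmannian.inf τ φ) - g' ∈
        plIdealTop (d := d) (n := n) K := by
  classical
  obtain ⟨g, hg⟩ := exists_expansion K (X τ * X φ : PlRing K d n)
  set star := pairChain (W4bk4grassmannian.sup τ φ) (W4bk4grassmannian.inf τ φ) (inf_le_sup' τ φ)
    with hstar
  have h1 : g star = 1 := coeff_star K hd τ φ g hg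
  have hsm : star ∈ g.support := by
    rw [Finsupp.mem_support_iff, h1]
    exact one_ne_zero
  have hcmstar : chainMon K star.2.1 =
      (X (W4bk4grassmannian.sup τ φ) * X (W4bk4grassmannian.inf τ φ) : PlRing K d n) :=
    chainMon_pairChain K _ _ _
  refine ⟨∑ c ∈ g.support.erase star, g c • chainMon K c.2.1, ?_, ?_⟩
  · apply Submodule.sum_mem
    intro c hc
    apply Submodule.smul_mem
    apply Submodule.subset_span
    rw [Finset.mem_erase] at hc
    obtain ⟨α, β, hβα, rfl, hsup, hinf, hwt⟩ := support_shape K hd τ φ g hg c hc.2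
    have hne : ¬ (α = W4bk4grassmannian.sup τ φ ∧ β = W4bk4grassmannian.inf τ φ) := by
      rintro ⟨rfl, rfl⟩
      exact hc.1 rfl
    have hws := wt_sup_add_inf τ φ
    have hα : α ≠ W4bk4grassmannian.sup τ φ := by
      intro hα
      apply hne
      refine ⟨hα, ?_⟩
      apply eq_of_le_of_wt_le hinf
      rw [hα] at hwt
      omega
    have hβ : β ≠ W4bk4grassmannian.inf τ φ := by
      intro hβ
      apply hne
      refine ⟨?_, hβ⟩
      symm
      apply eq_of_le_of_wt_le hsup
      rw [hβ] at hwt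
      omega
    refine ⟨α, β, hβα, lt_of_le_of_ne hsup (Ne.symm hα), lt_of_le_of_ne hinf hβ, ?_⟩
    exact chainMon_pairChain K α β hβα
  · have hsplit : (g.sum fun c a => a • chainMon K c.2.1) =
        X (W4bk4grassmannian.sup τ φ) * X (W4bk4grassmannian.inf τ φ) +
          ∑ c ∈ g.support.erase star, g c • chainMon K c.2.1 := by
      unfold Finsupp.sum
      rw [← Finset.add_sum_erase _ _ hsm]
      beta_reduce
      rw [h1, one_smul, hcmstar]
    have : (X τ * X φ : PlRing K d n) -
          X (W4bk4grassmannian.sup τ φ) * X (W4bk4grassmannian.inf τ φ) -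
          ∑ c ∈ g.support.erase star, g c • chainMon K c.2.1 =
        (X τ * X φ : PlRing K d n) - (g.sum fun c a => a • chainMon K c.2.1) := by
      rw [hsplit]; ring
    rw [this]
    exact hg

end main

section vanishing

variable {d n : ℕ} (K : Type*) [CommRing K]

lemma plIdealTop_le_vanishing :
    plIdealTop (d := d) (n := n) K ≤ vanishing K d n := by
  unfold plIdealTop
  rw [Ideal.span_le]
  rintro f ⟨i, j, r, -, rfl⟩
  unfold vanishing
  rw [SetLike.mem_coe, Ideal.mem_iInf]
  intro A
  rw [RingHom.mem_ker]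
  exact evalMinors_shuffleRel (A := A) i j r

end vanishing

end Groth.Agent.Lib.Helper28.Smt
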