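import Groth.Agent.Lib.Helper28.SmtUFD
import Groth.Agent.Lib.Helper28.SmtShape2

/-!
# Unions of Schubert divisors: the ideal of the intersection with a further divisor (helper28)
-/

set_option autoImplicit false

universe u

namespace Groth.Agent.Lib.Helper28.Smt

open W4bk4grassmannian MvPolynomial

section comb

variable {d n : ℕ}

lemma codeg_sup_add_inf (a b : Idx d n) :
    codeg (W4bk4grassmannian.sup a b) + codeg (W4bk4grassmannian.inf a b) = codeg a + codeg b := by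
  unfold codeg
  rw [← Finset.sum_add_distrib, ← Finset.sum_add_distrib]
  apply Finset.sum_congr rfl
  intro t _
  show ((max (a.1 t) (b.1 t)).val - t.val) + ((min (a.1 t) (b.1 t)).val - t.val) = _
  rcases le_total (a.1 t) (b.1 t) with h | h
  · rw [max_eq_right h, min_eq_left h, add_comm]
  · rw [max_eq_left h, min_eq_right h]

lemma codeg_le_of_le {a b : Idx d n} (h : a ≤ b) : codeg a ≤ codeg b := by
  unfold codeg
  apply Finset.sum_le_sum
  intro t _
  have : (a.1 t).val ≤ (b.1 t).val := h t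
  omega

lemma codeg_lt_of_lt {a b : Idx d n} (h : a < b) : codeg a < codeg b := by
  apply lt_of_le_of_ne (codeg_le_of_le h.le)
  intro heq
  exact h.ne (eq_of_le_of_codeg_eq a b h.le heq)

lemma inf_mem_divisors {τ φ ψ : Idx d n} (hφ : φ ∈ divisors τ) (hψ : ψ ∈ divisors τ)
    (hne : φ ≠ ψ) : W4bk4grassmannian.inf φ ψ ∈ divisors ψ := by
  obtain ⟨hφlt, hφc⟩ := hφ
  obtain ⟨hψlt, hψc⟩ := hψ
  have hnle : ¬ ψ ≤ φ := by
    intro h
    exact hne (eq_of_le_of_codeg_eq ψ φ h (by omega)).symm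
  have hinfle : W4bk4grassmannian.inf φ ψ ≤ ψ := ((le_inf_iff'' φ ψ _).1 le_rfl).2
  have hinfne : W4bk4grassmannian.inf φ ψ ≠ ψ := by
    intro h
    apply hnle
    have := ((le_inf_iff'' φ ψ ψ).1 (le_of_eq h.symm)).1
    exact this
  have hsuple : W4bk4grassmannian.sup φ ψ ≤ τ := (le_sup_iff' φ ψ τ).2 ⟨hφlt.le, hψlt.le⟩
  have hφsup : φ ≤ W4bk4grassmannian.sup φ ψ := ((le_sup_iff' φ ψ _).1 le_rfl).1
  have hφne : φ ≠ W4bk4grassmannian.sup φ ψ := by
    intro h
    apply hnle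
    have := ((le_sup_iff' φ ψ φ).1 (le_of_eq h.symm)).2
    exact this
  have h1 := codeg_lt_of_lt (lt_of_le_of_ne hφsup hφne)
  have h2 := codeg_le_of_le hsuple
  have h3 := codeg_sup_add_inf φ ψ
  refine ⟨lt_of_le_of_ne hinfle hinfne, ?_⟩
  omega

end comb

section ideal

variable {d n : ℕ} (K : Type u) [Field K] [Infinite K]

/-- `(⋂_{φ ∈ F} J(φ)) + J(ψ) = ⋂_{φ ∈ F} J(φ ∧ ψ)` -/
theorem finset_inf_sup_eq (hd : 0 < d) (F : Finset (Idx d n)) (ψ : Idx d n) :
    F.inf (fun φ => schubertVanishing K d n φ) ⊔ schubertVanishing K d n ψ =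
      (F.image (fun φ => W4bk4grassmannian.inf φ ψ)).inf (fun φ => schubertVanishing K d n φ) := by
  classical
  set I := F.inf (fun φ => schubertVanishing K d n φ) ⊔ schubertVanishing K d n ψ with hIdef
  set W : Set (Idx d n) := {w | ∃ φ ∈ F, w = W4bk4grassmannian.inf φ ψ} with hW
  have hWeq : (F.image (fun φ => W4bk4grassmannian.inf φ ψ)).inf
      (fun φ => schubertVanishing K d n φ) = ⨅ w ∈ W, schubertVanishing K d n w := by
    rw [Finset.inf_eq_iInf]
    apply iInf_congr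
    intro w
    apply iInf_congr_Prop
    case pq =>
      rw [Finset.mem_image, hW, Set.mem_ofPred_eq]
      constructor
      · rintro ⟨φ, hφ, rfl⟩
        exact ⟨φ, hφ, rfl⟩
      · rintro ⟨φ, hφ, rfl⟩
        exact ⟨φ, hφ, rfl⟩
    case f =>
      intro _
      rfl
  rw [hWeq]
  have hI : plIdealTop (d := d) (n := n) K ≤ I :=
    (plIdealTop_le_schubertVanishing K ψ).trans le_sup_right
  have hIle : I ≤ ⨅ w ∈ W, schubertVanishing K d n w := by
    rw [le_iInf_iff]
    intro w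
    rw [le_iInf_iff]
    rintro ⟨φ, hφ, rfl⟩
    apply sup_le
    · exact (Finset.inf_le hφ).trans
        (schubertVanishing_mono K ((le_inf_iff'' φ ψ _).1 le_rfl).1)
    · exact schubertVanishing_mono K ((le_inf_iff'' φ ψ _).1 le_rfl).2
  apply le_antisymm hIle
  intro f hf
  apply mem_of_mem_iInf K hd W I hI hIle
    (fun c => (∀ k, c.2.1 k ≤ ψ) ∧ ∃ φ ∈ F, ∀ k, c.2.1 k ≤ φ) _ _ f hf
  · intro c hc
    rw [not_and_or] at hc
    rcases hc with hc | hc
    · simp only [not_forall] at hc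
      obtain ⟨k, hk⟩ := hc
      apply chainMon_mem_of_mem K I c.2.1 k
      exact Ideal.mem_sup_right (X_mem_schubertVanishing K ψ _ hk)
    · apply Ideal.mem_sup_left
      rw [Submodule.mem_finsetInf]
      intro φ hφ
      have : ¬ ∀ k, c.2.1 k ≤ φ := fun h => hc ⟨φ, hφ, h⟩
      simp only [not_forall] at this
      obtain ⟨k, hk⟩ := this
      exact chainMon_mem_of_mem K _ c.2.1 k (X_mem_schubertVanishing K φ _ hk)
  · rintro c ⟨h1, φ, hφ, h2⟩
    exact ⟨W4bk4grassmannian.inf φ ψ, ⟨φ, hφ, rfl⟩,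
      fun k => (le_inf_iff'' φ ψ _).2 ⟨h2 k, h1 k⟩⟩

end ideal

end Groth.Agent.Lib.Helper28.Smt
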