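import Groth.Agent.Lib.Helper28.SmtCellUFD
import Mathlib.RingTheory.RegularLocalRing.Polynomial
import Mathlib.RingTheory.DedekindDomain.PID

/-!
# The complement of the divisor `X_τ = 0` in the cone over a Schubert variety is regular (helper28)
-/

set_option autoImplicit false
set_option linter.style.haveILetI false

universe u

namespace Groth.Agent.Lib.Helper28.RegAux

open Groth.Agent.Lib.Helper73.DimFormula MvPolynomial Cardinal

/-- A localization of a regular ring is regular. -/
theorem isRegularRing_localization (R : Type u) [CommRing R] [IsRegularRing R] (M : Submonoid R) :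
    IsRegularRing (Localization M) := by
  have : IsNoetherianRing (Localization M) := IsLocalization.isNoetherianRing M _ inferInstance
  rw [isRegularRing_iff]
  intro p hp
  have := IsRegularRing.isRegularLocalRing_localization (R := R)
    (p.comap (algebraMap R (Localization M)))
  exact IsRegularLocalRing.of_ringEquiv
    (IsLocalization.localizationLocalizationAtPrimeIsoLocalization M p).toRingEquiv

/-- Let `L` be a domain over a field `k` generated by elements `g i` (`i ∈ ι`, finite) together
with the inverse of `g i₀`.  If the transcendence degree of `L` is at least the number of the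
`g i`, then `L` is isomorphic to a localization of a polynomial ring. -/
theorem exists_equiv_of_generators (k : Type u) [Field k] (L : Type u) [CommRing L] [IsDomain L]
    [Algebra k L] (ι : Type) [Fintype ι] (g : ι → L) (i₀ : ι) (ginv : L) (hinv : g i₀ * ginv = 1)
    (hgen : Algebra.adjoin k (Set.range g ∪ {ginv}) = ⊤)
    (htr : (Fintype.card ι : Cardinal.{u}) ≤ Algebra.trdeg k L) :
    Nonempty (Localization.Away (X i₀ : MvPolynomial ι k) ≃+* L) := by
  classical
  let P := MvPolynomial ι k
  let P' := Localization.Away (X i₀ : P)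
  have hXne : (X i₀ : P) ≠ 0 := X_ne_zero i₀
  have hle : Submonoid.powers (X i₀ : P) ≤ nonZeroDivisors P :=
    powers_le_nonZeroDivisors_of_noZeroDivisors hXne
  haveI : IsDomain P' := IsLocalization.isDomain_localization hle
  haveI : Algebra.FiniteType P P' :=
    IsLocalization.finiteType_of_monoid_fg (Submonoid.powers (X i₀ : P)) P'
  haveI : Algebra.FiniteType k P' :=
    Algebra.FiniteType.trans (S := P) (inferInstance : Algebra.FiniteType k P) inferInstance
  -- the map
  have hunit : ∀ y : Submonoid.powers (X i₀ : P), IsUnit ((aeval g : P →ₐ[k] L) y) := by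
    rintro ⟨y, m, rfl⟩
    rw [map_pow, aeval_X]
    exact (IsUnit.of_mul_eq_one _ hinv).pow m
  let ψ : P' →ₐ[k] L := IsLocalization.liftAlgHom (M := Submonoid.powers (X i₀ : P))
    (f := (aeval g : P →ₐ[k] L)) hunit
  have hψ : ∀ p : P, ψ (algebraMap P P' p) = aeval g p := by
    intro p
    exact IsLocalization.lift_eq _ p
  have hsurj : Function.Surjective ψ := by
    rw [← AlgHom.range_eq_top, eq_top_iff, ← hgen, Algebra.adjoin_le_iff]
    rintro y (⟨i, rfl⟩ | hy)
    · exact ⟨algebraMap P P' (X i), by
        show ψ (algebraMap P P' (X i)) = g i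
        rw [hψ, aeval_X]⟩
    · rw [Set.mem_singleton_iff] at hy
      rw [hy]
      refine ⟨IsLocalization.mk' P' (1 : P) (⟨X i₀, Submonoid.mem_powers _⟩ :
        Submonoid.powers (X i₀ : P)), ?_⟩
      have h1 : ψ (IsLocalization.mk' P' (1 : P) (⟨X i₀, Submonoid.mem_powers _⟩ :
          Submonoid.powers (X i₀ : P))) * g i₀ = 1 := by
        have h2 : g i₀ = ψ (algebraMap P P' (X i₀)) := by rw [hψ, aeval_X]
        rw [h2, ← map_mul, IsLocalization.mk'_spec, map_one, map_one]
      show ψ (IsLocalization.mk' P' (1 : P) (⟨X i₀, Submonoid.mem_powers _⟩ :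
          Submonoid.powers (X i₀ : P))) = ginv
      calc ψ _ = ψ _ * (g i₀ * ginv) := by rw [hinv, mul_one]
        _ = (ψ _ * g i₀) * ginv := by ring
        _ = ginv := by rw [h1, one_mul]
  -- transcendence degrees
  have htrP : Algebra.trdeg k P = (Fintype.card ι : Cardinal.{u}) := by
    rw [MvPolynomial.trdeg_of_isDomain]
    simp
  haveI : FaithfulSMul P P' := by
    rw [faithfulSMul_iff_algebraMap_injective]
    exact IsLocalization.injective P' hle
  haveI : Algebra.IsAlgebraic P P' :=
    IsLocalization.isAlgebraic P' (Submonoid.powers (X i₀ : P))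
  have htrP' : Algebra.trdeg k P' = (Fintype.card ι : Cardinal.{u}) := by
    rw [trdeg_eq_of_isAlgebraic_top k (A := P) (B := P'), htrP]
  -- the kernel
  set q : Ideal P' := RingHom.ker ψ.toRingHom with hq
  haveI : q.IsPrime := RingHom.ker_isPrime _
  have hform := height_add_trdeg_eq_of_field k P' q
  let e : (P' ⧸ q) ≃ₐ[k] L := Ideal.quotientKerAlgEquivOfSurjective hsurj
  have htrq : Algebra.trdeg k (P' ⧸ q) = Algebra.trdeg k L := e.trdeg_eq
  rw [htrq, htrP'] at hform
  have hht : q.height = 0 := by
    by_contra hne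
    have h1 : (1 : Cardinal.{u}) ≤ (q.height : Cardinal.{u}) := by
      have : (1 : ℕ∞) ≤ q.height := Order.one_le_iff_pos.2 (pos_iff_ne_zero.2 hne)
      exact_mod_cast this
    have h2 : (1 : Cardinal.{u}) + (Fintype.card ι : Cardinal.{u}) ≤
        (q.height : Cardinal.{u}) + Algebra.trdeg k L := add_le_add h1 htr
    rw [hform] at h2
    have h3 : ((1 + Fintype.card ι : ℕ) : Cardinal.{u}) ≤ ((Fintype.card ι : ℕ) : Cardinal.{u}) := by
      push_cast
      exact h2
    have := Nat.cast_le.1 h3
    omega
  have hqbot : q = ⊥ := Ideal.height_eq_zero_iff_eq_bot.1 hht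
  have hinj : Function.Injective ψ := by
    rw [injective_iff_map_eq_zero]
    intro a ha
    have hmem : a ∈ q := by
      rw [hq, RingHom.mem_ker]
      exact ha
    rw [hqbot, Ideal.mem_bot] at hmem
    exact hmem
  exact ⟨RingEquiv.ofBijective ψ.toRingHom ⟨hinj, hsurj⟩⟩

theorem isRegularRing_of_generators (k : Type u) [Field k] (L : Type u) [CommRing L] [IsDomain L]
    [Algebra k L] (ι : Type) [Fintype ι] (g : ι → L) (i₀ : ι) (ginv : L) (hinv : g i₀ * ginv = 1)
    (hgen : Algebra.adjoin k (Set.range g ∪ {ginv}) = ⊤)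
    (htr : (Fintype.card ι : Cardinal.{u}) ≤ Algebra.trdeg k L) : IsRegularRing L := by
  obtain ⟨E⟩ := exists_equiv_of_generators k L ι g i₀ ginv hinv hgen htr
  haveI : IsRegularRing (MvPolynomial ι k) := inferInstance
  haveI : IsRegularRing (Localization.Away (X i₀ : MvPolynomial ι k)) :=
    isRegularRing_localization (MvPolynomial ι k) (Submonoid.powers (X i₀))
  exact IsRegularRing.of_ringEquiv E

end Groth.Agent.Lib.Helper28.RegAux

namespace Groth.Agent.Lib.Helper28.Smt

open W4bk4grassmannian MvPolynomial

section reg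

variable (K : Type u) [Field K] [Infinite K] {d n : ℕ} (hdn : d ≤ n) (τ : Idx d n)

include hdn in
/-- the complement of the divisor `X_τ = 0` in the cone over `X(τ)` is regular -/
theorem isRegularRing_LS (hd : 0 < d) : IsRegularRing (LS K τ) := by
  classical
  haveI := isDomain_RS K hdn τ hd
  have hle : Submonoid.powers (xT K τ) ≤ nonZeroDivisors (RS K τ) :=
    powers_le_nonZeroDivisors_of_noZeroDivisors (xT_ne_zero K τ)
  haveI : IsDomain (LS K τ) := IsLocalization.isDomain_localization hle
  haveI : Algebra.FiniteType K (RS K τ) :=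
    Algebra.FiniteType.of_surjective (Ideal.Quotient.mkₐ K _) (Ideal.Quotient.mkₐ_surjective K _)
  -- transcendence degree
  obtain ⟨N, hN1, hN2, -, -⟩ :=
    Groth.Agent.Lib.Helper73.DimFormula.exists_trdeg_eq_ringKrullDim K (RS K τ)
  have hdim := ringKrullDim_schubert K hd hdn (codeg τ) τ rfl
  have hNeq : N = codeg τ + 1 := by
    rw [hN2] at hdim
    exact_mod_cast hdim
  haveI : FaithfulSMul (RS K τ) (LS K τ) := by
    refine ⟨fun {a b} h => ?_⟩
    have h1 := h 1
    have h2 : algebraMap (RS K τ) (LS K τ) a = algebraMap (RS K τ) (LS K τ) b := by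
      rw [Algebra.algebraMap_eq_smul_one, Algebra.algebraMap_eq_smul_one]
      exact h1
    exact IsLocalization.injective (LS K τ) hle h2
  haveI : Algebra.IsAlgebraic (RS K τ) (LS K τ) :=
    IsLocalization.isAlgebraic (LS K τ) (Submonoid.powers (xT K τ))
  have htr : Algebra.trdeg K (LS K τ) = (N : Cardinal.{u}) := by
    rw [Groth.Agent.Lib.Helper73.DimFormula.trdeg_eq_of_isAlgebraic_top K (A := RS K τ)
      (B := LS K τ), hN1]
  apply RegAux.isRegularRing_of_generators K (LS K τ) (Option (Free τ)) (gen K τ) none (xinv K τ)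
    (gen_none_mul_xinv K τ) (Gsub_eq_top K hdn τ hd)
  rw [htr, hNeq, Fintype.card_option]
  have := card_free_le τ
  exact_mod_cast Nat.succ_le_succ this

include hdn in
/-- the local rings of the cone over `X(τ)` at primes not containing `X_τ` are regular -/
theorem isRegularLocalRing_of_xT_notMem (hd : 0 < d) (q : Ideal (RS K τ)) [q.IsPrime]
    (hq : xT K τ ∉ q) : IsRegularLocalRing (Localization.AtPrime q) := by
  haveI := isRegularRing_LS K hdn τ hd
  have hdisj : Disjoint (Submonoid.powers (xT K τ) : Set (RS K τ)) (q : Set (RS K τ)) := by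
    rw [Set.disjoint_left]
    rintro y ⟨m, rfl⟩ hy
    exact hq (Ideal.IsPrime.mem_of_pow_mem inferInstance m hy)
  set q' : Ideal (LS K τ) := q.map (algebraMap (RS K τ) (LS K τ)) with hq'
  haveI : q'.IsPrime :=
    IsLocalization.isPrime_of_isPrime_disjoint (Submonoid.powers (xT K τ)) (LS K τ) q
      inferInstance hdisj
  have hcomap : q'.comap (algebraMap (RS K τ) (LS K τ)) = q :=
    IsLocalization.under_map_of_isPrime_disjoint (Submonoid.powers (xT K τ)) (LS K τ)
      inferInstance hdisj
  have h1 : IsRegularLocalRing (Localization.AtPrime q') :=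
    IsRegularRing.isRegularLocalRing_localization q'
  have h2 : IsRegularLocalRing
      (Localization.AtPrime (q'.comap (algebraMap (RS K τ) (LS K τ)))) :=
    IsRegularLocalRing.of_ringEquiv (R := Localization.AtPrime q')
      (IsLocalization.localizationLocalizationAtPrimeIsoLocalization
        (Submonoid.powers (xT K τ)) q').symm.toRingEquiv
  have key : ∀ (p : Ideal (RS K τ)) [p.IsPrime], p = q →
      IsRegularLocalRing (Localization.AtPrime p) → IsRegularLocalRing (Localization.AtPrime q) := by
    intro p _ hp h
    subst hp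
    exact h
  exact key _ hcomap h2

end reg

end Groth.Agent.Lib.Helper28.Smt
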