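import Groth.Agent.Lib.Helper28.SmtCM1
import Groth.Agent.Lib.Helper28.SmtReg
import Groth.Agent.Lib.Helper28.CMAux3
import Groth.Agent.S5671

/-!
# Schubert varieties and unions of Schubert divisors are arithmetically Cohen–Macaulay (helper28)
-/

set_option autoImplicit false
set_option linter.style.haveILetI false

universe u

namespace Groth.Agent.Lib.Helper28.Smt

open W4bk4grassmannian MvPolynomial IsLocalRing
open Groth.Agent.Lib.Helper28.CMAux
open Groth.Agent.Lib.Helper73.DimFormula

section delta

variable (K : Type u) [Field K] {S : Type u} [CommRing S] [Algebra K S] [Algebra.FiniteType K S]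

instance finiteType_quotient (I : Ideal S) : Algebra.FiniteType K (S ⧸ I) :=
  Algebra.FiniteType.of_surjective (Ideal.Quotient.mkₐ K I) (Ideal.Quotient.mkₐ_surjective K I)

/-- the dimension of `S/P` -/
noncomputable def delta (P : Ideal S) [P.IsPrime] : ℕ :=
  (exists_trdeg_eq_ringKrullDim K (S ⧸ P)).choose

lemma trdeg_quotient_eq_delta (P : Ideal S) [P.IsPrime] :
    Algebra.trdeg K (S ⧸ P) = (delta K P : Cardinal.{u}) :=
  (exists_trdeg_eq_ringKrullDim K (S ⧸ P)).choose_spec.1

/-- the dimension formula for the local rings of a quotient domain -/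
theorem exists_dim_QP (J : Ideal S) [J.IsPrime] (N : ℕ)
    (hN : ringKrullDim (S ⧸ J) = (N : WithBot ℕ∞)) (q : Ideal (S ⧸ J)) [q.IsPrime] :
    ∃ h : ℕ, ringKrullDim (QP (q.comap (Ideal.Quotient.mk J)) J) = (h : WithBot ℕ∞) ∧
      h + delta K (q.comap (Ideal.Quotient.mk J)) = N := by
  haveI : IsNoetherianRing S := Algebra.FiniteType.isNoetherianRing K S
  obtain ⟨N', hN1, hN2, -, hN4⟩ := exists_trdeg_eq_ringKrullDim K (S ⧸ J)
  have hNN : N' = N := by
    rw [hN2] at hN
    exact_mod_cast hN
  subst hNN
  have hform := height_add_trdeg_eq_of_field K (S ⧸ J) q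
  -- the residue rings
  let f : S →ₐ[K] (S ⧸ J) ⧸ q := (Ideal.Quotient.mkₐ K q).comp (Ideal.Quotient.mkₐ K J)
  have hf : Function.Surjective f :=
    (Ideal.Quotient.mkₐ_surjective K q).comp (Ideal.Quotient.mkₐ_surjective K J)
  have hker : RingHom.ker f = q.comap (Ideal.Quotient.mk J) := by
    ext x
    rw [RingHom.mem_ker, Ideal.mem_comap]
    show Ideal.Quotient.mk q (Ideal.Quotient.mk J x) = 0 ↔ _
    rw [Ideal.Quotient.eq_zero_iff_mem]
  let e : (S ⧸ q.comap (Ideal.Quotient.mk J)) ≃ₐ[K] (S ⧸ J) ⧸ q :=
    (Ideal.quotientEquivAlgOfEq K hker.symm).trans (Ideal.quotientKerAlgEquivOfSurjective hf)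
  have htr : Algebra.trdeg K ((S ⧸ J) ⧸ q) = (delta K (q.comap (Ideal.Quotient.mk J)) : Cardinal.{u}) := by
    rw [← e.trdeg_eq, trdeg_quotient_eq_delta]
  rw [htr, hN1] at hform
  have hle := hN4 q
  obtain ⟨h, hh⟩ := ENat.ne_top_iff_exists.1 (ne_top_of_le_ne_top (ENat.natCast_ne_top N') hle)
  refine ⟨h, ?_, ?_⟩
  · rw [ringKrullDim_QP_eq, IsLocalization.AtPrime.ringKrullDim_eq_height q (Localization.AtPrime q),
      ← hh]
    rfl
  · rw [← hh] at hform
    exact_mod_cast hform

end delta

section main

variable (K : Type u) [Field K] [Infinite K] {d n : ℕ} (hd : 0 < d) (hdn : d ≤ n)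

include hd hdn in
/-- the dimension of the local rings of the cone over a Schubert variety -/
theorem exists_dim_schubert (w : Idx d n) (P : Ideal (PlRing K d n)) [P.IsPrime]
    (hJP : schubertVanishing K d n w ≤ P) :
    ∃ h : ℕ, ringKrullDim (QP P (schubertVanishing K d n w)) = (h : WithBot ℕ∞) ∧
      h + delta K P = codeg w + 1 := by
  haveI := isPrime_schubertVanishing K hd hdn w
  exact forall_prime_of_forall_quotient (schubertVanishing K d n w)
    (fun P _ => ∃ h : ℕ, ringKrullDim (QP P (schubertVanishing K d n w)) = (h : WithBot ℕ∞) ∧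
      h + delta K P = codeg w + 1)
    (fun q _ => exists_dim_QP K (schubertVanishing K d n w) (codeg w + 1)
      (ringKrullDim_schubert K hd hdn (codeg w) w rfl) q) P hJP

include hd hdn in
/-- the regular case: primes not containing `X_w` -/
theorem extVan_of_X_notMem (w : Idx d n) (P : Ideal (PlRing K d n)) [P.IsPrime]
    (hJP : schubertVanishing K d n w ≤ P) (hX : (X w : PlRing K d n) ∉ P) :
    ExtVan (Localization.AtPrime P) (codeg w + 1 - delta K P)
      (QP P (schubertVanishing K d n w)) := by
  haveI := isPrime_schubertVanishing K hd hdn w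
  haveI : IsNoetherianRing (PlRing K d n) := Algebra.FiniteType.isNoetherianRing K _
  refine forall_prime_of_forall_quotient (schubertVanishing K d n w)
    (fun P _ => (X w : PlRing K d n) ∉ P → ExtVan (Localization.AtPrime P) (codeg w + 1 - delta K P)
      (QP P (schubertVanishing K d n w))) ?_ P hJP hX
  intro q _ hXq
  have hxT : xT K w ∉ q := hXq
  haveI hreg : IsRegularLocalRing (Localization.AtPrime q) :=
    isRegularLocalRing_of_xT_notMem K hdn w hd q hxT
  have hCM := Groth.Agent.S5671.isCM_of_regular (Localization.AtPrime q)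
  unfold LocCoh.IsCohenMacaulayModule at hCM
  rw [Module.supportDim_self_eq_ringKrullDim, ← ringKrullDim_QP_eq, ← depth_QP_eq] at hCM
  obtain ⟨h, hh1, hh2⟩ := exists_dim_QP K (schubertVanishing K d n w) (codeg w + 1)
    (ringKrullDim_schubert K hd hdn (codeg w) w rfl) q
  rw [hh1] at hCM
  apply extVan_of_le_depth
  have h3 : ((h : ℕ∞) : WithBot ℕ∞) = ((LocCoh.depth
      (Localization.AtPrime (q.comap (Ideal.Quotient.mk (schubertVanishing K d n w))))
      (QP (q.comap (Ideal.Quotient.mk (schubertVanishing K d n w)))
        (schubertVanishing K d n w)) : ℕ∞) : WithBot ℕ∞) := hCM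
  have h4 := WithBot.coe_injective h3
  rw [← h4]
  have : codeg w + 1 - delta K (q.comap (Ideal.Quotient.mk (schubertVanishing K d n w))) ≤ h := by
    omega
  exact_mod_cast this

/-- the set of Schubert divisors as a finset -/
noncomputable def divFinset (w : Idx d n) : Finset (Idx d n) := by
  classical
  exact Finset.univ.filter (fun φ => φ ∈ divisors w)

omit hd hdn in
lemma mem_divFinset (w φ : Idx d n) : φ ∈ divFinset w ↔ φ ∈ divisors w := by
  classical
  unfold divFinset
  rw [Finset.mem_filter]
  exact ⟨fun h => h.2, fun h => ⟨Finset.mem_univ _, h⟩⟩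

include hd in
lemma sup_span_eq_divFinset_inf (w : Idx d n) (hw : ∃ φ : Idx d n, φ < w) :
    schubertVanishing K d n w ⊔ Ideal.span {(X w : PlRing K d n)} =
      (divFinset w).inf (fun φ => schubertVanishing K d n φ) := by
  rw [schubert_sup_span_eq K hd w hw, Finset.inf_eq_iInf]
  apply iInf_congr
  intro φ
  apply iInf_congr_Prop
  case pq => exact (mem_divFinset w φ).symm
  case f =>
    intro _
    rfl

include hd hdn in
/-- **main induction** -/
theorem extVan_main : ∀ N : ℕ,
    (∀ τ : Idx d n, codeg τ = N → ∀ F : Finset (Idx d n), (∀ φ ∈ F, φ ∈ divisors τ) →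
      ∀ (P : Ideal (PlRing K d n)) [P.IsPrime],
        ExtVan (Localization.AtPrime P) (N - delta K P)
          (QP P (F.inf (fun φ => schubertVanishing K d n φ)))) ∧
    (∀ w : Idx d n, codeg w = N → ∀ (P : Ideal (PlRing K d n)) [P.IsPrime],
        ExtVan (Localization.AtPrime P) (N + 1 - delta K P)
          (QP P (schubertVanishing K d n w))) := by
  classical
  intro N
  induction N using Nat.strong_induction_on with
  | _ N ih =>
  haveI : IsNoetherianRing (PlRing K d n) := Algebra.FiniteType.isNoetherianRing K _
  -- unions of divisors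
  have hQ : ∀ τ : Idx d n, codeg τ = N → ∀ F : Finset (Idx d n), (∀ φ ∈ F, φ ∈ divisors τ) →
      ∀ (P : Ideal (PlRing K d n)) [P.IsPrime],
        ExtVan (Localization.AtPrime P) (N - delta K P)
          (QP P (F.inf (fun φ => schubertVanishing K d n φ))) := by
    intro τ hτ F
    induction F using Finset.induction_on with
    | empty =>
      intro _ P _
      apply extVan_quotient_top
      rw [Finset.inf_empty, Ideal.map_top]
    | insert ψ F' hψ ihF =>
      intro hF P _
      have hψdiv : ψ ∈ divisors τ := hF ψ (Finset.mem_insert_self ψ F')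
      have hF' : ∀ φ ∈ F', φ ∈ divisors τ := fun φ hφ => hF φ (Finset.mem_insert_of_mem hφ)
      have hcψ : codeg ψ + 1 = N := by rw [← hτ]; exact hψdiv.2
      have hlt : codeg ψ < N := by omega
      obtain ⟨ihQ, ihP⟩ := ih (codeg ψ) hlt
      -- the three pieces
      have h1 := ihP ψ rfl P
      have h2 := ihF hF' P
      have hdiv' : ∀ φ ∈ F'.image (fun φ => W4bk4grassmannian.inf φ ψ), φ ∈ divisors ψ := by
        intro φ' hφ'
        rw [Finset.mem_image] at hφ'
        obtain ⟨φ, hφ, rfl⟩ := hφ'
        apply inf_mem_divisors (hF' φ hφ) hψdiv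
        rintro rfl
        exact hψ hφ
      have h3 := ihQ ψ rfl _ hdiv' P
      rw [← finset_inf_sup_eq K hd F' ψ] at h3
      -- assemble
      have e1 : (schubertVanishing K d n ψ).map (algebraMap _ (Localization.AtPrime P)) ⊓
          (F'.inf (fun φ => schubertVanishing K d n φ)).map
            (algebraMap _ (Localization.AtPrime P)) =
          ((insert ψ F').inf (fun φ => schubertVanishing K d n φ)).map
            (algebraMap _ (Localization.AtPrime P)) := by
        rw [Finset.inf_insert, IsLocalization.map_inf P.primeCompl]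
      have e2 : ((F'.inf (fun φ => schubertVanishing K d n φ)) ⊔
            schubertVanishing K d n ψ).map (algebraMap _ (Localization.AtPrime P)) =
          (schubertVanishing K d n ψ).map (algebraMap _ (Localization.AtPrime P)) ⊔
          (F'.inf (fun φ => schubertVanishing K d n φ)).map
            (algebraMap _ (Localization.AtPrime P)) := by
        rw [Ideal.map_sup, sup_comm]
      apply ExtVan.of_ideal_eq e1
      apply extVan_quotient_inf
      · have : N - delta K P = codeg ψ + 1 - delta K P := by omega
        rw [this]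
        exact h1
      · exact h2
      · have : N - delta K P - 1 = codeg ψ - delta K P := by omega
        rw [this]
        exact ExtVan.of_ideal_eq e2 h3
  refine ⟨hQ, ?_⟩
  -- Schubert varieties
  intro w hw P _
  haveI hJprime := isPrime_schubertVanishing K hd hdn w
  by_cases hJP : schubertVanishing K d n w ≤ P
  · by_cases hX : (X w : PlRing K d n) ∈ P
    · -- `X_w` is a regular element in the maximal ideal
      have hxm : algebraMap (PlRing K d n) (Localization.AtPrime P) (X w) ∈
          maximalIdeal (Localization.AtPrime P) := by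
        rw [IsLocalization.AtPrime.to_map_mem_maximal_iff (Localization.AtPrime P) P]
        exact hX
      have hreg := isSMulRegular_QP P (schubertVanishing K d n w) hJP (X w)
        (X_notMem_schubertVanishing K w w le_rfl)
      apply extVan_quotient_of_regular _ _ hxm hreg
      by_cases hN0 : N = 0
      · have : N + 1 - delta K P - 1 = 0 := by omega
        rw [this]
        exact extVan_zero _
      · have hex : ∃ φ : Idx d n, φ < w := by
          refine ⟨iotaIdx hdn, lt_of_le_of_ne (iotaIdx_le hdn w) ?_⟩
          intro h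
          apply hN0
          rw [← hw, ← h, codeg_iotaIdx]
        have h1 := hQ w hw (divFinset w) (fun φ hφ => (mem_divFinset w φ).1 hφ) P
        rw [← sup_span_eq_divFinset_inf K hd w hex] at h1
        have e : (schubertVanishing K d n w ⊔ Ideal.span {(X w : PlRing K d n)}).map
              (algebraMap _ (Localization.AtPrime P)) =
            (schubertVanishing K d n w).map (algebraMap _ (Localization.AtPrime P)) ⊔
              Ideal.span {algebraMap (PlRing K d n) (Localization.AtPrime P) (X w)} := by
          rw [Ideal.map_sup, Ideal.map_span, Set.image_singleton]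
        have : N + 1 - delta K P - 1 = N - delta K P := by omega
        rw [this]
        exact ExtVan.of_ideal_eq e h1
    · rw [← hw]
      exact extVan_of_X_notMem K hd hdn w P hJP hX
  · exact extVan_quotient_top (map_eq_top_of_not_le P _ hJP) _

end main

end Groth.Agent.Lib.Helper28.Smt
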