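import Groth.Agent.Lib.Helper28.SmtCM2

/-!
# Schubert varieties and unions of Schubert divisors are arithmetically Cohen–Macaulay:
the final statements (helper28)
-/

set_option autoImplicit false
set_option linter.style.haveILetI false

universe u

namespace Groth.Agent.Lib.Helper28.Smt

open W4bk4grassmannian MvPolynomial IsLocalRing
open Groth.Agent.Lib.Helper28.CMAux

section final

variable (K : Type u) [Field K] [Infinite K] {d n : ℕ} (hd : 0 < d) (hdn : d ≤ n)

include hd hdn in
/-- **Schubert varieties are arithmetically Cohen–Macaulay** -/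
theorem isCohenMacaulayRing_schubert (τ : Idx d n) :
    LocCoh.IsCohenMacaulayRing (PlRing K d n ⧸ schubertVanishing K d n τ) := by
  haveI : IsNoetherianRing (PlRing K d n) := Algebra.FiniteType.isNoetherianRing K _
  refine LocCoh.IsCohenMacaulayRing.mk ?_
  intro q _
  set P := q.comap (Ideal.Quotient.mk (schubertVanishing K d n τ)) with hP
  have hJP : schubertVanishing K d n τ ≤ P := by
    intro x hx
    rw [hP, Ideal.mem_comap, Ideal.Quotient.eq_zero_iff_mem.2 hx]
    exact q.zero_mem
  obtain ⟨h, hh1, hh2⟩ := exists_dim_schubert K hd hdn τ P hJP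
  apply isCMLocal_of_extVan (schubertVanishing K d n τ) q (codeg τ + 1 - delta K P)
  · exact (extVan_main K hd hdn (codeg τ)).2 τ rfl P
  · rw [hh1]
    have : h ≤ codeg τ + 1 - delta K P := by omega
    exact_mod_cast this

include hd hdn in
/-- **the cone over a union of Schubert divisors is Cohen–Macaulay** -/
theorem isCohenMacaulayRing_finset_inf (τ : Idx d n) (F : Finset (Idx d n))
    (hF : ∀ φ ∈ F, φ ∈ divisors τ) :
    LocCoh.IsCohenMacaulayRing
      (PlRing K d n ⧸ F.inf (fun φ => schubertVanishing K d n φ)) := by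
  haveI : IsNoetherianRing (PlRing K d n) := Algebra.FiniteType.isNoetherianRing K _
  refine LocCoh.IsCohenMacaulayRing.mk ?_
  intro q _
  set P := q.comap (Ideal.Quotient.mk (F.inf (fun φ => schubertVanishing K d n φ))) with hP
  apply isCMLocal_of_extVan _ q (codeg τ - delta K P)
  · exact (extVan_main K hd hdn (codeg τ)).1 τ rfl F hF P
  · rw [CMAux.map_finset_inf]
    apply Groth.Agent.Lib.Helper28.DimAux.ringKrullDim_quotient_finset_inf_le
    intro φ hφ
    by_cases hJP : schubertVanishing K d n φ ≤ P
    · obtain ⟨h, hh1, hh2⟩ := exists_dim_schubert K hd hdn φ P hJP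
      rw [hh1]
      have h3 : codeg φ + 1 = codeg τ := (hF φ hφ).2
      have : h ≤ codeg τ - delta K P := by omega
      exact_mod_cast this
    · haveI : Subsingleton (Localization.AtPrime P ⧸
          (schubertVanishing K d n φ).map (algebraMap _ (Localization.AtPrime P))) :=
        Ideal.Quotient.subsingleton_iff.2 (map_eq_top_of_not_le P _ hJP)
      rw [ringKrullDim_eq_bot_of_subsingleton]
      exact bot_le

include hd hdn in
theorem isCohenMacaulayRing_iInf (τ : Idx d n) (s : ℕ) (φ : Fin s → Idx d n)
    (hφ : ∀ i, φ i ∈ divisors τ) :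
    LocCoh.IsCohenMacaulayRing (PlRing K d n ⧸ ⨅ i, schubertVanishing K d n (φ i)) := by
  classical
  have h := isCohenMacaulayRing_finset_inf K hd hdn τ (Finset.univ.image φ) (by
    intro ψ hψ
    rw [Finset.mem_image] at hψ
    obtain ⟨i, -, rfl⟩ := hψ
    exact hφ i)
  have e : (Finset.univ.image φ).inf (fun φ => schubertVanishing K d n φ) =
      ⨅ i, schubertVanishing K d n (φ i) := by
    rw [Finset.inf_image, Finset.inf_univ_eq_iInf]
    rfl
  rw [e] at h
  exact h

end final

end Groth.Agent.Lib.Helper28.Smt
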