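import Groth.Agent.Lib.Helper28.SmtPrime
import Mathlib.LinearAlgebra.Matrix.Block
import Mathlib.LinearAlgebra.Matrix.NonsingularInverse
import Mathlib.LinearAlgebra.Matrix.Adjugate
import Mathlib.RingTheory.Localization.FractionRing

/-!
# The cell matrix of a Schubert variety (helper28)

Over the fraction field `F` of the polynomial ring, the generic matrix `MF` with the zero
pattern of `τ` has an invertible upper triangular `τ`-block `TF`; the normalized matrix
`CM = MF * TF⁻¹` has the identity on the rows `τ`, zeros at the positions `(a, t)` with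
`a > τ_t`, and its other entries are quotients of minors of `MF` by `det TF`.
-/

set_option autoImplicit false

universe u

namespace Groth.Agent.Lib.Helper28.Smt

open W4bk4grassmannian MvPolynomial

section cell

variable (K : Type u) [Field K] {d n : ℕ} (hdn : d ≤ n) (τ : Idx d n)

/-- the pattern -/
abbrev pT : Fin n → Fin d → Prop := pVW (iotaIdx hdn) τ

/-- the generic matrix with the zero pattern of `τ` over the fraction field -/
noncomputable def MF : Matrix (Fin n) (Fin d) (FractionRing (MvPolynomial (Var n d) K)) :=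
  (genP K (pT hdn τ)).map (algebraMap (MvPolynomial (Var n d) K)
    (FractionRing (MvPolynomial (Var n d) K)))

/-- its `τ`-block -/
noncomputable def TF : Matrix (Fin d) (Fin d) (FractionRing (MvPolynomial (Var n d) K)) :=
  (MF K hdn τ).submatrix τ.1 id

lemma MF_zero (a : Fin n) (t : Fin d) (h : τ.1 t < a) : MF K hdn τ a t = 0 := by
  unfold MF
  rw [Matrix.map_apply, genP_zero K _ a t (fun hp => absurd hp.2 (not_le.2 h)), map_zero]

lemma TF_upper : (TF K hdn τ).BlockTriangular id := by
  intro i j hij
  unfold TF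
  rw [Matrix.submatrix_apply]
  apply MF_zero
  exact τ.2 hij

lemma adm_pT_self : Adm (pT hdn τ) τ := by
  rw [adm_pVW_iff]
  exact ⟨iotaIdx_le hdn τ, le_rfl⟩

lemma det_submatrix_MF (a' : Fin d → Fin n) :
    ((MF K hdn τ).submatrix a' id).det =
      algebraMap (MvPolynomial (Var n d) K) (FractionRing (MvPolynomial (Var n d) K))
        (((genP K (pT hdn τ)).submatrix a' id).det) := by
  rw [RingHom.map_det]
  rfl

lemma det_TF : (TF K hdn τ).det =
    algebraMap (MvPolynomial (Var n d) K) (FractionRing (MvPolynomial (Var n d) K))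
      (evP K (pT hdn τ) (X τ)) := by
  unfold TF
  rw [det_submatrix_MF, evP_X]

lemma det_TF_ne_zero : (TF K hdn τ).det ≠ 0 := by
  rw [det_TF]
  intro h
  have h1 := (IsFractionRing.injective (MvPolynomial (Var n d) K)
    (FractionRing (MvPolynomial (Var n d) K))) (h.trans (map_zero _).symm)
  rw [evP_X] at h1
  have h2 := (degree_det_genP K (pT hdn τ) τ (adm_pT_self hdn τ)).2
  rw [h1, MonomialOrder.leadingCoeff_zero] at h2
  exact zero_ne_one h2

lemma isUnit_det_TF : IsUnit (TF K hdn τ).det := (det_TF_ne_zero K hdn τ).isUnit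

/-- the normalized (cell) matrix -/
noncomputable def CM : Matrix (Fin n) (Fin d) (FractionRing (MvPolynomial (Var n d) K)) :=
  MF K hdn τ * (TF K hdn τ)⁻¹

lemma CM_mul_TF : CM K hdn τ * TF K hdn τ = MF K hdn τ := by
  unfold CM
  rw [Matrix.mul_assoc, Matrix.nonsing_inv_mul _ (isUnit_det_TF K hdn τ), Matrix.mul_one]

lemma CM_tau : (CM K hdn τ).submatrix τ.1 id = 1 := by
  have : (CM K hdn τ).submatrix τ.1 id = TF K hdn τ * (TF K hdn τ)⁻¹ := by
    unfold CM TF
    ext i j
    rw [Matrix.submatrix_apply, Matrix.mul_apply, Matrix.mul_apply]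
    rfl
  rw [this, Matrix.mul_nonsing_inv _ (isUnit_det_TF K hdn τ)]

lemma CM_tau_apply (s t : Fin d) : CM K hdn τ (τ.1 s) t = if s = t then 1 else 0 := by
  have := congrFun (congrFun (CM_tau K hdn τ) s) t
  rw [Matrix.submatrix_apply, Matrix.one_apply] at this
  exact this

lemma TF_inv_upper : ((TF K hdn τ)⁻¹).BlockTriangular id := by
  haveI : Invertible (TF K hdn τ) := Matrix.invertibleOfIsUnitDet _ (isUnit_det_TF K hdn τ)
  exact Matrix.blockTriangular_inv_of_blockTriangular (TF_upper K hdn τ)

lemma CM_zero (a : Fin n) (t : Fin d) (h : τ.1 t < a) : CM K hdn τ a t = 0 := by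
  unfold CM
  rw [Matrix.mul_apply]
  apply Finset.sum_eq_zero
  intro s _
  by_cases hst : t < s
  · rw [TF_inv_upper K hdn τ hst, mul_zero]
  · have hle : s ≤ t := not_lt.1 hst
    have : τ.1 s ≤ τ.1 t := τ.2.monotone hle
    rw [MF_zero K hdn τ a s (lt_of_le_of_lt this h), zero_mul]

lemma det_submatrix_MF_eq (θ : Fin d → Fin n) :
    ((MF K hdn τ).submatrix θ id).det =
      ((CM K hdn τ).submatrix θ id).det * (TF K hdn τ).det := by
  rw [← Matrix.det_mul]
  congr 1
  rw [← CM_mul_TF K hdn τ]
  ext i j
  rw [Matrix.submatrix_apply, Matrix.mul_apply, Matrix.mul_apply]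
  rfl

/-- Cramer's rule for the entries of the cell matrix -/
lemma CM_mul_det (a : Fin n) (t : Fin d) :
    CM K hdn τ a t * (TF K hdn τ).det =
      ((MF K hdn τ).submatrix (Function.update τ.1 t a) id).det := by
  have h1 : MF K hdn τ * (TF K hdn τ).adjugate = (TF K hdn τ).det • CM K hdn τ := by
    rw [← CM_mul_TF K hdn τ, Matrix.mul_assoc, Matrix.mul_adjugate, Matrix.mul_smul,
      Matrix.mul_one]
  have h2 : (MF K hdn τ * (TF K hdn τ).adjugate) a t =
      ((TF K hdn τ).updateRow t (MF K hdn τ a)).det := by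
    rw [← Matrix.cramer_transpose_apply, Matrix.cramer_eq_adjugate_mulVec,
      ← Matrix.adjugate_transpose, Matrix.mulVec_transpose]
    rfl
  have h3 : (TF K hdn τ).updateRow t (MF K hdn τ a) =
      (MF K hdn τ).submatrix (Function.update τ.1 t a) id := by
    ext s c
    rw [Matrix.submatrix_apply, Matrix.updateRow_apply]
    by_cases hs : s = t
    · rw [if_pos hs, hs, Function.update_self]
      rfl
    · rw [if_neg hs, Function.update_of_ne hs]
      rfl
  rw [← h3, ← h2, h1, Matrix.smul_apply, smul_eq_mul, mul_comm]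

end cell

end Groth.Agent.Lib.Helper28.Smt
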