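import Groth.Agent.Lib.Helper28.SmtCell
import Groth.Agent.Lib.Helper28.SmtDim
import Groth.Agent.Lib.Helper28.UFDAux

/-!
# The complement of the divisor `X_τ = 0` in the cone over a Schubert variety (helper28)

`ufd_localization_away`: the localization of `S/J(τ)` at the class of `X_τ` is generated by
`X_τ^{±1}` and `codeg τ` cell coordinates; since its transcendence degree is `codeg τ + 1`, it is a
localization of a polynomial ring, hence factorial.
-/

set_option autoImplicit false

universe u

namespace Groth.Agent.Lib.Helper28.Smt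

open W4bk4grassmannian MvPolynomial

section cellufd

variable (K : Type u) [Field K] [Infinite K] {d n : ℕ} (hdn : d ≤ n) (τ : Idx d n)

omit [Infinite K] in
lemma evP_coord' (p : Fin n → Fin d → Prop) [∀ a t, Decidable (p a t)] [Infinite K]
    (a' : Fin d → Fin n) :
    evP K p (coord K d n a') = ((genP K p).submatrix a' id).det := by
  apply MvPolynomial.funext
  intro c
  rw [eval_evP, evalMinors_coord, RingHom.map_det]
  rfl

/-- the coordinate ring of the cone over `X(τ)` -/
abbrev RS : Type u := PlRing K d n ⧸ schubertVanishing K d n τ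

/-- the embedding of the coordinate ring into the fraction field of the polynomial ring -/
noncomputable def rho : RS K τ →ₐ[K] FractionRing (MvPolynomial (Var n d) K) :=
  Ideal.Quotient.liftₐ (schubertVanishing K d n τ)
    ((IsScalarTower.toAlgHom K (MvPolynomial (Var n d) K)
      (FractionRing (MvPolynomial (Var n d) K))).comp (evP K (pT hdn τ))) (by
    intro a ha
    have h1 : evP K (pT hdn τ) a = 0 := schubertVanishing_le_ker_evP K _ τ ha
    rw [AlgHom.comp_apply, h1, map_zero])

lemma rho_mk (f : PlRing K d n) :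
    rho K hdn τ (Ideal.Quotient.mk (schubertVanishing K d n τ) f) =
      algebraMap (MvPolynomial (Var n d) K) (FractionRing (MvPolynomial (Var n d) K))
        (evP K (pT hdn τ) f) := rfl

lemma rho_injective (hd : 0 < d) : Function.Injective (rho K hdn τ) := by
  rw [injective_iff_map_eq_zero]
  intro y hy
  obtain ⟨f, rfl⟩ := Ideal.Quotient.mk_surjective y
  rw [rho_mk] at hy
  have h1 : evP K (pT hdn τ) f = 0 :=
    (IsFractionRing.injective (MvPolynomial (Var n d) K)
      (FractionRing (MvPolynomial (Var n d) K))) (hy.trans (map_zero _).symm)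
  have h2 : f ∈ RingHom.ker (evP K (pT hdn τ)).toRingHom := h1
  rw [ker_evP_pVW K hd, idealVW_iotaIdx] at h2
  exact Ideal.Quotient.eq_zero_iff_mem.2 h2

lemma rho_mk_X (θ : Idx d n) :
    rho K hdn τ (Ideal.Quotient.mk (schubertVanishing K d n τ) (X θ)) =
      ((MF K hdn τ).submatrix θ.1 id).det := by
  rw [rho_mk, evP_X, det_submatrix_MF]

lemma rho_mk_coord (a' : Fin d → Fin n) :
    rho K hdn τ (Ideal.Quotient.mk (schubertVanishing K d n τ) (coord K d n a')) =
      ((MF K hdn τ).submatrix a' id).det := by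
  rw [rho_mk, evP_coord', det_submatrix_MF]


/-- the class of `X_τ` -/
noncomputable def xT : RS K τ := Ideal.Quotient.mk (schubertVanishing K d n τ) (X τ)

lemma rho_xT : rho K hdn τ (xT K τ) = (TF K hdn τ).det := by
  unfold xT
  rw [rho_mk_X]
  rfl

lemma xT_ne_zero : xT K τ ≠ 0 := by
  unfold xT
  rw [Ne, Ideal.Quotient.eq_zero_iff_mem]
  exact X_notMem_schubertVanishing K τ τ le_rfl

/-- the coordinate ring of the complement of the divisor `X_τ = 0` -/
abbrev LS : Type u := Localization.Away (xT K τ)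

lemma rho_units (y : Submonoid.powers (xT K τ)) : IsUnit (rho K hdn τ y) := by
  obtain ⟨y, m, rfl⟩ := y
  rw [map_pow, rho_xT]
  exact (isUnit_det_TF K hdn τ).pow m

/-- the embedding of the localization into the fraction field of the polynomial ring -/
noncomputable def rhoL : LS K τ →ₐ[K] FractionRing (MvPolynomial (Var n d) K) :=
  IsLocalization.liftAlgHom (M := Submonoid.powers (xT K τ)) (f := rho K hdn τ)
    (rho_units K hdn τ)

lemma rhoL_algebraMap (r : RS K τ) :
    rhoL K hdn τ (algebraMap (RS K τ) (LS K τ) r) = rho K hdn τ r :=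
  IsLocalization.lift_eq _ r

section withdomain

variable (hd : 0 < d)

include hd hdn in
lemma isDomain_RS : IsDomain (RS K τ) := by
  haveI : (schubertVanishing K d n τ).IsPrime := isPrime_schubertVanishing K hd hdn τ
  exact Ideal.Quotient.isDomain _

include hd in
lemma rhoL_injective : Function.Injective (rhoL K hdn τ) := by
  rw [injective_iff_map_eq_zero]
  intro z hz
  obtain ⟨r, s, rfl⟩ := IsLocalization.exists_mk'_eq (Submonoid.powers (xT K τ)) z
  have h1 := IsLocalization.mk'_spec (LS K τ) r s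
  have h2 := congrArg (rhoL K hdn τ) h1
  rw [map_mul, hz, zero_mul, rhoL_algebraMap] at h2
  have : r = 0 := rho_injective K hdn τ hd (h2.symm.trans (map_zero _).symm)
  rw [this, IsLocalization.mk'_zero]

end withdomain

/-- free positions of the cell -/
abbrev Free : Type := Σ t : Fin d, {a : Fin n // a < τ.1 t ∧ a ∉ Set.range τ.1}

/-- the inverse of `X_τ` -/
noncomputable def xinv : LS K τ :=
  IsLocalization.mk' (LS K τ) (1 : RS K τ)
    (⟨xT K τ, Submonoid.mem_powers _⟩ : Submonoid.powers (xT K τ))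

/-- the generators of the localization: `X_τ` and the cell coordinates -/
noncomputable def gen : Option (Free τ) → LS K τ
  | none => algebraMap (RS K τ) (LS K τ) (xT K τ)
  | some q => algebraMap (RS K τ) (LS K τ)
      (Ideal.Quotient.mk (schubertVanishing K d n τ)
        (coord K d n (Function.update τ.1 q.1 q.2.1))) * xinv K τ

lemma gen_none_mul_xinv : gen K τ none * xinv K τ = 1 := by
  show algebraMap (RS K τ) (LS K τ) (xT K τ) * xinv K τ = 1
  unfold xinv
  rw [mul_comm]
  have := IsLocalization.mk'_spec (LS K τ) (1 : RS K τ)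
    (⟨xT K τ, Submonoid.mem_powers _⟩ : Submonoid.powers (xT K τ))
  rw [map_one] at this
  exact this

lemma rhoL_xinv : rhoL K hdn τ (xinv K τ) = ((TF K hdn τ).det)⁻¹ := by
  have h := congrArg (rhoL K hdn τ) (gen_none_mul_xinv K τ)
  rw [map_mul, map_one] at h
  have h1 : rhoL K hdn τ (gen K τ none) = (TF K hdn τ).det := by
    show rhoL K hdn τ (algebraMap (RS K τ) (LS K τ) (xT K τ)) = _
    rw [rhoL_algebraMap, rho_xT]
  rw [h1] at h
  exact eq_inv_of_mul_eq_one_right h

lemma rhoL_gen_none : rhoL K hdn τ (gen K τ none) = (TF K hdn τ).det := by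
  show rhoL K hdn τ (algebraMap (RS K τ) (LS K τ) (xT K τ)) = _
  rw [rhoL_algebraMap, rho_xT]

lemma rhoL_gen_some (q : Free τ) : rhoL K hdn τ (gen K τ (some q)) = CM K hdn τ q.2.1 q.1 := by
  show rhoL K hdn τ (algebraMap (RS K τ) (LS K τ) _ * xinv K τ) = _
  rw [map_mul, rhoL_algebraMap, rhoL_xinv, rho_mk_coord, ← CM_mul_det,
    mul_assoc, mul_inv_cancel₀ (det_TF_ne_zero K hdn τ), mul_one]

/-- the subalgebra generated by the generators -/
noncomputable def Gsub : Subalgebra K (LS K τ) :=
  Algebra.adjoin K (Set.range (gen K τ) ∪ {xinv K τ})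

lemma gen_mem (o : Option (Free τ)) : gen K τ o ∈ Gsub K τ :=
  Algebra.subset_adjoin (Or.inl ⟨o, rfl⟩)

lemma xinv_mem : xinv K τ ∈ Gsub K τ :=
  Algebra.subset_adjoin (Or.inr rfl)

lemma exists_mem_rhoL_eq_CM (a : Fin n) (t : Fin d) :
    ∃ y ∈ Gsub K τ, rhoL K hdn τ y = CM K hdn τ a t := by
  by_cases ha : a ∈ Set.range τ.1
  · obtain ⟨s, rfl⟩ := ha
    rw [CM_tau_apply]
    by_cases hst : s = t
    · rw [if_pos hst]
      exact ⟨1, Subalgebra.one_mem _, map_one _⟩
    · rw [if_neg hst]
      exact ⟨0, Subalgebra.zero_mem _, map_zero _⟩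
  · by_cases hlt : τ.1 t < a
    · rw [CM_zero K hdn τ a t hlt]
      exact ⟨0, Subalgebra.zero_mem _, map_zero _⟩
    · have hle : a ≤ τ.1 t := not_lt.1 hlt
      have hne : a ≠ τ.1 t := fun h => ha ⟨t, h.symm⟩
      have hlt' : a < τ.1 t := lt_of_le_of_ne hle hne
      exact ⟨gen K τ (some ⟨t, ⟨a, hlt', ha⟩⟩), gen_mem K τ _, rhoL_gen_some K hdn τ _⟩

omit [Infinite K] in
lemma det_mem_subalgebra {A : Type*} [CommRing A] [Algebra K A] (G : Subalgebra K A) {m : ℕ}
    (Y : Matrix (Fin m) (Fin m) A) (hY : ∀ i j, Y i j ∈ G) : Y.det ∈ G := by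
  rw [Matrix.det_apply]
  apply Subalgebra.sum_mem
  intro π _
  rw [Units.smul_def]
  apply Subalgebra.zsmul_mem
  apply Subalgebra.prod_mem
  intro i _
  exact hY _ _


section gen

variable (hd : 0 < d)

include hd hdn in
lemma mk_X_mem (θ : Idx d n) :
    algebraMap (RS K τ) (LS K τ) (Ideal.Quotient.mk (schubertVanishing K d n τ) (X θ)) ∈
      Gsub K τ := by
  choose y hyG hy using exists_mem_rhoL_eq_CM K hdn τ
  let Y : Matrix (Fin d) (Fin d) (LS K τ) := fun i j => y (θ.1 i) j
  have hYdet : Y.det ∈ Gsub K τ := det_mem_subalgebra K _ Y (fun i j => hyG _ _)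
  have hY : rhoL K hdn τ Y.det = ((CM K hdn τ).submatrix θ.1 id).det := by
    rw [AlgHom.map_det]
    congr 1
    ext i j
    exact hy _ _
  have h1 : rhoL K hdn τ (Y.det * gen K τ none) =
      rhoL K hdn τ (algebraMap (RS K τ) (LS K τ)
        (Ideal.Quotient.mk (schubertVanishing K d n τ) (X θ))) := by
    rw [map_mul, rhoL_gen_none, rhoL_algebraMap, rho_mk_X, det_submatrix_MF_eq, hY]
  have := rhoL_injective K hdn τ hd h1
  rw [← this]
  exact Subalgebra.mul_mem _ hYdet (gen_mem K τ none)

include hd hdn in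
lemma algebraMap_mem (r : RS K τ) : algebraMap (RS K τ) (LS K τ) r ∈ Gsub K τ := by
  obtain ⟨f, rfl⟩ := Ideal.Quotient.mk_surjective r
  induction f using MvPolynomial.induction_on with
  | C c =>
    have : algebraMap (RS K τ) (LS K τ) (Ideal.Quotient.mk (schubertVanishing K d n τ) (C c)) =
        algebraMap K (LS K τ) c := by
      rw [IsScalarTower.algebraMap_apply K (RS K τ) (LS K τ)]
      rfl
    rw [this]
    exact Subalgebra.algebraMap_mem _ c
  | add p q hp hq =>
    rw [map_add, map_add]
    exact Subalgebra.add_mem _ hp hq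
  | mul_X p θ hp =>
    rw [map_mul, map_mul]
    exact Subalgebra.mul_mem _ hp (mk_X_mem K hdn τ hd θ)

include hd hdn in
lemma Gsub_eq_top : Gsub K τ = ⊤ := by
  rw [eq_top_iff]
  rintro z -
  obtain ⟨r, ⟨s, hs⟩, rfl⟩ := IsLocalization.exists_mk'_eq (Submonoid.powers (xT K τ)) z
  obtain ⟨k, hk⟩ := (Submonoid.mem_powers_iff s (xT K τ)).1 hs
  subst hk
  have : IsLocalization.mk' (LS K τ) r (⟨xT K τ ^ k, hs⟩ : Submonoid.powers (xT K τ)) =
      algebraMap (RS K τ) (LS K τ) r * xinv K τ ^ k := by
    rw [IsLocalization.mk'_eq_iff_eq_mul]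
    have h1 : algebraMap (RS K τ) (LS K τ) (xT K τ) * xinv K τ = 1 := gen_none_mul_xinv K τ
    show _ = _ * algebraMap (RS K τ) (LS K τ) (xT K τ ^ k)
    rw [map_pow, mul_assoc, ← mul_pow, mul_comm (xinv K τ), h1, one_pow, mul_one]
  rw [this]
  exact Subalgebra.mul_mem _ (algebraMap_mem K hdn τ hd r)
    (Subalgebra.pow_mem _ (xinv_mem K τ) k)

end gen

omit [Field K] [Infinite K] in
lemma card_free_le : Fintype.card (Free τ) ≤ codeg τ := by
  classical
  unfold codeg
  rw [Fintype.card_sigma]
  apply Finset.sum_le_sum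
  intro t _
  rw [Fintype.card_subtype]
  have hsub : (Finset.univ.filter fun a : Fin n => a < τ.1 t ∧ a ∉ Set.range τ.1) ⊆
      Finset.Iio (τ.1 t) \ (Finset.Iio t).image τ.1 := by
    intro a ha
    rw [Finset.mem_filter] at ha
    rw [Finset.mem_sdiff, Finset.mem_Iio]
    refine ⟨ha.2.1, ?_⟩
    intro him
    rw [Finset.mem_image] at him
    obtain ⟨s, -, hs⟩ := him
    exact ha.2.2 ⟨s, hs⟩
  have himg : (Finset.Iio t).image τ.1 ⊆ Finset.Iio (τ.1 t) := by
    intro a ha
    rw [Finset.mem_image] at ha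
    obtain ⟨s, hs, rfl⟩ := ha
    rw [Finset.mem_Iio] at hs ⊢
    exact τ.2 hs
  calc _ ≤ (Finset.Iio (τ.1 t) \ (Finset.Iio t).image τ.1).card := Finset.card_le_card hsub
    _ = (Finset.Iio (τ.1 t)).card - ((Finset.Iio t).image τ.1).card :=
      Finset.card_sdiff_of_subset himg
    _ = (τ.1 t).val - t.val := by
      rw [Fin.card_Iio, Finset.card_image_of_injective _ τ.2.injective, Fin.card_Iio]

include hdn in
/-- the complement of the divisor `X_τ = 0` in the cone over `X(τ)` is factorial -/
theorem ufd_localization_away (hd : 0 < d) : UniqueFactorizationMonoid (LS K τ) := by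
  classical
  haveI := isDomain_RS K hdn τ hd
  have hle : Submonoid.powers (xT K τ) ≤ nonZeroDivisors (RS K τ) :=
    powers_le_nonZeroDivisors_of_noZeroDivisors (xT_ne_zero K τ)
  haveI : IsDomain (LS K τ) := IsLocalization.isDomain_localization hle
  haveI : Algebra.FiniteType K (RS K τ) :=
    Algebra.FiniteType.of_surjective (Ideal.Quotient.mkₐ K _) (Ideal.Quotient.mkₐ_surjective K _)
  -- transcendence degree
  obtain ⟨N, hN1, hN2, -, -⟩ :=
    Groth.Agent.Lib.Helper73.DimFormula.exists_trdeg_eq_ringKrullDim K (RS K τ)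
  have hdim := ringKrullDim_schubert K hd hdn (codeg τ) τ rfl
  have hNeq : N = codeg τ + 1 := by
    rw [hN2] at hdim
    exact_mod_cast hdim
  haveI : FaithfulSMul (RS K τ) (LS K τ) := by
    refine ⟨fun {a b} h => ?_⟩
    have h1 := h 1
    have h2 : algebraMap (RS K τ) (LS K τ) a = algebraMap (RS K τ) (LS K τ) b := by
      rw [Algebra.algebraMap_eq_smul_one, Algebra.algebraMap_eq_smul_one]
      exact h1
    exact IsLocalization.injective (LS K τ) hle h2
  haveI : Algebra.IsAlgebraic (RS K τ) (LS K τ) :=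
    IsLocalization.isAlgebraic (LS K τ) (Submonoid.powers (xT K τ))
  have htr : Algebra.trdeg K (LS K τ) = (N : Cardinal.{u}) := by
    rw [Groth.Agent.Lib.Helper73.DimFormula.trdeg_eq_of_isAlgebraic_top K (A := RS K τ)
      (B := LS K τ), hN1]
  apply UFDAux.ufd_of_generators K (LS K τ) (Option (Free τ)) (gen K τ) none (xinv K τ)
    (gen_none_mul_xinv K τ) (Gsub_eq_top K hdn τ hd)
  rw [htr, hNeq, Fintype.card_option]
  have := card_free_le τ
  exact_mod_cast Nat.succ_le_succ this

end cellufd

end Groth.Agent.Lib.Helper28.Smt
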