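import Groth.Agent.Lib.Helper28.SmtCellUFD
import Groth.Agent.Lib.Helper28.NormalAux
import Mathlib.RingTheory.Polynomial.RationalRoot

/-!
# The cone over a Schubert variety is normal (helper28)

`J(τ) + (X_τ)` is radical (an intersection of Schubert ideals, or the irrelevant ideal) and the
complement of the divisor `X_τ = 0` is factorial, hence normal; so `S/J(τ)` is normal.
-/

set_option autoImplicit false

universe u

namespace Groth.Agent.Lib.Helper28.Smt

open W4bk4grassmannian MvPolynomial

variable (K : Type u) [Field K] [Infinite K] {d n : ℕ} (hdn : d ≤ n) (τ : Idx d n)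

include hdn in
/-- `J(τ) + (X_τ)` is a radical ideal -/
lemma isRadical_sup_span (hd : 0 < d) :
    (schubertVanishing K d n τ ⊔ Ideal.span {(X τ : PlRing K d n)}).IsRadical := by
  by_cases hex : ∃ φ : Idx d n, φ < τ
  · rw [schubert_sup_span_eq K hd τ hex]
    intro f hf
    obtain ⟨k, hk⟩ := hf
    rw [Ideal.mem_iInf] at hk ⊢
    intro φ
    have h1 := hk φ
    rw [Ideal.mem_iInf] at h1 ⊢
    intro hφ
    haveI : (schubertVanishing K d n φ).IsPrime := isPrime_schubertVanishing K hd hdn φ
    exact (Ideal.IsPrime.isRadical inferInstance) ⟨k, h1 hφ⟩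
  · simp only [not_exists] at hex
    have hτ : τ = iotaIdx hdn := eq_iotaIdx_of_forall_not_lt hdn τ hex
    have hle : schubertVanishing K d n τ ⊔ Ideal.span {(X τ : PlRing K d n)} ≤
        RingHom.ker (constantCoeff : PlRing K d n →+* K) := by
      apply sup_le (schubertVanishing_le_ker_constantCoeff K hd τ)
      rw [Ideal.span_le, Set.singleton_subset_iff, SetLike.mem_coe, RingHom.mem_ker,
        constantCoeff_X]
    have heq : schubertVanishing K d n τ ⊔ Ideal.span {(X τ : PlRing K d n)} =
        RingHom.ker (constantCoeff : PlRing K d n →+* K) := by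
      apply le_antisymm hle
      intro f hf
      obtain ⟨c, hc⟩ := exists_const_of_iota K hdn f
      rw [← hτ] at hc
      have h1 := hle hc
      rw [RingHom.mem_ker, map_sub, RingHom.mem_ker.1 hf, constantCoeff_C, zero_sub,
        neg_eq_zero] at h1
      rw [h1, C_0, sub_zero] at hc
      exact hc
    rw [heq]
    exact (Ideal.IsPrime.isRadical (RingHom.ker_isPrime _))

include hdn in
/-- the ideal generated by the class of `X_τ` in `S/J(τ)` is radical -/
lemma isRadical_span_xT (hd : 0 < d) : (Ideal.span {xT K τ}).IsRadical := by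
  have hI := isRadical_sup_span K hdn τ hd
  have hmap : Ideal.span {xT K τ} = (schubertVanishing K d n τ ⊔
      Ideal.span {(X τ : PlRing K d n)}).map (Ideal.Quotient.mk (schubertVanishing K d n τ)) := by
    rw [Ideal.map_sup, Ideal.map_quotient_self, bot_sup_eq, Ideal.map_span, Set.image_singleton]
    rfl
  rw [hmap]
  intro y hy
  obtain ⟨k, hk⟩ := hy
  obtain ⟨f, rfl⟩ := Ideal.Quotient.mk_surjective y
  rw [← map_pow, Ideal.mem_quotient_iff_mem_sup] at hk
  rw [Ideal.mem_quotient_iff_mem_sup]
  have e : schubertVanishing K d n τ ⊔ Ideal.span {(X τ : PlRing K d n)} ⊔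
      schubertVanishing K d n τ = schubertVanishing K d n τ ⊔ Ideal.span {(X τ : PlRing K d n)} := by
    rw [sup_comm, ← sup_assoc, sup_idem]
  rw [e] at hk ⊢
  exact hI ⟨k, hk⟩

include hdn in
/-- the cone over a Schubert variety is normal -/
theorem isIntegrallyClosed_RS (hd : 0 < d) : IsIntegrallyClosed (RS K τ) := by
  haveI := isDomain_RS K hdn τ hd
  have hle : Submonoid.powers (xT K τ) ≤ nonZeroDivisors (RS K τ) :=
    powers_le_nonZeroDivisors_of_noZeroDivisors (xT_ne_zero K τ)
  haveI : IsDomain (LS K τ) := IsLocalization.isDomain_localization hle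
  haveI : UniqueFactorizationMonoid (LS K τ) := ufd_localization_away K hdn τ hd
  exact NormalAux.isIntegrallyClosed_of_away (xT K τ) (xT_ne_zero K τ)
    (isRadical_span_xT K hdn τ hd) inferInstance

end Groth.Agent.Lib.Helper28.Smt
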