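import Groth.Agent.Lib.Helper28.SmtDet1
import Groth.Agent.Lib.Helper28.Dehomog
import Groth.Agent.Lib.Helper28.CMRingAux
import Groth.Agent.Lib.Helper28.SmtCM3
import Groth.Agent.Lib.Helper28.SmtNormal

/-!
# Determinantal rings are normal Cohen–Macaulay domains (helper28)

`K[Z]/I_t(Z)` is the dehomogenization at `X_ι = 1` of the Schubert cone `S/J(φ)`.
-/

set_option autoImplicit false
set_option linter.style.haveILetI false

universe u

namespace Groth.Agent.Lib.Helper28.Smt

open W4bk4grassmannian MvPolynomial Matrix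
open Groth.Agent.Lib.Helper28.DetCell Groth.Agent.Lib.Helper28.Dehomog

section aux

lemma withBot_enat_add_one_cancel (a : WithBot ℕ∞) (n : ℕ)
    (h : a + 1 = ((n + 1 : ℕ) : WithBot ℕ∞)) : a = (n : WithBot ℕ∞) := by
  induction a with
  | bot =>
    exfalso
    rw [WithBot.bot_add] at h
    exact WithBot.bot_ne_coe h
  | coe e =>
    induction e with
    | top =>
      exfalso
      have h1 : ((⊤ : ℕ∞) : WithBot ℕ∞) + 1 = ((⊤ : ℕ∞) : WithBot ℕ∞) := by
        rw [← WithBot.coe_one, ← WithBot.coe_add, top_add]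
      rw [h1] at h
      have h2 : ((⊤ : ℕ∞) : WithBot ℕ∞) = (((n + 1 : ℕ) : ℕ∞) : WithBot ℕ∞) := h
      have h3 := WithBot.coe_injective h2
      exact ENat.top_ne_natCast _ h3
    | coe m =>
      have h1 : m + 1 = n + 1 := by exact_mod_cast h
      have h2 : m = n := by omega
      rw [h2]
      rfl

end aux

section det

variable (K : Type u) [Field K] [Infinite K] (d r t : ℕ)

/-- the determinantal ring -/
abbrev DetRing : Type u := CellRing K d r ⧸ CAlgX.minorIdeal (genMatrix K r d) t

/-- the dehomogenization map -/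
noncomputable def psiDet : PlRing K d (d + r) →ₐ[K] DetRing K d r t :=
  (Ideal.Quotient.mkₐ K (CAlgX.minorIdeal (genMatrix K r d) t)).comp (cellMap K d r)

lemma psiDet_apply (f : PlRing K d (d + r)) :
    psiDet K d r t f = Ideal.Quotient.mk _ (cellMap K d r f) := rfl

variable {d r t} (hd : 0 < d) (ht : 0 < t) (htd : t ≤ d) (htr : t ≤ r)

include ht in
omit [Infinite K] in
lemma minorIdeal_ne_top : CAlgX.minorIdeal (genMatrix K r d) t ≠ ⊤ := by
  intro h
  have hle : CAlgX.minorIdeal (genMatrix K r d) t ≤
      RingHom.ker (eval 0 : CellRing K d r →+* K) := by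
    unfold CAlgX.minorIdeal
    rw [Ideal.span_le]
    rintro _ ⟨⟨f, g⟩, rfl⟩
    rw [SetLike.mem_coe, RingHom.mem_ker]
    show eval 0 ((genMatrix K r d).submatrix f g).det = 0
    rw [RingHom.map_det]
    have h0 : (eval (0 : Fin r × Fin d → K)).mapMatrix ((genMatrix K r d).submatrix f g) = 0 := by
      ext a b
      rw [RingHom.mapMatrix_apply, Matrix.map_apply, submatrix_apply]
      unfold genMatrix
      rw [Matrix.of_apply, eval_X]
      rfl
    rw [h0]
    haveI : Nonempty (Fin t) := ⟨⟨0, ht⟩⟩
    exact det_zero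
  have h1 : (1 : CellRing K d r) ∈ RingHom.ker (eval 0 : CellRing K d r →+* K) :=
    hle (h ▸ Submodule.mem_top)
  rw [RingHom.mem_ker, map_one] at h1
  exact one_ne_zero h1

include hd in
theorem isDehom_psiDet : IsDehom (iotaIdx (Nat.le_add_right d r))
    (schubertVanishing K d (d + r) (phiIdx d r t ht htd htr)) (psiDet K d r t) where
  surj := (Ideal.Quotient.mkₐ_surjective K _).comp (cellMap_surjective K d r)
  map_x := by
    rw [psiDet_apply, cellMap_X, cellMinor_iota, map_one]
  le_ker := fun f hf =>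
    Ideal.Quotient.eq_zero_iff_mem.2 (cellMap_mem_of_mem K hd ht htd htr f hf)
  key := fun F N hF h =>
    mem_of_cellMap_mem K hd ht htd htr F N hF (Ideal.Quotient.eq_zero_iff_mem.1 h)

include hd ht htd htr in
theorem detRing_isDomain : IsDomain (DetRing K d r t) := by
  haveI := isPrime_schubertVanishing K hd (Nat.le_add_right d r) (phiIdx d r t ht htd htr)
  haveI : Nontrivial (DetRing K d r t) :=
    Ideal.Quotient.nontrivial_iff.2 (minorIdeal_ne_top K ht)
  exact (isDehom_psiDet K hd ht htd htr).isDomain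

include hd ht htd htr in
theorem detRing_isIntegrallyClosed : IsIntegrallyClosed (DetRing K d r t) := by
  haveI := isPrime_schubertVanishing K hd (Nat.le_add_right d r) (phiIdx d r t ht htd htr)
  haveI := detRing_isDomain K hd ht htd htr
  haveI : IsIntegrallyClosed (PlRing K d (d + r) ⧸
      schubertVanishing K d (d + r) (phiIdx d r t ht htd htr)) :=
    isIntegrallyClosed_RS K (Nat.le_add_right d r) _ hd
  exact (isDehom_psiDet K hd ht htd htr).isIntegrallyClosed

include hd in
theorem nonempty_detEquiv :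
    Nonempty (DetRing K d r t ≃+*
      ((PlRing K d (d + r) ⧸ schubertVanishing K d (d + r) (phiIdx d r t ht htd htr)) ⧸
        Ideal.span {Ideal.Quotient.mk (schubertVanishing K d (d + r) (phiIdx d r t ht htd htr))
          (X (iotaIdx (Nat.le_add_right d r))) - 1})) := by
  set J := schubertVanishing K d (d + r) (phiIdx d r t ht htd htr) with hJ
  set ι := iotaIdx (Nat.le_add_right d r) with hι
  have hD := isDehom_psiDet K hd ht htd htr
  have hsurj : Function.Surjective (psiDet K d r t).toRingHom := hD.surj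
  have hker := hD.ker_eq
  have hmap : (Ideal.span {(X ι - 1 : PlRing K d (d + r))}).map (Ideal.Quotient.mk J) =
      Ideal.span {Ideal.Quotient.mk J (X ι) - 1} := by
    rw [Ideal.map_span, Set.image_singleton, map_sub, map_one]
  exact ⟨(RingHom.quotientKerEquivOfSurjective hsurj).symm.trans
    ((Ideal.quotEquivOfEq hker).trans
      ((DoubleQuot.quotQuotEquivQuotSup J (Ideal.span {(X ι - 1 : PlRing K d (d + r))})).symm.trans
        (Ideal.quotEquivOfEq hmap)))⟩

include hd in
lemma mk_X_iota_sub_one_ne_zero :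
    Ideal.Quotient.mk (schubertVanishing K d (d + r) (phiIdx d r t ht htd htr))
      (X (iotaIdx (Nat.le_add_right d r))) - 1 ≠ 0 := by
  intro h
  rw [← map_one (Ideal.Quotient.mk _), ← map_sub, Ideal.Quotient.eq_zero_iff_mem] at h
  have h1 := schubertVanishing_le_ker_constantCoeff K hd _ h
  rw [RingHom.mem_ker, map_sub, constantCoeff_X, map_one, zero_sub] at h1
  exact one_ne_zero (neg_eq_zero.1 h1)

include hd ht htd htr in
theorem detRing_isCohenMacaulay : LocCoh.IsCohenMacaulayRing (DetRing K d r t) := by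
  haveI := isPrime_schubertVanishing K hd (Nat.le_add_right d r) (phiIdx d r t ht htd htr)
  obtain ⟨e⟩ := nonempty_detEquiv K hd ht htd htr
  apply CMRingAux.isCohenMacaulayRing_of_ringEquiv
    (B := (PlRing K d (d + r) ⧸ schubertVanishing K d (d + r) (phiIdx d r t ht htd htr)) ⧸
        Ideal.span {Ideal.Quotient.mk (schubertVanishing K d (d + r) (phiIdx d r t ht htd htr))
          (X (iotaIdx (Nat.le_add_right d r))) - 1}) e
  apply CMRingAux.isCohenMacaulayRing_quotient_span
    (isCohenMacaulayRing_schubert K hd (Nat.le_add_right d r) _)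
  exact mem_nonZeroDivisors_of_ne_zero (mk_X_iota_sub_one_ne_zero K hd ht htd htr)

include hd ht htd htr in
theorem detRing_dim :
    ringKrullDim (DetRing K d r t) = (((t - 1) * (d + r - t + 1) : ℕ) : WithBot ℕ∞) := by
  set J := schubertVanishing K d (d + r) (phiIdx d r t ht htd htr) with hJ
  haveI hJp : J.IsPrime := isPrime_schubertVanishing K hd (Nat.le_add_right d r) _
  haveI : IsDomain (PlRing K d (d + r) ⧸ J) := Ideal.Quotient.isDomain J
  haveI : Algebra.FiniteType K (PlRing K d (d + r) ⧸ J) :=
    Algebra.FiniteType.of_surjective (Ideal.Quotient.mkₐ K J) (Ideal.Quotient.mkₐ_surjective K J)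
  obtain ⟨e⟩ := nonempty_detEquiv K hd ht htd htr
  set y : PlRing K d (d + r) ⧸ J :=
    Ideal.Quotient.mk J (X (iotaIdx (Nat.le_add_right d r))) - 1 with hy
  have hy0 : y ≠ 0 := mk_X_iota_sub_one_ne_zero K hd ht htd htr
  haveI : Nontrivial (DetRing K d r t) :=
    Ideal.Quotient.nontrivial_iff.2 (minorIdeal_ne_top K ht)
  have hyunit : ¬ IsUnit y := by
    intro hu
    have h1 : Ideal.span {y} = ⊤ := Ideal.span_singleton_eq_top.2 hu
    haveI : Subsingleton ((PlRing K d (d + r) ⧸ J) ⧸ Ideal.span {y}) :=
      Ideal.Quotient.subsingleton_iff.2 h1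
    have := e.injective.subsingleton
    exact not_subsingleton (DetRing K d r t) this
  have hdimR := ringKrullDim_schubert K hd (Nat.le_add_right d r) _
    (phiIdx d r t ht htd htr) rfl
  rw [codeg_phiIdx ht htd htr] at hdimR
  rw [ringKrullDim_eq_of_ringEquiv (S := (PlRing K d (d + r) ⧸ J) ⧸ Ideal.span {y}) e]
  apply withBot_enat_add_one_cancel
  apply le_antisymm
  · have h1 := ringKrullDim_quotient_succ_le_of_nonZeroDivisor
      (mem_nonZeroDivisors_of_ne_zero hy0)
    rw [hdimR] at h1
    exact h1
  · have h1 := DimAux.dim_le_quotient_add_one K (PlRing K d (d + r) ⧸ J) y hyunit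
    rw [hdimR] at h1
    exact h1

end det

end Groth.Agent.Lib.Helper28.Smt
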