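import Groth.Agent.Lib.Helper28.SmtPrime

/-!
# The Schubert divisors of `X(τ)` (helper28)

The divisors of `τ` are the tuples obtained by lowering one entry of `τ` by one.  There is at most
one divisor iff `τ` begins with `0, 1, …, s-1` followed by a single run of consecutive values.
-/

set_option autoImplicit false

namespace Groth.Agent.Lib.Helper28.Smt

open W4bk4grassmannian

variable {d n : ℕ}

/-- the least value possible at position `t` given the previous entry -/
def lowB (τ : Idx d n) (t : Fin d) : ℕ :=
  if h : t.val = 0 then 0 else (τ.1 ⟨t.val - 1, by have := t.isLt; omega⟩).val + 1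

/-- the entry at `t` can be lowered -/
def Drop (τ : Idx d n) (t : Fin d) : Prop := lowB τ t < (τ.1 t).val

lemma lowB_le (τ : Idx d n) (t : Fin d) : lowB τ t ≤ (τ.1 t).val := by
  unfold lowB
  split_ifs with h
  · exact Nat.zero_le _
  · have : τ.1 ⟨t.val - 1, by have := t.isLt; omega⟩ < τ.1 t := τ.2 (by
      rw [Fin.lt_def]; simp only; omega)
    exact this

lemma le_lowB (τ : Idx d n) (t : Fin d) : t.val ≤ lowB τ t := by
  unfold lowB
  split_ifs with h
  · omega
  · have := idx_val_le τ ⟨t.val - 1, by have := t.isLt; omega⟩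
    simp only at this
    omega

lemma lt_of_lt_drop (τ : Idx d n) (t : Fin d) (h : Drop τ t) (s : Fin d) (hs : s < t) :
    (τ.1 s).val + 1 < (τ.1 t).val := by
  have hs' : s.val < t.val := hs
  have h0 : ¬ t.val = 0 := by omega
  unfold Drop lowB at h
  rw [dif_neg h0] at h
  have hle : τ.1 s ≤ τ.1 ⟨t.val - 1, by have := t.isLt; omega⟩ := τ.2.monotone (by
    rw [Fin.le_def]; simp only; omega)
  have : (τ.1 s).val ≤ (τ.1 ⟨t.val - 1, by have := t.isLt; omega⟩).val := hle
  omega

/-- lower the entry at a droppable position -/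
def dropIdx (τ : Idx d n) (t : Fin d) (h : Drop τ t) : Idx d n :=
  ⟨fun s => if s = t then ⟨(τ.1 t).val - 1, by have := (τ.1 t).isLt; omega⟩ else τ.1 s, by
    intro s s' hss
    by_cases h1 : s = t
    · have h2 : ¬ s' = t := by
        intro h2; rw [h1, h2] at hss; exact lt_irrefl _ hss
      simp only [h1, h2, if_true, if_false]
      rw [Fin.lt_def]
      simp only
      have : τ.1 t < τ.1 s' := τ.2 (h1 ▸ hss)
      have : (τ.1 t).val < (τ.1 s').val := this
      omega
    · by_cases h2 : s' = t
      · simp only [h1, h2, if_true, if_false]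
        rw [Fin.lt_def]
        simp only
        have := lt_of_lt_drop τ t h s (h2 ▸ hss)
        omega
      · simp only [h1, h2, if_false]
        exact τ.2 hss⟩

lemma dropIdx_apply_self (τ : Idx d n) (t : Fin d) (h : Drop τ t) :
    ((dropIdx τ t h).1 t).val = (τ.1 t).val - 1 := by
  unfold dropIdx
  simp

lemma dropIdx_apply_ne (τ : Idx d n) (t : Fin d) (h : Drop τ t) (s : Fin d) (hs : s ≠ t) :
    (dropIdx τ t h).1 s = τ.1 s := by
  unfold dropIdx
  simp [hs]

lemma dropIdx_mem_divisors (τ : Idx d n) (t : Fin d) (h : Drop τ t) :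
    dropIdx τ t h ∈ divisors τ := by
  have hpos : t.val + 1 ≤ (τ.1 t).val := by
    have := le_lowB τ t
    unfold Drop at h
    omega
  constructor
  · apply lt_of_le_of_ne
    · intro s
      rw [Fin.le_def]
      by_cases hs : s = t
      · rw [hs, dropIdx_apply_self]; omega
      · rw [dropIdx_apply_ne τ t h s hs]
    · intro heq
      have := congrArg (fun w : Idx d n => (w.1 t).val) heq
      beta_reduce at this
      rw [dropIdx_apply_self] at this
      omega
  · unfold codeg
    rw [← Finset.add_sum_erase _ _ (Finset.mem_univ t), ← Finset.add_sum_erase _ _ (Finset.mem_univ t)]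
    rw [dropIdx_apply_self]
    have hrest : ∑ s ∈ Finset.univ.erase t, (((dropIdx τ t h).1 s).val - s.val) =
        ∑ s ∈ Finset.univ.erase t, ((τ.1 s).val - s.val) := by
      apply Finset.sum_congr rfl
      intro s hs
      rw [dropIdx_apply_ne τ t h s (Finset.ne_of_mem_erase hs)]
    rw [hrest]
    omega

lemma dropIdx_injective (τ : Idx d n) (t t' : Fin d) (h : Drop τ t) (h' : Drop τ t')
    (heq : dropIdx τ t h = dropIdx τ t' h') : t = t' := by
  by_contra hne
  have := congrArg (fun w : Idx d n => (w.1 t).val) heq
  beta_reduce at this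
  rw [dropIdx_apply_self, dropIdx_apply_ne τ t' h' t hne] at this
  have hpos : t.val + 1 ≤ (τ.1 t).val := by
    have := le_lowB τ t
    unfold Drop at h
    omega
  omega

lemma exists_drop_of_mem_divisors (τ φ : Idx d n) (hφ : φ ∈ divisors τ) :
    ∃ (t : Fin d) (h : Drop τ t), φ = dropIdx τ t h := by
  classical
  obtain ⟨hlt, hcod⟩ := hφ
  have hle : ∀ s, (φ.1 s).val ≤ (τ.1 s).val := fun s => hlt.le s
  have hne : ∃ t, φ.1 t ≠ τ.1 t := by
    by_contra hcon
    simp only [not_exists, not_not] at hcon
    exact hlt.ne (Subtype.ext (funext hcon))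
  obtain ⟨t, ht⟩ := hne
  have hsum : ∑ s, ((τ.1 s).val - (φ.1 s).val) = 1 := by
    unfold codeg at hcod
    have h1 : ∀ s : Fin d, (τ.1 s).val - s.val = ((φ.1 s).val - s.val) + ((τ.1 s).val - (φ.1 s).val) := by
      intro s
      have := idx_val_le φ s
      have := hle s
      omega
    rw [Finset.sum_congr rfl (fun s _ => h1 s), Finset.sum_add_distrib] at hcod
    omega
  have htpos : 1 ≤ (τ.1 t).val - (φ.1 t).val := by
    have := hle t
    have : (φ.1 t).val ≠ (τ.1 t).val := fun h => ht (Fin.ext h)
    omega
  rw [← Finset.add_sum_erase _ _ (Finset.mem_univ t)] at hsum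
  have ht1 : (τ.1 t).val - (φ.1 t).val = 1 := by omega
  have hrest : ∑ s ∈ Finset.univ.erase t, ((τ.1 s).val - (φ.1 s).val) = 0 := by omega
  have hrest' : ∀ s, s ≠ t → φ.1 s = τ.1 s := by
    intro s hs
    have := (Finset.sum_eq_zero_iff.1 hrest) s (Finset.mem_erase.2 ⟨hs, Finset.mem_univ _⟩)
    have := hle s
    apply Fin.ext
    omega
  have hdrop : Drop τ t := by
    unfold Drop lowB
    split_ifs with h0
    · omega
    · have hlt' : φ.1 ⟨t.val - 1, by have := t.isLt; omega⟩ < φ.1 t := φ.2 (by
        rw [Fin.lt_def]; simp only; omega)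
      have hne' : (⟨t.val - 1, by have := t.isLt; omega⟩ : Fin d) ≠ t := by
        intro h; have := congrArg Fin.val h; simp only at this; omega
      rw [hrest' _ hne'] at hlt'
      have : (τ.1 ⟨t.val - 1, by have := t.isLt; omega⟩).val < (φ.1 t).val := hlt'
      have := hle t
      omega
  refine ⟨t, hdrop, ?_⟩
  apply Subtype.ext
  funext s
  by_cases hs : s = t
  · rw [hs]
    apply Fin.ext
    rw [dropIdx_apply_self]
    have := hle t
    omega
  · rw [dropIdx_apply_ne τ t hdrop s hs, hrest' s hs]

/-- at most one divisor iff at most one droppable position -/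
lemma subsingleton_divisors_iff (τ : Idx d n) :
    (divisors τ).Subsingleton ↔ ∀ t t' : Fin d, Drop τ t → Drop τ t' → t = t' := by
  constructor
  · intro hsub t t' h h'
    exact dropIdx_injective τ t t' h h'
      (hsub (dropIdx_mem_divisors τ t h) (dropIdx_mem_divisors τ t' h'))
  · intro hall φ hφ φ' hφ'
    obtain ⟨t, h, rfl⟩ := exists_drop_of_mem_divisors τ φ hφ
    obtain ⟨t', h', rfl⟩ := exists_drop_of_mem_divisors τ φ' hφ'
    have := hall t t' h h'
    subst this
    rfl

lemma eq_lowB_of_not_drop (τ : Idx d n) (t : Fin d) (h : ¬ Drop τ t) :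
    (τ.1 t).val = lowB τ t := by
  have := lowB_le τ t
  unfold Drop at h
  omega

/-- the combinatorial characterization -/
lemma drop_unique_iff (τ : Idx d n) :
    (∀ t t' : Fin d, Drop τ t → Drop τ t' → t = t') ↔
      ∃ s : ℕ, (∀ t : Fin d, t.val < s → (τ.1 t).val = t.val) ∧
        ∀ t t' : Fin d, s ≤ t.val → t.val + 1 = t'.val → (τ.1 t).val + 1 = (τ.1 t').val := by
  constructor
  · intro hall
    have hex : ∃ s : ℕ, ∀ t : Fin d, Drop τ t → t.val = s := by
      by_cases h : ∃ t₀, Drop τ t₀
      · obtain ⟨t₀, ht₀⟩ := h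
        exact ⟨t₀.val, fun t ht => by rw [hall t t₀ ht ht₀]⟩
      · simp only [not_exists] at h
        exact ⟨d, fun t ht => absurd ht (h t)⟩
    obtain ⟨s, hs⟩ := hex
    refine ⟨s, ?_, ?_⟩
    · have key : ∀ (k : ℕ) (hk : k < d), k < s → (τ.1 ⟨k, hk⟩).val = k := by
        intro k
        induction k with
        | zero =>
          intro hk hks
          have hnd : ¬ Drop τ ⟨0, hk⟩ := fun h => by
            have := hs _ h; simp only at this; omega
          rw [eq_lowB_of_not_drop τ _ hnd]
          unfold lowB
          simp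
        | succ k ih =>
          intro hk hks
          have hnd : ¬ Drop τ ⟨k + 1, hk⟩ := fun h => by
            have := hs _ h; simp only at this; omega
          rw [eq_lowB_of_not_drop τ _ hnd]
          unfold lowB
          have h0 : ¬ (k + 1 = 0) := by omega
          simp only [h0, dif_neg, not_false_eq_true, Nat.add_sub_cancel]
          rw [ih (by omega) (by omega)]
      intro t ht
      exact key t.val t.isLt ht
    · intro t t' hst htt'
      have hnd : ¬ Drop τ t' := fun h => by
        have := hs _ h; omega
      rw [eq_lowB_of_not_drop τ _ hnd]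
      unfold lowB
      have h0 : ¬ (t'.val = 0) := by omega
      rw [dif_neg h0]
      have : (⟨t'.val - 1, by have := t'.isLt; omega⟩ : Fin d) = t := by
        apply Fin.ext; simp only; omega
      rw [this]
  · rintro ⟨s, h1, h2⟩
    have key : ∀ t : Fin d, Drop τ t → t.val = s := by
      intro t ht
      by_contra hne
      rcases Nat.lt_or_gt_of_ne hne with hlt | hgt
      · -- t < s
        unfold Drop lowB at ht
        split_ifs at ht with h0
        · have := h1 t hlt; omega
        · have := h1 t hlt
          have := h1 ⟨t.val - 1, by have := t.isLt; omega⟩ (by simp only; omega)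
          simp only at this
          omega
      · -- t > s
        unfold Drop lowB at ht
        have h0 : ¬ t.val = 0 := by omega
        rw [dif_neg h0] at ht
        have := h2 ⟨t.val - 1, by have := t.isLt; omega⟩ t (by simp only; omega)
          (by simp only; omega)
        omega
    intro t t' ht ht'
    apply Fin.ext
    rw [key t ht, key t' ht']

end Groth.Agent.Lib.Helper28.Smt
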