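import Groth.Agent.Lib.Helper28.SmtSR1
import Mathlib.Algebra.Order.Rearrangement

set_option autoImplicit false

universe u

namespace Groth.Agent.Lib.Helper28.Smt

open W4bk4grassmannian MvPolynomial

section weight

variable {d n : ℕ}

/-- the diagonal weight of the matrix variables -/
def omega (v : Var n d) : ℕ := (ofLex v).1.val * (ofLex v).2.val

/-- the diagonal weight of a Plücker coordinate -/
def Wh (θ : Idx d n) : ℕ := ∑ t, (θ.1 t).val * t.val

lemma weight_expo (θ : Fin d → Fin n) (π : Equiv.Perm (Fin d)) :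
    Finsupp.weight (omega (n := n) (d := d)) (expo θ π) = ∑ t, (θ (π t)).val * t.val := by
  unfold expo
  rw [map_sum]
  apply Finset.sum_congr rfl
  intro t _
  rw [Finsupp.weight_single, smul_eq_mul, one_mul]
  rfl

lemma weight_expo_one (θ : Idx d n) :
    Finsupp.weight (omega (n := n) (d := d)) (expo θ.1 1) = Wh θ := by
  rw [weight_expo]
  rfl

lemma monovary_idx (θ : Idx d n) :
    Monovary (fun t : Fin d => (θ.1 t).val) (fun t : Fin d => t.val) := by
  intro i j hij
  have : i < j := hij
  exact (θ.2 this).le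

lemma weight_expo_le (θ : Idx d n) (π : Equiv.Perm (Fin d)) :
    Finsupp.weight (omega (n := n) (d := d)) (expo θ.1 π) ≤ Wh θ := by
  rw [weight_expo]
  exact (monovary_idx θ).sum_comp_perm_mul_le_sum_mul (σ := π)

lemma weight_expo_lt (θ : Idx d n) (π : Equiv.Perm (Fin d)) (hπ : π ≠ 1) :
    Finsupp.weight (omega (n := n) (d := d)) (expo θ.1 π) < Wh θ := by
  rw [weight_expo]
  apply ((monovary_idx θ).sum_comp_perm_mul_lt_sum_mul_iff (σ := π)).2
  intro hmono
  obtain ⟨s0, hs0, hfix⟩ := exists_min_moved π hπ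
  have hmon : ∀ i j : Fin d, i < j → π i ≤ π j := by
    intro i j hij
    have := hmono (show (fun t : Fin d => t.val) i < (fun t : Fin d => t.val) j from hij)
    exact θ.2.le_iff_le.1 this
  have hgt : s0 < π s0 := by
    apply lt_of_le_of_ne _ (Ne.symm hs0)
    by_contra hcon
    rw [not_le] at hcon
    have := hfix (π s0) hcon
    exact hs0 (π.injective this)
  set j := π.symm s0 with hj
  have hπj : π j = s0 := by rw [hj, Equiv.apply_symm_apply]
  have hjne : j ≠ s0 := by
    intro h
    rw [h] at hπj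
    exact hs0 hπj
  have hjgt : s0 < j := by
    apply lt_of_le_of_ne _ (Ne.symm hjne)
    by_contra hcon
    rw [not_le] at hcon
    have := hfix j hcon
    rw [hπj] at this
    exact hjne this.symm
  have := hmon s0 j hjgt
  rw [hπj] at this
  exact absurd hgt (not_lt.2 this)

lemma Wh_sup_add_inf (τ φ : Idx d n) :
    Wh (W4bk4grassmannian.sup τ φ) + Wh (W4bk4grassmannian.inf τ φ) = Wh τ + Wh φ := by
  unfold Wh
  rw [← Finset.sum_add_distrib, ← Finset.sum_add_distrib]
  apply Finset.sum_congr rfl
  intro t _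
  show (max (τ.1 t) (φ.1 t)).val * t.val + (min (τ.1 t) (φ.1 t)).val * t.val = _
  rcases le_total (τ.1 t) (φ.1 t) with h | h
  · rw [max_eq_right h, min_eq_left h, add_comm]
  · rw [max_eq_left h, min_eq_right h]

end weight

section support

variable (K : Type u) [Field K] {d n : ℕ} (p : Fin n → Fin d → Prop) [∀ a t, Decidable (p a t)]

lemma weight_of_mem_support_det (θ : Idx d n) (m : Var n d →₀ ℕ)
    (hm : m ∈ (((genP K p).submatrix θ.1 id).det).support) :
    Finsupp.weight (omega (n := n) (d := d)) m ≤ Wh θ ∧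
      (Finsupp.weight (omega (n := n) (d := d)) m = Wh θ → m = expo θ.1 1) := by
  classical
  rw [det_genP] at hm
  have h1 := MvPolynomial.support_sum hm
  rw [Finset.mem_biUnion] at h1
  obtain ⟨π, -, hπ⟩ := h1
  have h2 := MvPolynomial.support_monomial_subset hπ
  rw [Finset.mem_singleton] at h2
  subst h2
  refine ⟨weight_expo_le θ π, ?_⟩
  intro heq
  by_cases hπ1 : π = 1
  · rw [hπ1]
  · exact absurd heq (weight_expo_lt θ π hπ1).ne

lemma weight_of_mem_support_mul (θ₁ θ₂ : Idx d n) (m : Var n d →₀ ℕ)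
    (hm : m ∈ (evP K p (X θ₁ * X θ₂)).support) :
    Finsupp.weight (omega (n := n) (d := d)) m ≤ Wh θ₁ + Wh θ₂ ∧
      (Finsupp.weight (omega (n := n) (d := d)) m = Wh θ₁ + Wh θ₂ →
        m = expo θ₁.1 1 + expo θ₂.1 1) := by
  classical
  rw [map_mul, evP_X, evP_X] at hm
  have h1 := MvPolynomial.support_mul _ _ hm
  rw [Finset.mem_add] at h1
  obtain ⟨m1, hm1, m2, hm2, rfl⟩ := h1
  obtain ⟨a1, b1⟩ := weight_of_mem_support_det K p θ₁ m1 hm1
  obtain ⟨a2, b2⟩ := weight_of_mem_support_det K p θ₂ m2 hm2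
  rw [map_add]
  refine ⟨add_le_add a1 a2, ?_⟩
  intro heq
  rw [b1 (by omega), b2 (by omega)]

end support

end Groth.Agent.Lib.Helper28.Smt

namespace Groth.Agent.Lib.Helper28.Smt

open W4bk4grassmannian MvPolynomial

section hibishape

variable (K : Type u) [Field K] [Infinite K] {d n : ℕ} (hd : 0 < d) (τ φ : Idx d n)

/-- the diagonal weight of a standard monomial -/
def WhC (c : Chain d n) : ℕ := ∑ k, Wh (c.2.1 k)

lemma weight_E (c : Chain d n) :
    Finsupp.weight (omega (n := n) (d := d)) (E c.2.1) = WhC c := by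
  unfold E WhC
  rw [map_sum]
  apply Finset.sum_congr rfl
  intro k _
  exact weight_expo_one (c.2.1 k)

lemma WhC_pairChain (α β : Idx d n) (h : β ≤ α) : WhC (pairChain α β h) = Wh α + Wh β := by
  show ∑ k : Fin 2, Wh (![α, β] k) = _
  rw [Fin.sum_univ_two]
  rfl

include hd in
/-- in the straightening relation of `X_τ X_φ`, all standard monomials other than
`X_{τ∨φ} X_{τ∧φ}` have strictly smaller diagonal weight -/
lemma WhC_lt_of_mem_support (g : Chain d n →₀ K)
    (hg : (X τ * X φ : PlRing K d n) - (g.sum fun c a => a • chainMon K c.2.1) ∈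
      plIdealTop (d := d) (n := n) K) (c : Chain d n)
    (hc : c ∈ g.support.erase
      (pairChain (W4bk4grassmannian.sup τ φ) (W4bk4grassmannian.inf τ φ) (inf_le_sup' τ φ))) :
    WhC c < Wh τ + Wh φ := by
  classical
  set star := pairChain (W4bk4grassmannian.sup τ φ) (W4bk4grassmannian.inf τ φ) (inf_le_sup' τ φ)
    with hstar
  set N := Wh τ + Wh φ with hN
  by_contra hcon
  rw [not_lt] at hcon
  set Sbad := (g.support.erase star).filter (fun c => N ≤ WhC c) with hSbad
  have hne : Sbad.Nonempty := ⟨c, Finset.mem_filter.2 ⟨hc, hcon⟩⟩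
  obtain ⟨c₀, hc₀, hmax⟩ := Finset.exists_max_image Sbad WhC hne
  rw [hSbad, Finset.mem_filter, Finset.mem_erase] at hc₀
  obtain ⟨⟨hc₀ne, hc₀s⟩, hc₀N⟩ := hc₀
  have hmax' : ∀ c' ∈ g.support.erase star, WhC c' ≤ WhC c₀ := by
    intro c' hc'
    by_cases hb : N ≤ WhC c'
    · exact hmax c' (Finset.mem_filter.2 ⟨hc', hb⟩)
    · exact (not_le.1 hb).le.trans hc₀N
  have hEstar : E star.2.1 = expo τ.1 1 + expo φ.1 1 := by
    rw [← expo_sup_add_inf]
    exact E_pairChain _ _ _
  have hEne : ∀ c' : Chain d n, c' ≠ c₀ → E c₀.2.1 ≠ E c'.2.1 := by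
    intro c' hne' heq
    apply hne'
    apply chain_inj
    exact (E_inj hd c₀.2.1 c'.2.1 c₀.2.2 c'.2.2 heq).symm
  have hid := evP_expansion K (pTrue (n := n) (d := d)) _ g hg
  have hco := congrArg (coeff (E c₀.2.1)) hid
  -- the left side
  have hL : coeff (E c₀.2.1) (evP K (pTrue (n := n) (d := d)) (X τ * X φ : PlRing K d n)) = 0 := by
    by_contra hne0
    have hmem : E c₀.2.1 ∈ (evP K (pTrue (n := n) (d := d)) (X τ * X φ : PlRing K d n)).support :=
      mem_support_iff.2 hne0
    obtain ⟨h1, h2⟩ := weight_of_mem_support_mul K _ τ φ _ hmem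
    rw [weight_E] at h1 h2
    have := h2 (le_antisymm h1 hc₀N)
    rw [← hEstar] at this
    exact hEne star (Ne.symm hc₀ne) this
  rw [hL, coeff_sum] at hco
  -- the right side
  have hR : ∑ c' ∈ g.support, coeff (E c₀.2.1)
      (g c' • evP K (pTrue (n := n) (d := d)) (chainMon K c'.2.1)) = g c₀ := by
    rw [Finset.sum_eq_single c₀]
    · rw [coeff_smul, ← (monic_evP_chainMon K _ c₀.2.1 (fun k => adm_pTrue _)).2,
        (monic_evP_chainMon K _ c₀.2.1 (fun k => adm_pTrue _)).1.coeff_degree, smul_eq_mul,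
        mul_one]
    · intro c' hc' hne'
      rw [coeff_smul]
      have h0 : coeff (E c₀.2.1) (evP K (pTrue (n := n) (d := d)) (chainMon K c'.2.1)) = 0 := by
        by_contra hne0
        have hmem : E c₀.2.1 ∈
            (evP K (pTrue (n := n) (d := d)) (chainMon K c'.2.1)).support :=
          mem_support_iff.2 hne0
        obtain ⟨α, β, hβα, rfl, -, -, -⟩ := support_shape K hd τ φ g hg c' hc'
        rw [chainMon_pairChain] at hmem
        obtain ⟨h1, h2⟩ := weight_of_mem_support_mul K _ α β _ hmem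
        rw [weight_E, ← WhC_pairChain α β hβα] at h1 h2
        by_cases hst : pairChain α β hβα = star
        · have h3 : WhC (pairChain α β hβα) = N := by
            rw [hst, hstar, WhC_pairChain, Wh_sup_add_inf]
          have := h2 (le_antisymm h1 (by rw [h3]; exact hc₀N))
          rw [← E_pairChain α β hβα] at this
          exact hEne _ hne' this
        · have hle := hmax' _ (Finset.mem_erase.2 ⟨hst, hc'⟩)
          have := h2 (le_antisymm h1 hle)
          rw [← E_pairChain α β hβα] at this
          exact hEne _ hne' this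
      rw [h0, smul_zero]
    · intro h
      exact absurd hc₀s h
  rw [hR] at hco
  exact (Finsupp.mem_support_iff.1 hc₀s) hco.symm

include hd in
/-- **shape of the straightening relation, with diagonal weights** -/
theorem hibi_shape :
    ∃ g' ∈ Submodule.span K {f : PlRing K d n | ∃ α β : Idx d n,
        β ≤ α ∧ W4bk4grassmannian.sup τ φ ≤ α ∧ wt α.1 + wt β.1 = wt τ.1 + wt φ.1 ∧
          Wh α + Wh β < Wh τ + Wh φ ∧ f = X α * X β},
      (X τ * X φ : PlRing K d n) -
          X (W4bk4grassmannian.sup τ φ) * X (W4bk4grassmannian.inf τ φ) - g' ∈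
        plIdealTop (d := d) (n := n) K := by
  classical
  obtain ⟨g, hg⟩ := exists_expansion K (X τ * X φ : PlRing K d n)
  set star := pairChain (W4bk4grassmannian.sup τ φ) (W4bk4grassmannian.inf τ φ) (inf_le_sup' τ φ)
    with hstar
  have h1 : g star = 1 := coeff_star K hd τ φ g hg
  have hsm : star ∈ g.support := by
    rw [Finsupp.mem_support_iff, h1]
    exact one_ne_zero
  have hcmstar : chainMon K star.2.1 =
      (X (W4bk4grassmannian.sup τ φ) * X (W4bk4grassmannian.inf τ φ) : PlRing K d n) :=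
    chainMon_pairChain K _ _ _
  refine ⟨∑ c ∈ g.support.erase star, g c • chainMon K c.2.1, ?_, ?_⟩
  · apply Submodule.sum_mem
    intro c hc
    apply Submodule.smul_mem
    apply Submodule.subset_span
    have hlt := WhC_lt_of_mem_support K hd τ φ g hg c hc
    rw [Finset.mem_erase] at hc
    obtain ⟨α, β, hβα, rfl, hsup, hinf, hwt⟩ := support_shape K hd τ φ g hg c hc.2
    rw [WhC_pairChain] at hlt
    exact ⟨α, β, hβα, hsup, hwt, hlt, chainMon_pairChain K α β hβα⟩
  · have hsplit : (g.sum fun c a => a • chainMon K c.2.1) =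
        X (W4bk4grassmannian.sup τ φ) * X (W4bk4grassmannian.inf τ φ) +
          ∑ c ∈ g.support.erase star, g c • chainMon K c.2.1 := by
      unfold Finsupp.sum
      rw [← Finset.add_sum_erase _ _ hsm]
      beta_reduce
      rw [h1, one_smul, hcmstar]
    have : (X τ * X φ : PlRing K d n) -
          X (W4bk4grassmannian.sup τ φ) * X (W4bk4grassmannian.inf τ φ) -
          ∑ c ∈ g.support.erase star, g c • chainMon K c.2.1 =
        (X τ * X φ : PlRing K d n) - (g.sum fun c a => a • chainMon K c.2.1) := by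
      rw [hsplit]; ring
    rw [this]
    exact hg

end hibishape

end Groth.Agent.Lib.Helper28.Smt
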