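import Groth.Agent.Lib.Helper28.SmtSR2
import Groth.Agent.Lib.Helper28.ReesAux

set_option autoImplicit false
set_option linter.style.haveILetI false

universe u

namespace Groth.Agent.Lib.Helper28.Smt

open W4bk4grassmannian MvPolynomial
open Groth.Agent.Lib.Helper28.ReesAux

section data

variable (K : Type u) [Field K] [Infinite K] {d n : ℕ} (hd : 0 < d) (w : Idx d n)

/-- the concave weight on `H(w)` -/
def WcB (θ : Below w) : ℕ := Wc θ.1

lemma chainSupp_zero : ChainSupp (0 : Below w →₀ ℕ) := by
  intro a ha
  rw [Finsupp.support_zero] at ha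
  exact absurd ha (Finset.notMem_empty a)

omit [Infinite K] in
lemma Fil_le (N : ℕ) : Fil K w (WcB w) N ≤
    Submodule.span K {y | ∃ l : StdM w, Finsupp.weight (WcB w) l.1 ≤ N ∧ y = bStd K w l} := by
  unfold Fil
  apply Submodule.span_mono
  rintro y ⟨m, hm, hW, rfl⟩
  exact ⟨⟨m, hm⟩, hW, rfl⟩

/-- the filtration data of the coordinate ring of the cone over `X(w)` -/
noncomputable def srData : FilData K (PlRing K d n ⧸ schubertVanishing K d n w) (StdM w) where
  b := bStd K w
  ω := fun m => Finsupp.weight (WcB w) m.1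
  li := linearIndependent_bStd K w hd
  sp := span_bStd K w hd
  one_mem := by
    apply Submodule.subset_span
    refine ⟨⟨0, chainSupp_zero w⟩, ?_, ?_⟩
    · rw [map_zero]
    · unfold bStd
      show (1 : PlRing K d n ⧸ schubertVanishing K d n w) = belowToSchubert K w (monomial 0 1)
      rw [show (monomial (0 : Below w →₀ ℕ) (1 : K)) = 1 from rfl, map_one]
  mul_mem := by
    intro i j
    have h : bStd K w i * bStd K w j = belowToSchubert K w (monomial (i.1 + j.1) 1) := by
      unfold bStd
      rw [← map_mul, monomial_mul, one_mul]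
    rw [h]
    have := bStd_mem_Fil_of_monomial K w hd (i.1 + j.1)
    rw [map_add] at this
    exact Fil_le K w _ this

end data

section fibre0

variable (K : Type u) [Field K] [Infinite K] {d n : ℕ} (hd : 0 < d) (w : Idx d n)

lemma mem_F_of_monomial (m : Below w →₀ ℕ) :
    belowToSchubert K w (monomial m 1) ∈ (srData K hd w).F (Finsupp.weight (WcB w) m) :=
  Fil_le K w _ (bStd_mem_Fil_of_monomial K w hd m)

/-- the element `π(x^m) t^{W(m)}` of the Rees algebra -/
noncomputable def G (m : Below w →₀ ℕ) : (srData K hd w).rees :=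
  ⟨Polynomial.monomial (Finsupp.weight (WcB w) m) (belowToSchubert K w (monomial m 1)),
    (srData K hd w).monomial_mem_rees (mem_F_of_monomial K hd w m)⟩

lemma G_zero : G K hd w 0 = 1 := by
  apply Subtype.ext
  show Polynomial.monomial (Finsupp.weight (WcB w) 0) (belowToSchubert K w (monomial 0 1)) = 1
  rw [map_zero, show (monomial (0 : Below w →₀ ℕ) (1 : K)) = 1 from rfl, map_one]
  rfl

lemma G_add (m m' : Below w →₀ ℕ) : G K hd w (m + m') = G K hd w m * G K hd w m' := by
  apply Subtype.ext
  show Polynomial.monomial (Finsupp.weight (WcB w) (m + m'))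
      (belowToSchubert K w (monomial (m + m') 1)) =
    Polynomial.monomial (Finsupp.weight (WcB w) m) (belowToSchubert K w (monomial m 1)) *
      Polynomial.monomial (Finsupp.weight (WcB w) m') (belowToSchubert K w (monomial m' 1))
  rw [Polynomial.monomial_mul_monomial, ← map_mul, monomial_mul, one_mul, map_add]

lemma G_eq_E (m : StdM w) : G K hd w m.1 = (srData K hd w).E m := rfl

/-- the map from the polynomial ring on `H(w)` to the special fibre -/
noncomputable def psi : MvPolynomial (Below w) K →ₐ[K]
    ((srData K hd w).rees ⧸ (srData K hd w).T) :=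
  aeval (fun θ => Ideal.Quotient.mk (srData K hd w).T (G K hd w (Finsupp.single θ 1)))

lemma psi_monomial (m : Below w →₀ ℕ) :
    psi K hd w (monomial m 1) = Ideal.Quotient.mk (srData K hd w).T (G K hd w m) := by
  induction m using Finsupp.induction_linear with
  | zero =>
    rw [show (monomial (0 : Below w →₀ ℕ) (1 : K)) = 1 from rfl, map_one, G_zero, map_one]
  | add f g hf hg =>
    rw [G_add, map_mul, ← hf, ← hg, ← map_mul, monomial_mul, one_mul]
  | single θ k =>
    induction k with
    | zero =>
      rw [Finsupp.single_zero, show (monomial (0 : Below w →₀ ℕ) (1 : K)) = 1 from rfl, map_one,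
        G_zero, map_one]
    | succ k ih =>
      have e : Finsupp.single θ (k + 1) = Finsupp.single θ k + Finsupp.single θ 1 := by
        rw [← Finsupp.single_add]
      have e2 : (monomial (Finsupp.single θ k + Finsupp.single θ 1) 1 :
          MvPolynomial (Below w) K) = monomial (Finsupp.single θ k) 1 * X θ := by
        rw [X, monomial_mul, one_mul]
      have e3 : psi K hd w (X θ) =
          Ideal.Quotient.mk (srData K hd w).T (G K hd w (Finsupp.single θ 1)) := by
        unfold psi
        rw [aeval_X]
      rw [e, G_add, map_mul, ← ih, e2, map_mul, e3]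

lemma weight_pos_of_ne_zero (m : Below w →₀ ℕ) (hm : m ≠ 0) :
    0 < Finsupp.weight (WcB w) m := by
  obtain ⟨θ, hθ⟩ := Finsupp.ne_iff.1 hm
  rw [Finsupp.coe_zero, Pi.zero_apply] at hθ
  have h1 : Finsupp.single θ 1 ≤ m := by
    rw [Finsupp.single_le_iff]
    exact Nat.one_le_iff_ne_zero.2 hθ
  obtain ⟨m', rfl⟩ := exists_add_of_le h1
  rw [map_add, Finsupp.weight_single, smul_eq_mul, one_mul]
  exact Nat.add_pos_left (Wc_pos θ.1) _

include hd in
lemma G_mem_T_of_not_chainSupp (m : Below w →₀ ℕ) (hm : ¬ ChainSupp m) :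
    G K hd w m ∈ (srData K hd w).T := by
  have hne : m ≠ 0 := by
    rintro rfl
    exact hm (chainSupp_zero w)
  have hpos := weight_pos_of_ne_zero w m hne
  obtain ⟨k, hk⟩ := Nat.exists_eq_succ_of_ne_zero hpos.ne'
  have h1 : belowToSchubert K w (monomial m 1) ∈ (srData K hd w).F k := by
    have := monomial_mem_Fil_pred K w (WcB w) (fun τ φ h1 h2 => relation_sr K hd w τ φ h1 h2) m hm
    rw [hk, Nat.succ_sub_one] at this
    exact Fil_le K w _ this
  have h2 := (srData K hd w).monomial_succ_mem_T h1
  have e : G K hd w m = ⟨Polynomial.monomial (k + 1) (belowToSchubert K w (monomial m 1)),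
      (srData K hd w).monomial_mem_rees ((srData K hd w).F_mono (Nat.le_succ k) h1)⟩ := by
    apply Subtype.ext
    show Polynomial.monomial (Finsupp.weight (WcB w) m) _ = Polynomial.monomial (k + 1) _
    rw [hk]
  rw [e]
  exact h2

omit [Infinite K] in
lemma monomial_mem_srIdeal (m : Below w →₀ ℕ) (hm : ¬ ChainSupp m) :
    (monomial m 1 : MvPolynomial (Below w) K) ∈ srIdeal K w := by
  obtain ⟨τ, φ, h1, h2, m₀, rfl⟩ := exists_incomparable m hm
  rw [monomial_decomp]
  apply Ideal.mul_mem_right
  unfold srIdeal
  exact Ideal.subset_span ⟨τ, φ, h1, h2, rfl⟩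

include hd in
lemma srIdeal_le_ker : ∀ a ∈ srIdeal K w, psi K hd w a = 0 := by
  intro a ha
  have hle : srIdeal K w ≤ RingHom.ker (psi K hd w) := by
    unfold srIdeal
    rw [Ideal.span_le]
    rintro f ⟨a, b, h1, h2, rfl⟩
    rw [SetLike.mem_coe, RingHom.mem_ker]
    have e : (X a * X b : MvPolynomial (Below w) K) =
        monomial (Finsupp.single a 1 + Finsupp.single b 1) 1 := by
      rw [X, X, monomial_mul, one_mul]
    rw [e, psi_monomial, Ideal.Quotient.eq_zero_iff_mem]
    apply G_mem_T_of_not_chainSupp K hd w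
    intro hch
    have ha' : a ∈ (Finsupp.single a 1 + Finsupp.single b 1 : Below w →₀ ℕ).support := by
      rw [Finsupp.mem_support_iff, Finsupp.add_apply, Finsupp.single_eq_same]
      omega
    have hb' : b ∈ (Finsupp.single a 1 + Finsupp.single b 1 : Below w →₀ ℕ).support := by
      rw [Finsupp.mem_support_iff, Finsupp.add_apply, Finsupp.single_eq_same]
      omega
    rcases hch a ha' b hb' with h | h
    · exact h1 h
    · exact h2 h
  exact hle ha

/-- the map from the Stanley–Reisner ring to the special fibre -/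
noncomputable def psiBar : (MvPolynomial (Below w) K ⧸ srIdeal K w) →ₐ[K]
    ((srData K hd w).rees ⧸ (srData K hd w).T) :=
  Ideal.Quotient.liftₐ (srIdeal K w) (psi K hd w) (srIdeal_le_ker K hd w)

lemma psiBar_mk (f : MvPolynomial (Below w) K) :
    psiBar K hd w (Ideal.Quotient.mk (srIdeal K w) f) = psi K hd w f := rfl

theorem psiBar_surjective : Function.Surjective (psiBar K hd w) := by
  have hle : Submodule.span K
      (Set.range fun i => Ideal.Quotient.mk (srData K hd w).T ((srData K hd w).E i)) ≤
      Subalgebra.toSubmodule (psiBar K hd w).range := by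
    rw [Submodule.span_le]
    rintro y ⟨m, rfl⟩
    show _ ∈ (psiBar K hd w).range
    rw [AlgHom.mem_range]
    refine ⟨Ideal.Quotient.mk (srIdeal K w) (monomial m.1 1), ?_⟩
    rw [psiBar_mk, psi_monomial]
    rfl
  intro y
  have hy : y ∈ Subalgebra.toSubmodule (psiBar K hd w).range :=
    hle (by rw [(srData K hd w).span_mk_E]; trivial)
  exact hy

theorem psiBar_injective : Function.Injective (psiBar K hd w) := by
  classical
  rw [injective_iff_map_eq_zero]
  intro z hz
  obtain ⟨f, rfl⟩ := Ideal.Quotient.mk_surjective z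
  rw [psiBar_mk] at hz
  rw [Ideal.Quotient.eq_zero_iff_mem]
  -- expand `f`
  have hf : f = ∑ m ∈ f.support, coeff m f • monomial m 1 := by
    conv_lhs => rw [f.as_sum]
    apply Finset.sum_congr rfl
    intro m _
    rw [smul_monomial, smul_eq_mul, mul_one]
  set s1 := f.support.filter (fun m => ChainSupp m) with hs1
  set s2 := f.support.filter (fun m => ¬ ChainSupp m) with hs2
  have hsplit : f = ∑ m ∈ s1, coeff m f • monomial m 1 + ∑ m ∈ s2, coeff m f • monomial m 1 := by
    rw [hs1, hs2, Finset.sum_filter_add_sum_filter_not]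
    exact hf
  have h2 : psi K hd w (∑ m ∈ s2, coeff m f • monomial m 1) = 0 := by
    rw [map_sum]
    apply Finset.sum_eq_zero
    intro m hm
    rw [hs2, Finset.mem_filter] at hm
    rw [map_smul, psi_monomial,
      Ideal.Quotient.eq_zero_iff_mem.2 (G_mem_T_of_not_chainSupp K hd w m hm.2), smul_zero]
  have h1 : ∑ m ∈ s1.attach, coeff m.1 f •
      Ideal.Quotient.mk (srData K hd w).T ((srData K hd w).E
        ⟨m.1, (Finset.mem_filter.1 m.2).2⟩) = 0 := by
    have h3 : psi K hd w (∑ m ∈ s1, coeff m f • monomial m 1) = 0 := by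
      have := hz
      rw [hsplit, map_add, h2, add_zero] at this
      exact this
    rw [map_sum, ← Finset.sum_attach] at h3
    rw [← h3]
    apply Finset.sum_congr rfl
    intro m _
    rw [map_smul, psi_monomial]
    rfl
  -- independence
  have hinj : Function.Injective (fun m : {x // x ∈ s1} =>
      (⟨m.1, (Finset.mem_filter.1 m.2).2⟩ : StdM w)) := by
    intro m m' h
    apply Subtype.ext
    exact congrArg (fun x : StdM w => x.1) h
  have hli := ((srData K hd w).linearIndependent_mk_E).comp _ hinj
  have h4 := linearIndependent_iff'.1 hli s1.attach (fun m => coeff m.1 f) h1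
  have h5 : ∑ m ∈ s1, coeff m f • (monomial m 1 : MvPolynomial (Below w) K) = 0 := by
    apply Finset.sum_eq_zero
    intro m hm
    have := h4 ⟨m, hm⟩ (Finset.mem_attach _ _)
    beta_reduce at this
    rw [this, zero_smul]
  rw [hsplit, h5, zero_add]
  apply Ideal.sum_mem
  intro m hm
  rw [hs2, Finset.mem_filter] at hm
  rw [smul_eq_C_mul]
  exact Ideal.mul_mem_left _ _ (monomial_mem_srIdeal K w m hm.2)

end fibre0

section final

variable (K : Type u) [Field K] [Infinite K] {d n : ℕ} (hd : 0 < d) (w : Idx d n)

include hd in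
/-- **degeneration of the cone over a Schubert variety to the Stanley–Reisner ring** -/
theorem exists_sr_degeneration :
    ∃ (R : Type u) (_ : CommRing R) (_ : Algebra K R) (_ : Algebra (Polynomial K) R)
      (_ : IsScalarTower K (Polynomial K) R),
      Module.Free (Polynomial K) R ∧
      Nonempty ((R ⧸ Ideal.span {algebraMap (Polynomial K) R Polynomial.X}) ≃ₐ[K]
        (MvPolynomial (Below w) K ⧸ srIdeal K w)) ∧
      ∀ c : K, c ≠ 0 →
        Nonempty ((R ⧸ Ideal.span {algebraMap (Polynomial K) R (Polynomial.X - Polynomial.C c)}) ≃ₐ[K]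
          (PlRing K d n ⧸ schubertVanishing K d n w)) := by
  refine ⟨(srData K hd w).rees, inferInstance, inferInstance, inferInstance, inferInstance,
    (srData K hd w).free_rees, ?_, ?_⟩
  · exact ⟨(AlgEquiv.ofBijective (psiBar K hd w)
      ⟨psiBar_injective K hd w, psiBar_surjective K hd w⟩).symm⟩
  · intro c hc
    exact ⟨(srData K hd w).fibreEquiv c hc⟩

end final

end Groth.Agent.Lib.Helper28.Smt
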