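import Groth.Agent.Lib.Helper28.SmtHibi1
import Groth.Agent.Lib.Helper28.SmtSR3

set_option autoImplicit false
set_option linter.style.haveILetI false

universe u

namespace Groth.Agent.Lib.Helper28.Smt

open W4bk4grassmannian MvPolynomial
open Groth.Agent.Lib.Helper28.ReesAux

section rel

variable (K : Type u) [Field K] [Infinite K] {d n : ℕ} (hd : 0 < d) (w : Idx d n)

/-- the diagonal weight on `H(w)` -/
def WhB (θ : Below w) : ℕ := Wh θ.1 + 1

lemma WhB_sup_add_inf (a b : Below w) :
    WhB w (Below.sup a b) + WhB w (Below.inf a b) = WhB w a + WhB w b := by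
  unfold WhB
  have := Wh_sup_add_inf a.1 b.1
  show Wh (W4bk4grassmannian.sup a.1 b.1) + 1 + (Wh (W4bk4grassmannian.inf a.1 b.1) + 1) = _
  omega

lemma WcB_sup_add_inf_lt (a b : Below w) (h₁ : ¬ a ≤ b) (h₂ : ¬ b ≤ a) :
    WcB w (Below.sup a b) + WcB w (Below.inf a b) < WcB w a + WcB w b :=
  Wc_pair_lt a.1 b.1 _ _ h₁ h₂ le_rfl (wt_sup_add_inf a.1 b.1)

include hd in
/-- the straightening relation of an incomparable pair in `H(w)`: the terms other than the
Hibi term have smaller diagonal weight -/
theorem relation_hibi (τ φ : Below w) (h₁ : ¬ τ ≤ φ) (h₂ : ¬ φ ≤ τ) :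
    ∃ g ∈ Submodule.span K {f : MvPolynomial (Below w) K | ∃ α β : Below w,
        WhB w α + WhB w β < WhB w τ + WhB w φ ∧ WcB w α + WcB w β < WcB w τ + WcB w φ ∧
          f = X α * X β},
      belowToSchubert K w (X τ * X φ - X (Below.sup τ φ) * X (Below.inf τ φ)) =
        belowToSchubert K w g := by
  classical
  obtain ⟨gS, hgS, hmem⟩ := hibi_shape K hd τ.1 φ.1
  have h1 : belowToSchubert K w (X τ * X φ - X (Below.sup τ φ) * X (Below.inf τ φ)) =
      Ideal.Quotient.mk (schubertVanishing K d n w) gS := by
    rw [map_sub, map_mul (belowToSchubert K w), map_mul (belowToSchubert K w), belowToSchubert_X,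
      belowToSchubert_X, belowToSchubert_X, belowToSchubert_X, ← map_mul, ← map_mul, ← map_sub]
    exact Ideal.Quotient.eq.2 (plIdealTop_le_schubertVanishing K w hmem)
  rw [h1]
  have key : ∀ f ∈ Submodule.span K {f : PlRing K d n | ∃ α β : Idx d n,
        β ≤ α ∧ W4bk4grassmannian.sup τ.1 φ.1 ≤ α ∧ wt α.1 + wt β.1 = wt τ.1.1 + wt φ.1.1 ∧
          Wh α + Wh β < Wh τ.1 + Wh φ.1 ∧ f = X α * X β},
      ∃ g ∈ Submodule.span K {f : MvPolynomial (Below w) K | ∃ α β : Below w,
        WhB w α + WhB w β < WhB w τ + WhB w φ ∧ WcB w α + WcB w β < WcB w τ + WcB w φ ∧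
          f = X α * X β},
      Ideal.Quotient.mk (schubertVanishing K d n w) f = belowToSchubert K w g := by
    intro f hf
    induction hf using Submodule.span_induction with
    | mem f hf =>
      obtain ⟨α, β, hβα, hsup, hwt, hWh, rfl⟩ := hf
      by_cases hαw : α ≤ w
      · refine ⟨X (⟨α, hαw⟩ : Below w) * X (⟨β, hβα.trans hαw⟩ : Below w), ?_, ?_⟩
        · apply Submodule.subset_span
          refine ⟨⟨α, hαw⟩, ⟨β, hβα.trans hαw⟩, ?_,
            Wc_pair_lt τ.1 φ.1 α β h₁ h₂ hsup hwt, rfl⟩
          unfold WhB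
          show Wh α + 1 + (Wh β + 1) < Wh τ.1 + 1 + (Wh φ.1 + 1)
          omega
        · rw [map_mul (belowToSchubert K w), belowToSchubert_X, belowToSchubert_X, ← map_mul]
      · refine ⟨0, Submodule.zero_mem _, ?_⟩
        rw [map_zero, Ideal.Quotient.eq_zero_iff_mem]
        exact Ideal.mul_mem_right _ _ (X_mem_schubertVanishing K w α hαw)
    | zero => exact ⟨0, Submodule.zero_mem _, by rw [map_zero, map_zero]⟩
    | add x y _ _ hx hy =>
      obtain ⟨gx, hgx, ex⟩ := hx
      obtain ⟨gy, hgy, ey⟩ := hy
      exact ⟨gx + gy, Submodule.add_mem _ hgx hgy, by rw [map_add, map_add, ex, ey]⟩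
    | smul a x _ hx =>
      obtain ⟨gx, hgx, ex⟩ := hx
      refine ⟨a • gx, Submodule.smul_mem _ a hgx, ?_⟩
      have e1 : Ideal.Quotient.mk (schubertVanishing K d n w) (a • x) =
          a • Ideal.Quotient.mk (schubertVanishing K d n w) x :=
        map_smul (Ideal.Quotient.mkₐ K (schubertVanishing K d n w)) a x
      rw [e1, ex, map_smul]
  exact key gS hgS

include hd in
theorem monomial_mem_Fil_hibi (m : Below w →₀ ℕ) :
    belowToSchubert K w (monomial m 1) ∈ Fil K w (WhB w) (Finsupp.weight (WhB w) m) := by
  apply monomial_mem_Fil K w (WhB w) (WcB w)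
  intro τ φ h1 h2
  obtain ⟨g, hg, hrel⟩ := relation_hibi K hd w τ φ h1 h2
  refine ⟨X (Below.sup τ φ) * X (Below.inf τ φ) + g, ?_, ?_⟩
  · apply Submodule.add_mem
    · apply Submodule.subset_span
      exact ⟨Below.sup τ φ, Below.inf τ φ, (WhB_sup_add_inf w τ φ).le,
        WcB_sup_add_inf_lt w τ φ h1 h2, rfl⟩
    · refine Submodule.span_mono ?_ hg
      rintro f ⟨α, β, hlt, hlt', rfl⟩
      exact ⟨α, β, hlt.le, hlt', rfl⟩
  · rw [map_add, ← hrel, map_sub]
    ring

end rel

end Groth.Agent.Lib.Helper28.Smt

namespace Groth.Agent.Lib.Helper28.Smt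

open W4bk4grassmannian MvPolynomial
open Groth.Agent.Lib.Helper28.ReesAux

section hdata

variable (K : Type u) [Field K] [Infinite K] {d n : ℕ} (hd : 0 < d) (w : Idx d n)

omit [Infinite K] in
lemma FilH_le (N : ℕ) : Fil K w (WhB w) N ≤
    Submodule.span K {y | ∃ l : StdM w, Finsupp.weight (WhB w) l.1 ≤ N ∧ y = bStd K w l} := by
  unfold Fil
  apply Submodule.span_mono
  rintro y ⟨m, hm, hW, rfl⟩
  exact ⟨⟨m, hm⟩, hW, rfl⟩

/-- the filtration data for the diagonal weight -/
noncomputable def hibiData : FilData K (PlRing K d n ⧸ schubertVanishing K d n w) (StdM w) where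
  b := bStd K w
  ω := fun m => Finsupp.weight (WhB w) m.1
  li := linearIndependent_bStd K w hd
  sp := span_bStd K w hd
  one_mem := by
    apply Submodule.subset_span
    refine ⟨⟨0, chainSupp_zero w⟩, ?_, ?_⟩
    · rw [map_zero]
    · unfold bStd
      show (1 : PlRing K d n ⧸ schubertVanishing K d n w) = belowToSchubert K w (monomial 0 1)
      rw [show (monomial (0 : Below w →₀ ℕ) (1 : K)) = 1 from rfl, map_one]
  mul_mem := by
    intro i j
    have h : bStd K w i * bStd K w j = belowToSchubert K w (monomial (i.1 + j.1) 1) := by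
      unfold bStd
      rw [← map_mul, monomial_mul, one_mul]
    rw [h]
    have := monomial_mem_Fil_hibi K hd w (i.1 + j.1)
    rw [map_add] at this
    exact FilH_le K w _ this

lemma mem_FH_of_monomial (m : Below w →₀ ℕ) :
    belowToSchubert K w (monomial m 1) ∈ (hibiData K hd w).F (Finsupp.weight (WhB w) m) :=
  FilH_le K w _ (monomial_mem_Fil_hibi K hd w m)

/-- the element `π(x^m) t^{W(m)}` of the Rees algebra -/
noncomputable def GH (m : Below w →₀ ℕ) : (hibiData K hd w).rees :=
  ⟨Polynomial.monomial (Finsupp.weight (WhB w) m) (belowToSchubert K w (monomial m 1)),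
    (hibiData K hd w).monomial_mem_rees (mem_FH_of_monomial K hd w m)⟩

lemma GH_zero : GH K hd w 0 = 1 := by
  apply Subtype.ext
  show Polynomial.monomial (Finsupp.weight (WhB w) 0) (belowToSchubert K w (monomial 0 1)) = 1
  rw [map_zero, show (monomial (0 : Below w →₀ ℕ) (1 : K)) = 1 from rfl, map_one]
  rfl

lemma GH_add (m m' : Below w →₀ ℕ) : GH K hd w (m + m') = GH K hd w m * GH K hd w m' := by
  apply Subtype.ext
  show Polynomial.monomial (Finsupp.weight (WhB w) (m + m'))
      (belowToSchubert K w (monomial (m + m') 1)) =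
    Polynomial.monomial (Finsupp.weight (WhB w) m) (belowToSchubert K w (monomial m 1)) *
      Polynomial.monomial (Finsupp.weight (WhB w) m') (belowToSchubert K w (monomial m' 1))
  rw [Polynomial.monomial_mul_monomial, ← map_mul, monomial_mul, one_mul, map_add]

/-- the map from the polynomial ring on `H(w)` to the special fibre -/
noncomputable def psiH : MvPolynomial (Below w) K →ₐ[K]
    ((hibiData K hd w).rees ⧸ (hibiData K hd w).T) :=
  aeval (fun θ => Ideal.Quotient.mk (hibiData K hd w).T (GH K hd w (Finsupp.single θ 1)))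

lemma psiH_monomial (m : Below w →₀ ℕ) :
    psiH K hd w (monomial m 1) = Ideal.Quotient.mk (hibiData K hd w).T (GH K hd w m) := by
  induction m using Finsupp.induction_linear with
  | zero =>
    rw [show (monomial (0 : Below w →₀ ℕ) (1 : K)) = 1 from rfl, map_one, GH_zero, map_one]
  | add f g hf hg =>
    rw [GH_add, map_mul, ← hf, ← hg, ← map_mul, monomial_mul, one_mul]
  | single θ k =>
    induction k with
    | zero =>
      rw [Finsupp.single_zero, show (monomial (0 : Below w →₀ ℕ) (1 : K)) = 1 from rfl, map_one,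
        GH_zero, map_one]
    | succ k ih =>
      have e : Finsupp.single θ (k + 1) = Finsupp.single θ k + Finsupp.single θ 1 := by
        rw [← Finsupp.single_add]
      have e2 : (monomial (Finsupp.single θ k + Finsupp.single θ 1) 1 :
          MvPolynomial (Below w) K) = monomial (Finsupp.single θ k) 1 * X θ := by
        rw [X, monomial_mul, one_mul]
      have e3 : psiH K hd w (X θ) =
          Ideal.Quotient.mk (hibiData K hd w).T (GH K hd w (Finsupp.single θ 1)) := by
        unfold psiH
        rw [aeval_X]
      rw [e, GH_add, map_mul, ← ih, e2, map_mul, e3]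

omit [Infinite K] in
lemma below_sup_inf_of_le (a b : Below w) (h : a ≤ b) :
    Below.sup a b = b ∧ Below.inf a b = a := by
  constructor
  · apply Subtype.ext
    apply Subtype.ext
    funext t
    exact max_eq_right (h t)
  · apply Subtype.ext
    apply Subtype.ext
    funext t
    exact min_eq_left (h t)

omit [Infinite K] in
lemma below_sup_inf_comm (a b : Below w) :
    Below.sup a b = Below.sup b a ∧ Below.inf a b = Below.inf b a := by
  constructor
  · apply Subtype.ext
    apply Subtype.ext
    funext t
    exact max_comm _ _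
  · apply Subtype.ext
    apply Subtype.ext
    funext t
    exact min_comm _ _

include hd in
lemma psiH_generator (a b : Below w) :
    psiH K hd w (X a * X b - X (Below.sup a b) * X (Below.inf a b)) = 0 := by
  by_cases h1 : a ≤ b
  · obtain ⟨e1, e2⟩ := below_sup_inf_of_le w a b h1
    rw [e1, e2, mul_comm (X b), sub_self, map_zero]
  by_cases h2 : b ≤ a
  · obtain ⟨e1, e2⟩ := below_sup_inf_of_le w b a h2
    obtain ⟨c1, c2⟩ := below_sup_inf_comm w a b
    rw [c1, c2, e1, e2, sub_self, map_zero]
  -- the incomparable case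
  obtain ⟨g, hg, hrel⟩ := relation_hibi K hd w a b h1 h2
  set N := WhB w a + WhB w b with hN
  have hNpos : 1 ≤ N := by
    unfold WhB at hN
    omega
  obtain ⟨k, hk⟩ : ∃ k, N = k + 1 := ⟨N - 1, by omega⟩
  have hgk : belowToSchubert K w g ∈ (hibiData K hd w).F k := by
    have key : ∀ g ∈ Submodule.span K {f : MvPolynomial (Below w) K | ∃ α β : Below w,
        WhB w α + WhB w β < WhB w a + WhB w b ∧ WcB w α + WcB w β < WcB w a + WcB w b ∧
          f = X α * X β}, belowToSchubert K w g ∈ (hibiData K hd w).F k := by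
      intro g hg
      induction hg using Submodule.span_induction with
      | mem f hf =>
        obtain ⟨α, β, hlt, -, rfl⟩ := hf
        have e : (X α * X β : MvPolynomial (Below w) K) =
            monomial (Finsupp.single α 1 + Finsupp.single β 1) 1 := by
          rw [X, X, monomial_mul, one_mul]
        rw [e]
        refine (hibiData K hd w).F_mono ?_ (mem_FH_of_monomial K hd w _)
        rw [map_add, Finsupp.weight_single, Finsupp.weight_single, smul_eq_mul, smul_eq_mul,
          one_mul, one_mul]
        omega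
      | zero => rw [map_zero]; exact Submodule.zero_mem _
      | add x y _ _ hx hy => rw [map_add]; exact Submodule.add_mem _ hx hy
      | smul c x _ hx => rw [map_smul]; exact Submodule.smul_mem _ c hx
    exact key g hg
  have hT := (hibiData K hd w).monomial_succ_mem_T hgk
  have ea : (X a * X b : MvPolynomial (Below w) K) =
      monomial (Finsupp.single a 1 + Finsupp.single b 1) 1 := by
    rw [X, X, monomial_mul, one_mul]
  have es : (X (Below.sup a b) * X (Below.inf a b) : MvPolynomial (Below w) K) =
      monomial (Finsupp.single (Below.sup a b) 1 + Finsupp.single (Below.inf a b) 1) 1 := by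
    rw [X, X, monomial_mul, one_mul]
  rw [map_sub, ea, es, psiH_monomial, psiH_monomial, ← map_sub, Ideal.Quotient.eq_zero_iff_mem]
  have hw1 : Finsupp.weight (WhB w) (Finsupp.single a 1 + Finsupp.single b 1) = k + 1 := by
    rw [map_add, Finsupp.weight_single, Finsupp.weight_single, smul_eq_mul, smul_eq_mul,
      one_mul, one_mul, ← hk]
  have hw2 : Finsupp.weight (WhB w)
      (Finsupp.single (Below.sup a b) 1 + Finsupp.single (Below.inf a b) 1) = k + 1 := by
    rw [map_add, Finsupp.weight_single, Finsupp.weight_single, smul_eq_mul, smul_eq_mul,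
      one_mul, one_mul, WhB_sup_add_inf, ← hk]
  have e : GH K hd w (Finsupp.single a 1 + Finsupp.single b 1) -
      GH K hd w (Finsupp.single (Below.sup a b) 1 + Finsupp.single (Below.inf a b) 1) =
      ⟨Polynomial.monomial (k + 1) (belowToSchubert K w g),
        (hibiData K hd w).monomial_mem_rees ((hibiData K hd w).F_mono (Nat.le_succ k) hgk)⟩ := by
    apply Subtype.ext
    show Polynomial.monomial (Finsupp.weight (WhB w) (Finsupp.single a 1 + Finsupp.single b 1))
        (belowToSchubert K w (monomial (Finsupp.single a 1 + Finsupp.single b 1) 1)) -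
      Polynomial.monomial (Finsupp.weight (WhB w)
        (Finsupp.single (Below.sup a b) 1 + Finsupp.single (Below.inf a b) 1))
        (belowToSchubert K w
          (monomial (Finsupp.single (Below.sup a b) 1 + Finsupp.single (Below.inf a b) 1) 1)) =
      Polynomial.monomial (k + 1) (belowToSchubert K w g)
    rw [hw1, hw2, ← map_sub (Polynomial.monomial (k + 1)), ← map_sub, ← ea, ← es, hrel]
  rw [e]
  exact hT

include hd in
lemma hibiIdeal_le_ker : ∀ a ∈ hibiIdeal K w, psiH K hd w a = 0 := by
  intro a ha
  have hle : hibiIdeal K w ≤ RingHom.ker (psiH K hd w) := by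
    unfold hibiIdeal
    rw [Ideal.span_le]
    rintro f ⟨a, b, rfl⟩
    rw [SetLike.mem_coe, RingHom.mem_ker]
    exact psiH_generator K hd w a b
  exact hle ha

/-- the map from the Hibi ring to the special fibre -/
noncomputable def psiHBar : (MvPolynomial (Below w) K ⧸ hibiIdeal K w) →ₐ[K]
    ((hibiData K hd w).rees ⧸ (hibiData K hd w).T) :=
  Ideal.Quotient.liftₐ (hibiIdeal K w) (psiH K hd w) (hibiIdeal_le_ker K hd w)

lemma psiHBar_mk (f : MvPolynomial (Below w) K) :
    psiHBar K hd w (Ideal.Quotient.mk (hibiIdeal K w) f) = psiH K hd w f := rfl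

theorem psiHBar_surjective : Function.Surjective (psiHBar K hd w) := by
  have hle : Submodule.span K
      (Set.range fun i => Ideal.Quotient.mk (hibiData K hd w).T ((hibiData K hd w).E i)) ≤
      Subalgebra.toSubmodule (psiHBar K hd w).range := by
    rw [Submodule.span_le]
    rintro y ⟨m, rfl⟩
    show _ ∈ (psiHBar K hd w).range
    rw [AlgHom.mem_range]
    refine ⟨Ideal.Quotient.mk (hibiIdeal K w) (monomial m.1 1), ?_⟩
    rw [psiHBar_mk, psiH_monomial]
    rfl
  intro y
  have hy : y ∈ Subalgebra.toSubmodule (psiHBar K hd w).range :=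
    hle (by rw [(hibiData K hd w).span_mk_E]; trivial)
  exact hy

omit [Infinite K] in
/-- straightening in the Hibi ring -/
lemma exists_chainSupp_sub_mem_hibiIdeal (m : Below w →₀ ℕ) :
    ∃ m' : Below w →₀ ℕ, ChainSupp m' ∧
      (monomial m 1 - monomial m' 1 : MvPolynomial (Below w) K) ∈ hibiIdeal K w := by
  induction hN : Finsupp.weight (WcB w) m using Nat.strong_induction_on generalizing m with
  | _ N ih =>
  by_cases hm : ChainSupp m
  · exact ⟨m, hm, by rw [sub_self]; exact Ideal.zero_mem _⟩
  · obtain ⟨a, b, h1, h2, m₀, rfl⟩ := exists_incomparable m hm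
    have hlt : Finsupp.weight (WcB w)
        (Finsupp.single (Below.sup a b) 1 + Finsupp.single (Below.inf a b) 1 + m₀) < N := by
      rw [← hN]
      simp only [map_add, Finsupp.weight_single, smul_eq_mul, one_mul]
      have := WcB_sup_add_inf_lt w a b h1 h2
      omega
    obtain ⟨m', hm', hmem⟩ := ih _ hlt _ rfl
    refine ⟨m', hm', ?_⟩
    have hgen : (X a * X b - X (Below.sup a b) * X (Below.inf a b) : MvPolynomial (Below w) K) ∈
        hibiIdeal K w := by
      unfold hibiIdeal
      exact Ideal.subset_span ⟨a, b, rfl⟩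
    have e : (monomial (Finsupp.single a 1 + Finsupp.single b 1 + m₀) 1 - monomial m' 1 :
        MvPolynomial (Below w) K) =
        (X a * X b - X (Below.sup a b) * X (Below.inf a b)) * monomial m₀ 1 +
        (monomial (Finsupp.single (Below.sup a b) 1 + Finsupp.single (Below.inf a b) 1 + m₀) 1 -
          monomial m' 1) := by
      rw [monomial_decomp, monomial_decomp]
      ring
    rw [e]
    exact Ideal.add_mem _ (Ideal.mul_mem_right _ _ hgen) hmem

theorem psiHBar_injective : Function.Injective (psiHBar K hd w) := by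
  classical
  rw [injective_iff_map_eq_zero]
  intro z hz
  obtain ⟨f, rfl⟩ := Ideal.Quotient.mk_surjective z
  rw [psiHBar_mk] at hz
  rw [Ideal.Quotient.eq_zero_iff_mem]
  choose r hr1 hr2 using exists_chainSupp_sub_mem_hibiIdeal K w
  -- the standard part of `f`
  set c : StdM w →₀ K := ∑ m ∈ f.support, Finsupp.single (⟨r m, hr1 m⟩ : StdM w) (coeff m f)
    with hc
  set L : (StdM w →₀ K) →ₗ[K] MvPolynomial (Below w) K :=
    Finsupp.linearCombination K (fun s : StdM w => (monomial s.1 1 : MvPolynomial (Below w) K))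
    with hL
  have hLc : L c = ∑ m ∈ f.support, coeff m f • monomial (r m) 1 := by
    rw [hc, map_sum]
    apply Finset.sum_congr rfl
    intro m _
    rw [hL, Finsupp.linearCombination_single]
  have hdiff : f - L c ∈ hibiIdeal K w := by
    have hf : f = ∑ m ∈ f.support, coeff m f • monomial m 1 := by
      conv_lhs => rw [f.as_sum]
      apply Finset.sum_congr rfl
      intro m _
      rw [smul_monomial, smul_eq_mul, mul_one]
    have e : f - L c = ∑ m ∈ f.support, coeff m f • (monomial m 1 - monomial (r m) 1 :
        MvPolynomial (Below w) K) := by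
      rw [hLc]
      nth_rewrite 1 [hf]
      rw [← Finset.sum_sub_distrib]
      apply Finset.sum_congr rfl
      intro m _
      rw [smul_sub]
    rw [e]
    apply Ideal.sum_mem
    intro m _
    rw [smul_eq_C_mul]
    exact Ideal.mul_mem_left _ _ (hr2 m)
  have hψ : psiH K hd w (L c) = 0 := by
    have h1 : psiH K hd w (f - L c) = 0 := hibiIdeal_le_ker K hd w _ hdiff
    rw [map_sub, hz, zero_sub, neg_eq_zero] at h1
    exact h1
  have hψ' : Finsupp.linearCombination K
      (fun i => Ideal.Quotient.mk (hibiData K hd w).T ((hibiData K hd w).E i)) c = 0 := by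
    rw [← hψ, hL, Finsupp.linearCombination_apply, Finsupp.linearCombination_apply, Finsupp.sum,
      Finsupp.sum, map_sum]
    apply Finset.sum_congr rfl
    intro s _
    rw [map_smul, psiH_monomial]
    rfl
  have hc0 : c = 0 := linearIndependent_iff.1 (hibiData K hd w).linearIndependent_mk_E c hψ'
  rw [hc0, map_zero, sub_zero] at hdiff
  exact hdiff

end hdata

section finalH

variable (K : Type u) [Field K] [Infinite K] {d n : ℕ} (hd : 0 < d) (w : Idx d n)

include hd in
/-- **toric degeneration of the cone over a Schubert variety to the Hibi ring** -/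
theorem exists_hibi_degeneration :
    ∃ (R : Type u) (_ : CommRing R) (_ : Algebra K R) (_ : Algebra (Polynomial K) R)
      (_ : IsScalarTower K (Polynomial K) R),
      Module.Free (Polynomial K) R ∧
      Nonempty ((R ⧸ Ideal.span {algebraMap (Polynomial K) R Polynomial.X}) ≃ₐ[K]
        (MvPolynomial (Below w) K ⧸ hibiIdeal K w)) ∧
      ∀ c : K, c ≠ 0 →
        Nonempty ((R ⧸ Ideal.span {algebraMap (Polynomial K) R (Polynomial.X - Polynomial.C c)}) ≃ₐ[K]
          (PlRing K d n ⧸ schubertVanishing K d n w)) := by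
  refine ⟨(hibiData K hd w).rees, inferInstance, inferInstance, inferInstance, inferInstance,
    (hibiData K hd w).free_rees, ?_, ?_⟩
  · exact ⟨(AlgEquiv.ofBijective (psiHBar K hd w)
      ⟨psiHBar_injective K hd w, psiHBar_surjective K hd w⟩).symm⟩
  · intro c hc
    exact ⟨(hibiData K hd w).fibreEquiv c hc⟩

end finalH

end Groth.Agent.Lib.Helper28.Smt
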