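import Groth.Agent.Lib.Helper28.SmtPattern

/-!
# The interval pattern `v ≤ · ≤ w` (Richardson-type evaluations) (helper28)

`pVW v w a t := v_t ≤ a ∧ a ≤ w_t`.  The minor of `genP (pVW v w)` on the rows `φ` vanishes
unless `v ≤ φ ≤ w`; the kernel of `evVW v w` is `J(w) + (X_θ : θ ≱ v)`.
-/

set_option autoImplicit false

namespace Groth.Agent.Lib.Helper28.Smt

open W4bk4grassmannian MvPolynomial

variable {d n : ℕ}

/-- a minor on rows `φ ≱ v` of a matrix with zeros above the staircase of `v` vanishes -/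
lemma det_submatrix_eq_zero_of_not_ge {R : Type*} [CommRing R] (M : Matrix (Fin n) (Fin d) R)
    (v φ : Idx d n) (hM : ∀ a t, ¬ v.1 t ≤ a → M a t = 0) (hφ : ¬ v ≤ φ) :
    (M.submatrix φ.1 id).det = 0 := by
  classical
  have hφ' : ∃ t0, φ.1 t0 < v.1 t0 := by
    by_contra hcon
    apply hφ
    intro t
    by_contra ht
    exact hcon ⟨t, not_le.1 ht⟩
  obtain ⟨t0, ht0⟩ := hφ'
  rw [Matrix.det_apply]
  apply Finset.sum_eq_zero
  intro π _
  have hex : ∃ t, t0 ≤ t ∧ π t ≤ t0 := by
    by_contra hcon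
    simp only [not_exists, not_and, not_le] at hcon
    have hcard := Finset.card_le_card_of_injOn (s := Finset.Ici t0) (t := Finset.Ioi t0) π
      (fun t ht => by
        rw [Finset.mem_coe, Finset.mem_Ici] at ht
        rw [Finset.mem_coe, Finset.mem_Ioi]
        exact hcon t ht)
      (fun x _ y _ h => π.injective h)
    rw [Fin.card_Ici, Fin.card_Ioi] at hcard
    have := t0.isLt
    omega
  obtain ⟨t, ht1, ht2⟩ := hex
  have hzero : M.submatrix φ.1 id (π t) t = 0 := by
    apply hM
    intro hle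
    have h1 : φ.1 (π t) ≤ φ.1 t0 := φ.2.monotone ht2
    have h2 : v.1 t0 ≤ v.1 t := v.2.monotone ht1
    exact absurd (lt_of_le_of_lt (h2.trans (hle.trans h1)) ht0) (lt_irrefl _)
  have hprod : ∏ i, M.submatrix φ.1 id (π i) i = 0 :=
    Finset.prod_eq_zero (Finset.mem_univ t) hzero
  rw [hprod, smul_zero]

/-- the interval pattern -/
def pVW (v w : Idx d n) (a : Fin n) (t : Fin d) : Prop := v.1 t ≤ a ∧ a ≤ w.1 t

instance (v w : Idx d n) (a : Fin n) (t : Fin d) : Decidable (pVW v w a t) := by
  unfold pVW; infer_instance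

lemma adm_pVW_iff (v w φ : Idx d n) : Adm (pVW v w) φ ↔ v ≤ φ ∧ φ ≤ w := by
  constructor
  · intro h
    exact ⟨fun t => (h t).1, fun t => (h t).2⟩
  · rintro ⟨h1, h2⟩ t
    exact ⟨h1 t, h2 t⟩

variable (K : Type*) [CommRing K]

lemma evP_pVW_zero (v w φ : Idx d n) (h : ¬ Adm (pVW v w) φ) : evP K (pVW v w) (X φ) = 0 := by
  rw [evP_X]
  rw [adm_pVW_iff, not_and_or] at h
  rcases h with h | h
  · apply det_submatrix_eq_zero_of_not_ge _ v φ _ h
    intro a t hat
    exact genP_zero K _ a t (fun hp => hat hp.1)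
  · apply det_submatrix_eq_zero_of_not_le _ w φ _ h
    intro a t hat
    exact genP_zero K _ a t (fun hp => hat hp.2)

/-- the Schubert ideal of `w` is killed by the evaluation at the interval pattern -/
lemma schubertVanishing_le_ker_evP [IsDomain K] [Infinite K] (v w : Idx d n) :
    schubertVanishing K d n w ≤ RingHom.ker (evP K (pVW v w)).toRingHom := by
  intro f hf
  rw [RingHom.mem_ker]
  show evP K (pVW v w) f = 0
  apply MvPolynomial.funext
  intro c
  rw [eval_evP, map_zero]
  unfold schubertVanishing at hf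
  rw [Ideal.mem_iInf] at hf
  have h1 := hf ((genP K (pVW v w)).map (eval c))
  rw [Ideal.mem_iInf] at h1
  have h2 := h1 (by
    intro φ hφ
    apply det_submatrix_eq_zero_of_not_le _ w φ _ hφ
    intro a t hat
    rw [Matrix.map_apply, genP_zero K _ a t (fun hp => hat hp.2), map_zero])
  exact h2

/-- the ideal `J(w) + (X_θ : θ ≱ v)` -/
noncomputable def idealVW (v w : Idx d n) : Ideal (PlRing K d n) :=
  schubertVanishing K d n w ⊔ Ideal.span {f | ∃ θ : Idx d n, ¬ v ≤ θ ∧ f = (X θ : PlRing K d n)}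

/-- the kernel of the evaluation at the interval pattern -/
theorem ker_evP_pVW [IsDomain K] [Infinite K] (hd : 0 < d) (v w : Idx d n) :
    RingHom.ker (evP K (pVW v w)).toRingHom = idealVW K v w := by
  apply le_antisymm
  · apply ker_evP_le K (pVW v w) hd (evP_pVW_zero K v w) (idealVW K v w)
    · exact (plIdealTop_le_schubertVanishing K w).trans le_sup_left
    · unfold idealVW
      apply sup_le (schubertVanishing_le_ker_evP K v w)
      rw [Ideal.span_le]
      rintro f ⟨θ, hθ, rfl⟩
      rw [SetLike.mem_coe, RingHom.mem_ker]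
      exact evP_pVW_zero K v w θ (fun h => hθ ((adm_pVW_iff v w θ).1 h).1)
    · intro φ hφ
      rw [adm_pVW_iff, not_and_or] at hφ
      unfold idealVW
      rcases hφ with h | h
      · exact Ideal.mem_sup_right (Ideal.subset_span ⟨φ, h, rfl⟩)
      · exact Ideal.mem_sup_left (X_mem_schubertVanishing K w φ h)
  · unfold idealVW
    apply sup_le (schubertVanishing_le_ker_evP K v w)
    rw [Ideal.span_le]
    rintro f ⟨θ, hθ, rfl⟩
    rw [SetLike.mem_coe, RingHom.mem_ker]
    exact evP_pVW_zero K v w θ (fun h => hθ ((adm_pVW_iff v w θ).1 h).1)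

/-- `J(w) + (X_θ : θ ≱ v)` is a prime ideal -/
theorem isPrime_idealVW [IsDomain K] [Infinite K] (hd : 0 < d) (v w : Idx d n) :
    (idealVW K v w).IsPrime := by
  rw [← ker_evP_pVW K hd v w]
  exact RingHom.ker_isPrime _

end Groth.Agent.Lib.Helper28.Smt
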