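import Groth.Agent.Lib.Helper28.SmtCellUFD
import Mathlib.Data.Finsupp.Weight
import Mathlib.Algebra.MvPolynomial.NoZeroDivisors
import Mathlib.Algebra.MvPolynomial.Degrees

/-!
# The class of `X_τ` is irreducible in the coordinate ring of the cone over `X(τ)` (helper28)

The coordinate ring embeds into a polynomial ring such that every element has all its monomials
in degrees divisible by `d`, and `X_τ` maps to a polynomial of total degree `d`.
-/

set_option autoImplicit false

universe u

namespace Groth.Agent.Lib.Helper28.Smt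

open W4bk4grassmannian MvPolynomial

section irred

variable (K : Type u) [Field K] {d n : ℕ}

/-- all monomials have degree divisible by `d` -/
def DegDvd (d : ℕ) {σ : Type*} (f : MvPolynomial σ K) : Prop :=
  ∀ m ∈ f.support, d ∣ Finsupp.degree m

lemma degree_expo (φ : Fin d → Fin n) (π : Equiv.Perm (Fin d)) :
    Finsupp.degree (expo φ π) = d := by
  unfold expo
  rw [map_sum]
  simp [Finsupp.degree_single]

lemma support_det_genP (p : Fin n → Fin d → Prop) [∀ a t, Decidable (p a t)] (φ : Idx d n) :
    ∀ m ∈ (((genP K p).submatrix φ.1 id).det).support, Finsupp.degree m = d := by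
  classical
  intro m hm
  rw [det_genP] at hm
  have h1 := MvPolynomial.support_sum hm
  rw [Finset.mem_biUnion] at h1
  obtain ⟨π, -, hπ⟩ := h1
  have h2 := MvPolynomial.support_monomial_subset hπ
  rw [Finset.mem_singleton] at h2
  rw [h2, degree_expo]

lemma degDvd_evP (p : Fin n → Fin d → Prop) [∀ a t, Decidable (p a t)] (f : PlRing K d n) :
    DegDvd K d (evP K p f) := by
  classical
  induction f using MvPolynomial.induction_on with
  | C c =>
    intro m hm
    have : evP K p (C c) = C c := by
      rw [← algebraMap_eq, AlgHom.commutes]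
      rfl
    rw [this] at hm
    have h1 := MvPolynomial.support_monomial_subset hm
    rw [Finset.mem_singleton] at h1
    rw [h1, map_zero]
    exact dvd_zero _
  | add f g hf hg =>
    intro m hm
    rw [map_add] at hm
    have h1 := MvPolynomial.support_add hm
    rw [Finset.mem_union] at h1
    rcases h1 with h1 | h1
    · exact hf m h1
    · exact hg m h1
  | mul_X f θ hf =>
    intro m hm
    rw [map_mul, evP_X] at hm
    have h1 := MvPolynomial.support_mul _ _ hm
    rw [Finset.mem_add] at h1
    obtain ⟨m1, hm1, m2, hm2, rfl⟩ := h1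
    rw [map_add, support_det_genP K p θ m2 hm2]
    exact dvd_add (hf m1 hm1) dvd_rfl

lemma exists_mem_support_degree_eq {σ : Type*} (f : MvPolynomial σ K) (hf : f ≠ 0) :
    ∃ m ∈ f.support, Finsupp.degree m = f.totalDegree := by
  have hne : f.support.Nonempty := by
    rw [Finset.nonempty_iff_ne_empty, Ne, MvPolynomial.support_eq_empty]
    exact hf
  obtain ⟨m, hm, h⟩ := Finset.exists_mem_eq_sup f.support hne (fun s => s.sum fun _ e => e)
  exact ⟨m, hm, h.symm⟩

lemma dvd_totalDegree {σ : Type*} (f : MvPolynomial σ K) (h : DegDvd K d f) :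
    d ∣ f.totalDegree := by
  by_cases hf : f = 0
  · rw [hf, totalDegree_zero]; exact dvd_zero _
  · obtain ⟨m, hm, hdeg⟩ := exists_mem_support_degree_eq K f hf
    rw [← hdeg]
    exact h m hm

variable [Infinite K] (hdn : d ≤ n) (τ : Idx d n)

/-- the embedding of the coordinate ring into the polynomial ring -/
noncomputable def rhoP : RS K τ →ₐ[K] MvPolynomial (Var n d) K :=
  Ideal.Quotient.liftₐ (schubertVanishing K d n τ) (evP K (pT hdn τ)) (by
    intro a ha
    exact schubertVanishing_le_ker_evP K _ τ ha)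

lemma rhoP_mk (f : PlRing K d n) :
    rhoP K hdn τ (Ideal.Quotient.mk (schubertVanishing K d n τ) f) = evP K (pT hdn τ) f := rfl

lemma rhoP_injective (hd : 0 < d) : Function.Injective (rhoP K hdn τ) := by
  rw [injective_iff_map_eq_zero]
  intro y hy
  obtain ⟨f, rfl⟩ := Ideal.Quotient.mk_surjective y
  rw [rhoP_mk] at hy
  have h2 : f ∈ RingHom.ker (evP K (pT hdn τ)).toRingHom := hy
  rw [ker_evP_pVW K hd, idealVW_iotaIdx] at h2
  exact Ideal.Quotient.eq_zero_iff_mem.2 h2

lemma degDvd_rhoP (y : RS K τ) : DegDvd K d (rhoP K hdn τ y) := by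
  obtain ⟨f, rfl⟩ := Ideal.Quotient.mk_surjective y
  rw [rhoP_mk]
  exact degDvd_evP K _ f

lemma totalDegree_rhoP_xT : (rhoP K hdn τ (xT K τ)).totalDegree = d := by
  unfold xT
  rw [rhoP_mk, evP_X]
  have hne : ((genP K (pT hdn τ)).submatrix τ.1 id).det ≠ 0 := by
    intro h1
    have h2 := (degree_det_genP K (pT hdn τ) τ (adm_pT_self hdn τ)).2
    rw [h1, MonomialOrder.leadingCoeff_zero] at h2
    exact zero_ne_one h2
  obtain ⟨m, hm, hdeg⟩ := exists_mem_support_degree_eq K _ hne
  rw [← hdeg]
  exact support_det_genP K _ τ m hm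

include hdn in
/-- the class of `X_τ` is irreducible -/
theorem irreducible_xT (hd : 0 < d) : Irreducible (xT K τ) := by
  have hinj := rhoP_injective K hdn τ hd
  have hx0 : rhoP K hdn τ (xT K τ) ≠ 0 := by
    intro h
    exact xT_ne_zero K τ (hinj (h.trans (map_zero _).symm))
  have key : ∀ a b : RS K τ, xT K τ = a * b → (rhoP K hdn τ a).totalDegree = 0 → IsUnit a := by
    intro a b hab ha0
    have ha' : a ≠ 0 := by
      intro h
      rw [h, zero_mul] at hab
      exact xT_ne_zero K τ hab
    rw [totalDegree_eq_zero_iff_eq_C] at ha0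
    set c := (rhoP K hdn τ a).coeff 0 with hc
    have hc0 : c ≠ 0 := by
      intro h
      rw [h, C_0] at ha0
      exact ha' (hinj (ha0.trans (map_zero _).symm))
    have hac : a = algebraMap K (RS K τ) c := by
      apply hinj
      rw [ha0, AlgHom.commutes]
      rfl
    rw [hac]
    exact (IsUnit.mk0 c hc0).map (algebraMap K (RS K τ))
  constructor
  · intro hu
    obtain ⟨u, hu⟩ := hu
    have h1 : rhoP K hdn τ (xT K τ) * rhoP K hdn τ (↑u⁻¹ : RS K τ) = 1 := by
      rw [← map_mul, ← hu, Units.mul_inv, map_one]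
    have hinv0 : rhoP K hdn τ (↑u⁻¹ : RS K τ) ≠ 0 := by
      intro h
      rw [h, mul_zero] at h1
      exact zero_ne_one h1
    have h2 := congrArg totalDegree h1
    rw [totalDegree_mul_of_isDomain hx0 hinv0, totalDegree_rhoP_xT, totalDegree_one] at h2
    omega
  · intro a b hab
    have ha0 : rhoP K hdn τ a ≠ 0 := by
      intro h
      have : rhoP K hdn τ (xT K τ) = 0 := by rw [hab, map_mul, h, zero_mul]
      exact hx0 this
    have hb0 : rhoP K hdn τ b ≠ 0 := by
      intro h
      have : rhoP K hdn τ (xT K τ) = 0 := by rw [hab, map_mul, h, mul_zero]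
      exact hx0 this
    have h1 : (rhoP K hdn τ a).totalDegree + (rhoP K hdn τ b).totalDegree = d := by
      rw [← totalDegree_mul_of_isDomain ha0 hb0, ← map_mul, ← hab, totalDegree_rhoP_xT]
    obtain ⟨ka, hka⟩ := dvd_totalDegree K _ (degDvd_rhoP K hdn τ a)
    obtain ⟨kb, hkb⟩ := dvd_totalDegree K _ (degDvd_rhoP K hdn τ b)
    rw [hka, hkb] at h1
    have h2 : d * (ka + kb) = d * 1 := by rw [mul_add, h1, mul_one]
    have h3 : ka + kb = 1 := Nat.eq_of_mul_eq_mul_left hd h2
    rcases Nat.eq_zero_or_pos ka with h0 | hpos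
    · left
      apply key a b hab
      rw [hka, h0, mul_zero]
    · right
      have hkb0 : kb = 0 := by omega
      apply key b a (by rw [hab, mul_comm])
      rw [hkb, hkb0, mul_zero]

end irred

end Groth.Agent.Lib.Helper28.Smt
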