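import Groth.Agent.Lib.Helper28.SmtBasic
import Mathlib.RingTheory.MvPolynomial.MonomialOrder
import Mathlib.LinearAlgebra.Matrix.Determinant.Basic
import Mathlib.Data.Prod.Lex
import Mathlib.Data.List.Sort
import Mathlib.Algebra.MvPolynomial.Funext

/-!
# Leading terms of minors of the generic matrix with prescribed zeros; independence of
standard monomials (helper28)
-/

set_option autoImplicit false

namespace Groth.Agent.Lib.Helper28.Smt

open W4bk4grassmannian MvPolynomial

section generic

variable {σ : Type*} (m : MonomialOrder σ) {K : Type*} [CommRing K] [Nontrivial K]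

open scoped MonomialOrder

/-- a finite sum of monomials with one dominant exponent is monic of that degree -/
lemma degree_sum_monomial {ι : Type*} [Fintype ι] [DecidableEq ι] (e : ι → σ →₀ ℕ) (c : ι → K)
    (i₀ : ι) (hc : c i₀ = 1) (hlt : ∀ i, i ≠ i₀ → e i ≺[m] e i₀) :
    m.degree (∑ i, monomial (e i) (c i)) = e i₀ ∧
      m.leadingCoeff (∑ i, monomial (e i) (c i)) = 1 := by
  classical
  set P : MvPolynomial σ K := ∑ i, monomial (e i) (c i) with hP
  have hcoeff : ∀ b, coeff b P = ∑ i, if e i = b then c i else 0 := by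
    intro b
    rw [hP, coeff_sum]
    apply Finset.sum_congr rfl
    intro i _
    rw [coeff_monomial]
  have h1 : coeff (e i₀) P = 1 := by
    rw [hcoeff, Finset.sum_eq_single i₀]
    · rw [if_pos rfl, hc]
    · intro i _ hi
      rw [if_neg]
      intro h
      have := hlt i hi
      rw [h] at this
      exact lt_irrefl _ this
    · intro h; exact absurd (Finset.mem_univ _) h
  have h2 : ∀ b ∈ P.support, b ≼[m] e i₀ := by
    intro b hb
    rw [mem_support_iff, hcoeff] at hb
    obtain ⟨i, _, hi⟩ := Finset.exists_ne_zero_of_sum_ne_zero hb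
    have hib : e i = b := by
      by_contra hne
      rw [if_neg hne] at hi
      exact hi rfl
    rw [← hib]
    by_cases hi0 : i = i₀
    · rw [hi0]
    · exact (hlt i hi0).le
  have h3 : m.degree P ≼[m] e i₀ := (MonomialOrder.degree_le_iff).2 h2
  have h4 : e i₀ ≼[m] m.degree P := by
    apply MonomialOrder.le_degree
    rw [mem_support_iff, h1]
    exact one_ne_zero
  have hdeg : m.degree P = e i₀ := m.toSyn.injective (le_antisymm h3 h4)
  refine ⟨hdeg, ?_⟩
  unfold MonomialOrder.leadingCoeff
  rw [hdeg, h1]

end generic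

section expo

variable {d n : ℕ}

/-- the matrix variables, ordered lexicographically (row first) -/
abbrev Var (n d : ℕ) : Type := Fin n ×ₗ Fin d

/-- exponent of the term of `π` in the minor on the rows `φ` -/
noncomputable def expo (φ : Fin d → Fin n) (π : Equiv.Perm (Fin d)) : Var n d →₀ ℕ :=
  ∑ t, Finsupp.single (toLex (φ (π t), t)) 1

lemma expo_apply (φ : Fin d → Fin n) (π : Equiv.Perm (Fin d)) (a : Fin n) (t : Fin d) :
    expo φ π (toLex (a, t)) = if φ (π t) = a then 1 else 0 := by
  unfold expo
  rw [Finsupp.finsetSum_apply]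
  rw [Finset.sum_eq_single t]
  · by_cases h : φ (π t) = a
    · rw [if_pos h, h, Finsupp.single_eq_same]
    · rw [if_neg h, Finsupp.single_eq_of_ne]
      intro e
      apply h
      have := congrArg (fun z => (ofLex z).1) e
      simpa using this.symm
  · intro s _ hs
    rw [Finsupp.single_eq_of_ne]
    intro e
    apply hs
    have := congrArg (fun z => (ofLex z).2) e
    simpa using this.symm
  · intro h; exact absurd (Finset.mem_univ _) h

lemma exists_min_moved (π : Equiv.Perm (Fin d)) (hπ : π ≠ 1) :
    ∃ s0 : Fin d, π s0 ≠ s0 ∧ ∀ s, s < s0 → π s = s := by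
  classical
  have hne : (Finset.univ.filter fun s : Fin d => π s ≠ s).Nonempty := by
    by_contra hcon
    rw [Finset.not_nonempty_iff_eq_empty, Finset.filter_eq_empty_iff] at hcon
    apply hπ
    ext s
    have := hcon (Finset.mem_univ s)
    rw [not_not] at this
    rw [this]; rfl
  refine ⟨(Finset.univ.filter fun s : Fin d => π s ≠ s).min' hne, ?_, ?_⟩
  · exact (Finset.mem_filter.1 (Finset.min'_mem _ hne)).2
  · intro s hs
    by_contra hcon
    have hmem : s ∈ Finset.univ.filter (fun s : Fin d => π s ≠ s) := by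
      rw [Finset.mem_filter]; exact ⟨Finset.mem_univ _, hcon⟩
    exact absurd (Finset.min'_le _ s hmem) (not_le.2 hs)

/-- the diagonal term dominates in the lexicographic order -/
lemma expo_lt (φ : Fin d → Fin n) (hφ : StrictMono φ) (π : Equiv.Perm (Fin d)) (hπ : π ≠ 1) :
    (MonomialOrder.lex (σ := Var n d)).toSyn (expo φ π) <
      (MonomialOrder.lex (σ := Var n d)).toSyn (expo φ 1) := by
  obtain ⟨s0, hs0, hfix⟩ := exists_min_moved π hπ
  show toLex (expo φ π) < toLex (expo φ 1)
  rw [Finsupp.Lex.lt_iff]
  refine ⟨toLex (φ s0, s0), ?_, ?_⟩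
  · intro j hj
    obtain ⟨⟨a, t⟩, rfl⟩ := toLex.surjective j
    show expo φ π (toLex (a, t)) = expo φ 1 (toLex (a, t))
    rw [expo_apply, expo_apply, Equiv.Perm.coe_one, id_eq]
    rw [Prod.Lex.toLex_lt_toLex] at hj
    rcases hj with hj | ⟨hj1, hj2⟩
    · -- a < φ s0
      simp only at hj
      by_cases h1 : φ t = a
      · have ht : t < s0 := hφ.lt_iff_lt.1 (h1 ▸ hj)
        rw [hfix t ht, if_pos h1]
      · rw [if_neg h1, if_neg]
        intro h2
        have hπt : π t < s0 := hφ.lt_iff_lt.1 (h2 ▸ hj)
        have := hfix (π t) hπt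
        have h3 : π t = t := π.injective this
        rw [h3] at h2
        exact h1 h2
    · simp only at hj1 hj2
      rw [hfix t hj2]
  · show expo φ π (toLex (φ s0, s0)) < expo φ 1 (toLex (φ s0, s0))
    rw [expo_apply, expo_apply, Equiv.Perm.coe_one, id_eq, if_pos rfl, if_neg]
    · exact Nat.zero_lt_one
    · intro h
      exact hs0 (hφ.injective h)

end expo

section minor

variable {d n : ℕ} (K : Type*) [CommRing K]

/-- the generic matrix with zeros below the staircase of `w` -/
noncomputable def genW (w : Idx d n) : Matrix (Fin n) (Fin d) (MvPolynomial (Var n d) K) :=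
  fun a t => if a ≤ w.1 t then X (toLex (a, t)) else 0

/-- the coefficient of the term of `π` in the minor on the rows `φ` -/
noncomputable def cW (w φ : Idx d n) (π : Equiv.Perm (Fin d)) : K :=
  if ∀ t, φ.1 (π t) ≤ w.1 t then ((Equiv.Perm.sign π : ℤ) : K) else 0

lemma det_genW (w φ : Idx d n) :
    ((genW K w).submatrix φ.1 id).det =
      ∑ π : Equiv.Perm (Fin d), monomial (expo φ.1 π) (cW K w φ π) := by
  classical
  rw [Matrix.det_apply']
  apply Finset.sum_congr rfl
  intro π _
  have h1 : ∀ t, (genW K w).submatrix φ.1 id (π t) t =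
      if φ.1 (π t) ≤ w.1 t then (X (toLex (φ.1 (π t), t)) : MvPolynomial (Var n d) K) else 0 := by
    intro t; rfl
  rw [Finset.prod_congr rfl (fun t _ => h1 t), Finset.prod_ite_zero]
  unfold cW
  by_cases hv : ∀ t, φ.1 (π t) ≤ w.1 t
  · rw [if_pos (fun t _ => hv t), if_pos hv]
    have h2 : ∏ t : Fin d, (X (toLex (φ.1 (π t), t)) : MvPolynomial (Var n d) K)
        = monomial (expo φ.1 π) 1 := by
      unfold expo
      rw [monomial_sum_one]
      rfl
    rw [h2, ← map_intCast (C : K →+* MvPolynomial (Var n d) K), C_mul_monomial, mul_one]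
  · rw [if_neg (fun h => hv (fun t => h t (Finset.mem_univ t))), if_neg hv, mul_zero,
      monomial_zero]

/-- the minor on rows `φ ≤ w` of the generic matrix is monic with the diagonal leading term -/
lemma degree_det_genW [Nontrivial K] (w φ : Idx d n) (hφ : φ ≤ w) :
    (MonomialOrder.lex (σ := Var n d)).degree ((genW K w).submatrix φ.1 id).det = expo φ.1 1 ∧
    (MonomialOrder.lex (σ := Var n d)).leadingCoeff ((genW K w).submatrix φ.1 id).det = 1 := by
  classical
  rw [det_genW]
  apply degree_sum_monomial _ (expo φ.1) (cW K w φ) 1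
  · unfold cW
    have hv : ∀ t, φ.1 ((1 : Equiv.Perm (Fin d)) t) ≤ w.1 t := fun t => hφ t
    rw [if_pos hv, Equiv.Perm.sign_one]
    simp
  · intro π hπ
    exact expo_lt φ.1 φ.2 π hπ

/-- a minor on rows `φ ≰ w` of a matrix with zeros below the staircase of `w` vanishes -/
lemma det_submatrix_eq_zero_of_not_le {R : Type*} [CommRing R] (M : Matrix (Fin n) (Fin d) R)
    (w φ : Idx d n) (hM : ∀ a t, ¬ a ≤ w.1 t → M a t = 0) (hφ : ¬ φ ≤ w) :
    (M.submatrix φ.1 id).det = 0 := by
  classical
  have hφ' : ∃ t0, w.1 t0 < φ.1 t0 := by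
    by_contra hcon
    apply hφ
    intro t
    by_contra ht
    exact hcon ⟨t, not_le.1 ht⟩
  obtain ⟨t0, ht0⟩ := hφ'
  rw [Matrix.det_apply]
  apply Finset.sum_eq_zero
  intro π _
  have hex : ∃ t, t ≤ t0 ∧ t0 ≤ π t := by
    by_contra hcon
    simp only [not_exists, not_and, not_le] at hcon
    have hcard := Finset.card_le_card_of_injOn (s := Finset.Iic t0) (t := Finset.Iio t0) π
      (fun t ht => by
        rw [Finset.mem_coe, Finset.mem_Iic] at ht
        rw [Finset.mem_coe, Finset.mem_Iio]
        exact hcon t ht)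
      (fun x _ y _ h => π.injective h)
    rw [Fin.card_Iic, Fin.card_Iio] at hcard
    omega
  obtain ⟨t, ht1, ht2⟩ := hex
  have hzero : M.submatrix φ.1 id (π t) t = 0 := by
    apply hM
    intro hle
    have h1 : φ.1 t0 ≤ φ.1 (π t) := φ.2.monotone ht2
    have h2 : w.1 t ≤ w.1 t0 := w.2.monotone ht1
    exact absurd (lt_of_lt_of_le ht0 (h1.trans (hle.trans h2))) (lt_irrefl _)
  have hprod : ∏ i, M.submatrix φ.1 id (π i) i = 0 :=
    Finset.prod_eq_zero (Finset.mem_univ t) hzero
  rw [hprod, smul_zero]

/-- evaluation of the Plücker polynomials at the minors of the generic matrix with zeros -/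
noncomputable def evW (w : Idx d n) : PlRing K d n →ₐ[K] MvPolynomial (Var n d) K :=
  aeval fun θ : Idx d n => ((genW K w).submatrix θ.1 id).det

lemma evW_X (w θ : Idx d n) : evW K w (X θ) = ((genW K w).submatrix θ.1 id).det := by
  unfold evW; rw [aeval_X]

lemma genW_zero (w : Idx d n) (a : Fin n) (t : Fin d) (h : ¬ a ≤ w.1 t) : genW K w a t = 0 := by
  unfold genW; rw [if_neg h]

lemma evW_X_of_not_le (w θ : Idx d n) (h : ¬ θ ≤ w) : evW K w (X θ) = 0 := by
  rw [evW_X]
  exact det_submatrix_eq_zero_of_not_le _ w θ (genW_zero K w) h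

lemma eval_evW (w : Idx d n) (c : Var n d → K) (f : PlRing K d n) :
    eval c (evW K w f) = evalMinors K d n ((genW K w).map (eval c)) f := by
  have h : (aeval c : MvPolynomial (Var n d) K →ₐ[K] K).comp (evW K w)
      = evalMinors K d n ((genW K w).map (eval c)) := by
    apply MvPolynomial.algHom_ext
    intro θ
    rw [AlgHom.comp_apply, evW_X]
    unfold evalMinors
    rw [aeval_X]
    have : (aeval c : MvPolynomial (Var n d) K →ₐ[K] K) ((genW K w).submatrix θ.1 id).det
        = (eval c) ((genW K w).submatrix θ.1 id).det := rfl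
    rw [this, RingHom.map_det]
    rfl
  have := congrArg (fun g => g f) h
  exact this

/-- the Schubert ideal is killed by the evaluation at the generic matrix with zeros -/
lemma evW_eq_zero_of_mem [IsDomain K] [Infinite K] (w : Idx d n) (f : PlRing K d n)
    (hf : f ∈ schubertVanishing K d n w) : evW K w f = 0 := by
  apply MvPolynomial.funext
  intro c
  rw [eval_evW, map_zero]
  unfold schubertVanishing at hf
  rw [Ideal.mem_iInf] at hf
  have h1 := hf ((genW K w).map (eval c))
  rw [Ideal.mem_iInf] at h1
  have h2 := h1 (by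
    intro φ hφ
    apply det_submatrix_eq_zero_of_not_le _ w φ _ hφ
    intro a t hat
    rw [Matrix.map_apply, genW_zero K w a t hat, map_zero])
  exact h2

end minor

section chains

variable {d n : ℕ}

/-- the exponent of the leading term of a standard monomial -/
noncomputable def E {m : ℕ} (c : Fin m → Idx d n) : Var n d →₀ ℕ := ∑ k, expo (c k).1 1

lemma expo_one_apply (φ : Fin d → Fin n) (a : Fin n) (t : Fin d) :
    expo φ 1 (toLex (a, t)) = if φ t = a then 1 else 0 := by
  rw [expo_apply]; rfl

lemma E_apply {m : ℕ} (c : Fin m → Idx d n) (a : Fin n) (t : Fin d) :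
    E c (toLex (a, t)) = (Finset.univ.filter fun k => (c k).1 t = a).card := by
  classical
  unfold E
  rw [Finsupp.finsetSum_apply, Finset.sum_congr rfl (fun k _ => expo_one_apply (c k).1 a t),
    Finset.sum_boole]
  simp

lemma count_ofFn' {α : Type*} [DecidableEq α] {m : ℕ} (f : Fin m → α) (a : α) :
    List.count a (List.ofFn f) = (Finset.univ.filter fun k => f k = a).card := by
  rw [← Multiset.coe_count, ← Fin.univ_val_map, Multiset.count_map]
  rw [Finset.card_def, Finset.filter_val]
  congr 1
  apply Multiset.filter_congr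
  intro x _
  exact eq_comm

lemma E_inj (hd : 0 < d) {m m' : ℕ} (c : Fin m → Idx d n) (c' : Fin m' → Idx d n)
    (hc : Antitone c) (hc' : Antitone c') (h : E c = E c') :
    (⟨m, c⟩ : Σ m : ℕ, Fin m → Idx d n) = ⟨m', c'⟩ := by
  classical
  have hl : ∀ t : Fin d, List.ofFn (fun k => (c k).1 t) = List.ofFn (fun k => (c' k).1 t) := by
    intro t
    apply List.Perm.eq_of_sortedGE
    · apply Antitone.sortedGE_ofFn
      intro k k' hk
      exact hc hk t
    · apply Antitone.sortedGE_ofFn
      intro k k' hk
      exact hc' hk t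
    · rw [List.perm_iff_count]
      intro a
      rw [count_ofFn', count_ofFn', ← E_apply, ← E_apply, h]
  have hm : m = m' := by
    have := congrArg List.length (hl ⟨0, hd⟩)
    rwa [List.length_ofFn, List.length_ofFn] at this
  subst hm
  have : c = c' := by
    funext k
    apply Subtype.ext
    funext t
    exact congrFun (List.ofFn_injective (hl t)) k
  rw [this]

end chains

section indep

variable {d n : ℕ} (K : Type*) [CommRing K]

lemma evW_chainMon (w : Idx d n) {m : ℕ} (c : Fin m → Idx d n) :
    evW K w (chainMon K c) = ∏ k, ((genW K w).submatrix (c k).1 id).det := by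
  unfold chainMon
  rw [map_prod]
  exact Finset.prod_congr rfl (fun k _ => evW_X K w (c k))

lemma evW_chainMon_of_not_le (w : Idx d n) {m : ℕ} (c : Fin m → Idx d n) (h : ¬ ∀ k, c k ≤ w) :
    evW K w (chainMon K c) = 0 := by
  simp only [not_forall] at h
  obtain ⟨k, hk⟩ := h
  unfold chainMon
  rw [map_prod]
  exact Finset.prod_eq_zero (Finset.mem_univ k) (evW_X_of_not_le K w (c k) hk)

lemma monic_evW_chainMon [Nontrivial K] (w : Idx d n) {m : ℕ} (c : Fin m → Idx d n)
    (h : ∀ k, c k ≤ w) :
    (MonomialOrder.lex (σ := Var n d)).Monic (evW K w (chainMon K c)) ∧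
    (MonomialOrder.lex (σ := Var n d)).degree (evW K w (chainMon K c)) = E c := by
  rw [evW_chainMon]
  constructor
  · apply MonomialOrder.Monic.prod
    intro k _
    exact (degree_det_genW K w (c k) (h k)).2
  · rw [MonomialOrder.degree_prod_of_regular]
    · unfold E
      exact Finset.sum_congr rfl (fun k _ => (degree_det_genW K w (c k) (h k)).1)
    · intro k _
      rw [(degree_det_genW K w (c k) (h k)).2]
      exact isRegular_one

/-- the images of distinct standard monomials on `X(w)` under the evaluation at the generic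
matrix with zeros are linearly independent -/
theorem indep [Nontrivial K] (hd : 0 < d) (w : Idx d n) {ι : Type*} (m : ι → ℕ)
    (c : ∀ i, Fin (m i) → Idx d n) (hanti : ∀ i, Antitone (c i))
    (hinj : Function.Injective fun i => (⟨m i, c i⟩ : Σ m : ℕ, Fin m → Idx d n))
    (s : Finset ι) (g : ι → K)
    (h : ∑ i ∈ s, g i • evW K w (chainMon K (c i)) = 0) :
    ∀ i ∈ s, (∀ k, c i k ≤ w) → g i = 0 := by
  classical
  by_contra hcon
  simp only [not_forall] at hcon
  obtain ⟨i₁, hi₁s, hi₁w, hi₁g⟩ := hcon
  set s' := s.filter (fun i => (∀ k, c i k ≤ w) ∧ g i ≠ 0) with hs'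
  have hne : s'.Nonempty := ⟨i₁, Finset.mem_filter.2 ⟨hi₁s, hi₁w, hi₁g⟩⟩
  obtain ⟨i₀, hi₀, hmax⟩ := Finset.exists_max_image s'
    (fun i => (MonomialOrder.lex (σ := Var n d)).toSyn (E (c i))) hne
  rw [hs', Finset.mem_filter] at hi₀
  obtain ⟨hi₀s, hi₀w, hi₀g⟩ := hi₀
  have hco := congrArg (coeff (E (c i₀))) h
  rw [coeff_sum, coeff_zero, Finset.sum_eq_single i₀] at hco
  · rw [coeff_smul, ← (monic_evW_chainMon K w (c i₀) hi₀w).2,
      (monic_evW_chainMon K w (c i₀) hi₀w).1.coeff_degree, smul_eq_mul, mul_one] at hco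
    exact hi₀g hco
  · intro i his hne0
    rw [coeff_smul]
    by_cases hiw : ∀ k, c i k ≤ w
    · by_cases hig : g i = 0
      · rw [hig, zero_smul]
      · have hmem : i ∈ s' := Finset.mem_filter.2 ⟨his, hiw, hig⟩
        have hle := hmax i hmem
        have hlt : (MonomialOrder.lex (σ := Var n d)).toSyn (E (c i)) <
            (MonomialOrder.lex (σ := Var n d)).toSyn (E (c i₀)) := by
          apply lt_of_le_of_ne hle
          intro heq
          apply hne0
          apply hinj
          exact E_inj hd (c i) (c i₀) (hanti i) (hanti i₀)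
            ((MonomialOrder.lex (σ := Var n d)).toSyn.injective heq)
        rw [MonomialOrder.coeff_eq_zero_of_lt (m := MonomialOrder.lex (σ := Var n d)), smul_zero]
        rw [(monic_evW_chainMon K w (c i) hiw).2]
        exact hlt
    · rw [evW_chainMon_of_not_le K w (c i) hiw, coeff_zero, smul_zero]
  · intro h0; exact absurd hi₀s h0

end indep

end Groth.Agent.Lib.Helper28.Smt
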