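import Groth.Agent.Lib.Helper28.SmtIdeal

/-!
# Generic matrices with a general zero pattern (helper28)

`genP K p` is the generic `n × d` matrix whose entry `(a, t)` is a variable when `p a t` holds
and zero otherwise.  If the diagonal of the minor on the rows `φ` lies in the pattern
(`Adm p φ`), the minor is monic with the diagonal as lexicographic leading term.  When the minors
on the non-admissible rows vanish, the images of distinct standard monomials with admissible
members are linearly independent (`indepP`), and the kernel of the evaluation `evP` is the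
smallest ideal containing the shuffle relations and the non-admissible standard monomials
(`ker_evP_eq`).
-/

set_option autoImplicit false

namespace Groth.Agent.Lib.Helper28.Smt

open W4bk4grassmannian MvPolynomial

section pattern

variable {d n : ℕ} (K : Type*) [CommRing K]
variable (p : Fin n → Fin d → Prop) [∀ a t, Decidable (p a t)]

/-- the generic matrix with zeros outside the pattern `p` -/
noncomputable def genP : Matrix (Fin n) (Fin d) (MvPolynomial (Var n d) K) :=
  fun a t => if p a t then X (toLex (a, t)) else 0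

/-- the coefficient of the term of `π` in the minor on the rows `φ` -/
noncomputable def cP (φ : Idx d n) (π : Equiv.Perm (Fin d)) : K :=
  if ∀ t, p (φ.1 (π t)) t then ((Equiv.Perm.sign π : ℤ) : K) else 0

lemma det_genP (φ : Idx d n) :
    ((genP K p).submatrix φ.1 id).det =
      ∑ π : Equiv.Perm (Fin d), monomial (expo φ.1 π) (cP K p φ π) := by
  classical
  rw [Matrix.det_apply']
  apply Finset.sum_congr rfl
  intro π _
  have h1 : ∀ t, (genP K p).submatrix φ.1 id (π t) t =
      if p (φ.1 (π t)) t then (X (toLex (φ.1 (π t), t)) : MvPolynomial (Var n d) K) else 0 := by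
    intro t; rfl
  rw [Finset.prod_congr rfl (fun t _ => h1 t), Finset.prod_ite_zero]
  unfold cP
  by_cases hv : ∀ t, p (φ.1 (π t)) t
  · rw [if_pos (fun t _ => hv t), if_pos hv]
    have h2 : ∏ t : Fin d, (X (toLex (φ.1 (π t), t)) : MvPolynomial (Var n d) K)
        = monomial (expo φ.1 π) 1 := by
      unfold expo
      rw [monomial_sum_one]
      rfl
    rw [h2, ← map_intCast (C : K →+* MvPolynomial (Var n d) K), C_mul_monomial, mul_one]
  · rw [if_neg (fun h => hv (fun t => h t (Finset.mem_univ t))), if_neg hv, mul_zero,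
      monomial_zero]

/-- the diagonal of the minor on the rows `φ` lies in the pattern -/
def Adm (φ : Idx d n) : Prop := ∀ t, p (φ.1 t) t

/-- the minor on admissible rows is monic with the diagonal leading term -/
lemma degree_det_genP [Nontrivial K] (φ : Idx d n) (hφ : Adm p φ) :
    (MonomialOrder.lex (σ := Var n d)).degree ((genP K p).submatrix φ.1 id).det = expo φ.1 1 ∧
    (MonomialOrder.lex (σ := Var n d)).leadingCoeff ((genP K p).submatrix φ.1 id).det = 1 := by
  classical
  rw [det_genP]
  apply degree_sum_monomial _ (expo φ.1) (cP K p φ) 1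
  · unfold cP
    have hv : ∀ t, p (φ.1 ((1 : Equiv.Perm (Fin d)) t)) t := fun t => hφ t
    rw [if_pos hv, Equiv.Perm.sign_one]
    simp
  · intro π hπ
    exact expo_lt φ.1 φ.2 π hπ

/-- evaluation of the Plücker polynomials at the minors of the generic matrix with pattern -/
noncomputable def evP : PlRing K d n →ₐ[K] MvPolynomial (Var n d) K :=
  aeval fun θ : Idx d n => ((genP K p).submatrix θ.1 id).det

lemma evP_X (θ : Idx d n) : evP K p (X θ) = ((genP K p).submatrix θ.1 id).det := by
  unfold evP; rw [aeval_X]

lemma genP_zero (a : Fin n) (t : Fin d) (h : ¬ p a t) : genP K p a t = 0 := by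
  unfold genP; rw [if_neg h]

lemma eval_evP (c : Var n d → K) (f : PlRing K d n) :
    eval c (evP K p f) = evalMinors K d n ((genP K p).map (eval c)) f := by
  have h : (aeval c : MvPolynomial (Var n d) K →ₐ[K] K).comp (evP K p)
      = evalMinors K d n ((genP K p).map (eval c)) := by
    apply MvPolynomial.algHom_ext
    intro θ
    rw [AlgHom.comp_apply, evP_X]
    unfold evalMinors
    rw [aeval_X]
    have : (aeval c : MvPolynomial (Var n d) K →ₐ[K] K) ((genP K p).submatrix θ.1 id).det
        = (eval c) ((genP K p).submatrix θ.1 id).det := rfl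
    rw [this, RingHom.map_det]
    rfl
  have := congrArg (fun g => g f) h
  exact this

/-- the shuffle relations are killed by `evP` -/
lemma plIdealTop_le_ker_evP [IsDomain K] [Infinite K] :
    plIdealTop (d := d) (n := n) K ≤ RingHom.ker (evP K p).toRingHom := by
  unfold plIdealTop
  rw [Ideal.span_le]
  rintro f ⟨i, j, r, -, rfl⟩
  rw [SetLike.mem_coe, RingHom.mem_ker]
  show evP K p (shuffleRel K i j r) = 0
  apply MvPolynomial.funext
  intro c
  rw [eval_evP, map_zero]
  exact evalMinors_shuffleRel (A := (genP K p).map (eval c)) i j r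

lemma evP_chainMon {m : ℕ} (c : Fin m → Idx d n) :
    evP K p (chainMon K c) = ∏ k, ((genP K p).submatrix (c k).1 id).det := by
  unfold chainMon
  rw [map_prod]
  exact Finset.prod_congr rfl (fun k _ => evP_X K p (c k))

lemma evP_chainMon_of_not_adm (hzero : ∀ φ : Idx d n, ¬ Adm p φ → evP K p (X φ) = 0)
    {m : ℕ} (c : Fin m → Idx d n) (h : ¬ ∀ k, Adm p (c k)) :
    evP K p (chainMon K c) = 0 := by
  simp only [not_forall] at h
  obtain ⟨k, hk⟩ := h
  unfold chainMon
  rw [map_prod]
  exact Finset.prod_eq_zero (Finset.mem_univ k) (hzero (c k) hk)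

lemma monic_evP_chainMon [Nontrivial K] {m : ℕ} (c : Fin m → Idx d n)
    (h : ∀ k, Adm p (c k)) :
    (MonomialOrder.lex (σ := Var n d)).Monic (evP K p (chainMon K c)) ∧
    (MonomialOrder.lex (σ := Var n d)).degree (evP K p (chainMon K c)) = E c := by
  rw [evP_chainMon]
  constructor
  · apply MonomialOrder.Monic.prod
    intro k _
    exact (degree_det_genP K p (c k) (h k)).2
  · rw [MonomialOrder.degree_prod_of_regular]
    · unfold E
      exact Finset.sum_congr rfl (fun k _ => (degree_det_genP K p (c k) (h k)).1)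
    · intro k _
      rw [(degree_det_genP K p (c k) (h k)).2]
      exact isRegular_one

lemma evP_chainMon_ne_zero [Nontrivial K] {m : ℕ} (c : Fin m → Idx d n)
    (h : ∀ k, Adm p (c k)) : evP K p (chainMon K c) ≠ 0 :=
  (monic_evP_chainMon K p c h).1.ne_zero

/-- the images of distinct admissible standard monomials are linearly independent -/
theorem indepP [Nontrivial K] (hd : 0 < d)
    (hzero : ∀ φ : Idx d n, ¬ Adm p φ → evP K p (X φ) = 0) {ι : Type*} (m : ι → ℕ)
    (c : ∀ i, Fin (m i) → Idx d n) (hanti : ∀ i, Antitone (c i))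
    (hinj : Function.Injective fun i => (⟨m i, c i⟩ : Σ m : ℕ, Fin m → Idx d n))
    (s : Finset ι) (g : ι → K)
    (h : ∑ i ∈ s, g i • evP K p (chainMon K (c i)) = 0) :
    ∀ i ∈ s, (∀ k, Adm p (c i k)) → g i = 0 := by
  classical
  by_contra hcon
  simp only [not_forall] at hcon
  obtain ⟨i₁, hi₁s, hi₁w, hi₁g⟩ := hcon
  set s' := s.filter (fun i => (∀ k, Adm p (c i k)) ∧ g i ≠ 0) with hs'
  have hne : s'.Nonempty := ⟨i₁, Finset.mem_filter.2 ⟨hi₁s, hi₁w, hi₁g⟩⟩
  obtain ⟨i₀, hi₀, hmax⟩ := Finset.exists_max_image s'
    (fun i => (MonomialOrder.lex (σ := Var n d)).toSyn (E (c i))) hne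
  rw [hs', Finset.mem_filter] at hi₀
  obtain ⟨hi₀s, hi₀w, hi₀g⟩ := hi₀
  have hco := congrArg (coeff (E (c i₀))) h
  rw [coeff_sum, coeff_zero, Finset.sum_eq_single i₀] at hco
  · rw [coeff_smul, ← (monic_evP_chainMon K p (c i₀) hi₀w).2,
      (monic_evP_chainMon K p (c i₀) hi₀w).1.coeff_degree, smul_eq_mul, mul_one] at hco
    exact hi₀g hco
  · intro i his hne0
    rw [coeff_smul]
    by_cases hiw : ∀ k, Adm p (c i k)
    · by_cases hig : g i = 0
      · rw [hig, zero_smul]
      · have hmem : i ∈ s' := Finset.mem_filter.2 ⟨his, hiw, hig⟩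
        have hle := hmax i hmem
        have hlt : (MonomialOrder.lex (σ := Var n d)).toSyn (E (c i)) <
            (MonomialOrder.lex (σ := Var n d)).toSyn (E (c i₀)) := by
          apply lt_of_le_of_ne hle
          intro heq
          apply hne0
          apply hinj
          exact E_inj hd (c i) (c i₀) (hanti i) (hanti i₀)
            ((MonomialOrder.lex (σ := Var n d)).toSyn.injective heq)
        rw [MonomialOrder.coeff_eq_zero_of_lt (m := MonomialOrder.lex (σ := Var n d)), smul_zero]
        rw [(monic_evP_chainMon K p (c i) hiw).2]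
        exact hlt
    · rw [evP_chainMon_of_not_adm K p hzero (c i) hiw, coeff_zero, smul_zero]
  · intro h0; exact absurd hi₀s h0

/-- the kernel of `evP`: the smallest ideal containing the shuffle relations and the
non-admissible standard monomials -/
theorem ker_evP_le [IsDomain K] [Infinite K] (hd : 0 < d)
    (hzero : ∀ φ : Idx d n, ¬ Adm p φ → evP K p (X φ) = 0)
    (I : Ideal (PlRing K d n)) (hI : plIdealTop (d := d) (n := n) K ≤ I)
    (hIle : I ≤ RingHom.ker (evP K p).toRingHom)
    (h1 : ∀ φ : Idx d n, ¬ Adm p φ → (X φ : PlRing K d n) ∈ I) :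
    RingHom.ker (evP K p).toRingHom ≤ I := by
  classical
  intro f hf
  obtain ⟨g, hg⟩ := exists_expansion K f
  set P : Chain d n → Prop := fun c => ∀ k, Adm p (c.2.1 k) with hP
  set s1 := g.support.filter (fun c => ¬ P c) with hs1
  set s2 := g.support.filter (fun c => P c) with hs2
  set f1 : PlRing K d n := ∑ c ∈ s1, g c • chainMon K c.2.1 with hf1
  set f2 : PlRing K d n := ∑ c ∈ s2, g c • chainMon K c.2.1 with hf2
  have hsum : (g.sum fun c a => a • chainMon K c.2.1) = f2 + f1 := by
    unfold Finsupp.sum
    rw [hf1, hf2, hs1, hs2, Finset.sum_filter_add_sum_filter_not]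
  have hf1I : f1 ∈ I := by
    apply Ideal.sum_mem
    intro c hc
    rw [hs1, Finset.mem_filter] at hc
    rw [smul_eq_C_mul]
    apply I.mul_mem_left
    have hc2 := hc.2
    rw [hP] at hc2
    simp only [not_forall] at hc2
    obtain ⟨k, hk⟩ := hc2
    exact chainMon_mem_of_mem K I c.2.1 k (h1 _ hk)
  set r := f - (g.sum fun c a => a • chainMon K c.2.1) with hr
  have hrI : r ∈ I := hI hg
  have hf2eq : f2 = f - r - f1 := by
    rw [hr, hsum]; ring
  have hf2mem : f2 ∈ RingHom.ker (evP K p).toRingHom := by
    rw [hf2eq]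
    exact Ideal.sub_mem _ (Ideal.sub_mem _ hf (hIle hrI)) (hIle hf1I)
  have hev : evP K p f2 = 0 := hf2mem
  rw [hf2, map_sum] at hev
  have hev' : ∑ c ∈ s2, g c • evP K p (chainMon K c.2.1) = 0 := by
    rw [← hev]
    apply Finset.sum_congr rfl
    intro c _
    rw [map_smul]
  have hzero' : ∀ c ∈ s2, g c = 0 := by
    intro c hc
    have hPc : P c := (Finset.mem_filter.1 hc).2
    exact indepP K p hd hzero (fun c : Chain d n => c.1) (fun c => c.2.1) (fun c => c.2.2)
      chain_inj s2 g hev' c hc hPc
  have hf2zero : f2 = 0 := by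
    rw [hf2]
    apply Finset.sum_eq_zero
    intro c hc
    rw [hzero' c hc, zero_smul]
  have : f = r + f1 := by
    rw [hf2zero] at hf2eq
    have := hf2eq
    rw [eq_comm, sub_eq_zero, sub_eq_iff_eq_add] at this
    rw [this]; ring
  rw [this]
  exact Ideal.add_mem _ hrI hf1I

end pattern

end Groth.Agent.Lib.Helper28.Smt
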