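import Groth.Agent.Lib.Helper28.SmtInterval

/-!
# The Schubert ideals are prime (helper28)

`J(w)` is the kernel of the evaluation at the generic matrix with the zero pattern of `w`,
hence prime; `X_φ ∉ J(w)` for `φ ≤ w`; `J(w)` lies in the irrelevant ideal.
-/

set_option autoImplicit false

namespace Groth.Agent.Lib.Helper28.Smt

open W4bk4grassmannian MvPolynomial

variable {d n : ℕ}

/-- the least element `(0, 1, …, d-1)` -/
def iotaIdx (h : d ≤ n) : Idx d n :=
  ⟨fun t => ⟨t.val, lt_of_lt_of_le t.isLt h⟩, fun _ _ hlt => hlt⟩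

lemma idx_val_le (θ : Idx d n) (t : Fin d) : t.val ≤ (θ.1 t).val :=
  strictMono_val_le θ.1 θ.2 t.val t.isLt

lemma iotaIdx_le (h : d ≤ n) (w : Idx d n) : iotaIdx h ≤ w := by
  intro t
  rw [Fin.le_def]
  exact idx_val_le w t

lemma codeg_iotaIdx (h : d ≤ n) : codeg (iotaIdx h) = 0 := by
  unfold codeg
  apply Finset.sum_eq_zero
  intro t _
  show t.val - t.val = 0
  omega

lemma eq_iotaIdx_of_forall_not_lt (h : d ≤ n) (τ : Idx d n) (hτ : ∀ φ : Idx d n, ¬ φ < τ) :
    τ = iotaIdx h := by
  have h1 := iotaIdx_le h τ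
  exact (eq_of_le_of_not_lt h1 (hτ _)).symm

variable (K : Type*) [CommRing K]

lemma idealVW_iotaIdx (h : d ≤ n) (w : Idx d n) :
    idealVW K (iotaIdx h) w = schubertVanishing K d n w := by
  unfold idealVW
  have : {f | ∃ θ : Idx d n, ¬ iotaIdx h ≤ θ ∧ f = (X θ : PlRing K d n)} = ∅ := by
    ext f
    simp only [Set.mem_setOf_eq, Set.mem_empty_iff_false, iff_false, not_exists, not_and]
    intro θ hθ
    exact absurd (iotaIdx_le h θ) hθ
  rw [this, Ideal.span_empty, sup_bot_eq]

/-- the Schubert ideals are prime -/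
theorem isPrime_schubertVanishing [IsDomain K] [Infinite K] (hd : 0 < d) (h : d ≤ n)
    (w : Idx d n) : (schubertVanishing K d n w).IsPrime := by
  rw [← idealVW_iotaIdx K h w]
  exact isPrime_idealVW K hd _ w

lemma X_notMem_schubertVanishing [IsDomain K] [Infinite K] (w φ : Idx d n) (h : φ ≤ w) :
    (X φ : PlRing K d n) ∉ schubertVanishing K d n w := by
  intro h0
  have h1 := evW_eq_zero_of_mem K w _ h0
  rw [evW_X] at h1
  have h2 := (degree_det_genW K w φ h).2
  rw [h1, MonomialOrder.leadingCoeff_zero] at h2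
  exact zero_ne_one h2

/-- the Schubert ideals lie in the irrelevant ideal -/
lemma schubertVanishing_le_ker_constantCoeff (hd : 0 < d) (w : Idx d n) :
    schubertVanishing K d n w ≤
      RingHom.ker (constantCoeff : PlRing K d n →+* K) := by
  intro f hf
  unfold schubertVanishing at hf
  rw [Ideal.mem_iInf] at hf
  have h1 := hf 0
  rw [Ideal.mem_iInf] at h1
  have : Nonempty (Fin d) := ⟨⟨0, hd⟩⟩
  have hz : ∀ φ : Idx d n, ((0 : Matrix (Fin n) (Fin d) K).submatrix φ.1 id).det = 0 := by
    intro φ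
    have : (0 : Matrix (Fin n) (Fin d) K).submatrix φ.1 id = 0 := rfl
    rw [this, Matrix.det_zero]
  have h2 := h1 (fun φ _ => hz φ)
  rw [RingHom.mem_ker] at h2 ⊢
  have h3 : evalMinors K d n 0 f = constantCoeff f := by
    unfold evalMinors
    have : (fun θ : Idx d n => ((0 : Matrix (Fin n) (Fin d) K).submatrix θ.1 id).det)
        = fun _ => 0 := funext hz
    rw [this, aeval_zero']
    rfl
  rw [← h3]
  exact h2

end Groth.Agent.Lib.Helper28.Smt
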