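import Groth.Agent.Lib.Helper28.SmtShape2

set_option autoImplicit false

universe u

namespace Groth.Agent.Lib.Helper28.Smt

open W4bk4grassmannian MvPolynomial

section shape

variable (K : Type u) [Field K] [Infinite K] {d n : ℕ} (hd : 0 < d) (τ φ : Idx d n)

include hd in
/-- the straightening relation of a pair, with the row weight recorded -/
theorem straightening_all :
    ∃ g ∈ Submodule.span K {f : PlRing K d n | ∃ α β : Idx d n,
        β ≤ α ∧ W4bk4grassmannian.sup τ φ ≤ α ∧ β ≤ W4bk4grassmannian.inf τ φ ∧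
          wt α.1 + wt β.1 = wt τ.1 + wt φ.1 ∧ f = X α * X β},
      (X τ * X φ : PlRing K d n) - g ∈ plIdealTop (d := d) (n := n) K := by
  classical
  obtain ⟨g, hg⟩ := exists_expansion K (X τ * X φ : PlRing K d n)
  refine ⟨g.sum fun c a => a • chainMon K c.2.1, ?_, hg⟩
  unfold Finsupp.sum
  apply Submodule.sum_mem
  intro c hc
  apply Submodule.smul_mem
  apply Submodule.subset_span
  obtain ⟨α, β, hβα, rfl, hsup, hinf, hwt⟩ := support_shape K hd τ φ g hg c hc
  exact ⟨α, β, hβα, hsup, hinf, hwt, chainMon_pairChain K α β hβα⟩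

end shape

section weight

variable {d n : ℕ}

/-- a strictly concave function of the row weight -/
def Wc (θ : Idx d n) : ℕ := wt θ.1 * (2 * (d * n) - wt θ.1) + 1

lemma Wc_pos (θ : Idx d n) : 0 < Wc θ := Nat.succ_pos _

lemma Wc_pair_lt (τ φ α β : Idx d n) (h₁ : ¬ τ ≤ φ) (h₂ : ¬ φ ≤ τ)
    (hsup : W4bk4grassmannian.sup τ φ ≤ α)
    (hwt : wt α.1 + wt β.1 = wt τ.1 + wt φ.1) : Wc α + Wc β < Wc τ + Wc φ := by
  have hτs : τ ≤ W4bk4grassmannian.sup τ φ := ((le_sup_iff' τ φ _).1 le_rfl).1
  have hφs : φ ≤ W4bk4grassmannian.sup τ φ := ((le_sup_iff' τ φ _).1 le_rfl).2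
  have h1 : wt τ.1 < wt α.1 := by
    by_contra hcon
    rw [not_lt] at hcon
    have := eq_of_le_of_wt_le (hτs.trans hsup) hcon
    apply h₂
    rw [this]
    exact hφs.trans hsup
  have h2 : wt φ.1 < wt α.1 := by
    by_contra hcon
    rw [not_lt] at hcon
    have := eq_of_le_of_wt_le (hφs.trans hsup) hcon
    apply h₁
    rw [this]
    exact hτs.trans hsup
  have b1 := wt_lt_bound α.1
  have b2 := wt_lt_bound β.1
  have b3 := wt_lt_bound τ.1
  have b4 := wt_lt_bound φ.1
  unfold Wc
  set M := d * n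
  set a := wt τ.1
  set b := wt φ.1
  set c := wt α.1
  set e := wt β.1
  obtain ⟨a', ha'⟩ : ∃ a' : ℕ, 2 * M - a = a' := ⟨_, rfl⟩
  obtain ⟨b', hb'⟩ : ∃ b' : ℕ, 2 * M - b = b' := ⟨_, rfl⟩
  obtain ⟨c', hc'⟩ : ∃ c' : ℕ, 2 * M - c = c' := ⟨_, rfl⟩
  obtain ⟨e', he'⟩ : ∃ e' : ℕ, 2 * M - e = e' := ⟨_, rfl⟩
  rw [ha', hb', hc', he']
  have ea : a' + a = 2 * M := by omega
  have eb : b' + b = 2 * M := by omega
  have ec : c' + c = 2 * M := by omega
  have ee : e' + e = 2 * M := by omega
  nlinarith

end weight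

end Groth.Agent.Lib.Helper28.Smt

namespace Groth.Agent.Lib.Helper28.Smt

open W4bk4grassmannian MvPolynomial

section claim

variable (K : Type u) [Field K] {d n : ℕ} (w : Idx d n)

/-- the support of the monomial is a chain -/
def ChainSupp {w : Idx d n} (m : Below w →₀ ℕ) : Prop :=
  ∀ a ∈ m.support, ∀ b ∈ m.support, a ≤ b ∨ b ≤ a

/-- the filtration of the coordinate ring by the weight of standard monomials -/
noncomputable def Fil (W : Below w → ℕ) (N : ℕ) :
    Submodule K (PlRing K d n ⧸ schubertVanishing K d n w) :=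
  Submodule.span K {y | ∃ m : Below w →₀ ℕ, ChainSupp m ∧ Finsupp.weight W m ≤ N ∧
    y = belowToSchubert K w (monomial m 1)}

lemma Fil_mono (W : Below w → ℕ) {N N' : ℕ} (h : N ≤ N') : Fil K w W N ≤ Fil K w W N' := by
  unfold Fil
  apply Submodule.span_mono
  rintro y ⟨m, hm, hW, rfl⟩
  exact ⟨m, hm, hW.trans h, rfl⟩

lemma exists_incomparable {w : Idx d n} (m : Below w →₀ ℕ) (h : ¬ ChainSupp m) :
    ∃ τ φ : Below w, ¬ τ ≤ φ ∧ ¬ φ ≤ τ ∧ ∃ m₀ : Below w →₀ ℕ,
      m = Finsupp.single τ 1 + Finsupp.single φ 1 + m₀ := by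
  classical
  unfold ChainSupp at h
  simp only [not_forall, not_or] at h
  obtain ⟨τ, hτ, φ, hφ, h1, h2⟩ := h
  refine ⟨τ, φ, h1, h2, m - Finsupp.single τ 1 - Finsupp.single φ 1, ?_⟩
  have hne : τ ≠ φ := by
    rintro rfl
    exact h1 le_rfl
  have hτ1 : 1 ≤ m τ := Nat.one_le_iff_ne_zero.2 (Finsupp.mem_support_iff.1 hτ)
  have hφ1 : 1 ≤ m φ := Nat.one_le_iff_ne_zero.2 (Finsupp.mem_support_iff.1 hφ)
  ext θ
  simp only [Finsupp.coe_add, Finsupp.coe_tsub, Pi.add_apply, Pi.sub_apply, Finsupp.single_apply]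
  by_cases e1 : τ = θ
  · subst e1
    rw [if_pos rfl, if_neg (Ne.symm hne)]
    omega
  · by_cases e2 : φ = θ
    · subst e2
      rw [if_neg e1, if_pos rfl]
      omega
    · rw [if_neg e1, if_neg e2]
      omega

lemma monomial_decomp {w : Idx d n} (τ φ : Below w) (m₀ : Below w →₀ ℕ) :
    (monomial (Finsupp.single τ 1 + Finsupp.single φ 1 + m₀) 1 : MvPolynomial (Below w) K) =
      X τ * X φ * monomial m₀ 1 := by
  rw [X, X, monomial_mul, monomial_mul, one_mul, one_mul]

/-- **filtered straightening**: if every product of an incomparable pair is a combination of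
products of smaller termination weight `V` and no larger filtration weight `W`, then every
monomial lies in the step of the filtration given by its weight -/
theorem monomial_mem_Fil (W V : Below w → ℕ)
    (H : ∀ τ φ : Below w, ¬ τ ≤ φ → ¬ φ ≤ τ →
      ∃ g ∈ Submodule.span K {f : MvPolynomial (Below w) K | ∃ α β : Below w,
        W α + W β ≤ W τ + W φ ∧ V α + V β < V τ + V φ ∧ f = X α * X β},
        belowToSchubert K w (X τ * X φ) = belowToSchubert K w g) :
    ∀ m : Below w →₀ ℕ, belowToSchubert K w (monomial m 1) ∈ Fil K w W (Finsupp.weight W m) := by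
  classical
  intro m
  induction hN : Finsupp.weight V m using Nat.strong_induction_on generalizing m with
  | _ N ih =>
  by_cases hm : ChainSupp m
  · exact Submodule.subset_span ⟨m, hm, le_rfl, rfl⟩
  · obtain ⟨τ, φ, h1, h2, m₀, rfl⟩ := exists_incomparable m hm
    obtain ⟨g, hg, hrel⟩ := H τ φ h1 h2
    rw [monomial_decomp, map_mul, hrel, ← map_mul]
    have key : ∀ g ∈ Submodule.span K {f : MvPolynomial (Below w) K | ∃ α β : Below w,
        W α + W β ≤ W τ + W φ ∧ V α + V β < V τ + V φ ∧ f = X α * X β},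
        belowToSchubert K w (g * monomial m₀ 1) ∈ Fil K w W
          (Finsupp.weight W (Finsupp.single τ 1 + Finsupp.single φ 1 + m₀)) := by
      intro g hg
      induction hg using Submodule.span_induction with
      | mem f hf =>
        obtain ⟨α, β, hW, hV, rfl⟩ := hf
        rw [← monomial_decomp]
        have hVlt : Finsupp.weight V (Finsupp.single α 1 + Finsupp.single β 1 + m₀) < N := by
          rw [← hN]
          simp only [map_add, Finsupp.weight_single, smul_eq_mul, one_mul]
          omega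
        have := ih _ hVlt _ rfl
        refine Fil_mono K w W ?_ this
        simp only [map_add, Finsupp.weight_single, smul_eq_mul, one_mul]
        omega
      | zero =>
        rw [zero_mul, map_zero]
        exact Submodule.zero_mem _
      | add x y _ _ hx hy =>
        rw [add_mul, map_add (belowToSchubert K w)]
        exact Submodule.add_mem _ hx hy
      | smul a x _ hx =>
        rw [smul_mul_assoc, map_smul]
        exact Submodule.smul_mem _ a hx
    exact key g hg

/-- strictness: a monomial whose support is not a chain lies one step lower -/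
theorem monomial_mem_Fil_pred (W : Below w → ℕ)
    (H : ∀ τ φ : Below w, ¬ τ ≤ φ → ¬ φ ≤ τ →
      ∃ g ∈ Submodule.span K {f : MvPolynomial (Below w) K | ∃ α β : Below w,
        W α + W β < W τ + W φ ∧ f = X α * X β},
        belowToSchubert K w (X τ * X φ) = belowToSchubert K w g)
    (m : Below w →₀ ℕ) (hm : ¬ ChainSupp m) :
    belowToSchubert K w (monomial m 1) ∈ Fil K w W (Finsupp.weight W m - 1) := by
  classical
  have H' : ∀ τ φ : Below w, ¬ τ ≤ φ → ¬ φ ≤ τ →
      ∃ g ∈ Submodule.span K {f : MvPolynomial (Below w) K | ∃ α β : Below w,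
        W α + W β ≤ W τ + W φ ∧ W α + W β < W τ + W φ ∧ f = X α * X β},
        belowToSchubert K w (X τ * X φ) = belowToSchubert K w g := by
    intro τ φ h1 h2
    obtain ⟨g, hg, hrel⟩ := H τ φ h1 h2
    refine ⟨g, ?_, hrel⟩
    refine Submodule.span_mono ?_ hg
    rintro f ⟨α, β, hlt, rfl⟩
    exact ⟨α, β, hlt.le, hlt, rfl⟩
  have hall := monomial_mem_Fil K w W W H'
  obtain ⟨τ, φ, h1, h2, m₀, rfl⟩ := exists_incomparable m hm
  obtain ⟨g, hg, hrel⟩ := H τ φ h1 h2
  rw [monomial_decomp, map_mul, hrel, ← map_mul]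
  have key : ∀ g ∈ Submodule.span K {f : MvPolynomial (Below w) K | ∃ α β : Below w,
      W α + W β < W τ + W φ ∧ f = X α * X β},
      belowToSchubert K w (g * monomial m₀ 1) ∈ Fil K w W
        (Finsupp.weight W (Finsupp.single τ 1 + Finsupp.single φ 1 + m₀) - 1) := by
    intro g hg
    induction hg using Submodule.span_induction with
    | mem f hf =>
      obtain ⟨α, β, hW, rfl⟩ := hf
      rw [← monomial_decomp]
      refine Fil_mono K w W ?_ (hall _)
      simp only [map_add, Finsupp.weight_single, smul_eq_mul, one_mul]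
      omega
    | zero =>
      rw [zero_mul, map_zero]
      exact Submodule.zero_mem _
    | add x y _ _ hx hy =>
      rw [add_mul, map_add (belowToSchubert K w)]
      exact Submodule.add_mem _ hx hy
    | smul a x _ hx =>
      rw [smul_mul_assoc, map_smul]
      exact Submodule.smul_mem _ a hx
  exact key g hg

end claim

end Groth.Agent.Lib.Helper28.Smt

namespace Groth.Agent.Lib.Helper28.Smt

open W4bk4grassmannian MvPolynomial

section srrel

variable (K : Type u) [Field K] [Infinite K] {d n : ℕ} (hd : 0 < d) (w : Idx d n)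

omit [Infinite K] in
lemma belowToSchubert_X (θ : Below w) :
    belowToSchubert K w (X θ) = Ideal.Quotient.mk (schubertVanishing K d n w) (X θ.1) := by
  unfold belowToSchubert
  rw [aeval_X]

include hd in
/-- the straightening relation of an incomparable pair in `H(w)`, all terms being of smaller
concave weight -/
theorem relation_sr (τ φ : Below w) (h₁ : ¬ τ ≤ φ) (h₂ : ¬ φ ≤ τ) :
    ∃ g ∈ Submodule.span K {f : MvPolynomial (Below w) K | ∃ α β : Below w,
        Wc α.1 + Wc β.1 < Wc τ.1 + Wc φ.1 ∧ f = X α * X β},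
      belowToSchubert K w (X τ * X φ) = belowToSchubert K w g := by
  classical
  obtain ⟨gS, hgS, hmem⟩ := straightening_all K hd τ.1 φ.1
  have h1 : belowToSchubert K w (X τ * X φ) =
      Ideal.Quotient.mk (schubertVanishing K d n w) gS := by
    rw [map_mul, belowToSchubert_X, belowToSchubert_X, ← map_mul]
    exact Ideal.Quotient.eq.2 (plIdealTop_le_schubertVanishing K w hmem)
  rw [h1]
  have key : ∀ f ∈ Submodule.span K {f : PlRing K d n | ∃ α β : Idx d n,
        β ≤ α ∧ W4bk4grassmannian.sup τ.1 φ.1 ≤ α ∧ β ≤ W4bk4grassmannian.inf τ.1 φ.1 ∧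
          wt α.1 + wt β.1 = wt τ.1.1 + wt φ.1.1 ∧ f = X α * X β},
      ∃ g ∈ Submodule.span K {f : MvPolynomial (Below w) K | ∃ α β : Below w,
        Wc α.1 + Wc β.1 < Wc τ.1 + Wc φ.1 ∧ f = X α * X β},
      Ideal.Quotient.mk (schubertVanishing K d n w) f = belowToSchubert K w g := by
    intro f hf
    induction hf using Submodule.span_induction with
    | mem f hf =>
      obtain ⟨α, β, hβα, hsup, hinf, hwt, rfl⟩ := hf
      by_cases hαw : α ≤ w
      · refine ⟨X (⟨α, hαw⟩ : Below w) * X (⟨β, hβα.trans hαw⟩ : Below w), ?_, ?_⟩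
        · apply Submodule.subset_span
          exact ⟨⟨α, hαw⟩, ⟨β, hβα.trans hαw⟩,
            Wc_pair_lt τ.1 φ.1 α β h₁ h₂ hsup hwt, rfl⟩
        · rw [map_mul (belowToSchubert K w), belowToSchubert_X, belowToSchubert_X, ← map_mul]
      · refine ⟨0, Submodule.zero_mem _, ?_⟩
        rw [map_zero, Ideal.Quotient.eq_zero_iff_mem]
        exact Ideal.mul_mem_right _ _ (X_mem_schubertVanishing K w α hαw)
    | zero => exact ⟨0, Submodule.zero_mem _, by rw [map_zero, map_zero]⟩
    | add x y _ _ hx hy =>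
      obtain ⟨gx, hgx, ex⟩ := hx
      obtain ⟨gy, hgy, ey⟩ := hy
      exact ⟨gx + gy, Submodule.add_mem _ hgx hgy, by rw [map_add, map_add, ex, ey]⟩
    | smul a x _ hx =>
      obtain ⟨gx, hgx, ex⟩ := hx
      refine ⟨a • gx, Submodule.smul_mem _ a hgx, ?_⟩
      have e1 : Ideal.Quotient.mk (schubertVanishing K d n w) (a • x) =
          a • Ideal.Quotient.mk (schubertVanishing K d n w) x :=
        map_smul (Ideal.Quotient.mkₐ K (schubertVanishing K d n w)) a x
      rw [e1, ex, map_smul]
  exact key gS hgS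

end srrel

end Groth.Agent.Lib.Helper28.Smt
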