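import Groth.Agent.Lib.Helper28.SmtSR1

set_option autoImplicit false

universe u

namespace Groth.Agent.Lib.Helper28.Smt

open W4bk4grassmannian MvPolynomial

section chains

variable (K : Type u) [Field K] {d n : ℕ} {w : Idx d n}

lemma chainSupp_of_le {m m' : Below w →₀ ℕ} (h : m' ≤ m) (hm : ChainSupp m) : ChainSupp m' := by
  intro a ha b hb
  exact hm a (Finsupp.support_mono h ha) b (Finsupp.support_mono h hb)

/-- a monomial with chain support is the product along an antitone sequence -/
lemma exists_chain_of_chainSupp : ∀ (N : ℕ) (m : Below w →₀ ℕ), Finsupp.degree m = N →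
    ChainSupp m → ∃ (k : ℕ) (c : Fin k → Below w), Antitone c ∧
      (∏ j, (X (c j) : MvPolynomial (Below w) K)) = monomial m 1 ∧ ∀ j, c j ∈ m.support := by
  classical
  intro N
  induction N with
  | zero =>
    intro m hm _
    have hm0 : m = 0 := (Finsupp.degree_eq_zero_iff m).1 hm
    subst hm0
    refine ⟨0, Fin.elim0, fun i => i.elim0, ?_, fun j => j.elim0⟩
    rw [Finset.univ_eq_empty, Finset.prod_empty]
    rfl
  | succ N ih =>
    intro m hm hch
    have hne : m.support.Nonempty := by
      rw [Finset.nonempty_iff_ne_empty, Ne, Finsupp.support_eq_empty]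
      rintro rfl
      rw [map_zero] at hm
      exact Nat.succ_ne_zero N hm.symm
    obtain ⟨θ, hθ, hmax⟩ := Finset.exists_maximal hne
    have hle : ∀ a ∈ m.support, a ≤ θ := by
      intro a ha
      rcases hch a ha θ hθ with h | h
      · exact h
      · exact hmax ha h
    have hθ1 : Finsupp.single θ 1 ≤ m := by
      rw [Finsupp.single_le_iff]
      exact Nat.one_le_iff_ne_zero.2 (Finsupp.mem_support_iff.1 hθ)
    set m' := m - Finsupp.single θ 1 with hm'
    have hadd : Finsupp.single θ 1 + m' = m := add_tsub_cancel_of_le hθ1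
    have hdeg : Finsupp.degree m' = N := by
      have := congrArg Finsupp.degree hadd
      rw [map_add, Finsupp.degree_single, hm] at this
      omega
    have hch' : ChainSupp m' := chainSupp_of_le (by rw [← hadd]; exact le_add_self) hch
    obtain ⟨k, c', hanti, hprod, hsupp⟩ := ih m' hdeg hch'
    have hsub : m'.support ⊆ m.support := Finsupp.support_mono (by rw [← hadd]; exact le_add_self)
    refine ⟨k + 1, Fin.cons θ c', ?_, ?_, ?_⟩
    · intro i j hij
      induction i using Fin.cases with
      | zero =>
        induction j using Fin.cases with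
        | zero => exact le_rfl
        | succ j =>
          rw [Fin.cons_zero, Fin.cons_succ]
          exact hle _ (hsub (hsupp j))
      | succ i =>
        induction j using Fin.cases with
        | zero => exact absurd hij (by simp)
        | succ j =>
          rw [Fin.cons_succ, Fin.cons_succ]
          exact hanti (Fin.succ_le_succ_iff.1 hij)
    · rw [Fin.prod_univ_succ]
      simp only [Fin.cons_zero, Fin.cons_succ]
      rw [hprod, X, monomial_mul, one_mul, hadd]
    · intro j
      induction j using Fin.cases with
      | zero => rw [Fin.cons_zero]; exact hθ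
      | succ j => rw [Fin.cons_succ]; exact hsub (hsupp j)

end chains

end Groth.Agent.Lib.Helper28.Smt

namespace Groth.Agent.Lib.Helper28.Smt

open W4bk4grassmannian MvPolynomial

section basis

variable (K : Type u) [Field K] {d n : ℕ} (w : Idx d n)

lemma belowToSchubert_eq_mk_rename (f : MvPolynomial (Below w) K) :
    belowToSchubert K w f = Ideal.Quotient.mk (schubertVanishing K d n w)
      (rename (Subtype.val : Below w → Idx d n) f) := by
  have h : belowToSchubert K w =
      (Ideal.Quotient.mkₐ K (schubertVanishing K d n w)).comp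
        (rename (Subtype.val : Below w → Idx d n)) := by
    apply MvPolynomial.algHom_ext
    intro θ
    rw [belowToSchubert_X, AlgHom.comp_apply, rename_X]
    rfl
  rw [h]
  rfl

lemma belowToSchubert_surjective : Function.Surjective (belowToSchubert K w) := by
  intro y
  obtain ⟨f, rfl⟩ := Ideal.Quotient.mk_surjective y
  induction f using MvPolynomial.induction_on with
  | C a =>
    refine ⟨C a, ?_⟩
    rw [belowToSchubert_eq_mk_rename, rename_C]
  | add p q hp hq =>
    obtain ⟨p', hp'⟩ := hp
    obtain ⟨q', hq'⟩ := hq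
    exact ⟨p' + q', by rw [map_add, hp', hq', map_add]⟩
  | mul_X p θ hp =>
    obtain ⟨p', hp'⟩ := hp
    by_cases hθ : θ ≤ w
    · refine ⟨p' * X (⟨θ, hθ⟩ : Below w), ?_⟩
      rw [map_mul, hp', belowToSchubert_X, map_mul]
    · refine ⟨0, ?_⟩
      rw [map_zero]
      symm
      rw [Ideal.Quotient.eq_zero_iff_mem]
      exact Ideal.mul_mem_left _ _ (X_mem_schubertVanishing K w θ hθ)

/-- chain-supported monomials -/
abbrev StdM (w : Idx d n) : Type := {m : Below w →₀ ℕ // ChainSupp m}

/-- the standard monomial basis of the coordinate ring of the cone over `X(w)` -/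
noncomputable def bStd (m : StdM w) : PlRing K d n ⧸ schubertVanishing K d n w :=
  belowToSchubert K w (monomial m.1 1)

variable [Infinite K] (hd : 0 < d)

include hd in
theorem linearIndependent_bStd : LinearIndependent K (bStd K w) := by
  classical
  have hex : ∀ m : StdM w, ∃ (k : ℕ) (c : Fin k → Below w), Antitone c ∧
      (∏ j, (X (c j) : MvPolynomial (Below w) K)) = monomial m.1 1 ∧ ∀ j, c j ∈ m.1.support :=
    fun m => exists_chain_of_chainSupp K _ m.1 rfl m.2
  choose k c hanti hprod _ using hex
  have hcm : ∀ m : StdM w, chainMon K (fun j => (c m j).1) =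
      monomial (Finsupp.mapDomain Subtype.val m.1) 1 := by
    intro m
    have h1 : chainMon K (fun j => (c m j).1) =
        rename (Subtype.val : Below w → Idx d n) (∏ j, (X (c m j) : MvPolynomial (Below w) K)) := by
      unfold chainMon
      rw [map_prod]
      apply Finset.prod_congr rfl
      intro j _
      rw [rename_X]
    rw [h1, hprod, rename_monomial]
  have hb : ∀ m : StdM w, bStd K w m =
      Ideal.Quotient.mk (schubertVanishing K d n w) (chainMon K (fun j => (c m j).1)) := by
    intro m
    unfold bStd
    rw [belowToSchubert_eq_mk_rename, rename_monomial, hcm]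
  rw [linearIndependent_iff']
  intro s g hg i his
  have h0 : (∑ m ∈ s, g m • chainMon K (fun j => (c m j).1)) ∈ schubertVanishing K d n w := by
    rw [← Ideal.Quotient.eq_zero_iff_mem, map_sum, ← hg]
    apply Finset.sum_congr rfl
    intro m _
    rw [hb]
    rfl
  have hev := evW_eq_zero_of_mem K w _ h0
  rw [map_sum] at hev
  have hev' : ∑ m ∈ s, g m • evW K w (chainMon K (fun j => (c m j).1)) = 0 := by
    rw [← hev]
    apply Finset.sum_congr rfl
    intro m _
    rw [map_smul]
  refine indep K hd w (ι := StdM w) k (fun m j => (c m j).1) (fun m i j hij => hanti m hij) ?_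
    s g hev' i his (fun j => (c i j).2)
  intro m m' hmm
  have h1 : chainMon K (fun j => (c m j).1) = chainMon K (fun j => (c m' j).1) := by
    simp only [Sigma.mk.injEq] at hmm
    obtain ⟨hk, hc⟩ := hmm
    have key : ∀ (k₁ k₂ : ℕ) (c₁ : Fin k₁ → Idx d n) (c₂ : Fin k₂ → Idx d n), k₁ = k₂ → c₁ ≍ c₂ →
        chainMon K c₁ = chainMon K c₂ := by
      intro k₁ k₂ c₁ c₂ hk hc
      subst hk
      rw [eq_of_heq hc]
    exact key _ _ _ _ hk hc
  rw [hcm, hcm] at h1
  have h2 := MvPolynomial.monomial_left_injective (R := K) one_ne_zero h1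
  apply Subtype.ext
  exact Finsupp.mapDomain_injective Subtype.val_injective h2

include hd in
theorem bStd_mem_Fil_of_monomial (m : Below w →₀ ℕ) :
    belowToSchubert K w (monomial m 1) ∈
      Fil K w (fun θ => Wc θ.1) (Finsupp.weight (fun θ : Below w => Wc θ.1) m) := by
  apply monomial_mem_Fil K w (fun θ => Wc θ.1) (fun θ => Wc θ.1)
  intro τ φ h1 h2
  obtain ⟨g, hg, hrel⟩ := relation_sr K hd w τ φ h1 h2
  refine ⟨g, ?_, hrel⟩
  refine Submodule.span_mono ?_ hg
  rintro f ⟨α, β, hlt, rfl⟩
  exact ⟨α, β, hlt.le, hlt, rfl⟩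

omit [Infinite K] in
lemma Fil_le_span (W : Below w → ℕ) (N : ℕ) :
    Fil K w W N ≤ Submodule.span K (Set.range (bStd K w)) := by
  unfold Fil
  apply Submodule.span_mono
  rintro y ⟨m, hm, -, rfl⟩
  exact ⟨⟨m, hm⟩, rfl⟩

include hd in
theorem span_bStd : Submodule.span K (Set.range (bStd K w)) = ⊤ := by
  rw [eq_top_iff]
  rintro y -
  obtain ⟨f, rfl⟩ := belowToSchubert_surjective K w y
  rw [f.as_sum, map_sum]
  apply Submodule.sum_mem
  intro m _
  have : (monomial m (coeff m f) : MvPolynomial (Below w) K) = coeff m f • monomial m 1 := by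
    rw [smul_monomial, smul_eq_mul, mul_one]
  rw [this, map_smul]
  apply Submodule.smul_mem
  exact Fil_le_span K w _ _ (bStd_mem_Fil_of_monomial K w hd m)

end basis

end Groth.Agent.Lib.Helper28.Smt
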