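import Groth.Agent.Lib.Helper28.SmtInterval
import Mathlib.Data.Finsupp.Weight

/-!
# Shape of the straightening relation of a skew pair (helper28)
-/

set_option autoImplicit false

universe u

namespace Groth.Agent.Lib.Helper28.Smt

open W4bk4grassmannian MvPolynomial

section bihom

variable {d n : ℕ}

/-- row weight of a variable -/
def wrow (v : Var n d) : ℕ := ((ofLex v).1 : Fin n).val

/-- the bidegree (total degree, row weight) of a monomial -/
noncomputable def bg : (Var n d →₀ ℕ) →+ ℕ × ℕ :=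
  (Finsupp.degree).prod (Finsupp.weight (wrow (n := n) (d := d)))

lemma bg_single (a : Fin n) (t : Fin d) :
    bg (Finsupp.single (toLex (a, t) : Var n d) 1) = (1, a.val) := by
  unfold bg
  rw [AddMonoidHom.prod_apply, Finsupp.degree_single, Finsupp.weight_single]
  simp [wrow]

lemma bg_expo (θ : Fin d → Fin n) (π : Equiv.Perm (Fin d)) : bg (expo θ π) = (d, wt θ) := by
  unfold expo
  rw [map_sum, Finset.sum_congr rfl (fun t _ => bg_single (θ (π t)) t)]
  apply Prod.ext
  · rw [Prod.fst_sum]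
    simp
  · rw [Prod.snd_sum]
    unfold wt
    exact Equiv.sum_comp π (fun t => (θ t).val)

variable (K : Type*) [CommRing K]

/-- all monomials have bidegree `ω` -/
def BiHom (ω : ℕ × ℕ) (f : MvPolynomial (Var n d) K) : Prop := ∀ m ∈ f.support, bg m = ω

lemma biHom_det (p : Fin n → Fin d → Prop) [∀ a t, Decidable (p a t)] (θ : Idx d n) :
    BiHom K (d, wt θ.1) (((genP K p).submatrix θ.1 id).det) := by
  classical
  intro m hm
  rw [det_genP] at hm
  have h1 := MvPolynomial.support_sum hm
  rw [Finset.mem_biUnion] at h1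
  obtain ⟨π, -, hπ⟩ := h1
  have h2 := MvPolynomial.support_monomial_subset hπ
  rw [Finset.mem_singleton] at h2
  rw [h2, bg_expo]

lemma biHom_one : BiHom (n := n) (d := d) K 0 1 := by
  classical
  intro m hm
  have h1 : (1 : MvPolynomial (Var n d) K) = monomial 0 1 := rfl
  rw [h1] at hm
  have h2 := MvPolynomial.support_monomial_subset hm
  rw [Finset.mem_singleton] at h2
  rw [h2, map_zero]

lemma biHom_mul {ω₁ ω₂ : ℕ × ℕ} {f g : MvPolynomial (Var n d) K} (hf : BiHom K ω₁ f)
    (hg : BiHom K ω₂ g) : BiHom K (ω₁ + ω₂) (f * g) := by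
  classical
  intro m hm
  have h1 := MvPolynomial.support_mul _ _ hm
  rw [Finset.mem_add] at h1
  obtain ⟨m1, hm1, m2, hm2, rfl⟩ := h1
  rw [map_add, hf m1 hm1, hg m2 hm2]

lemma biHom_prod {ι : Type*} (s : Finset ι) (f : ι → MvPolynomial (Var n d) K) (ω : ι → ℕ × ℕ)
    (h : ∀ i ∈ s, BiHom K (ω i) (f i)) : BiHom K (∑ i ∈ s, ω i) (∏ i ∈ s, f i) := by
  classical
  induction s using Finset.induction_on with
  | empty =>
    rw [Finset.prod_empty, Finset.sum_empty]
    exact biHom_one K
  | insert a s ha ih =>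
    rw [Finset.prod_insert ha, Finset.sum_insert ha]
    exact biHom_mul K (h a (Finset.mem_insert_self a s))
      (ih (fun i hi => h i (Finset.mem_insert_of_mem hi)))

lemma biHom_smul {ω : ℕ × ℕ} {f : MvPolynomial (Var n d) K} (hf : BiHom K ω f) (a : K) :
    BiHom K ω (a • f) := by
  intro m hm
  exact hf m (MvPolynomial.support_smul hm)

/-- bidegree of a standard monomial -/
def chainBg {m : ℕ} (c : Fin m → Idx d n) : ℕ × ℕ := (m * d, ∑ k, wt (c k).1)

lemma biHom_evP_chainMon (p : Fin n → Fin d → Prop) [∀ a t, Decidable (p a t)] {m : ℕ}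
    (c : Fin m → Idx d n) : BiHom K (chainBg c) (evP K p (chainMon K c)) := by
  rw [evP_chainMon]
  have h := biHom_prod K Finset.univ (fun k => ((genP K p).submatrix (c k).1 id).det)
    (fun k => (d, wt (c k).1)) (fun k _ => biHom_det K p (c k))
  have e : ∑ k : Fin m, ((d, wt (c k).1) : ℕ × ℕ) = chainBg c := by
    unfold chainBg
    apply Prod.ext
    · rw [Prod.fst_sum]; simp
    · rw [Prod.snd_sum]
  rw [e] at h
  exact h

/-- in an identity between bihomogeneous polynomials the terms of the wrong bidegree cancel -/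
lemma sum_bad_eq_zero {ι : Type*} [DecidableEq ι] (s : Finset ι)
    (F : ι → MvPolynomial (Var n d) K) (ω : ι → ℕ × ℕ) (hF : ∀ i ∈ s, BiHom K (ω i) (F i))
    (f₀ : MvPolynomial (Var n d) K) (ω₀ : ℕ × ℕ) (hf₀ : BiHom K ω₀ f₀) (h : f₀ = ∑ i ∈ s, F i) :
    ∑ i ∈ s.filter (fun i => ω i ≠ ω₀), F i = 0 := by
  classical
  by_contra hne
  have hsupp : (∑ i ∈ s.filter (fun i => ω i ≠ ω₀), F i).support.Nonempty := by
    rw [Finset.nonempty_iff_ne_empty, Ne, MvPolynomial.support_eq_empty]
    exact hne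
  obtain ⟨m, hm⟩ := hsupp
  -- m lies in the support of a bad term
  have h1 := MvPolynomial.support_sum hm
  rw [Finset.mem_biUnion] at h1
  obtain ⟨i, hi, hmi⟩ := h1
  rw [Finset.mem_filter] at hi
  have hbad : bg m ≠ ω₀ := by rw [hF i hi.1 m hmi]; exact hi.2
  -- and in the support of f₀ minus the good terms
  have hsplit : ∑ i ∈ s.filter (fun i => ω i ≠ ω₀), F i =
      f₀ - ∑ i ∈ s.filter (fun i => ¬ ω i ≠ ω₀), F i := by
    rw [h, ← Finset.sum_filter_add_sum_filter_not s (fun i => ω i ≠ ω₀)]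
    ring
  rw [hsplit] at hm
  have h2 := MvPolynomial.support_sub _ _ _ hm
  rw [Finset.mem_union] at h2
  rcases h2 with h2 | h2
  · exact hbad (hf₀ m h2)
  · have h3 := MvPolynomial.support_sum h2
    rw [Finset.mem_biUnion] at h3
    obtain ⟨j, hj, hmj⟩ := h3
    rw [Finset.mem_filter, not_not] at hj
    exact hbad ((hF j hj.1 m hmj).trans hj.2)

end bihom

end Groth.Agent.Lib.Helper28.Smt
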