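import Groth.Agent.Lib.Helper28.SmtNormal
import Groth.Agent.Lib.Helper28.SmtIrred
import Groth.Agent.Lib.Helper28.SmtDivisors

/-!
# Factoriality of the cone over a Schubert variety (helper28)

* `prime_xT_iff`: the class of `X_τ` is prime iff `τ` has at most one Schubert divisor.
* `ufd_RS_iff`: `S/J(τ)` is factorial iff the class of `X_τ` is prime.
-/

set_option autoImplicit false

universe u

namespace Groth.Agent.Lib.Helper28.Smt

open W4bk4grassmannian MvPolynomial

variable {d n : ℕ}

lemma eq_of_le_of_codeg_eq (a b : Idx d n) (h : a ≤ b) (hc : codeg a = codeg b) : a = b := by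
  unfold codeg at hc
  have hle : ∀ t ∈ (Finset.univ : Finset (Fin d)), (a.1 t).val - t.val ≤ (b.1 t).val - t.val := by
    intro t _
    have : (a.1 t).val ≤ (b.1 t).val := h t
    omega
  have := (Finset.sum_eq_sum_iff_of_le hle).1 hc
  apply Subtype.ext
  funext t
  apply Fin.ext
  have h1 := this t (Finset.mem_univ t)
  have h2 := idx_val_le a t
  have h3 := idx_val_le b t
  omega

variable (K : Type u) [Field K] [Infinite K] (hdn : d ≤ n) (τ : Idx d n)

include hdn in
/-- for the least element, `J(ι) + (X_ι)` is the irrelevant ideal -/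
lemma sup_span_eq_ker_of_min (hd : 0 < d) (hex : ∀ φ : Idx d n, ¬ φ < τ) :
    schubertVanishing K d n τ ⊔ Ideal.span {(X τ : PlRing K d n)} =
      RingHom.ker (constantCoeff : PlRing K d n →+* K) := by
  have hτ : τ = iotaIdx hdn := eq_iotaIdx_of_forall_not_lt hdn τ hex
  have hle : schubertVanishing K d n τ ⊔ Ideal.span {(X τ : PlRing K d n)} ≤
      RingHom.ker (constantCoeff : PlRing K d n →+* K) := by
    apply sup_le (schubertVanishing_le_ker_constantCoeff K hd τ)
    rw [Ideal.span_le, Set.singleton_subset_iff, SetLike.mem_coe, RingHom.mem_ker,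
      constantCoeff_X]
  apply le_antisymm hle
  intro f hf
  obtain ⟨c, hc⟩ := exists_const_of_iota K hdn f
  rw [← hτ] at hc
  have h1 := hle hc
  rw [RingHom.mem_ker, map_sub, RingHom.mem_ker.1 hf, constantCoeff_C, zero_sub,
    neg_eq_zero] at h1
  rw [h1, C_0, sub_zero] at hc
  exact hc

include hdn in
lemma isPrime_sup_span_iff (hd : 0 < d) :
    (schubertVanishing K d n τ ⊔ Ideal.span {(X τ : PlRing K d n)}).IsPrime ↔
      (divisors τ).Subsingleton := by
  classical
  by_cases hex : ∃ φ : Idx d n, φ < τ
  · have hIeq := schubert_sup_span_eq K hd τ hex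
    obtain ⟨φ', hφ'⟩ := hex
    obtain ⟨φ₀, hφ₀, -⟩ := Groth.Agent.S11268.result d n φ' τ hφ'
    constructor
    · intro hprime φ₁ hφ₁ φ₂ hφ₂
      by_contra hne
      set s : Finset (Idx d n) := Finset.univ.filter (fun φ => φ ∈ divisors τ) with hs
      have hmem : ∀ φ, φ ∈ s ↔ φ ∈ divisors τ := by
        intro φ
        rw [hs, Finset.mem_filter]
        exact ⟨fun h => h.2, fun h => ⟨Finset.mem_univ _, h⟩⟩
      have hinf : schubertVanishing K d n τ ⊔ Ideal.span {(X τ : PlRing K d n)} =
          s.inf (fun φ => schubertVanishing K d n φ) := by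
        rw [hIeq, Finset.inf_eq_iInf]
        apply iInf_congr
        intro φ
        rw [hmem]
      obtain ⟨ψ, hψs, hψ⟩ := (Ideal.IsPrime.inf_le' hprime).1 (le_of_eq hinf.symm)
      rw [hmem] at hψs
      -- pick a divisor different from ψ
      obtain ⟨φ, hφ, hφψ⟩ : ∃ φ ∈ divisors τ, φ ≠ ψ := by
        by_cases h1 : φ₁ = ψ
        · exact ⟨φ₂, hφ₂, fun h2 => hne (h1.trans h2.symm)⟩
        · exact ⟨φ₁, hφ₁, h1⟩
      have hnle : ¬ φ ≤ ψ := by
        intro hle
        apply hφψ
        apply eq_of_le_of_codeg_eq φ ψ hle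
        have h1 := hφ.2
        have h2 := hψs.2
        omega
      have h1 : (X φ : PlRing K d n) ∈ schubertVanishing K d n ψ :=
        X_mem_schubertVanishing K ψ φ hnle
      have h2 : (X φ : PlRing K d n) ∈ schubertVanishing K d n φ := by
        have h3 := hψ h1
        rw [hIeq, Ideal.mem_iInf] at h3
        have h4 := h3 φ
        rw [Ideal.mem_iInf] at h4
        exact h4 hφ
      exact X_notMem_schubertVanishing K φ φ le_rfl h2
    · intro hsub
      have : schubertVanishing K d n τ ⊔ Ideal.span {(X τ : PlRing K d n)} =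
          schubertVanishing K d n φ₀ := by
        rw [hIeq]
        apply le_antisymm
        · exact iInf₂_le φ₀ hφ₀
        · apply le_iInf₂
          intro φ hφ
          rw [hsub hφ hφ₀]
      rw [this]
      exact isPrime_schubertVanishing K hd hdn φ₀
  · simp only [not_exists] at hex
    constructor
    · intro _ φ₁ hφ₁
      exact absurd hφ₁.1 (hex φ₁)
    · intro _
      rw [sup_span_eq_ker_of_min K hdn τ hd hex]
      exact RingHom.ker_isPrime _

include hdn in
/-- the class of `X_τ` is prime iff `τ` has at most one divisor -/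
theorem prime_xT_iff (hd : 0 < d) : Prime (xT K τ) ↔ (divisors τ).Subsingleton := by
  rw [← isPrime_sup_span_iff K hdn τ hd, ← Ideal.span_singleton_prime (xT_ne_zero K τ)]
  have hmap : Ideal.span {xT K τ} = (schubertVanishing K d n τ ⊔
      Ideal.span {(X τ : PlRing K d n)}).map (Ideal.Quotient.mk (schubertVanishing K d n τ)) := by
    rw [Ideal.map_sup, Ideal.map_quotient_self, bot_sup_eq, Ideal.map_span, Set.image_singleton]
    rfl
  constructor
  · intro hp
    have hcomap : (schubertVanishing K d n τ ⊔ Ideal.span {(X τ : PlRing K d n)}) =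
        (Ideal.span {xT K τ}).comap (Ideal.Quotient.mk (schubertVanishing K d n τ)) := by
      rw [hmap, Ideal.comap_map_of_surjective _ Ideal.Quotient.mk_surjective,
        ← RingHom.ker_eq_comap_bot, Ideal.mk_ker, sup_right_comm, sup_idem]
    rw [hcomap]
    exact Ideal.comap_isPrime _ _
  · intro hp
    rw [hmap]
    apply Ideal.map_isPrime_of_surjective Ideal.Quotient.mk_surjective
    rw [Ideal.mk_ker]
    exact le_sup_left

include hdn in
/-- the cone over `X(τ)` is factorial iff the class of `X_τ` is prime -/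
theorem ufd_RS_iff (hd : 0 < d) : UniqueFactorizationMonoid (RS K τ) ↔ Prime (xT K τ) := by
  haveI := isDomain_RS K hdn τ hd
  constructor
  · intro hufd
    exact UniqueFactorizationMonoid.irreducible_iff_prime.1 (irreducible_xT K hdn τ hd)
  · intro hp
    rw [UniqueFactorizationMonoid.iff_localizationAway_of_prime hp]
    exact ufd_localization_away K hdn τ hd

end Groth.Agent.Lib.Helper28.Smt
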