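import Groth.Prelude.Def_W4bk4grossh1223Act
import Mathlib

set_option autoImplicit false
universe u
open scoped TensorProduct
open CategoryTheory MonObj AlgebraicGeometry

namespace Groth.Agent.Lib.Helper28.SqZeroInv

variable {k : Type u} [Field k] {G : Over (Spec (CommRingCat.of k))} [GrpObj G]
variable {A : Type u} [CommRing A] [Algebra k A]
variable {M : Type u} [AddCommGroup M] [Module A M] [Module k M] [IsScalarTower k A M]

/-- the op action -/
@[reducible] def opMod (A M : Type u) [CommRing A] [AddCommGroup M] [Module A M] : Module Aᵐᵒᵖ M :=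
  Module.compHom M ((RingHom.id A).fromOpposite fun _ _ => mul_comm _ _)

attribute [local instance] opMod

instance central (A M : Type u) [CommRing A] [AddCommGroup M] [Module A M] : IsCentralScalar A M :=
  ⟨fun _ _ => rfl⟩

instance towerOp : IsScalarTower k Aᵐᵒᵖ M :=
  ⟨fun c a m => by
    change (MulOpposite.unop (c • a)) • m = c • (MulOpposite.unop a • m)
    rw [MulOpposite.unop_smul, smul_assoc]⟩

abbrev T (A M : Type u) [CommRing A] [AddCommGroup M] [Module A M] := TrivSqZeroExt A M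

example : CommRing (T A M) := inferInstance
example : Algebra k (T A M) := inferInstance
example : Algebra A (T A M) := inferInstance
example : IsScalarTower k A (T A M) := inferInstance

variable (A M) in
/-- `B ⊗ T ≃ (B ⊗ A) × (B ⊗ M)` -/
noncomputable def e (B : Type u) [CommRing B] [Algebra k B] :
    B ⊗[k] T A M ≃ₗ[B] (B ⊗[k] A) × (B ⊗[k] M) :=
  TensorProduct.prodRight k B B A M

@[simp] theorem e_tmul (B : Type u) [CommRing B] [Algebra k B] (b : B) (t : T A M) :
    e A M B (b ⊗ₜ[k] t) = (b ⊗ₜ[k] t.fst, b ⊗ₜ[k] t.snd) := rfl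

@[simp] theorem e_symm_tmul (B : Type u) [CommRing B] [Algebra k B] (b : B) (a : A) (m : M) :
    (e A M B).symm (b ⊗ₜ[k] a, b ⊗ₜ[k] m) = b ⊗ₜ[k] (TrivSqZeroExt.inl a + TrivSqZeroExt.inr m : T A M) := by
  rw [LinearEquiv.symm_apply_eq, e_tmul]
  simp

theorem e_Wmap {B B' : Type u} [CommRing B] [Algebra k B] [CommRing B'] [Algebra k B']
    (φ : B →ₐ[k] B') (x : B ⊗[k] T A M) :
    e A M B' (VecGrp.Wmap (M := T A M) φ x) =
      (VecGrp.Wmap (M := A) φ (e A M B x).1, VecGrp.Wmap (M := M) φ (e A M B x).2) := by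
  induction x using TensorProduct.induction_on with
  | zero => simp only [map_zero]; rfl
  | tmul b t => simp
  | add x y hx hy => simp only [map_add, hx, hy, Prod.fst_add, Prod.snd_add, Prod.mk_add_mk]

theorem Wmap_e_symm {B B' : Type u} [CommRing B] [Algebra k B] [CommRing B'] [Algebra k B']
    (φ : B →ₐ[k] B') (p : B ⊗[k] A) (q : B ⊗[k] M) :
    VecGrp.Wmap (M := T A M) φ ((e A M B).symm (p, q)) =
      (e A M B').symm (VecGrp.Wmap (M := A) φ p, VecGrp.Wmap (M := M) φ q) := by
  rw [LinearEquiv.eq_symm_apply, e_Wmap, LinearEquiv.apply_symm_apply]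

/-- the diagonal action on the square-zero extension -/
noncomputable def rho (ρA : VecGrp.GMod G A) (ρM : VecGrp.GMod G M) : VecGrp.GMod G (T A M) where
  ρ B _ _ :=
    { toFun := fun g => ((e A M B).trans ((ρA.ρ B g).prodCongr (ρM.ρ B g))).trans (e A M B).symm
      map_one' := by
        ext x
        simp
      map_mul' := fun g h => by
        ext x
        simp }
  naturality := by
    intro B B' _ _ _ _ φ g x
    change VecGrp.Wmap (M := T A M) φ ((e A M B).symm (ρA.ρ B g (e A M B x).1, ρM.ρ B g (e A M B x).2)) =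
      (e A M B').symm (ρA.ρ B' (VecGrp.ptMap φ ≫ g) (e A M B' (VecGrp.Wmap (M := T A M) φ x)).1,
        ρM.ρ B' (VecGrp.ptMap φ ≫ g) (e A M B' (VecGrp.Wmap (M := T A M) φ x)).2)
    rw [Wmap_e_symm, e_Wmap, ρA.naturality, ρM.naturality]

@[simp] theorem e_rho (ρA : VecGrp.GMod G A) (ρM : VecGrp.GMod G M) (B : Type u) [CommRing B] [Algebra k B]
    (g : VecGrp.pt k B ⟶ G) (x : B ⊗[k] T A M) :
    e A M B ((rho ρA ρM).ρ B g x) = (ρA.ρ B g (e A M B x).1, ρM.ρ B g (e A M B x).2) := by
  change e A M B ((e A M B).symm _) = _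
  rw [LinearEquiv.apply_symm_apply]
  rfl

theorem e_mul (B : Type u) [CommRing B] [Algebra k B] (x y : B ⊗[k] T A M) :
    e A M B (x * y) = ((e A M B x).1 * (e A M B y).1,
      VecGrp.GMod.smulW k A M B (e A M B x).1 (e A M B y).2 +
        VecGrp.GMod.smulW k A M B (e A M B y).1 (e A M B x).2) := by
  induction x using TensorProduct.induction_on with
  | zero => simp only [zero_mul, map_zero]; ext <;> simp
  | add x x' hx hx' =>
    simp only [add_mul, map_add, hx, hx', Prod.fst_add, Prod.snd_add, Prod.mk_add_mk,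
      LinearMap.add_apply]
    ext
    · rfl
    · simp only; abel
  | tmul b t =>
    induction y using TensorProduct.induction_on with
    | zero => simp only [mul_zero, map_zero]; ext <;> simp
    | add y y' hy hy' =>
      simp only [mul_add, map_add, hy, hy', Prod.fst_add, Prod.snd_add, Prod.mk_add_mk,
        LinearMap.add_apply]
      ext
      · rfl
      · simp only; abel
    | tmul b' t' =>
      rw [Algebra.TensorProduct.tmul_mul_tmul, e_tmul, e_tmul, e_tmul]
      simp only [Algebra.TensorProduct.tmul_mul_tmul, TrivSqZeroExt.fst_mul, TrivSqZeroExt.snd_mul]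
      ext
      · rfl
      · simp only [VecGrp.GMod.smulW, TensorProduct.map₂_apply_tmul,
          TensorProduct.tmul_add]
        congr 1
        rw [TensorProduct.map_tmul, mul_comm b b']
        rfl

theorem e_one (B : Type u) [CommRing B] [Algebra k B] :
    e A M B (1 : B ⊗[k] T A M) = (1, 0) := by
  rw [Algebra.TensorProduct.one_def, e_tmul]
  ext
  · rfl
  · simp

theorem rho_isMult (ρA : VecGrp.GMod G A) (ρM : VecGrp.GMod G M) (hρ : ρA.IsMult)
    (hc : VecGrp.GMod.IsCompat ρA ρM) : (rho ρA ρM).IsMult := by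
  intro B _ _ g
  refine ⟨fun x y => ?_, ?_⟩
  · apply (e A M B).injective
    rw [e_rho, e_mul, e_mul, e_rho, e_rho]
    simp only [map_add, (hρ B g).1, hc B g]
  · apply (e A M B).injective
    rw [e_rho]
    change (ρA.ρ B g (e A M B (1 : B ⊗[k] T A M)).1, ρM.ρ B g (e A M B (1 : B ⊗[k] T A M)).2) =
      e A M B (1 : B ⊗[k] T A M)
    rw [e_one]
    simp only [map_zero]
    rw [(hρ B g).2]

theorem finiteType_T [Algebra.FiniteType k A] [Module.Finite A M] : Algebra.FiniteType k (T A M) := by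
  have : Module.Finite A (T A M) := inferInstanceAs (Module.Finite A (A × M))
  exact Algebra.FiniteType.trans (inferInstance : Algebra.FiniteType k A) inferInstance

theorem mem_fixedUnder_rho (ρA : VecGrp.GMod G A) (ρM : VecGrp.GMod G M) (x : T A M) :
    x ∈ (rho ρA ρM).fixedUnder (𝟙 G) ↔
      x.fst ∈ ρA.fixedUnder (𝟙 G) ∧ x.snd ∈ ρM.fixedUnder (𝟙 G) := by
  constructor
  · intro hx
    refine ⟨fun B _ _ h => ?_, fun B _ _ h => ?_⟩
    · have := congrArg (fun z => (e A M B z).1) (hx B h)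
      simpa using this
    · have := congrArg (fun z => (e A M B z).2) (hx B h)
      simpa using this
  · rintro ⟨h1, h2⟩ B _ _ h
    apply (e A M B).injective
    rw [e_rho, e_tmul, h1 B h, h2 B h]

theorem main (hG : VecGrp.IsReductiveGrp k G) (thmA : VecGrp.ReductiveInvariantsFG k)
    [Algebra.FiniteType k A] (ρA : VecGrp.GMod G A) (hρ : ρA.IsMult)
    [Module.Finite A M] (ρM : VecGrp.GMod G M) (hc : VecGrp.GMod.IsCompat ρA ρM) :
    ∃ s : Finset M, (↑s : Set M) ⊆ ρM.fixedUnder (𝟙 G) ∧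
      ρM.fixedUnder (𝟙 G) ≤
        (Submodule.span ↥(ρA.fixedSubalgebra hρ (𝟙 G)) (↑s : Set M)).restrictScalars k := by
  classical
  obtain ⟨s, hs1, hs2⟩ := thmA G hG (T A M) (rho ρA ρM) (rho_isMult ρA ρM hρ hc) finiteType_T
  refine ⟨s.image TrivSqZeroExt.snd, ?_, ?_⟩
  · intro m hm
    rw [Finset.coe_image] at hm
    obtain ⟨x, hx, rfl⟩ := hm
    exact ((mem_fixedUnder_rho ρA ρM x).1 (hs1 hx)).2
  · intro m hm
    set N := Submodule.span ↥(ρA.fixedSubalgebra hρ (𝟙 G)) (↑(s.image TrivSqZeroExt.snd) : Set M) with hN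
    have hfs : ∀ a : A, a ∈ ρA.fixedUnder (𝟙 G) → a ∈ ρA.fixedSubalgebra hρ (𝟙 G) := fun a ha => ha
    have hsm : ∀ (a : A) (n : M), a ∈ ρA.fixedSubalgebra hρ (𝟙 G) → n ∈ N → a • n ∈ N :=
      fun a n ha hn => N.smul_mem (⟨a, ha⟩ : ↥(ρA.fixedSubalgebra hρ (𝟙 G))) hn
    let S' : Subalgebra k (T A M) :=
      { carrier := {x | x.fst ∈ ρA.fixedSubalgebra hρ (𝟙 G) ∧ x.snd ∈ N}
        mul_mem' := by
          rintro x y ⟨hx1, hx2⟩ ⟨hy1, hy2⟩
          refine ⟨?_, ?_⟩
          · rw [TrivSqZeroExt.fst_mul]; exact mul_mem hx1 hy1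
          · rw [TrivSqZeroExt.snd_mul]
            exact N.add_mem (hsm _ _ hx1 hy2) (hsm _ _ hy1 hx2)
        one_mem' := ⟨by rw [TrivSqZeroExt.fst_one]; exact one_mem _, by
          rw [TrivSqZeroExt.snd_one]; exact N.zero_mem⟩
        add_mem' := by
          rintro x y ⟨hx1, hx2⟩ ⟨hy1, hy2⟩
          exact ⟨by rw [TrivSqZeroExt.fst_add]; exact add_mem hx1 hy1, by
            rw [TrivSqZeroExt.snd_add]; exact N.add_mem hx2 hy2⟩
        zero_mem' := ⟨by rw [TrivSqZeroExt.fst_zero]; exact zero_mem _, by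
          rw [TrivSqZeroExt.snd_zero]; exact N.zero_mem⟩
        algebraMap_mem' := fun c => by
          rw [TrivSqZeroExt.algebraMap_eq_inl']
          exact ⟨by rw [TrivSqZeroExt.fst_inl]; exact Subalgebra.algebraMap_mem _ c, by
            rw [TrivSqZeroExt.snd_inl]; exact N.zero_mem⟩ }
    have h1 : Algebra.adjoin k (↑s : Set (T A M)) ≤ S' :=
      Algebra.adjoin_le fun x hx =>
        ⟨hfs _ ((mem_fixedUnder_rho ρA ρM x).1 (hs1 hx)).1,
          Submodule.subset_span (Finset.mem_coe.2 (Finset.mem_image_of_mem _ (Finset.mem_coe.1 hx)))⟩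
    have h2 : (TrivSqZeroExt.inr m : T A M) ∈ (rho ρA ρM).fixedUnder (𝟙 G) :=
      (mem_fixedUnder_rho ρA ρM _).2
        ⟨by rw [TrivSqZeroExt.fst_inr]; exact zero_mem _, by rw [TrivSqZeroExt.snd_inr]; exact hm⟩
    have h3 := (h1 (hs2 h2)).2
    rw [TrivSqZeroExt.snd_inr] at h3
    exact h3

end Groth.Agent.Lib.Helper28.SqZeroInv
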