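import Mathlib
import Groth.Agent.Lib.Helper28.MatPart

/-! Stability of point configurations in `P(V)` via coverings by bases (Rado–Horn). -/

namespace Groth.Agent.Lib.Helper28.StableConfig

open Groth.Agent.Lib.Helper28.MatPart

universe u

variable {K : Type u} [Field K] {V : Type u} [AddCommGroup V] [Module K V] [FiniteDimensional K V]

section DoubleCount

variable {ι : Type*} [DecidableEq ι]

lemma sum_card_inter (P : Multiset (Finset ι)) (T : Finset ι) :
    (P.map (fun S => (S ∩ T).card)).sum =
      ∑ j ∈ T, Multiset.card (P.filter (fun S => j ∈ S)) := by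
  induction P using Multiset.induction_on with
  | empty => simp
  | cons S P ih =>
    rw [Multiset.map_cons, Multiset.sum_cons, ih]
    have h1 : ∀ j, Multiset.card ((S ::ₘ P).filter (fun S => j ∈ S)) =
        (if j ∈ S then 1 else 0) + Multiset.card (P.filter (fun S => j ∈ S)) := by
      intro j
      by_cases hj : j ∈ S
      · rw [Multiset.filter_cons_of_pos (p := fun S => j ∈ S) P hj, Multiset.card_cons, if_pos hj,
          add_comm]
      · rw [Multiset.filter_cons_of_neg (p := fun S => j ∈ S) P hj, if_neg hj, zero_add]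
    simp_rw [h1]
    rw [Finset.sum_add_distrib]
    congr 1
    rw [Finset.sum_ite_mem, Finset.inter_comm]
    simp

lemma card_inter_le_finrank (x : ι → V) (S T : Finset ι)
    (hS : LinearIndependent K (fun j : S => x j)) (L : Submodule K V) (hT : ∀ j ∈ T, x j ∈ L) :
    (S ∩ T).card ≤ Module.finrank K L := by
  have hmem : ∀ j : (S ∩ T : Finset ι), (j : ι) ∈ S := fun j => (Finset.mem_inter.mp j.2).1
  have h1 : LinearIndependent K (fun j : (S ∩ T : Finset ι) => x j) := by
    have := hS.comp (fun j : (S ∩ T : Finset ι) => (⟨j.1, hmem j⟩ : S)) (by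
      intro a b hab
      apply Subtype.ext
      have := congrArg (fun z : S => (z : ι)) hab
      exact this)
    exact this
  let f : (S ∩ T : Finset ι) → L := fun j => ⟨x j, hT j (Finset.mem_inter.mp j.2).2⟩
  have h2 : LinearIndependent K f := by
    apply LinearIndependent.of_comp L.subtype
    exact h1
  have := h2.fintype_card_le_finrank
  simpa using this

end DoubleCount

section Cover

variable {ι : Type} [Fintype ι] [DecidableEq ι]

lemma exists_bases_of_weights (x : ι → V) (w : ι → ℕ) (M : ℕ)
    (hcard : ∑ j, w j = M * Module.finrank K V)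
    (H : ∀ A : Finset (Σ j, Fin (w j)),
      A.card ≤ M * Module.finrank K (Submodule.span K
        ((fun p : Σ j, Fin (w j) => x p.1) '' (A : Set (Σ j, Fin (w j)))))) :
    ∃ S : Fin M → Finset ι,
      (∀ t, (S t).card = Module.finrank K V ∧ LinearIndependent K (fun j : S t => x j)) ∧
      ∀ j, (Finset.univ.filter (fun t => j ∈ S t)).card = w j := by
  classical
  obtain ⟨c, hc⟩ :=
    exists_linearIndependent_partition (K := K) (fun p : Σ j, Fin (w j) => x p.1) M H
  have hinj : ∀ p q : Σ j, Fin (w j), c p = c q → p.1 = q.1 → p = q := by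
    intro p q hpq h1
    have := (hc (c q)).injective (a₁ := ⟨p, hpq⟩) (a₂ := ⟨q, rfl⟩) (by
      change x p.1 = x q.1
      rw [h1])
    exact congrArg Subtype.val this
  let S : Fin M → Finset ι := fun t =>
    (Finset.univ.filter (fun p : Σ j, Fin (w j) => c p = t)).image Sigma.fst
  have hScard : ∀ t, (S t).card =
      (Finset.univ.filter (fun p : Σ j, Fin (w j) => c p = t)).card := by
    intro t
    apply Finset.card_image_of_injOn
    intro p hp q hq h
    rw [Finset.mem_coe, Finset.mem_filter] at hp hq
    exact hinj p q (hp.2.trans hq.2.symm) h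
  have hSli : ∀ t, LinearIndependent K (fun j : S t => x j) := by
    intro t
    have hmem : ∀ p : {p : Σ j, Fin (w j) // c p = t}, p.1.1 ∈ S t := fun p =>
      Finset.mem_image.mpr ⟨p.1, Finset.mem_filter.mpr ⟨Finset.mem_univ _, p.2⟩, rfl⟩
    let e : {p : Σ j, Fin (w j) // c p = t} → S t := fun p => ⟨p.1.1, hmem p⟩
    have he : Function.Bijective e := by
      constructor
      · intro p q hpq
        apply Subtype.ext
        exact hinj p.1 q.1 (p.2.trans q.2.symm) (congrArg (fun z : S t => (z : ι)) hpq)
      · rintro ⟨j, hj⟩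
        obtain ⟨p, hp, rfl⟩ := Finset.mem_image.mp hj
        exact ⟨⟨p, (Finset.mem_filter.mp hp).2⟩, rfl⟩
    have := hc t
    rw [← linearIndependent_equiv (Equiv.ofBijective e he)]
    exact this
  have hle : ∀ t, (S t).card ≤ Module.finrank K V := by
    intro t
    have := (hSli t).fintype_card_le_finrank
    simpa using this
  have htotal : ∑ t, (S t).card = ∑ _t : Fin M, Module.finrank K V := by
    simp_rw [hScard]
    rw [← Finset.card_eq_sum_card_fiberwise (f := c) (s := Finset.univ) (t := Finset.univ)
      (fun _ _ => Finset.mem_univ _)]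
    rw [Finset.card_univ, Fintype.card_sigma]
    simp [hcard]
  have heq := (Finset.sum_eq_sum_iff_of_le (fun t _ => hle t)).mp htotal
  refine ⟨S, fun t => ⟨heq t (Finset.mem_univ _), hSli t⟩, ?_⟩
  intro j
  have hset : Finset.univ.filter (fun t => j ∈ S t) =
      (Finset.univ : Finset (Fin (w j))).image (fun s => c ⟨j, s⟩) := by
    ext t
    simp only [Finset.mem_filter, Finset.mem_univ, true_and, Finset.mem_image, S]
    constructor
    · rintro ⟨p, hp, rfl⟩
      obtain ⟨j', s⟩ := p
      exact ⟨s, hp⟩
    · rintro ⟨s, rfl⟩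
      exact ⟨⟨j, s⟩, rfl, rfl⟩
  rw [hset, Finset.card_image_of_injective, Finset.card_univ, Fintype.card_fin]
  intro s s' h
  have := hinj ⟨j, s⟩ ⟨j, s'⟩ h rfl
  simpa using this

end Cover

section Main

variable (m : ℕ) (x : Fin (m + 1) → V)

theorem stable_of_cover
    (h : ∃ N N₀ : ℕ, 0 < N₀ ∧ N₀ ≤ N ∧
        ∀ i : Fin (m + 1), ∃ P : Multiset (Finset (Fin (m + 1))), P ≠ 0 ∧
          (∀ S ∈ P, S.card = Module.finrank K V ∧ LinearIndependent K (fun j : S => x j)) ∧
          ∀ j : Fin (m + 1),
            Multiset.card (P.filter (fun S => j ∈ S)) = if j = i then N - N₀ else N)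
    (L : Submodule K V) (hL0 : L ≠ ⊥) (hL1 : L ≠ ⊤) :
    Set.ncard {i : Fin (m + 1) | x i ∈ L} * Module.finrank K V <
      Module.finrank K L * (m + 1) := by
  classical
  obtain ⟨N, N₀, hN₀, hle, hP⟩ := h
  have hdn : Module.finrank K L < Module.finrank K V :=
    Submodule.finrank_lt hL1
  have hdpos : 0 < Module.finrank K L := by
    have : Nontrivial L := (Submodule.nontrivial_iff_ne_bot).mpr hL0
    exact Module.finrank_pos
  set T : Finset (Fin (m + 1)) := Finset.univ.filter (fun j => x j ∈ L) with hT
  have hTmem : ∀ j ∈ T, x j ∈ L := fun j hj => (Finset.mem_filter.mp hj).2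
  have hncard : Set.ncard {i : Fin (m + 1) | x i ∈ L} = T.card := by
    rw [← Set.ncard_coe_finset T]
    congr 1
    ext i
    simp [hT]
  have hex : ∃ i, i ∉ T := by
    by_contra hcon
    push Not at hcon
    obtain ⟨P, hP0, hPS, -⟩ := hP 0
    obtain ⟨S, hS⟩ := Multiset.exists_mem_of_ne_zero hP0
    obtain ⟨hSc, hSli⟩ := hPS S hS
    have := card_inter_le_finrank x S T hSli L hTmem
    have hST : S ∩ T = S := Finset.inter_eq_left.mpr (fun j _ => hcon j)
    rw [hST, hSc] at this
    omega
  obtain ⟨i, hi⟩ := hex
  obtain ⟨P, hP0, hPS, hPc⟩ := hP i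
  have h1 := sum_card_inter P T
  have h2 := sum_card_inter P Finset.univ
  have h3 : (P.map (fun S => (S ∩ Finset.univ).card)).sum =
      Multiset.card P * Module.finrank K V := by
    have : P.map (fun S => (S ∩ Finset.univ).card) = P.map (fun _ => Module.finrank K V) := by
      apply Multiset.map_congr rfl
      intro S hS
      rw [Finset.inter_univ]
      exact (hPS S hS).1
    rw [this, Multiset.map_const', Multiset.sum_replicate, smul_eq_mul]
  have h4 : ∑ j ∈ (Finset.univ : Finset (Fin (m + 1))),
      Multiset.card (P.filter (fun S => j ∈ S)) + N₀ = (m + 1) * N := by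
    simp_rw [hPc]
    rw [← Finset.add_sum_erase _ _ (Finset.mem_univ i), if_pos rfl]
    have : ∑ j ∈ Finset.univ.erase i, (if j = i then N - N₀ else N) =
        ∑ _j ∈ Finset.univ.erase i, N := by
      apply Finset.sum_congr rfl
      intro j hj
      rw [if_neg (Finset.ne_of_mem_erase hj)]
    rw [this, Finset.sum_const, Finset.card_erase_of_mem (Finset.mem_univ i), Finset.card_univ,
      Fintype.card_fin, smul_eq_mul]
    have : m + 1 - 1 = m := rfl
    rw [this]
    have : (m + 1) * N = m * N + N := by ring
    omega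
  have h5 : ∑ j ∈ T, Multiset.card (P.filter (fun S => j ∈ S)) = T.card * N := by
    have : ∑ j ∈ T, Multiset.card (P.filter (fun S => j ∈ S)) = ∑ _j ∈ T, N := by
      apply Finset.sum_congr rfl
      intro j hj
      rw [hPc, if_neg]
      rintro rfl
      exact hi hj
    rw [this, Finset.sum_const, smul_eq_mul]
  have h6 : (P.map (fun S => (S ∩ T).card)).sum ≤ Multiset.card P * Module.finrank K L := by
    have := Multiset.sum_le_card_nsmul (P.map (fun S => (S ∩ T).card)) (Module.finrank K L) (by
      intro y hy
      obtain ⟨S, hS, rfl⟩ := Multiset.mem_map.mp hy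
      exact card_inter_le_finrank x S T (hPS S hS).2 L hTmem)
    rwa [Multiset.card_map, smul_eq_mul] at this
  rw [hncard]
  rw [h2] at h3
  rw [h1, h5] at h6
  set p := Multiset.card P
  set n := Module.finrank K V
  set d := Module.finrank K L
  have hNpos : 0 < N := lt_of_lt_of_le hN₀ hle
  have key : (T.card * n) * N < (d * (m + 1)) * N := by
    calc (T.card * n) * N = (T.card * N) * n := by ring
      _ ≤ (p * d) * n := Nat.mul_le_mul_right _ h6
      _ = d * (p * n) := by ring
      _ < d * ((m + 1) * N) := by
          apply Nat.mul_lt_mul_of_pos_left _ hdpos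
          omega
      _ = (d * (m + 1)) * N := by ring
  exact Nat.lt_of_mul_lt_mul_right key

theorem cover_of_stable (hx : ∀ i, x i ≠ 0)
    (hst : ∀ L : Submodule K V, L ≠ ⊥ → L ≠ ⊤ →
        Set.ncard {i : Fin (m + 1) | x i ∈ L} * Module.finrank K V <
          Module.finrank K L * (m + 1)) :
    ∃ N N₀ : ℕ, 0 < N₀ ∧ N₀ ≤ N ∧
        ∀ i : Fin (m + 1), ∃ P : Multiset (Finset (Fin (m + 1))), P ≠ 0 ∧
          (∀ S ∈ P, S.card = Module.finrank K V ∧ LinearIndependent K (fun j : S => x j)) ∧
          ∀ j : Fin (m + 1),
            Multiset.card (P.filter (fun S => j ∈ S)) = if j = i then N - N₀ else N := by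
  classical
  set n := Module.finrank K V with hn
  have hnpos : 0 < n := by
    have : Nontrivial V := ⟨⟨x 0, 0, hx 0⟩⟩
    exact Module.finrank_pos
  refine ⟨n * (2 * n), n, hnpos, by nlinarith, fun i => ?_⟩
  set N := n * (2 * n) with hN
  set M := 2 * n * (m + 1) - 1 with hM
  have hMpos : 0 < M := by
    have : 2 * 1 * 1 ≤ 2 * n * (m + 1) := by
      apply Nat.mul_le_mul (Nat.mul_le_mul_left 2 hnpos)
      omega
    omega
  have hM1 : M + 1 = 2 * n * (m + 1) := by omega
  set w : Fin (m + 1) → ℕ := fun j => if j = i then N - n else N with hw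
  have hwle : ∀ j, w j ≤ N := by
    intro j
    simp only [hw]
    split_ifs <;> omega
  have hnN : n ≤ N := by nlinarith
  have hsum : ∑ j, w j + n = (m + 1) * N := by
    rw [← Finset.add_sum_erase _ _ (Finset.mem_univ i)]
    have h1 : w i = N - n := by simp [hw]
    have h2 : ∑ j ∈ Finset.univ.erase i, w j = ∑ _j ∈ Finset.univ.erase i, N := by
      apply Finset.sum_congr rfl
      intro j hj
      simp only [hw]
      rw [if_neg (Finset.ne_of_mem_erase hj)]
    rw [h1, h2, Finset.sum_const, Finset.card_erase_of_mem (Finset.mem_univ i), Finset.card_univ,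
      Fintype.card_fin, smul_eq_mul]
    have : m + 1 - 1 = m := rfl
    rw [this]
    have : (m + 1) * N = m * N + N := by ring
    omega
  have hcard : ∑ j, w j = M * n := by
    have : (M + 1) * n = (m + 1) * N := by
      rw [hM1, hN]; ring
    have h3 : (M + 1) * n = M * n + n := by ring
    omega
  obtain ⟨S, hS, hcount⟩ := exists_bases_of_weights (K := K) x w M hcard (by
    intro A
    set L := Submodule.span K
        ((fun p : Σ j, Fin (w j) => x p.1) '' (A : Set (Σ j, Fin (w j)))) with hL
    rcases Finset.eq_empty_or_nonempty A with hA | hA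
    · subst hA
      simp
    have hL0 : L ≠ ⊥ := by
      obtain ⟨p, hp⟩ := hA
      intro hbot
      have : x p.1 ∈ L := Submodule.subset_span ⟨p, hp, rfl⟩
      rw [hbot, Submodule.mem_bot] at this
      exact hx _ this
    by_cases hL1 : L = ⊤
    · rw [hL1, finrank_top, ← hcard]
      calc A.card ≤ (Finset.univ : Finset (Σ j, Fin (w j))).card := Finset.card_le_univ A
        _ = ∑ j, w j := by
          rw [Finset.card_univ, Fintype.card_sigma]
          simp
    · have hstL := hst L hL0 hL1
      set T : Finset (Fin (m + 1)) := Finset.univ.filter (fun j => x j ∈ L) with hT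
      have hncard : Set.ncard {i : Fin (m + 1) | x i ∈ L} = T.card := by
        rw [← Set.ncard_coe_finset T]
        congr 1
        ext i
        simp [hT]
      rw [hncard] at hstL
      have hAsub : A ⊆ T.sigma (fun _ => Finset.univ) := by
        intro p hp
        rw [Finset.mem_sigma]
        refine ⟨Finset.mem_filter.mpr ⟨Finset.mem_univ _, ?_⟩, Finset.mem_univ _⟩
        exact Submodule.subset_span ⟨p, hp, rfl⟩
      have hA1 : A.card ≤ T.card * N := by
        calc A.card ≤ (T.sigma (fun j => (Finset.univ : Finset (Fin (w j))))).card :=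
              Finset.card_le_card hAsub
          _ = ∑ j ∈ T, w j := by
              rw [Finset.card_sigma]
              simp
          _ ≤ ∑ _j ∈ T, N := Finset.sum_le_sum (fun j _ => hwle j)
          _ = T.card * N := by rw [Finset.sum_const, smul_eq_mul]
      set d := Module.finrank K L with hd
      have hdn : d ≤ n := Submodule.finrank_le L
      -- T.card * n + 1 ≤ d * (m+1)
      have h1 : (T.card * n + 1) * (2 * n) ≤ (d * (m + 1)) * (2 * n) :=
        Nat.mul_le_mul_right _ hstL
      have h2 : T.card * N = (T.card * n) * (2 * n) := by rw [hN]; ring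
      have h3 : (M + 1) * d = (d * (m + 1)) * (2 * n) := by rw [hM1]; ring
      have h4 : (M + 1) * d = M * d + d := by ring
      have h5 : (T.card * n + 1) * (2 * n) = (T.card * n) * (2 * n) + 2 * n := by ring
      omega)
  refine ⟨(Finset.univ : Finset (Fin M)).val.map S, ?_, ?_, ?_⟩
  · intro h0
    have := congrArg Multiset.card h0
    rw [Multiset.card_map] at this
    simp at this
    omega
  · intro S' hS'
    obtain ⟨t, -, rfl⟩ := Multiset.mem_map.mp hS'
    exact hS t
  · intro j
    rw [Multiset.filter_map, Multiset.card_map]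
    have := hcount j
    rw [Finset.card_def, Finset.filter_val] at this
    exact this

end Main

end Groth.Agent.Lib.Helper28.StableConfig
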