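import Mathlib.LinearAlgebra.SymmetricAlgebra.Basic
import Mathlib.RingTheory.Smooth.Basic
import Mathlib.RingTheory.FinitePresentation
import Mathlib.RingTheory.Finiteness.Projective

/-!
# The symmetric algebra of a finite projective module is smooth (helper28)

Namespace `Groth.Agent.Lib.Helper28.SymSmooth`.
* `formallySmooth_symmetricAlgebra`: `M` projective => `Sym_R M` formally smooth over `R`.
* `finitePresentation_symmetricAlgebra`: `M` finite projective => `Sym_R M` finitely presented.
* `smooth_symmetricAlgebra`.
-/

set_option autoImplicit false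
universe u

namespace Groth.Agent.Lib.Helper28.SymSmooth

variable (R : Type u) [CommRing R] (M : Type u) [AddCommGroup M] [Module R M]

theorem formallySmooth_symmetricAlgebra [Module.Projective R M] :
    Algebra.FormallySmooth R (SymmetricAlgebra R M) := by
  apply Algebra.FormallySmooth.of_comp_surjective
  intro B _ _ I hI f
  obtain ⟨l, hl⟩ := Module.projective_lifting_property (Ideal.Quotient.mkₐ R I).toLinearMap
    (f.toLinearMap ∘ₗ SymmetricAlgebra.ι R M) Ideal.Quotient.mk_surjective
  refine ⟨SymmetricAlgebra.lift l, ?_⟩
  apply SymmetricAlgebra.algHom_ext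
  ext m
  have := LinearMap.congr_fun hl m
  simpa using this

theorem finitePresentation_symmetricAlgebra [Module.Finite R M] [Module.Projective R M] :
    Algebra.FinitePresentation R (SymmetricAlgebra R M) := by
  classical
  obtain ⟨n, f, g, -, -, hfg⟩ := Module.Finite.exists_comp_eq_id_of_projective R M
  let e : Fin n → (Fin n → R) := fun k j => if k = j then 1 else 0
  let r : MvPolynomial (Fin n) R →ₐ[R] SymmetricAlgebra R M :=
    MvPolynomial.aeval (fun k => SymmetricAlgebra.ι R M (f (e k)))
  let lin : M →ₗ[R] MvPolynomial (Fin n) R :=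
    ∑ k, ((LinearMap.proj k).comp g).smulRight (MvPolynomial.X k : MvPolynomial (Fin n) R)
  let i : SymmetricAlgebra R M →ₐ[R] MvPolynomial (Fin n) R := SymmetricAlgebra.lift lin
  have hlin : ∀ m, lin m = ∑ k, (g m k) • (MvPolynomial.X k : MvPolynomial (Fin n) R) := by
    intro m
    simp [lin, LinearMap.sum_apply]
  have hri' : ∀ m, r (i (SymmetricAlgebra.ι R M m)) = SymmetricAlgebra.ι R M m := by
    intro m
    have h1 : f (g m) = m := LinearMap.congr_fun hfg m
    have h2 : f (g m) = ∑ k, (g m k) • f (e k) := LinearMap.pi_apply_eq_sum_univ f (g m)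
    have h3 : i (SymmetricAlgebra.ι R M m) = lin m := SymmetricAlgebra.lift_ι_apply lin m
    rw [h3, hlin, map_sum]
    have h4 : ∀ k, r ((g m k) • (MvPolynomial.X k : MvPolynomial (Fin n) R)) =
        (g m k) • SymmetricAlgebra.ι R M (f (e k)) := by
      intro k
      rw [map_smul]
      congr 1
      exact MvPolynomial.aeval_X _ k
    simp_rw [h4]
    conv_rhs => rw [← h1, h2, map_sum]
    simp_rw [map_smul]
  have hri : r.comp i = AlgHom.id R _ := by
    apply SymmetricAlgebra.algHom_ext
    ext m
    exact hri' m
  have hsurj : Function.Surjective r := fun x => ⟨i x, by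
    have := AlgHom.congr_fun hri x
    simpa using this⟩
  let gen : Fin n → MvPolynomial (Fin n) R := fun k => MvPolynomial.X k - i (r (MvPolynomial.X k))
  have hker : RingHom.ker r.toRingHom = Ideal.span (Set.range gen) := by
    apply le_antisymm
    · intro p hp
      have hp' : r p = 0 := hp
      have hφ : (Ideal.Quotient.mkₐ R (Ideal.span (Set.range gen))) =
          (Ideal.Quotient.mkₐ R (Ideal.span (Set.range gen))).comp (i.comp r) := by
        apply MvPolynomial.algHom_ext
        intro k
        simp only [AlgHom.comp_apply, Ideal.Quotient.mkₐ_eq_mk]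
        rw [Ideal.Quotient.eq]
        exact Ideal.subset_span ⟨k, rfl⟩
      have h3 := AlgHom.congr_fun hφ p
      simp only [AlgHom.comp_apply, hp', map_zero, Ideal.Quotient.mkₐ_eq_mk] at h3
      exact Ideal.Quotient.eq_zero_iff_mem.mp h3
    · rw [Ideal.span_le]
      rintro _ ⟨k, rfl⟩
      change r (gen k) = 0
      have := AlgHom.congr_fun hri (r (MvPolynomial.X k))
      simp only [AlgHom.comp_apply, AlgHom.id_apply] at this
      simp [gen, this]
  have hfg' : (RingHom.ker r.toRingHom).FG := by
    rw [hker]
    exact Submodule.fg_span (Set.finite_range gen)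
  exact Algebra.FinitePresentation.of_surjective (f := r) hsurj hfg'

theorem smooth_symmetricAlgebra [Module.Finite R M] [Module.Projective R M] :
    Algebra.Smooth R (SymmetricAlgebra R M) :=
  { formallySmooth := formallySmooth_symmetricAlgebra R M
    finitePresentation := finitePresentation_symmetricAlgebra R M }

end Groth.Agent.Lib.Helper28.SymSmooth
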