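import Mathlib
import Groth.Prelude.Def_W4c3tautjacobianRel

set_option autoImplicit false
open MvPolynomial W4c3tautjacobian

namespace Groth.Agent.Lib.Helper28.TautJac

variable (g : ℕ)

/-- general integer weight on the variables -/
def ω (α β : ℤ) : Var g → ℤ
  | none => 2 * β
  | some p => α * (p.1.1 : ℤ) + β * (p.1.2 : ℤ)

/-- homogeneity for the integer weight -/
abbrev Hom (α β : ℤ) (P : RelRing g) (z : ℤ) : Prop := IsWeightedHomogeneous (ω g α β) P z

variable {g}

lemma Hom.of_eq {α β : ℤ} {P : RelRing g} {z z' : ℤ} (h : Hom g α β P z) (e : z = z') :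
    Hom g α β P z' := e ▸ h

lemma xv_hom (α β : ℤ) (i j : ℤ) : Hom g α β (xv g i j) (α * i + β * j) := by
  unfold xv
  split_ifs with h1 h2
  · obtain ⟨rfl, rfl⟩ := h1
    have : ((g : ℕ) : RelRing g) = C (g : ℚ) := by simp
    rw [this]
    simpa using isWeightedHomogeneous_C (ω g α β) (g : ℚ)
  · have := isWeightedHomogeneous_X ℚ (ω g α β) (some ⟨(i.toNat, j.toNat), h2.2.2⟩)
    refine Hom.of_eq this ?_
    simp only [ω]
    rw [Int.toNat_of_nonneg h2.1, Int.toNat_of_nonneg h2.2.1]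
  · exact isWeightedHomogeneous_zero ℚ _ _

lemma dv_hom {α β : ℤ} {P : RelRing g} {z : ℤ} (h : Hom g α β P z) (p : ℕ × ℕ) :
    Hom g α β (dv g p P) (z - (α * p.1 + β * p.2)) := by
  unfold dv
  split_ifs with hp
  · exact IsWeightedHomogeneous.pderiv h (by simp [ω])
  · exact isWeightedHomogeneous_zero ℚ _ _

lemma y_hom (α β : ℤ) : Hom g α β (X none : RelRing g) (2 * β) :=
  isWeightedHomogeneous_X ℚ (ω g α β) none

lemma natCast_hom (α β : ℤ) (n : ℕ) : Hom g α β ((n : ℕ) : RelRing g) 0 := by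
  have : ((n : ℕ) : RelRing g) = C (n : ℚ) := by simp
  rw [this]
  exact isWeightedHomogeneous_C (ω g α β) (n : ℚ)

lemma smul_hom {α β : ℤ} {P : RelRing g} {z : ℤ} (h : Hom g α β P z) (c : ℚ) :
    Hom g α β (c • P) z :=
  (weightedHomogeneousSubmodule ℚ (ω g α β) z).smul_mem c h

theorem F_hom {α β : ℤ} {P : RelRing g} {z : ℤ} (h : Hom g α β P z) :
    Hom g α β (F g P) (z - 2 * α) := by
  unfold F
  apply IsWeightedHomogeneous.add
  · apply smul_hom
    apply IsWeightedHomogeneous.sum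
    intro p _
    apply IsWeightedHomogeneous.sum
    intro q _
    have hd := dv_hom (dv_hom h q) p
    have h1 : Hom g α β (X none * xv g ((p.1 : ℤ) - 1) ((p.2 : ℤ) - 1)
          * xv g ((q.1 : ℤ) - 1) ((q.2 : ℤ) - 1)) (α * p.1 + β * p.2 + (α * q.1 + β * q.2) - 2 * α) :=
      Hom.of_eq (((y_hom α β).mul (xv_hom α β _ _)).mul (xv_hom α β _ _)) (by ring)
    have h2 : Hom g α β ((mergeCoeff p.1 q.1 : RelRing g)
        * xv g ((p.1 : ℤ) + q.1 - 2) ((p.2 : ℤ) + q.2))
        (α * p.1 + β * p.2 + (α * q.1 + β * q.2) - 2 * α) :=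
      Hom.of_eq ((natCast_hom α β _).mul (xv_hom α β _ _)) (by ring)
    exact Hom.of_eq ((h1.sub h2).mul hd) (by ring)
  · apply IsWeightedHomogeneous.sum
    intro p _
    exact Hom.of_eq ((xv_hom α β _ _).mul (dv_hom h p)) (by ring)

end Groth.Agent.Lib.Helper28.TautJac
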