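import Groth.Agent.Lib.Helper28.TautJac9

set_option autoImplicit false
open MvPolynomial W4c3tautjacobian

namespace Groth.Agent.Lib.Helper28.TautJac

variable {g : ℕ}

/-- the (positive) variable at a pair of naturals -/
noncomputable def V (g : ℕ) (a b : ℕ) : RelRing g := xvp g (a : ℤ) (b : ℤ)

lemma V_of_valid {a b : ℕ} (h : Valid g (a, b)) : V g a b = X (some ⟨(a, b), h⟩) := by
  unfold V xvp
  have h' : (0:ℤ) ≤ (a : ℤ) ∧ (0:ℤ) ≤ (b : ℤ) ∧ Valid g ((a : ℤ).toNat, (b : ℤ).toNat) :=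
    ⟨by positivity, by positivity, by simpa using h⟩
  rw [dif_pos h']
  congr 2

lemma V_nonneg (a b : ℕ) : Nonneg (V g a b) := by
  have := (Nonneg.xvp_mul (g := g) (P := 1) (fun d => by
    classical
    rw [coeff_one]; split_ifs <;> norm_num) (a : ℤ) (b : ℤ))
  rwa [mul_one] at this

lemma dv_V_self {a b : ℕ} (h : Valid g (a, b)) : dv g (a, b) (V g a b) = 1 := by
  rw [V_of_valid h]
  unfold dv
  rw [dif_pos h, pderiv_X_self]

lemma dv_V_ne {a b : ℕ} {p : ℕ × ℕ} (hp : p ≠ (a, b)) : dv g p (V g a b) = 0 := by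
  classical
  by_cases h : Valid g (a, b)
  · rw [V_of_valid h]
    unfold dv
    split_ifs with hp'
    · rw [pderiv_X_of_ne]
      intro hh
      apply hp
      have := Option.some.inj hh
      exact (congrArg Subtype.val this).symm
    · rfl
  · have : V g a b = 0 := by
      unfold V xvp
      rw [dif_neg]
      rintro ⟨-, -, h'⟩
      exact h (by simpa using h')
    rw [this, dv_zero]

lemma dv_natCast (p : ℕ × ℕ) (n : ℕ) : dv g p ((n : ℕ) : RelRing g) = 0 := by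
  have : ((n : ℕ) : RelRing g) = C (n : ℚ) := by simp
  unfold dv
  split_ifs
  · rw [this, pderiv_C]
  · rfl

lemma dv_pow (p : ℕ × ℕ) (A : RelRing g) (k : ℕ) :
    dv g p (A ^ k) = (k : RelRing g) * A ^ (k - 1) * dv g p A := by
  unfold dv
  split_ifs
  · rw [pderiv_pow]
  · simp

lemma mergeCoeff_pos {i k : ℕ} (hi : 1 ≤ i) (hk : 1 ≤ k) : 0 < mergeCoeff i k := by
  unfold mergeCoeff
  rw [if_neg (by omega)]
  apply Nat.choose_pos
  omega

lemma natCast_mul_eq_smul (n : ℕ) (Q : RelRing g) : (n : RelRing g) * Q = (n : ℚ) • Q := by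
  rw [Algebra.smul_def]; simp

lemma Tm_first (h31 : Valid g (3, 1)) (K : ℕ) :
    Tm g (3, 1) (3, 1) (V g 3 1 ^ K)
      = ((mergeCoeff 3 3 : ℚ) * K * ((K - 1 : ℕ) : ℚ)) • (V g 4 2 * V g 3 1 ^ (K - 2)) := by
  unfold Tm
  have e : xvp g ((((3, 1) : ℕ × ℕ).1 : ℤ) + (((3, 1) : ℕ × ℕ).1 : ℕ) - 2)
      ((((3, 1) : ℕ × ℕ).2 : ℤ) + (((3, 1) : ℕ × ℕ).2 : ℕ)) = V g 4 2 := by
    unfold V; norm_num
  rw [e, dv_pow, dv_V_self h31, mul_one, dv_mul, dv_natCast, zero_mul, zero_add, dv_pow,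
    dv_V_self h31, mul_one]
  have e2 : K - 1 - 1 = K - 2 := by omega
  rw [e2]
  simp only [natCast_mul_eq_smul, smul_mul_assoc, mul_smul_comm, smul_smul]
  congr 1
  ring

lemma Tm_step {a b : ℕ} (hab : Valid g (a, b)) (h31 : Valid g (3, 1)) (hne : (a, b) ≠ (3, 1))
    (k : ℕ) :
    Tm g (a, b) (3, 1) (V g a b * V g 3 1 ^ k)
      = ((mergeCoeff a 3 : ℚ) * k) • (V g (a + 1) (b + 1) * V g 3 1 ^ (k - 1)) := by
  unfold Tm
  have e : xvp g ((((a, b) : ℕ × ℕ).1 : ℤ) + (((3, 1) : ℕ × ℕ).1 : ℕ) - 2)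
      ((((a, b) : ℕ × ℕ).2 : ℤ) + (((3, 1) : ℕ × ℕ).2 : ℕ)) = V g (a + 1) (b + 1) := by
    unfold V
    congr 1 <;> push_cast <;> ring
  have hne' : ((3, 1) : ℕ × ℕ) ≠ (a, b) := fun h => hne h.symm
  rw [e, dv_mul, dv_V_ne hne', zero_mul, zero_add, dv_pow, dv_V_self h31, mul_one,
    dv_mul, dv_V_self hab, one_mul, dv_mul, dv_natCast, zero_mul, zero_add, dv_pow,
    dv_V_ne hne, mul_zero, mul_zero, mul_zero, add_zero]
  simp only [natCast_mul_eq_smul, smul_mul_assoc, mul_smul_comm, smul_smul]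
  rw [mul_comm]

lemma Tl_step {a b : ℕ} (hab : Valid g (a + 2, b)) :
    Tl g (a + 2, b) (V g (a + 2) b) = (1 : ℚ) • V g a b := by
  unfold Tl
  have e : xvp g ((((a + 2, b) : ℕ × ℕ).1 : ℤ) - 2) ((((a + 2, b) : ℕ × ℕ).2 : ℕ) : ℤ)
      = V g a b := by
    unfold V
    congr 1; push_cast; ring
  rw [e, dv_V_self hab, mul_one, one_smul]

end Groth.Agent.Lib.Helper28.TautJac
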