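import Groth.Agent.Lib.Helper28.TautJac10

set_option autoImplicit false
open MvPolynomial W4c3tautjacobian

namespace Groth.Agent.Lib.Helper28.TautJac

variable {g : ℕ}

lemma Nonneg.mul {P Q : RelRing g} (hP : Nonneg P) (hQ : Nonneg Q) : Nonneg (P * Q) := fun d => by
  classical
  rw [coeff_mul]
  exact Finset.sum_nonneg fun x _ => mul_nonneg (hP _) (hQ _)

lemma Nonneg.one : Nonneg (1 : RelRing g) := fun d => by
  classical
  rw [coeff_one]; split_ifs <;> norm_num

lemma Nonneg.pow {P : RelRing g} (hP : Nonneg P) (n : ℕ) : Nonneg (P ^ n) := by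
  induction n with
  | zero => rw [pow_zero]; exact Nonneg.one
  | succ n ih => rw [pow_succ]; exact ih.mul hP

lemma Dom.refl (M : RelRing g) : Dom M M := ⟨1, one_pos, by rw [one_smul, sub_self]; exact Nonneg.zero⟩

lemma valid_z {i : ℕ} (hig : 2 * i + 2 ≤ 2 * g) (r : ℕ) (h1 : 1 ≤ r) (h2 : r ≤ 2 * i) :
    Valid g (r + 2, r) := by
  refine ⟨le_refl _, by simp only; omega, ⟨r + 1, by simp only; omega⟩, ?_⟩
  intro h
  have := congrArg Prod.snd h
  simp at this
  omega

lemma valid_u {i : ℕ} (hi : 1 ≤ i) (hig : 2 * i + 2 ≤ 2 * g) (s : ℕ) (hs : s ≤ i + 1) :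
    Valid g (2 * i + 2 - 2 * s, 2 * i) := by
  refine ⟨by simp only; omega, by simp only; omega, ⟨2 * i + 1 - s, by simp only; omega⟩, ?_⟩
  intro h
  have := congrArg Prod.snd h
  simp at this
  omega

theorem chain1 {i : ℕ} (hi : 1 ≤ i) (hig : 2 * i + 2 ≤ 2 * g) (n : ℕ) (hn : n + 2 ≤ 2 * i) :
    Dom ((Fh g)^[n + 1] (V g 3 1 ^ (2 * i))) (V g (n + 4) (n + 2) * V g 3 1 ^ (2 * i - 2 - n)) := by
  have h31 : Valid g (3, 1) := valid_z hig 1 (le_refl _) (by omega)
  have hM0 : Nonneg (V g 3 1 ^ (2 * i)) := (V_nonneg 3 1).pow _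
  induction n with
  | zero =>
    rw [Function.iterate_succ_apply', Function.iterate_zero, id]
    refine Dom.step_merge hM0 (Dom.refl _) (valid_mem_idx h31) (valid_mem_idx h31) ?_
      (Tm_first h31 (2 * i))
    have : 0 < mergeCoeff 3 3 := mergeCoeff_pos (by norm_num) (by norm_num)
    have h1 : (0 : ℚ) < (mergeCoeff 3 3 : ℚ) := by exact_mod_cast this
    have h2 : (0 : ℚ) < ((2 * i : ℕ) : ℚ) := by exact_mod_cast (by omega : 0 < 2 * i)
    have h3 : (0 : ℚ) < ((2 * i - 1 : ℕ) : ℚ) := by exact_mod_cast (by omega : 0 < 2 * i - 1)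
    positivity
  | succ n ih =>
    have ih' := ih (by omega)
    rw [Function.iterate_succ_apply']
    have hab : Valid g (n + 4, n + 2) := valid_z hig (n + 2) (by omega) (by omega)
    have hne : ((n + 4, n + 2) : ℕ × ℕ) ≠ (3, 1) := by
      intro h
      have := congrArg Prod.snd h
      simp at this
    have key := Tm_step hab h31 hne (2 * i - 2 - n)
    have e1 : 2 * i - 2 - n - 1 = 2 * i - 2 - (n + 1) := by omega
    rw [e1] at key
    refine Dom.step_merge (Fh_iterate_nonneg hM0 _) ih' (valid_mem_idx hab) (valid_mem_idx h31)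
      ?_ key
    have : 0 < mergeCoeff (n + 4) 3 := mergeCoeff_pos (by omega) (by norm_num)
    have h1 : (0 : ℚ) < (mergeCoeff (n + 4) 3 : ℚ) := by exact_mod_cast this
    have h2 : (0 : ℚ) < ((2 * i - 2 - n : ℕ) : ℚ) := by
      exact_mod_cast (by omega : 0 < 2 * i - 2 - n)
    positivity

theorem chain2 {i : ℕ} (hi : 1 ≤ i) (hig : 2 * i + 2 ≤ 2 * g) (s : ℕ) (hs : s ≤ i + 1) :
    Dom ((Fh g)^[2 * i - 1 + s] (V g 3 1 ^ (2 * i))) (V g (2 * i + 2 - 2 * s) (2 * i)) := by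
  have hM0 : Nonneg (V g 3 1 ^ (2 * i)) := (V_nonneg 3 1).pow _
  induction s with
  | zero =>
    have := chain1 hi hig (2 * i - 2) (by omega)
    have e1 : 2 * i - 2 + 1 = 2 * i - 1 + 0 := by omega
    have e2 : 2 * i - 2 + 4 = 2 * i + 2 - 2 * 0 := by omega
    have e3 : 2 * i - 2 + 2 = 2 * i := by omega
    have e4 : 2 * i - 2 - (2 * i - 2) = 0 := by omega
    rw [e1, e2, e3, e4, pow_zero, mul_one] at this
    exact this
  | succ s ih =>
    have ih' := ih (by omega)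
    have e1 : 2 * i - 1 + (s + 1) = (2 * i - 1 + s) + 1 := by omega
    rw [e1, Function.iterate_succ_apply']
    have hv := valid_u hi hig s (by omega)
    have e2 : 2 * i + 2 - 2 * s = (2 * i + 2 - 2 * (s + 1)) + 2 := by omega
    rw [e2] at hv ih'
    exact Dom.step_lower (Fh_iterate_nonneg hM0 _) ih' (valid_mem_idx hv) one_pos (Tl_step hv)

theorem coeff_chain_pos {i : ℕ} (hi : 1 ≤ i) (hig : 2 * i + 2 ≤ 2 * g) :
    ∃ h : Valid g (0, 2 * i),
      0 < coeff (Finsupp.single (some ⟨(0, 2 * i), h⟩ : Var g) 1)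
        ((Fh g)^[3 * i] (V g 3 1 ^ (2 * i))) := by
  have hv := valid_u hi hig (i + 1) (le_refl _)
  have e0 : 2 * i + 2 - 2 * (i + 1) = 0 := by omega
  rw [e0] at hv
  refine ⟨hv, ?_⟩
  obtain ⟨a, ha, hN⟩ := chain2 hi hig (i + 1) (le_refl _)
  have e1 : 2 * i - 1 + (i + 1) = 3 * i := by omega
  rw [e0, e1, V_of_valid hv] at hN
  have := hN (Finsupp.single (some ⟨(0, 2 * i), hv⟩ : Var g) 1)
  rw [coeff_sub, coeff_smul, coeff_X, if_pos rfl, smul_eq_mul, mul_one] at this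
  linarith

end Groth.Agent.Lib.Helper28.TautJac
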