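import Groth.Agent.Lib.Helper28.TautJac11

set_option autoImplicit false
open MvPolynomial W4c3tautjacobian

namespace Groth.Agent.Lib.Helper28.TautJac

variable {g : ℕ}

/-- variables `x i j` with `1 ≤ j` -/
def Spos (g : ℕ) : Set (Var g) := {v | ∃ p : {p : ℕ × ℕ // Valid g p}, v = some p ∧ 1 ≤ p.1.2}

lemma pderiv_mem_supported {s : Set (Var g)} {Q : RelRing g} (hQ : Q ∈ supported ℚ s)
    (v : Var g) : pderiv v Q ∈ supported ℚ s := by
  classical
  rw [supported_eq_adjoin_X] at hQ ⊢
  induction hQ using Algebra.adjoin_induction with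
  | mem x hx =>
    obtain ⟨u, hu, rfl⟩ := hx
    rw [pderiv_X]
    by_cases h : u = v
    · subst h; simp only [Pi.single_eq_same]; exact Subalgebra.one_mem _
    · rw [Pi.single_apply, if_neg h]; exact Subalgebra.zero_mem _
  | algebraMap r =>
    have : (algebraMap ℚ (RelRing g)) r = C r := rfl
    rw [this, pderiv_C]; exact Subalgebra.zero_mem _
  | add x y _ _ hx hy => rw [map_add]; exact Subalgebra.add_mem _ hx hy
  | mul x y hx' hy' hx hy =>
    rw [pderiv_mul]
    exact Subalgebra.add_mem _ (Subalgebra.mul_mem _ hx hy') (Subalgebra.mul_mem _ hx' hy)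

lemma pderiv_eq_zero_of_supported {s : Set (Var g)} {Q : RelRing g} (hQ : Q ∈ supported ℚ s)
    {v : Var g} (hv : v ∉ s) : pderiv v Q = 0 := by
  apply pderiv_eq_zero_of_notMem_vars
  intro h
  exact hv (mem_supported.mp hQ h)

lemma dv_mem_supported {s : Set (Var g)} {Q : RelRing g} (hQ : Q ∈ supported ℚ s)
    (p : ℕ × ℕ) : dv g p Q ∈ supported ℚ s := by
  unfold dv
  split_ifs
  · exact pderiv_mem_supported hQ _
  · exact Subalgebra.zero_mem _

lemma dv_eq_zero_of_supported {Q : RelRing g} (hQ : Q ∈ supported ℚ (Spos g))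
    {p : ℕ × ℕ} (hp : ¬ (Valid g p ∧ 1 ≤ p.2)) : dv g p Q = 0 := by
  unfold dv
  split_ifs with h
  · apply pderiv_eq_zero_of_supported hQ
    rintro ⟨p', hp', h1⟩
    have := Option.some.inj hp'
    subst this
    exact hp ⟨h, h1⟩
  · rfl

lemma xvp_mem_supported {i j : ℤ} (hj : 1 ≤ j) : xvp g i j ∈ supported ℚ (Spos g) := by
  unfold xvp
  split_ifs with h
  · rw [X_mem_supported]
    refine ⟨_, rfl, ?_⟩
    simp only
    omega
  · exact Subalgebra.zero_mem _

theorem Fh_mem_supported {Q : RelRing g} (hQ : Q ∈ supported ℚ (Spos g)) :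
    Fh g Q ∈ supported ℚ (Spos g) := by
  unfold Fh
  apply Subalgebra.add_mem
  · apply Subalgebra.smul_mem
    apply Subalgebra.sum_mem
    intro p _
    apply Subalgebra.sum_mem
    intro q _
    by_cases hq : Valid g q ∧ 1 ≤ q.2
    · by_cases hp : Valid g p ∧ 1 ≤ p.2
      · apply Subalgebra.mul_mem
        · apply Subalgebra.mul_mem
          · exact Subalgebra.natCast_mem _ _
          · apply xvp_mem_supported
            have h1 := hp.2
            have h2 := hq.2
            omega
        · exact dv_mem_supported (dv_mem_supported hQ q) p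
      · rw [dv_eq_zero_of_supported (dv_mem_supported hQ q) hp, mul_zero]
        exact Subalgebra.zero_mem _
    · rw [dv_eq_zero_of_supported hQ hq, dv_zero, mul_zero]
      exact Subalgebra.zero_mem _
  · apply Subalgebra.sum_mem
    intro p _
    by_cases hp : Valid g p ∧ 1 ≤ p.2
    · apply Subalgebra.mul_mem
      · apply xvp_mem_supported
        have h1 := hp.2
        omega
      · exact dv_mem_supported hQ p
    · rw [dv_eq_zero_of_supported hQ hp, mul_zero]
      exact Subalgebra.zero_mem _

lemma Fh_iterate_mem_supported {Q : RelRing g} (hQ : Q ∈ supported ℚ (Spos g)) (n : ℕ) :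
    (Fh g)^[n] Q ∈ supported ℚ (Spos g) := by
  induction n with
  | zero => exact hQ
  | succ n ih => rw [Function.iterate_succ_apply']; exact Fh_mem_supported ih

theorem θ_F_iterate (hg : 1 ≤ g) {M : RelRing g} (hM : θ g M ∈ supported ℚ (Spos g)) (n : ℕ) :
    θ g ((F g)^[n] M) = (Fh g)^[n] (θ g M) := by
  induction n with
  | zero => rfl
  | succ n ih =>
    rw [Function.iterate_succ_apply', Function.iterate_succ_apply', θ_F hg, ih]
    have := Fh_iterate_mem_supported hM n
    rw [dv_eq_zero_of_supported this (by simp), mul_zero, sub_zero]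

end Groth.Agent.Lib.Helper28.TautJac
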