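import Groth.Agent.Lib.Helper28.TautJac12

set_option autoImplicit false
open MvPolynomial W4c3tautjacobian

namespace Groth.Agent.Lib.Helper28.TautJac

variable {g : ℕ}

lemma θ_monomial (e : Var g →₀ ℕ) :
    ∃ s : ℚ, ∀ a : ℚ, θ g (monomial e a) = monomial e (s * a) := by
  classical
  induction e using Finsupp.induction with
  | zero =>
    refine ⟨1, fun a => ?_⟩
    rw [one_mul]
    change θ g (C a) = C a
    simp
  | single_add v n e' hv hn ih =>
    obtain ⟨s', hs'⟩ := ih
    have hsplit : ∀ a : ℚ, (monomial (Finsupp.single v n + e') a : RelRing g)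
        = X v ^ n * monomial e' a := by
      intro a
      rw [X_pow_eq_monomial, monomial_mul, one_mul]
    cases v with
    | none =>
      refine ⟨0, fun a => ?_⟩
      rw [hsplit, map_mul, map_pow, θ_X_none, zero_pow hn, zero_mul, zero_mul, monomial_zero]
    | some p =>
      refine ⟨(-1) ^ n * s', fun a => ?_⟩
      rw [hsplit, map_mul, map_pow, θ_X_some, hs', neg_pow, X_pow_eq_monomial]
      have : ((-1 : RelRing g)) ^ n = C ((-1 : ℚ) ^ n) := by simp
      rw [this, mul_assoc, monomial_mul, C_mul_monomial]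
      congr 1
      ring

lemma coeff_θ_single (p : {p : ℕ × ℕ // Valid g p}) (P : RelRing g) :
    coeff (Finsupp.single (some p : Var g) 1) (θ g P)
      = -coeff (Finsupp.single (some p : Var g) 1) P := by
  classical
  induction P using MvPolynomial.induction_on' with
  | monomial e a =>
    by_cases he : e = Finsupp.single (some p : Var g) 1
    · subst he
      have : (monomial (Finsupp.single (some p : Var g) 1) a : RelRing g) = C a * X (some p) := by
        rw [C_mul_X_eq_monomial]
      rw [this, map_mul, θ_X_some, mul_neg, coeff_neg]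
      congr 1
      simp
    · obtain ⟨s, hs⟩ := θ_monomial e
      rw [hs, coeff_monomial, coeff_monomial, if_neg he, if_neg he, neg_zero]
  | add P Q hP hQ =>
    rw [map_add, coeff_add, coeff_add, hP, hQ]; ring

theorem coeff_F_iterate_ne_zero (hg : 1 ≤ g) {i : ℕ} (hi : 1 ≤ i) (hig : 2 * i + 2 ≤ 2 * g) :
    ∃ h : Valid g (0, 2 * i),
      coeff (Finsupp.single (some ⟨(0, 2 * i), h⟩ : Var g) 1)
        ((F g)^[3 * i] (V g 3 1 ^ (2 * i))) ≠ 0 := by
  obtain ⟨h, hpos⟩ := coeff_chain_pos hi hig
  refine ⟨h, ?_⟩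
  have h31 : Valid g (3, 1) := valid_z hig 1 (le_refl _) (by omega)
  have hθM : θ g (V g 3 1 ^ (2 * i)) = V g 3 1 ^ (2 * i) := by
    rw [map_pow, V_of_valid h31, θ_X_some, neg_pow, pow_mul]
    simp
  have hsupp : θ g (V g 3 1 ^ (2 * i)) ∈ supported ℚ (Spos g) := by
    rw [hθM]
    apply Subalgebra.pow_mem
    rw [V_of_valid h31, X_mem_supported]
    exact ⟨_, rfl, le_refl _⟩
  have key := θ_F_iterate hg hsupp (3 * i)
  rw [hθM] at key
  have := coeff_θ_single ⟨(0, 2 * i), h⟩ ((F g)^[3 * i] (V g 3 1 ^ (2 * i)))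
  rw [key] at this
  intro h0
  rw [h0, neg_zero] at this
  linarith

end Groth.Agent.Lib.Helper28.TautJac
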