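import Groth.Agent.Lib.Helper28.TautJac13

set_option autoImplicit false
open MvPolynomial W4c3tautjacobian

namespace Groth.Agent.Lib.Helper28.TautJac

variable {g : ℕ}

/-- elements congruent modulo the relation ideal to a polynomial in the low generators -/
noncomputable def BB (g : ℕ) : Subalgebra ℚ (RelRing g) where
  carrier := {P | ∃ q ∈ Algebra.adjoin ℚ (lowGens g), P - q ∈ relIdeal g}
  mul_mem' := by
    rintro P P' ⟨q, hq, h⟩ ⟨q', hq', h'⟩
    refine ⟨q * q', Subalgebra.mul_mem _ hq hq', ?_⟩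
    have : P * P' - q * q' = (P - q) * P' + q * (P' - q') := by ring
    rw [this]
    exact Ideal.add_mem _ (Ideal.mul_mem_right _ _ h) (Ideal.mul_mem_left _ _ h')
  add_mem' := by
    rintro P P' ⟨q, hq, h⟩ ⟨q', hq', h'⟩
    refine ⟨q + q', Subalgebra.add_mem _ hq hq', ?_⟩
    have : P + P' - (q + q') = (P - q) + (P' - q') := by ring
    rw [this]
    exact Ideal.add_mem _ h h'
  algebraMap_mem' := by
    intro r
    exact ⟨algebraMap ℚ _ r, Subalgebra.algebraMap_mem _ r, by simp⟩

lemma mem_BB_of_mem_adjoin {P : RelRing g} (h : P ∈ Algebra.adjoin ℚ (lowGens g)) : P ∈ BB g :=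
  ⟨P, h, by simp⟩

lemma mem_BB_of_mem_relIdeal {P : RelRing g} (h : P ∈ relIdeal g) : P ∈ BB g :=
  ⟨0, Subalgebra.zero_mem _, by simpa using h⟩

lemma term_le_weight (w : Var g → ℕ) (e : Var g →₀ ℕ) {u : Var g} (hu : u ∈ e.support) :
    e u * w u ≤ Finsupp.weight w e := by
  rw [Finsupp.weight_apply, Finsupp.sum]
  have := Finset.single_le_sum (f := fun u => e u • w u) (fun _ _ => Nat.zero_le _) hu
  simpa using this

lemma w_pos (v : Var g) : 0 < w1 g v + w2 g v := by
  cases v with
  | none => simp [w1, w2, wt]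
  | some p =>
    obtain ⟨⟨a, b⟩, h1, h2, h3, h4⟩ := p
    simp only [w1, w2, wt]
    by_contra h
    apply h4
    ext <;> simp <;> omega

lemma eq_zero_of_weights_zero {e : Var g →₀ ℕ} (h1 : Finsupp.weight (w1 g) e = 0)
    (h2 : Finsupp.weight (w2 g) e = 0) : e = 0 := by
  by_contra he
  obtain ⟨u, hu⟩ := Finsupp.support_nonempty_iff.mpr he
  have t1 := term_le_weight (w1 g) e hu
  have t2 := term_le_weight (w2 g) e hu
  have hpos := w_pos u
  have heu : 0 < e u := Nat.pos_of_ne_zero (Finsupp.mem_support_iff.mp hu)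
  rw [h1] at t1
  rw [h2] at t2
  have : e u * (w1 g u + w2 g u) = 0 := by rw [mul_add]; omega
  rcases Nat.mul_eq_zero.mp this with h | h <;> omega

/-- generators below level `i` -/
def lowSet (g i : ℕ) : Set (RelRing g) :=
  {X none} ∪ {P | ∃ j : ℕ, j < i ∧ P = xv g 0 (2 * (j : ℤ))}

lemma xv_zero_two_mul {j : ℕ} (h : Valid g (0, 2 * j)) :
    xv g 0 (2 * (j : ℤ)) = X (some ⟨(0, 2 * j), h⟩) := by
  have := xv_of_valid h
  simp only [Nat.cast_zero, Nat.cast_mul, Nat.cast_ofNat] at this
  exact this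

lemma monomial_mem {i : ℕ} (hv : Valid g (0, 2 * i)) (e : Var g →₀ ℕ) (a : ℚ)
    (h1 : Finsupp.weight (w1 g) e = 0) (h2 : Finsupp.weight (w2 g) e = 2 * i)
    (hne : e ≠ Finsupp.single (some ⟨(0, 2 * i), hv⟩ : Var g) 1) :
    monomial e a ∈ Algebra.adjoin ℚ (lowSet g i) := by
  classical
  set u₀ : Var g := some ⟨(0, 2 * i), hv⟩ with hu₀
  have he0 : e u₀ = 0 := by
    by_contra hcon
    have hle : Finsupp.single u₀ 1 ≤ e := by
      rw [Finsupp.single_le_iff]
      omega
    have hsplit : e = (e - Finsupp.single u₀ 1) + Finsupp.single u₀ 1 :=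
      (tsub_add_cancel_of_le hle).symm
    have e1 : Finsupp.weight (w1 g) e = Finsupp.weight (w1 g) (e - Finsupp.single u₀ 1)
        + Finsupp.weight (w1 g) (Finsupp.single u₀ 1) := by
      conv_lhs => rw [hsplit]
      rw [map_add]
    have e2 : Finsupp.weight (w2 g) e = Finsupp.weight (w2 g) (e - Finsupp.single u₀ 1)
        + Finsupp.weight (w2 g) (Finsupp.single u₀ 1) := by
      conv_lhs => rw [hsplit]
      rw [map_add]
    rw [Finsupp.weight_single] at e1 e2
    have hw1 : w1 g u₀ = 0 := rfl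
    have hw2 : w2 g u₀ = 2 * i := rfl
    rw [hw1, smul_zero, add_zero] at e1
    rw [hw2, one_smul] at e2
    have hz := eq_zero_of_weights_zero (e := e - Finsupp.single u₀ 1) (by omega) (by omega)
    rw [hz, zero_add] at hsplit
    exact hne hsplit
  rw [monomial_eq]
  apply Subalgebra.mul_mem
  · exact Subalgebra.algebraMap_mem _ a
  · apply Subalgebra.prod_mem
    intro u hu
    apply Subalgebra.pow_mem
    have heu : 0 < e u := Nat.pos_of_ne_zero (Finsupp.mem_support_iff.mp hu)
    have t1 := term_le_weight (w1 g) e hu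
    have t2 := term_le_weight (w2 g) e hu
    rw [h1] at t1
    rw [h2] at t2
    have hw1 : w1 g u = 0 := by
      rcases Nat.mul_eq_zero.mp (Nat.le_zero.mp t1) with h | h
      · omega
      · exact h
    have hune : u ≠ u₀ := by
      rintro rfl
      omega
    cases u with
    | none => exact Algebra.subset_adjoin (Or.inl rfl)
    | some p =>
      obtain ⟨⟨a', b⟩, hp⟩ := p
      have ha' : a' = 0 := hw1
      subst ha'
      obtain ⟨-, -, ⟨k, hk⟩, hp4⟩ := id hp
      simp only at hk
      have hb : b = 2 * k := by omega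
      subst hb
      have hw2u : w2 g (some ⟨(0, 2 * k), hp⟩ : Var g) = 2 * k := rfl
      rw [hw2u] at t2
      have hki : k ≠ i := by
        rintro rfl
        exact hune rfl
      have hk_le : k ≤ i := by nlinarith
      apply Algebra.subset_adjoin
      right
      exact ⟨k, lt_of_le_of_ne hk_le hki, (xv_zero_two_mul hp).symm⟩

lemma decomp {i : ℕ} (hv : Valid g (0, 2 * i)) (Q : RelRing g) (H1 : Hom g 1 0 Q 0)
    (H2 : Hom g 0 1 Q ((2 * i : ℕ) : ℤ)) :
    Q - (coeff (Finsupp.single (some ⟨(0, 2 * i), hv⟩ : Var g) 1) Q) •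
        (X (some ⟨(0, 2 * i), hv⟩) : RelRing g)
      ∈ Algebra.adjoin ℚ (lowSet g i) := by
  classical
  set d : Var g →₀ ℕ := Finsupp.single (some ⟨(0, 2 * i), hv⟩ : Var g) 1 with hd
  have hsum := Q.support_sum_monomial_coeff
  have hmono : (coeff d Q) • (X (some ⟨(0, 2 * i), hv⟩) : RelRing g) = monomial d (coeff d Q) := by
    rw [X, smul_monomial, smul_eq_mul, mul_one]
  have key : Q - (coeff d Q) • (X (some ⟨(0, 2 * i), hv⟩) : RelRing g)
      = ∑ e ∈ Q.support.erase d, monomial e (coeff e Q) := by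
    rw [hmono]
    by_cases hmem : d ∈ Q.support
    · rw [← Finset.add_sum_erase _ _ hmem] at hsum
      rw [sub_eq_iff_eq_add, add_comm]
      exact hsum.symm
    · rw [Finset.erase_eq_of_notMem hmem, hsum, notMem_support_iff.mp hmem, monomial_zero,
        sub_zero]
  rw [key]
  apply Subalgebra.sum_mem
  intro e he
  obtain ⟨hne, hes⟩ := Finset.mem_erase.mp he
  have hc : coeff e Q ≠ 0 := mem_support_iff.mp hes
  have h1 := H1 hc
  have h2 := H2 hc
  rw [weight_ω_one_zero] at h1
  rw [weight_ω_zero_one] at h2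
  exact monomial_mem hv e _ (by exact_mod_cast h1) (by exact_mod_cast h2) hne

end Groth.Agent.Lib.Helper28.TautJac
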