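import Groth.Agent.Lib.Helper28.TautJac14

set_option autoImplicit false
open MvPolynomial W4c3tautjacobian

namespace Groth.Agent.Lib.Helper28.TautJac

variable {g : ℕ}

theorem xv_mem_BB (hg : 1 ≤ g) (i : ℕ) : xv g 0 (2 * (i : ℤ)) ∈ BB g := by
  classical
  induction i using Nat.strong_induction_on with
  | _ i ih =>
    by_cases h0 : i = 0
    · subst h0
      have : xv g 0 (2 * ((0 : ℕ) : ℤ)) = (g : RelRing g) := by
        simp only [Nat.cast_zero, mul_zero]
        exact xv_zero_zero
      rw [this]
      exact Subalgebra.natCast_mem _ g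
    have hi : 1 ≤ i := Nat.one_le_iff_ne_zero.mpr h0
    by_cases hbig : 2 * g < 2 * i + 2
    · have : xv g 0 (2 * (i : ℤ)) = 0 := by
        unfold xv
        rw [if_neg (by omega), dif_neg]
        rintro ⟨-, -, -, h2, -⟩
        simp only at h2
        omega
      rw [this]
      exact Subalgebra.zero_mem _
    push Not at hbig
    by_cases hlow : 3 * i ≤ g
    · apply mem_BB_of_mem_adjoin
      apply Algebra.subset_adjoin
      right
      exact ⟨i, hi, hlow, rfl⟩
    push Not at hlow
    -- the relation case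
    have hig : 2 * i + 2 ≤ 2 * g := hbig
    obtain ⟨hv, hc⟩ := coeff_F_iterate_ne_zero hg hi hig
    have h31 : Valid g (3, 1) := valid_z hig 1 (le_refl _) (by omega)
    set z1 : Var g := some ⟨(3, 1), h31⟩ with hz1
    set P := (F g)^[3 * i] (V g 3 1 ^ (2 * i)) with hP
    have hmon : V g 3 1 ^ (2 * i) = monomial (Finsupp.single z1 (2 * i)) (1 : ℚ) := by
      rw [V_of_valid h31, X_pow_eq_monomial]
    have hPI : P ∈ relIdeal g := by
      apply Ideal.subset_span
      refine ⟨Finsupp.single z1 (2 * i), 3 * i, ?_, by rw [hP, hmon]⟩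
      rw [Finsupp.weight_single]
      have : wt g z1 = (3, 1) := rfl
      rw [this]
      simp only [Prod.smul_fst, smul_eq_mul]
      omega
    have hw1 : Finsupp.weight (w1 g) (Finsupp.single z1 (2 * i)) = 6 * i := by
      rw [Finsupp.weight_single]
      have : w1 g z1 = 3 := rfl
      rw [this, smul_eq_mul]; ring
    have hw2 : Finsupp.weight (w2 g) (Finsupp.single z1 (2 * i)) = 2 * i := by
      rw [Finsupp.weight_single]
      have : w2 g z1 = 1 := rfl
      rw [this, smul_eq_mul]; ring
    have H1 : Hom g 1 0 P 0 := by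
      have := F_iterate_hom (monomial_hom1 (g := g) (Finsupp.single z1 (2 * i))) (3 * i)
      rw [hw1, ← hmon] at this
      exact Hom.of_eq this (by push_cast; ring)
    have H2 : Hom g 0 1 P ((2 * i : ℕ) : ℤ) := by
      have := F_iterate_hom (monomial_hom2 (g := g) (Finsupp.single z1 (2 * i))) (3 * i)
      rw [hw2, ← hmon] at this
      exact Hom.of_eq this (by push_cast; ring)
    have hdec := decomp hv P H1 H2
    have hle : Algebra.adjoin ℚ (lowSet g i) ≤ BB g := by
      apply Algebra.adjoin_le
      rintro x (hx | ⟨j, hj, rfl⟩)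
      · rw [Set.mem_singleton_iff] at hx
        subst hx
        exact mem_BB_of_mem_adjoin (Algebra.subset_adjoin (Or.inl rfl))
      · exact ih j hj
    set c := coeff (Finsupp.single (some ⟨(0, 2 * i), hv⟩ : Var g) 1) P with hcdef
    have h1 : c • (X (some ⟨(0, 2 * i), hv⟩) : RelRing g) ∈ BB g := by
      have : c • (X (some ⟨(0, 2 * i), hv⟩) : RelRing g)
          = P - (P - c • (X (some ⟨(0, 2 * i), hv⟩) : RelRing g)) := by abel
      rw [this]
      exact Subalgebra.sub_mem _ (mem_BB_of_mem_relIdeal hPI) (hle hdec)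
    have h2 := Subalgebra.smul_mem _ h1 c⁻¹
    rw [smul_smul, inv_mul_cancel₀ hc, one_smul] at h2
    rw [xv_zero_two_mul hv]
    exact h2

theorem exists_lowGens_congr (hg : 1 ≤ g) (i : ℕ) :
    ∃ q ∈ Algebra.adjoin ℚ (lowGens g), xv g 0 (2 * (i : ℤ)) - q ∈ relIdeal g :=
  xv_mem_BB hg i

end Groth.Agent.Lib.Helper28.TautJac
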