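import Groth.Agent.Lib.Helper28.TautJac1

set_option autoImplicit false
open MvPolynomial W4c3tautjacobian

namespace Groth.Agent.Lib.Helper28.TautJac

variable {g : ℕ}

lemma dv_add (p : ℕ × ℕ) (A B : RelRing g) : dv g p (A + B) = dv g p A + dv g p B := by
  unfold dv; split_ifs <;> simp

lemma dv_zero (p : ℕ × ℕ) : dv g p (0 : RelRing g) = 0 := by
  unfold dv; split_ifs <;> simp

lemma dv_smul (p : ℕ × ℕ) (c : ℚ) (A : RelRing g) : dv g p (c • A) = c • dv g p A := by
  unfold dv; split_ifs <;> simp

lemma dv_mul (p : ℕ × ℕ) (A B : RelRing g) :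
    dv g p (A * B) = dv g p A * B + A * dv g p B := by
  unfold dv; split_ifs
  · rw [pderiv_mul]
  · simp

lemma dv_sum {ι : Type*} (p : ℕ × ℕ) (s : Finset ι) (A : ι → RelRing g) :
    dv g p (∑ i ∈ s, A i) = ∑ i ∈ s, dv g p (A i) := by
  classical
  induction s using Finset.induction_on with
  | empty => simp [dv_zero]
  | insert a s ha ih => rw [Finset.sum_insert ha, Finset.sum_insert ha, dv_add, ih]

lemma F_add (A B : RelRing g) : F g (A + B) = F g A + F g B := by
  unfold F
  simp only [dv_add, mul_add, Finset.sum_add_distrib, smul_add]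
  abel

lemma F_zero : F g (0 : RelRing g) = 0 := by
  unfold F
  simp [dv_zero]

lemma F_smul (c : ℚ) (A : RelRing g) : F g (c • A) = c • F g A := by
  unfold F
  simp only [dv_smul, mul_smul_comm, ← Finset.smul_sum, smul_add]
  rw [smul_comm]

lemma F_iterate_zero (n : ℕ) : (F g)^[n] (0 : RelRing g) = 0 := by
  induction n with
  | zero => rfl
  | succ n ih => rw [Function.iterate_succ_apply', ih, F_zero]

lemma weight_nonneg {α β : ℤ} (hα : 0 ≤ α) (hβ : 0 ≤ β) (d : Var g →₀ ℕ) :
    0 ≤ Finsupp.weight (ω g α β) d := by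
  rw [Finsupp.weight_apply]
  apply Finsupp.sum_nonneg
  intro v _
  have : 0 ≤ ω g α β v := by
    cases v with
    | none => simp only [ω]; positivity
    | some p => simp only [ω]; positivity
  positivity

lemma eq_zero_of_hom_neg {α β : ℤ} (hα : 0 ≤ α) (hβ : 0 ≤ β) {P : RelRing g} {z : ℤ}
    (h : Hom g α β P z) (hz : z < 0) : P = 0 := by
  by_contra hP
  obtain ⟨d, hd⟩ := ne_zero_iff.mp hP
  have := h hd
  have h0 := weight_nonneg (g := g) hα hβ d
  omega

lemma F_iterate_hom {α β : ℤ} {P : RelRing g} {z : ℤ} (h : Hom g α β P z) (n : ℕ) :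
    Hom g α β ((F g)^[n] P) (z - 2 * α * n) := by
  induction n with
  | zero => simpa using h
  | succ n ih =>
    rw [Function.iterate_succ_apply']
    exact Hom.of_eq (F_hom ih) (by push_cast; ring)

end Groth.Agent.Lib.Helper28.TautJac
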