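import Groth.Agent.Lib.Helper28.TautJac2

set_option autoImplicit false
open MvPolynomial W4c3tautjacobian

namespace Groth.Agent.Lib.Helper28.TautJac

variable {g : ℕ}

/-- the Euler operator for the first degree -/
noncomputable def Eul (P : RelRing g) : RelRing g :=
  ∑ p ∈ idx g, (p.1 : RelRing g) * xv g (p.1 : ℤ) (p.2 : ℤ) * dv g p P

lemma valid20 (hg : 1 ≤ g) : Valid g (2, 0) := by
  refine ⟨by simp, by simp; omega, by decide, by simp⟩

lemma xv20 (hg : 1 ≤ g) : xv g 2 0 = X (some ⟨(2, 0), valid20 hg⟩) := by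
  unfold xv
  have h : (0:ℤ) ≤ 2 ∧ (0:ℤ) ≤ 0 ∧ Valid g ((2:ℤ).toNat, (0:ℤ).toNat) :=
    ⟨by norm_num, le_refl _, by simpa using valid20 hg⟩
  rw [if_neg (by norm_num), dif_pos h]
  congr 2

lemma dv_x20 (hg : 1 ≤ g) (p : ℕ × ℕ) :
    dv g p (xv g 2 0) = if p = (2, 0) then 1 else 0 := by
  classical
  rw [xv20 hg]
  unfold dv
  split_ifs with hp h2 h2
  · subst h2; simp
  · rw [pderiv_X, Pi.single_apply, if_neg]
    intro h
    apply h2
    have := Option.some.inj h
    exact (congrArg Subtype.val this).symm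
  · exact absurd (h2 ▸ valid20 hg) hp
  · rfl

lemma mergeCoeff_two_right (i : ℕ) : mergeCoeff i 2 = i := by
  unfold mergeCoeff
  rcases i with _ | i
  · simp
  · simp [Nat.choose_succ_self_right]

lemma mergeCoeff_two_left (k : ℕ) : mergeCoeff 2 k = k := by
  unfold mergeCoeff
  rcases k with _ | k
  · simp
  · simp

lemma xv_one_neg_one : xv g 1 (-1) = 0 := by
  unfold xv
  rw [if_neg (by norm_num), dif_neg (by norm_num)]

lemma xv_zero_zero : xv g 0 0 = (g : RelRing g) := by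
  unfold xv
  rw [if_pos ⟨rfl, rfl⟩]

lemma mem_idx20 (hg : 1 ≤ g) : ((2, 0) : ℕ × ℕ) ∈ idx g := by
  simp [idx]; omega

/-- the coefficient of the second order part of `F` -/
noncomputable def cF (g : ℕ) (p q : ℕ × ℕ) : RelRing g :=
  X none * xv g ((p.1 : ℤ) - 1) ((p.2 : ℤ) - 1) * xv g ((q.1 : ℤ) - 1) ((q.2 : ℤ) - 1)
    - (mergeCoeff p.1 q.1 : RelRing g) * xv g ((p.1 : ℤ) + q.1 - 2) ((p.2 : ℤ) + q.2)

lemma F_eq (P : RelRing g) :
    F g P = (1 / 2 : ℚ) • (∑ p ∈ idx g, ∑ q ∈ idx g, cF g p q * dv g p (dv g q P))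
      + ∑ p ∈ idx g, xv g ((p.1 : ℤ) - 2) (p.2 : ℤ) * dv g p P := rfl

lemma cF_right20 (p : ℕ × ℕ) :
    cF g p (2, 0) = -((p.1 : RelRing g) * xv g (p.1 : ℤ) (p.2 : ℤ)) := by
  unfold cF
  have h1 : xv g (((2, 0) : ℕ × ℕ).1 - 1 : ℤ) (((2, 0) : ℕ × ℕ).2 - 1 : ℤ) = 0 := by
    have : xv g (((2, 0) : ℕ × ℕ).1 - 1 : ℤ) (((2, 0) : ℕ × ℕ).2 - 1 : ℤ) = xv g 1 (-1) := by
      norm_num
    rw [this, xv_one_neg_one]
  rw [h1, mul_zero, zero_sub, mergeCoeff_two_right]
  congr 3 <;> simp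

lemma cF_left20 (q : ℕ × ℕ) :
    cF g (2, 0) q = -((q.1 : RelRing g) * xv g (q.1 : ℤ) (q.2 : ℤ)) := by
  unfold cF
  have h1 : xv g (((2, 0) : ℕ × ℕ).1 - 1 : ℤ) (((2, 0) : ℕ × ℕ).2 - 1 : ℤ) = 0 := by
    have : xv g (((2, 0) : ℕ × ℕ).1 - 1 : ℤ) (((2, 0) : ℕ × ℕ).2 - 1 : ℤ) = xv g 1 (-1) := by
      norm_num
    rw [this, xv_one_neg_one]
  rw [h1, mul_zero, zero_mul, zero_sub, mergeCoeff_two_left]
  congr 3 <;> simp

theorem F_E (hg : 1 ≤ g) (P : RelRing g) :
    F g (xv g 2 0 * P) = xv g 2 0 * F g P + (g : RelRing g) * P - Eul P := by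
  classical
  set x := xv g 2 0 with hx
  have key1 : ∀ q, dv g q (x * P) = (if q = (2, 0) then P else 0) + x * dv g q P := by
    intro q
    rw [dv_mul, hx, dv_x20 hg]
    split_ifs <;> simp
  have key2 : ∀ p q, dv g p (dv g q (x * P)) =
      (if q = (2, 0) then dv g p P else 0) + (if p = (2, 0) then dv g q P else 0)
        + x * dv g p (dv g q P) := by
    intro p q
    rw [key1, dv_add, dv_mul, hx, dv_x20 hg]
    split_ifs <;> simp [dv_zero, add_assoc]
  have h20 := mem_idx20 hg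
  -- second order part
  have S2 : ∑ p ∈ idx g, ∑ q ∈ idx g, cF g p q * dv g p (dv g q (x * P)) =
      x * (∑ p ∈ idx g, ∑ q ∈ idx g, cF g p q * dv g p (dv g q P)) - 2 * Eul P := by
    have part1 : ∑ p ∈ idx g, ∑ q ∈ idx g, cF g p q * (if q = (2, 0) then dv g p P else 0) =
        - Eul P := by
      unfold Eul
      rw [← Finset.sum_neg_distrib]
      apply Finset.sum_congr rfl
      intro p _
      rw [Finset.sum_eq_single (2, 0)]
      · rw [if_pos rfl, cF_right20]; ring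
      · intro q _ hq; rw [if_neg hq, mul_zero]
      · intro h; exact absurd h20 h
    have part2 : ∑ p ∈ idx g, ∑ q ∈ idx g, cF g p q * (if p = (2, 0) then dv g q P else 0) =
        - Eul P := by
      rw [Finset.sum_eq_single (2, 0)]
      · unfold Eul
        rw [← Finset.sum_neg_distrib]
        apply Finset.sum_congr rfl
        intro q _
        rw [if_pos rfl, cF_left20]; ring
      · intro p _ hp
        apply Finset.sum_eq_zero
        intro q _
        rw [if_neg hp, mul_zero]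
      · intro h; exact absurd h20 h
    have part3 : ∑ p ∈ idx g, ∑ q ∈ idx g, cF g p q * (x * dv g p (dv g q P)) =
        x * (∑ p ∈ idx g, ∑ q ∈ idx g, cF g p q * dv g p (dv g q P)) := by
      rw [Finset.mul_sum]
      apply Finset.sum_congr rfl
      intro p _
      rw [Finset.mul_sum]
      apply Finset.sum_congr rfl
      intro q _
      ring
    simp only [key2, mul_add, Finset.sum_add_distrib]
    rw [part1, part2, part3]
    ring
  have S1 : ∑ p ∈ idx g, xv g ((p.1 : ℤ) - 2) (p.2 : ℤ) * dv g p (x * P) =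
      (g : RelRing g) * P + x * ∑ p ∈ idx g, xv g ((p.1 : ℤ) - 2) (p.2 : ℤ) * dv g p P := by
    simp only [key1, mul_add, Finset.sum_add_distrib]
    congr 1
    · rw [Finset.sum_eq_single (2, 0)]
      · rw [if_pos rfl]
        have : xv g ((((2, 0) : ℕ × ℕ).1 : ℤ) - 2) ((((2, 0) : ℕ × ℕ).2 : ℕ) : ℤ) = xv g 0 0 := by
          norm_num
        rw [this, xv_zero_zero]
      · intro p _ hp; rw [if_neg hp, mul_zero]
      · intro h; exact absurd h20 h
    · rw [Finset.mul_sum]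
      apply Finset.sum_congr rfl
      intro p _
      ring
  rw [F_eq, F_eq, S2, S1, smul_sub, mul_add, ← mul_smul_comm]
  have : (1 / 2 : ℚ) • (2 * Eul P) = Eul P := by
    rw [two_mul, ← two_smul ℚ (Eul P), smul_smul]; norm_num
  rw [this]
  ring

end Groth.Agent.Lib.Helper28.TautJac
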