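import Groth.Agent.Lib.Helper28.TautJac3

set_option autoImplicit false
open MvPolynomial W4c3tautjacobian

namespace Groth.Agent.Lib.Helper28.TautJac

variable {g : ℕ}

lemma valid_mem_idx {p : ℕ × ℕ} (hp : Valid g p) : p ∈ idx g := by
  obtain ⟨h1, h2, -, -⟩ := hp
  simp only [idx, Finset.mem_product, Finset.mem_range]
  omega

noncomputable instance instFintypeValid (g : ℕ) : Fintype {p : ℕ × ℕ // Valid g p} :=
  Fintype.subtype ((idx g).filter (Valid g)) (by
    intro p
    simp only [Finset.mem_filter]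
    exact ⟨fun h => h.2, fun h => ⟨valid_mem_idx h, h⟩⟩)

/-- first degree, natural number valued -/
def w1 (g : ℕ) : Var g → ℕ := fun v => (wt g v).1

lemma ω_one_zero (v : Var g) : ω g 1 0 v = (w1 g v : ℤ) := by
  cases v with
  | none => simp [ω, w1, wt]
  | some p => simp [ω, w1, wt]

lemma weight_ω_one_zero (d : Var g →₀ ℕ) :
    Finsupp.weight (ω g 1 0) d = ((Finsupp.weight (w1 g) d : ℕ) : ℤ) := by
  rw [Finsupp.weight_apply, Finsupp.weight_apply, Finsupp.sum, Finsupp.sum, Nat.cast_sum]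
  apply Finset.sum_congr rfl
  intro v _
  rw [ω_one_zero]
  simp

lemma hom_nat_of_hom {P : RelRing g} {m : ℕ} (h : Hom g 1 0 P (m : ℤ)) :
    IsWeightedHomogeneous (w1 g) P m := by
  intro d hd
  have := h hd
  rw [weight_ω_one_zero] at this
  exact_mod_cast this

lemma xv_of_valid {p : ℕ × ℕ} (hp : Valid g p) :
    xv g (p.1 : ℤ) (p.2 : ℤ) = X (some ⟨p, hp⟩) := by
  unfold xv
  have h0 : ¬ ((p.1 : ℤ) = 0 ∧ (p.2 : ℤ) = 0) := by
    rintro ⟨h1, h2⟩
    apply hp.2.2.2
    ext <;> simp <;> omega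
  have h : (0:ℤ) ≤ (p.1 : ℤ) ∧ (0:ℤ) ≤ (p.2 : ℤ) ∧ Valid g ((p.1 : ℤ).toNat, (p.2 : ℤ).toNat) :=
    ⟨by positivity, by positivity, by simpa using hp⟩
  rw [if_neg h0, dif_pos h]
  congr 2

theorem Eul_eq {P : RelRing g} {z : ℤ} (h : Hom g 1 0 P z) : Eul P = (z : ℚ) • P := by
  classical
  by_cases hz : z < 0
  · have := eq_zero_of_hom_neg (le_of_lt one_pos) (le_refl _) h hz
    subst this
    simp [Eul, dv_zero]
  push Not at hz
  obtain ⟨m, rfl⟩ := Int.eq_ofNat_of_zero_le hz
  have hE := (hom_nat_of_hom h).sum_weight_X_mul_pderiv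
  rw [Fintype.sum_option] at hE
  have h0 : w1 g none = 0 := rfl
  rw [h0, zero_smul, zero_add] at hE
  have hsum : Eul P = ∑ p : {p : ℕ × ℕ // Valid g p},
      w1 g (some p) • (X (some p) * pderiv (some p) P) := by
    unfold Eul
    have e1 : ∀ p ∈ idx g, (p.1 : RelRing g) * xv g (p.1 : ℤ) (p.2 : ℤ) * dv g p P =
        if hp : Valid g p then
          w1 g (some ⟨p, hp⟩) • (X (some ⟨p, hp⟩) * pderiv (some ⟨p, hp⟩) P) else 0 := by
      intro p _
      split_ifs with hp
      · rw [xv_of_valid hp]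
        unfold dv
        rw [dif_pos hp, nsmul_eq_mul]
        simp only [w1, wt]
        ring
      · unfold dv
        rw [dif_neg hp, mul_zero]
    rw [Finset.sum_congr rfl e1]
    rw [← Finset.sum_filter_add_sum_filter_not (idx g) (Valid g)]
    have hz2 : ∑ p ∈ (idx g).filter (fun p => ¬ Valid g p),
        (if hp : Valid g p then
          w1 g (some ⟨p, hp⟩) • (X (some ⟨p, hp⟩) * pderiv (some ⟨p, hp⟩) P) else 0) = 0 := by
      apply Finset.sum_eq_zero
      intro p hp
      rw [dif_neg (Finset.mem_filter.mp hp).2]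
    rw [hz2, add_zero]
    rw [Finset.sum_subtype ((idx g).filter (Valid g)) (p := Valid g) (by
      intro p
      simp only [Finset.mem_filter]
      exact ⟨fun h => h.2, fun h => ⟨valid_mem_idx h, h⟩⟩)]
    apply Finset.sum_congr rfl
    intro p _
    rw [dif_pos p.property]
  rw [hsum, hE]
  simp [Nat.cast_smul_eq_nsmul]

end Groth.Agent.Lib.Helper28.TautJac
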