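import Groth.Agent.Lib.Helper28.TautJac4

set_option autoImplicit false
open MvPolynomial W4c3tautjacobian

namespace Groth.Agent.Lib.Helper28.TautJac

variable {g : ℕ}

lemma E_zero : E g (0 : RelRing g) = 0 := by unfold E; simp

lemma E_smul (c : ℚ) (P : RelRing g) : E g (c • P) = c • E g P := by
  unfold E; rw [mul_smul_comm]

lemma E_hom {α β : ℤ} {P : RelRing g} {z : ℤ} (h : Hom g α β P z) :
    Hom g α β (E g P) (z + 2 * α) := by
  unfold E
  exact Hom.of_eq ((xv_hom α β 2 0).mul h) (by ring)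

theorem F_E_hom (hg : 1 ≤ g) {P : RelRing g} {z : ℤ} (h : Hom g 1 0 P z) :
    F g (E g P) = E g (F g P) + ((g : ℚ) - z) • P := by
  unfold E
  rw [F_E hg, Eul_eq h, sub_smul]
  have : (g : RelRing g) * P = (g : ℚ) • P := by
    rw [Algebra.smul_def]; simp
  rw [this]
  abel

theorem F_iterate_E (hg : 1 ≤ g) {w : RelRing g} {z : ℤ} (h : Hom g 1 0 w z) (N : ℕ) :
    (F g)^[N + 1] (E g w) = E g ((F g)^[N + 1] w)
      + (((N : ℚ) + 1) * ((g : ℚ) - z + N)) • (F g)^[N] w := by
  induction N with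
  | zero =>
    simp only [Function.iterate_succ, Function.iterate_zero, Function.comp_apply, id_eq,
      Nat.cast_zero, zero_add, add_zero, one_mul]
    exact F_E_hom hg h
  | succ N ih =>
    rw [Function.iterate_succ_apply' (F g) (N + 1) (E g w), ih, F_add, F_smul]
    have hN := F_iterate_hom h (N + 1)
    rw [F_E_hom hg hN]
    rw [Function.iterate_succ_apply' (F g) (N + 1) w, Function.iterate_succ_apply' (F g) N w]
    rw [add_assoc, ← add_smul]
    congr 2
    push_cast
    ring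

lemma weight_fst (d : Var g →₀ ℕ) :
    (Finsupp.weight (wt g) d).1 = Finsupp.weight (w1 g) d := by
  rw [Finsupp.weight_apply, Finsupp.weight_apply, Finsupp.sum, Finsupp.sum, Prod.fst_sum]
  apply Finset.sum_congr rfl
  intro v _
  simp [w1]

lemma hom1_of_bihom {P : RelRing g} {m n : ℕ}
    (h : IsWeightedHomogeneous (wt g) P ((m, n) : ℕ × ℕ)) : Hom g 1 0 P (m : ℤ) := by
  intro d hd
  have := h hd
  rw [weight_ω_one_zero, ← weight_fst, this]

theorem F_iterate_E_eq_zero (hg : 1 ≤ g) {β : RelRing g} (h : Hom g 1 0 β (2 * g : ℤ)) :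
    (F g)^[g + 1] (E g β) = 0 := by
  rw [F_iterate_E hg h g]
  have h1 : (F g)^[g + 1] β = 0 := by
    have := F_iterate_hom h (g + 1)
    exact eq_zero_of_hom_neg (le_of_lt one_pos) (le_refl _) this (by push_cast; omega)
  rw [h1, E_zero, zero_add]
  have : ((g : ℚ) + 1) * ((g : ℚ) - ((2 * g : ℤ) : ℚ) + g) = 0 := by
    push_cast; ring
  rw [this, zero_smul]

end Groth.Agent.Lib.Helper28.TautJac
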