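import Groth.Agent.Lib.Helper28.TautJac5

set_option autoImplicit false
open MvPolynomial W4c3tautjacobian

namespace Groth.Agent.Lib.Helper28.TautJac

variable {g : ℕ}

lemma E_iterate_hom {α β : ℤ} {P : RelRing g} {z : ℤ} (h : Hom g α β P z) (a : ℕ) :
    Hom g α β ((E g)^[a] P) (z + 2 * α * a) := by
  induction a with
  | zero => simpa using h
  | succ a ih =>
    rw [Function.iterate_succ_apply']
    exact Hom.of_eq (E_hom ih) (by push_cast; ring)

lemma E_iterate_eq (a : ℕ) (P : RelRing g) : (E g)^[a] P = (xv g 2 0) ^ a * P := by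
  induction a with
  | zero => simp
  | succ a ih =>
    rw [Function.iterate_succ_apply', ih]
    unfold E
    ring

lemma F_iterate_smul (c : ℚ) (P : RelRing g) (n : ℕ) :
    (F g)^[n] (c • P) = c • (F g)^[n] P := by
  induction n with
  | zero => rfl
  | succ n ih => rw [Function.iterate_succ_apply', ih, F_smul, Function.iterate_succ_apply']

/-- the key vanishing: `F^{a+t} E^a u = 0` for `u` of first degree `2t ≤ 2g` and `a + t > g`. -/
theorem F_iterate_E_iterate_eq_zero (hg : 1 ≤ g) {u : RelRing g} {t : ℕ}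
    (h : Hom g 1 0 u (2 * t : ℤ)) (ht : t ≤ g) (a : ℕ) (ha : g + 1 ≤ a + t) :
    (F g)^[a + t] ((E g)^[a] u) = 0 := by
  induction a with
  | zero => omega
  | succ a ih =>
    rw [Function.iterate_succ_apply' (E g) a u]
    have hw := E_iterate_hom h a
    have e : a + 1 + t = (a + t) + 1 := by ring
    rw [e, F_iterate_E hg hw (a + t)]
    have h1 : (F g)^[a + t + 1] ((E g)^[a] u) = 0 := by
      have := F_iterate_hom hw (a + t + 1)
      exact eq_zero_of_hom_neg (le_of_lt one_pos) (le_refl _) this (by push_cast; omega)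
    rw [h1, E_zero, zero_add]
    by_cases hat : a + t = g
    · have : (((a + t : ℕ) : ℚ) + 1) * ((g : ℚ) - ((2 * (t : ℤ) + 2 * 1 * (a : ℤ) : ℤ) : ℚ)
          + ((a + t : ℕ) : ℚ)) = 0 := by
        have hg' : (g : ℚ) = (a : ℚ) + t := by exact_mod_cast hat.symm
        push_cast
        rw [hg']
        ring
      rw [this, zero_smul]
    · rw [ih (by omega), smul_zero]

end Groth.Agent.Lib.Helper28.TautJac
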