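import Groth.Agent.Lib.Helper28.TautJac6

set_option autoImplicit false
open MvPolynomial W4c3tautjacobian

namespace Groth.Agent.Lib.Helper28.TautJac

variable {g : ℕ}

/-- second degree, natural number valued -/
def w2 (g : ℕ) : Var g → ℕ := fun v => (wt g v).2

lemma ω_zero_one (v : Var g) : ω g 0 1 v = (w2 g v : ℤ) := by
  cases v with
  | none => simp [ω, w2, wt]
  | some p => simp [ω, w2, wt]

lemma weight_ω_zero_one (d : Var g →₀ ℕ) :
    Finsupp.weight (ω g 0 1) d = ((Finsupp.weight (w2 g) d : ℕ) : ℤ) := by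
  rw [Finsupp.weight_apply, Finsupp.weight_apply, Finsupp.sum, Finsupp.sum, Nat.cast_sum]
  apply Finset.sum_congr rfl
  intro v _
  rw [ω_zero_one]
  simp

lemma weight_snd (d : Var g →₀ ℕ) :
    (Finsupp.weight (wt g) d).2 = Finsupp.weight (w2 g) d := by
  rw [Finsupp.weight_apply, Finsupp.weight_apply, Finsupp.sum, Finsupp.sum, Prod.snd_sum]
  apply Finset.sum_congr rfl
  intro v _
  simp [w2]

/-- the variable `x 2 0` -/
def v20 (hg : 1 ≤ g) : Var g := some ⟨(2, 0), valid20 hg⟩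

lemma w1_le (hg : 1 ≤ g) (v : Var g) (hv : v ≠ v20 hg) : w1 g v ≤ 3 * w2 g v := by
  cases v with
  | none => simp [w1, w2, wt]
  | some p =>
    obtain ⟨⟨i, j⟩, h1, h2, ⟨k, hk⟩, h4⟩ := p
    simp only [w1, w2, wt]
    have hne : (i, j) ≠ (2, 0) := by
      intro h
      apply hv
      simp only [v20]
      congr 2
    simp only at h1 h2 hk h4 ⊢
    by_contra hcon
    push Not at hcon
    have hj : j = 0 := by omega
    subst hj
    have hi : i = 0 ∨ i = 2 := by omega
    rcases hi with rfl | rfl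
    · exact h4 rfl
    · exact hne rfl

lemma weight_w1_le (hg : 1 ≤ g) (d : Var g →₀ ℕ) (hd : d (v20 hg) = 0) :
    Finsupp.weight (w1 g) d ≤ 3 * Finsupp.weight (w2 g) d := by
  rw [Finsupp.weight_apply, Finsupp.weight_apply, Finsupp.sum, Finsupp.sum, Finset.mul_sum]
  apply Finset.sum_le_sum
  intro v hv
  have hne : v ≠ v20 hg := by
    rintro rfl
    exact (Finsupp.mem_support_iff.mp hv) hd
  have := w1_le hg v hne
  simp only [smul_eq_mul]
  nlinarith

lemma monomial_split (hg : 1 ≤ g) (d : Var g →₀ ℕ) :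
    (monomial d (1 : ℚ) : RelRing g) =
      (E g)^[d (v20 hg)] (monomial (d.erase (v20 hg)) 1) := by
  classical
  rw [E_iterate_eq, xv20 hg, X_pow_eq_monomial, monomial_mul, one_mul]
  have : (Finsupp.single (some ⟨(2, 0), valid20 hg⟩) (d (v20 hg)) : Var g →₀ ℕ)
      + d.erase (v20 hg) = d := Finsupp.single_add_erase (v20 hg) d
  rw [this]

lemma weight_split (hg : 1 ≤ g) (w : Var g → ℕ) (d : Var g →₀ ℕ) :
    Finsupp.weight w d = d (v20 hg) * w (v20 hg) + Finsupp.weight w (d.erase (v20 hg)) := by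
  classical
  conv_lhs => rw [← Finsupp.single_add_erase (v20 hg) d]
  rw [map_add, Finsupp.weight_single]
  simp

lemma monomial_hom1 (d : Var g →₀ ℕ) :
    Hom g 1 0 (monomial d (1 : ℚ)) ((Finsupp.weight (w1 g) d : ℕ) : ℤ) :=
  isWeightedHomogeneous_monomial _ _ _ (weight_ω_one_zero d)

lemma monomial_hom2 (d : Var g →₀ ℕ) :
    Hom g 0 1 (monomial d (1 : ℚ)) ((Finsupp.weight (w2 g) d : ℕ) : ℤ) :=
  isWeightedHomogeneous_monomial _ _ _ (weight_ω_zero_one d)

theorem gen_coeff (hg : 1 ≤ g) (d : Var g →₀ ℕ) (k : ℕ)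
    (hd : 2 * g < (Finsupp.weight (wt g) d).1) (d₂ : Var g →₀ ℕ)
    (h1 : Finsupp.weight (w1 g) d₂ = 0) (h2 : 3 * Finsupp.weight (w2 g) d₂ ≤ 2 * g) :
    coeff d₂ ((F g)^[k] (monomial d (1 : ℚ))) = 0 := by
  by_contra hne
  rw [weight_fst] at hd
  have H1 := F_iterate_hom (monomial_hom1 d) k hne
  have H2 := F_iterate_hom (monomial_hom2 d) k hne
  rw [weight_ω_one_zero, h1] at H1
  rw [weight_ω_zero_one] at H2
  have e2 : Finsupp.weight (w2 g) d₂ = Finsupp.weight (w2 g) d := by
    have : ((Finsupp.weight (w2 g) d₂ : ℕ) : ℤ) = ((Finsupp.weight (w2 g) d : ℕ) : ℤ) := by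
      rw [H2]; ring
    exact_mod_cast this
  have e1 : Finsupp.weight (w1 g) d = 2 * k := by
    have : ((Finsupp.weight (w1 g) d : ℕ) : ℤ) = 2 * k := by
      have := H1
      push_cast at this
      linarith
    exact_mod_cast this
  set a := d (v20 hg) with ha
  have s1 := weight_split hg (w1 g) d
  have s2 := weight_split hg (w2 g) d
  have hw1 : w1 g (v20 hg) = 2 := rfl
  have hw2 : w2 g (v20 hg) = 0 := rfl
  rw [hw1] at s1
  rw [hw2, mul_zero, zero_add] at s2
  have hle := weight_w1_le hg (d.erase (v20 hg)) (by simp)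
  -- t := k - a
  have hak : a ≤ k := by omega
  obtain ⟨t, rfl⟩ := Nat.exists_eq_add_of_le hak
  have hD' : Finsupp.weight (w1 g) (d.erase (v20 hg)) = 2 * t := by omega
  have htg : t ≤ g := by omega
  have hkg : g + 1 ≤ a + t := by omega
  have hu : Hom g 1 0 (monomial (d.erase (v20 hg)) (1 : ℚ)) (2 * t : ℤ) := by
    have := monomial_hom1 (g := g) (d.erase (v20 hg))
    rw [hD'] at this
    exact_mod_cast this
  apply hne
  rw [monomial_split hg d, F_iterate_E_iterate_eq_zero hg hu htg a hkg]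
  simp

/-- polynomials with no monomial of first degree `0` and small second degree -/
def Zid (g : ℕ) : Ideal (RelRing g) where
  carrier := {Q | ∀ d, Finsupp.weight (w1 g) d = 0 → 3 * Finsupp.weight (w2 g) d ≤ 2 * g →
    coeff d Q = 0}
  add_mem' := by
    intro a b ha hb d h1 h2
    rw [coeff_add, ha d h1 h2, hb d h1 h2, add_zero]
  zero_mem' := by intro d _ _; simp
  smul_mem' := by
    classical
    intro c Q hQ d h1 h2
    rw [smul_eq_mul, coeff_mul]
    apply Finset.sum_eq_zero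
    rintro ⟨d₁, d₂⟩ hmem
    have hsum : d₁ + d₂ = d := by simpa using hmem
    have e1 : Finsupp.weight (w1 g) d₁ + Finsupp.weight (w1 g) d₂ = Finsupp.weight (w1 g) d := by
      rw [← map_add, hsum]
    have e2 : Finsupp.weight (w2 g) d₁ + Finsupp.weight (w2 g) d₂ = Finsupp.weight (w2 g) d := by
      rw [← map_add, hsum]
    have := hQ d₂ (by omega) (by omega)
    rw [this, mul_zero]

theorem relIdeal_le_Zid (hg : 1 ≤ g) : relIdeal g ≤ Zid g := by
  unfold relIdeal
  rw [Ideal.span_le]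
  rintro P ⟨d, n, hd, rfl⟩
  intro d₂ h1 h2
  exact gen_coeff hg d n hd d₂ h1 h2

theorem eq_zero_of_mem_relIdeal (hg : 1 ≤ g) (n : ℕ) (hn : 3 * n ≤ 2 * g) (P : RelRing g)
    (hP : P ∈ relIdeal g)
    (hhom : IsWeightedHomogeneous (wt g) P ((0, n) : ℕ × ℕ)) : P = 0 := by
  by_contra hne
  obtain ⟨d, hd⟩ := ne_zero_iff.mp hne
  have hw := hhom hd
  have h1 : Finsupp.weight (w1 g) d = 0 := by rw [← weight_fst, hw]
  have h2 : Finsupp.weight (w2 g) d = n := by rw [← weight_snd, hw]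
  exact hd (relIdeal_le_Zid hg hP d h1 (by omega))

end Groth.Agent.Lib.Helper28.TautJac
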