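import Groth.Agent.Lib.Helper28.TautJac7

set_option autoImplicit false
open MvPolynomial W4c3tautjacobian

namespace Groth.Agent.Lib.Helper28.TautJac

variable {g : ℕ}

/-- positive virtual variable: like `xv` but `0` at `(0,0)` -/
noncomputable def xvp (g : ℕ) (i j : ℤ) : RelRing g :=
  if h : 0 ≤ i ∧ 0 ≤ j ∧ Valid g (i.toNat, j.toNat) then
    X (some ⟨(i.toNat, j.toNat), h.2.2⟩) else 0

lemma xv_eq (i j : ℤ) :
    xv g i j = if i = 0 ∧ j = 0 then (g : RelRing g) else xvp g i j := rfl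

/-- the sign twist: `y ↦ 0`, `x_p ↦ -x_p` -/
noncomputable def θ (g : ℕ) : RelRing g →ₐ[ℚ] RelRing g :=
  aeval (fun v : Var g => match v with
    | none => (0 : RelRing g)
    | some p => -X (some p))

@[simp] lemma θ_X_none : θ g (X none) = 0 := by simp [θ]

@[simp] lemma θ_X_some (p : {p : ℕ × ℕ // Valid g p}) : θ g (X (some p)) = -X (some p) := by
  simp [θ]

lemma θ_xvp (i j : ℤ) : θ g (xvp g i j) = -xvp g i j := by
  unfold xvp
  split_ifs <;> simp

lemma θ_xv (i j : ℤ) :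
    θ g (xv g i j) = if i = 0 ∧ j = 0 then (g : RelRing g) else -xvp g i j := by
  rw [xv_eq]
  split_ifs
  · simp
  · exact θ_xvp i j

lemma θ_pderiv (p : {p : ℕ × ℕ // Valid g p}) (Q : RelRing g) :
    θ g (pderiv (some p) Q) = -pderiv (some p) (θ g Q) := by
  classical
  induction Q using MvPolynomial.induction_on with
  | C a => simp
  | add P Q hP hQ => simp [hP, hQ]; ring
  | mul_X P v hP =>
    rw [pderiv_mul, map_add, map_mul, map_mul, map_mul, pderiv_mul, hP]
    cases v with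
    | none =>
      simp
    | some q =>
      by_cases hpq : q = p
      · subst hpq
        simp
        ring
      · have h1 : (some q : Var g) ≠ some p := fun h => hpq (Option.some.inj h)
        rw [pderiv_X_of_ne h1, θ_X_some, map_neg, pderiv_X_of_ne h1]
        simp

lemma dv_neg_aux (p q : ℕ × ℕ) (Q : RelRing g) :
    -dv g p (-dv g q Q) = dv g p (dv g q Q) := by
  have : dv g p (-dv g q Q) = -dv g p (dv g q Q) := by
    have := dv_smul p (-1 : ℚ) (dv g q Q)
    simpa using this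
  rw [this, neg_neg]

lemma θ_dv (p : ℕ × ℕ) (Q : RelRing g) : θ g (dv g p Q) = -dv g p (θ g Q) := by
  unfold dv
  split_ifs with hp
  · exact θ_pderiv ⟨p, hp⟩ Q
  · simp

/-- the sign-twisted operator (nonnegative coefficients) -/
noncomputable def Fh (g : ℕ) (P : RelRing g) : RelRing g :=
  (1 / 2 : ℚ) • (∑ p ∈ idx g, ∑ q ∈ idx g,
      (mergeCoeff p.1 q.1 : RelRing g) * xvp g ((p.1 : ℤ) + q.1 - 2) ((p.2 : ℤ) + q.2)
        * dv g p (dv g q P))
    + ∑ p ∈ idx g, xvp g ((p.1 : ℤ) - 2) (p.2 : ℤ) * dv g p P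

lemma dv_of_not_valid {p : ℕ × ℕ} (hp : ¬ Valid g p) (Q : RelRing g) : dv g p Q = 0 := by
  unfold dv; rw [dif_neg hp]

lemma xvp_zero_zero : xvp g 0 0 = 0 := by
  unfold xvp
  rw [dif_neg]
  rintro ⟨-, -, h⟩
  exact h.2.2.2 rfl

lemma merge_term (p q : ℕ × ℕ) (Q : RelRing g) :
    θ g (X none * xv g ((p.1 : ℤ) - 1) ((p.2 : ℤ) - 1) * xv g ((q.1 : ℤ) - 1) ((q.2 : ℤ) - 1)
        - (mergeCoeff p.1 q.1 : RelRing g) * xv g ((p.1 : ℤ) + q.1 - 2) ((p.2 : ℤ) + q.2))
      * dv g p (dv g q Q)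
    = (mergeCoeff p.1 q.1 : RelRing g) * xvp g ((p.1 : ℤ) + q.1 - 2) ((p.2 : ℤ) + q.2)
        * dv g p (dv g q Q) := by
  rw [map_sub, map_mul, map_mul, θ_X_none, zero_mul, zero_mul, zero_sub, map_mul, map_natCast,
    θ_xv]
  split_ifs with h
  · -- degenerate case: one of p, q is invalid
    obtain ⟨h1, h2⟩ := h
    have hp2 : p.2 = 0 := by omega
    have hq2 : q.2 = 0 := by omega
    have hz : dv g p (dv g q Q) = 0 := by
      by_cases hq : Valid g q
      · have hpn : ¬ Valid g p := by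
          intro hp
          obtain ⟨-, -, ⟨k, hk⟩, hp4⟩ := hp
          obtain ⟨-, -, ⟨k', hk'⟩, hq4⟩ := hq
          have : p.1 = 0 ∨ p.1 = 1 ∨ p.1 = 2 := by omega
          rcases this with h0 | h0 | h0
          · exact hp4 (Prod.ext h0 hp2)
          · omega
          · have : q.1 = 0 := by omega
            exact hq4 (Prod.ext this hq2)
        exact dv_of_not_valid hpn _
      · rw [dv_of_not_valid hq, dv_zero]
    rw [hz, mul_zero, mul_zero]
  · ring

theorem θ_F (hg : 1 ≤ g) (P : RelRing g) :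
    θ g (F g P) = Fh g (θ g P) - (g : RelRing g) * dv g (2, 0) (θ g P) := by
  classical
  unfold F Fh
  rw [map_add, map_smul, map_sum, map_sum]
  have h1 : ∀ p ∈ idx g, θ g (∑ q ∈ idx g,
      (X none * xv g ((p.1 : ℤ) - 1) ((p.2 : ℤ) - 1) * xv g ((q.1 : ℤ) - 1) ((q.2 : ℤ) - 1)
        - (mergeCoeff p.1 q.1 : RelRing g) * xv g ((p.1 : ℤ) + q.1 - 2) ((p.2 : ℤ) + q.2))
        * dv g p (dv g q P)) =
      ∑ q ∈ idx g, (mergeCoeff p.1 q.1 : RelRing g)
        * xvp g ((p.1 : ℤ) + q.1 - 2) ((p.2 : ℤ) + q.2) * dv g p (dv g q (θ g P)) := by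
    intro p _
    rw [map_sum]
    apply Finset.sum_congr rfl
    intro q _
    rw [map_mul, θ_dv, θ_dv, dv_neg_aux]
    exact merge_term p q (θ g P)
  rw [Finset.sum_congr rfl h1]
  have h2 : ∀ p ∈ idx g, θ g (xv g ((p.1 : ℤ) - 2) (p.2 : ℤ) * dv g p P) =
      xvp g ((p.1 : ℤ) - 2) (p.2 : ℤ) * dv g p (θ g P)
        - (if p = (2, 0) then (g : RelRing g) * dv g (2, 0) (θ g P) else 0) := by
    intro p _
    rw [map_mul, θ_dv, θ_xv]
    by_cases hp : p = (2, 0)
    · subst hp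
      rw [if_pos rfl, if_pos (by constructor <;> norm_num)]
      have : xvp g ((((2, 0) : ℕ × ℕ).1 : ℤ) - 2) ((((2, 0) : ℕ × ℕ).2 : ℕ) : ℤ) = 0 := by
        have : xvp g ((((2, 0) : ℕ × ℕ).1 : ℤ) - 2) ((((2, 0) : ℕ × ℕ).2 : ℕ) : ℤ)
            = xvp g 0 0 := by norm_num
        rw [this, xvp_zero_zero]
      rw [this]; ring
    · rw [if_neg hp, if_neg, sub_zero]
      · ring
      · rintro ⟨h1, h2⟩
        apply hp
        ext <;> simp <;> omega
  rw [Finset.sum_congr rfl h2, Finset.sum_sub_distrib, Finset.sum_ite_eq' (idx g) (2, 0),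
    if_pos (mem_idx20 hg)]
  abel

end Groth.Agent.Lib.Helper28.TautJac
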