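import Groth.Agent.Lib.Helper28.TautJac8

set_option autoImplicit false
open MvPolynomial W4c3tautjacobian

namespace Groth.Agent.Lib.Helper28.TautJac

variable {g : ℕ}

/-- all coefficients nonnegative -/
def Nonneg (P : RelRing g) : Prop := ∀ d, 0 ≤ coeff d P

lemma Nonneg.zero : Nonneg (0 : RelRing g) := fun d => by simp

lemma Nonneg.add {P Q : RelRing g} (hP : Nonneg P) (hQ : Nonneg Q) : Nonneg (P + Q) := fun d => by
  rw [coeff_add]; exact add_nonneg (hP d) (hQ d)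

lemma Nonneg.smul {P : RelRing g} (hP : Nonneg P) {c : ℚ} (hc : 0 ≤ c) : Nonneg (c • P) :=
  fun d => by rw [coeff_smul]; exact mul_nonneg hc (hP d)

lemma Nonneg.sum {ι : Type*} (s : Finset ι) (f : ι → RelRing g) (h : ∀ i ∈ s, Nonneg (f i)) :
    Nonneg (∑ i ∈ s, f i) := fun d => by
  rw [coeff_sum]; exact Finset.sum_nonneg fun i hi => h i hi d

lemma Nonneg.X_mul {P : RelRing g} (hP : Nonneg P) (v : Var g) : Nonneg (X v * P) := fun d => by
  classical
  rw [coeff_X_mul']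
  split_ifs
  · exact hP _
  · exact le_refl _

lemma Nonneg.natCast_mul {P : RelRing g} (hP : Nonneg P) (n : ℕ) :
    Nonneg ((n : RelRing g) * P) := fun d => by
  have : ((n : ℕ) : RelRing g) = C (n : ℚ) := by simp
  rw [this, coeff_C_mul]
  exact mul_nonneg (Nat.cast_nonneg _) (hP d)

lemma Nonneg.pderiv {P : RelRing g} (hP : Nonneg P) (v : Var g) : Nonneg (pderiv v P) :=
  fun d => by
  rw [coeff_pderiv]
  exact mul_nonneg (hP _) (by positivity)

lemma Nonneg.dv {P : RelRing g} (hP : Nonneg P) (p : ℕ × ℕ) : Nonneg (dv g p P) := by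
  unfold W4c3tautjacobian.dv
  split_ifs
  · exact hP.pderiv _
  · exact Nonneg.zero

lemma Nonneg.xvp_mul {P : RelRing g} (hP : Nonneg P) (i j : ℤ) : Nonneg (xvp g i j * P) := by
  unfold xvp
  split_ifs
  · exact hP.X_mul _
  · rw [zero_mul]; exact Nonneg.zero

/-- merge term -/
noncomputable def Tm (g : ℕ) (p q : ℕ × ℕ) (P : RelRing g) : RelRing g :=
  (mergeCoeff p.1 q.1 : RelRing g) * xvp g ((p.1 : ℤ) + q.1 - 2) ((p.2 : ℤ) + q.2)
    * dv g p (dv g q P)

/-- lowering term -/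
noncomputable def Tl (g : ℕ) (p : ℕ × ℕ) (P : RelRing g) : RelRing g :=
  xvp g ((p.1 : ℤ) - 2) (p.2 : ℤ) * dv g p P

lemma Fh_eq (P : RelRing g) :
    Fh g P = (1 / 2 : ℚ) • (∑ p ∈ idx g, ∑ q ∈ idx g, Tm g p q P) + ∑ p ∈ idx g, Tl g p P := rfl

lemma Tm_nonneg {P : RelRing g} (hP : Nonneg P) (p q : ℕ × ℕ) : Nonneg (Tm g p q P) := by
  unfold Tm
  rw [mul_assoc]
  exact (((hP.dv q).dv p).xvp_mul _ _).natCast_mul _

lemma Tl_nonneg {P : RelRing g} (hP : Nonneg P) (p : ℕ × ℕ) : Nonneg (Tl g p P) := by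
  unfold Tl
  exact (hP.dv p).xvp_mul _ _

lemma Tm_sub_smul (p q : ℕ × ℕ) (P M : RelRing g) (a : ℚ) :
    Tm g p q (P - a • M) = Tm g p q P - a • Tm g p q M := by
  unfold Tm
  have e : P - a • M = P + (-a) • M := by rw [neg_smul, sub_eq_add_neg]
  rw [e, dv_add, dv_add, dv_smul, dv_smul, mul_add, mul_smul_comm]
  module

lemma Tl_sub_smul (p : ℕ × ℕ) (P M : RelRing g) (a : ℚ) :
    Tl g p (P - a • M) = Tl g p P - a • Tl g p M := by
  unfold Tl
  have e : P - a • M = P + (-a) • M := by rw [neg_smul, sub_eq_add_neg]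
  rw [e, dv_add, dv_smul, mul_add, mul_smul_comm]
  module

lemma Fh_nonneg {P : RelRing g} (hP : Nonneg P) : Nonneg (Fh g P) := by
  rw [Fh_eq]
  apply Nonneg.add
  · apply Nonneg.smul _ (by norm_num)
    apply Nonneg.sum
    intro p _
    apply Nonneg.sum
    intro q _
    exact Tm_nonneg hP p q
  · apply Nonneg.sum
    intro p _
    exact Tl_nonneg hP p

lemma Fh_iterate_nonneg {P : RelRing g} (hP : Nonneg P) (n : ℕ) : Nonneg ((Fh g)^[n] P) := by
  induction n with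
  | zero => exact hP
  | succ n ih => rw [Function.iterate_succ_apply']; exact Fh_nonneg ih

lemma Fh_sub_Tm_nonneg {P : RelRing g} (hP : Nonneg P) {p q : ℕ × ℕ} (hp : p ∈ idx g)
    (hq : q ∈ idx g) : Nonneg (Fh g P - (1 / 2 : ℚ) • Tm g p q P) := by
  classical
  rw [Fh_eq, ← Finset.add_sum_erase (idx g) _ hp, ← Finset.add_sum_erase (idx g) _ hq]
  have : (1 / 2 : ℚ) • (Tm g p q P + ∑ x ∈ (idx g).erase q, Tm g p x P
        + ∑ x ∈ (idx g).erase p, ∑ q ∈ idx g, Tm g x q P) + ∑ p ∈ idx g, Tl g p P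
        - (1 / 2 : ℚ) • Tm g p q P
      = (1 / 2 : ℚ) • (∑ x ∈ (idx g).erase q, Tm g p x P
        + ∑ x ∈ (idx g).erase p, ∑ q ∈ idx g, Tm g x q P) + ∑ p ∈ idx g, Tl g p P := by
    rw [smul_add, smul_add, smul_add]; abel
  rw [this]
  apply Nonneg.add
  · apply Nonneg.smul _ (by norm_num)
    apply Nonneg.add
    · apply Nonneg.sum; intro x _; exact Tm_nonneg hP p x
    · apply Nonneg.sum; intro x _; apply Nonneg.sum; intro y _; exact Tm_nonneg hP x y
  · apply Nonneg.sum; intro x _; exact Tl_nonneg hP x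

lemma Fh_sub_Tl_nonneg {P : RelRing g} (hP : Nonneg P) {p : ℕ × ℕ} (hp : p ∈ idx g) :
    Nonneg (Fh g P - Tl g p P) := by
  classical
  rw [Fh_eq, ← Finset.add_sum_erase (idx g) (fun p => Tl g p P) hp]
  have : (1 / 2 : ℚ) • (∑ p ∈ idx g, ∑ q ∈ idx g, Tm g p q P)
        + (Tl g p P + ∑ x ∈ (idx g).erase p, Tl g x P) - Tl g p P
      = (1 / 2 : ℚ) • (∑ p ∈ idx g, ∑ q ∈ idx g, Tm g p q P)
        + ∑ x ∈ (idx g).erase p, Tl g x P := by abel
  rw [this]
  apply Nonneg.add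
  · apply Nonneg.smul _ (by norm_num)
    apply Nonneg.sum; intro x _; apply Nonneg.sum; intro y _; exact Tm_nonneg hP x y
  · apply Nonneg.sum; intro x _; exact Tl_nonneg hP x

/-- `P` dominates a positive multiple of `M` -/
def Dom (P M : RelRing g) : Prop := ∃ a : ℚ, 0 < a ∧ Nonneg (P - a • M)

theorem Dom.step_merge {P M M' : RelRing g} (hP : Nonneg P) (h : Dom P M) {p q : ℕ × ℕ}
    (hp : p ∈ idx g) (hq : q ∈ idx g) {t : ℚ} (ht : 0 < t) (hM : Tm g p q M = t • M') :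
    Dom (Fh g P) M' := by
  obtain ⟨a, ha, hPM⟩ := h
  refine ⟨(1 / 2) * (a * t), by positivity, ?_⟩
  have h1 := Fh_sub_Tm_nonneg hP hp hq
  have h2 := (Tm_nonneg hPM p q).smul (c := (1 / 2 : ℚ)) (by norm_num)
  rw [Tm_sub_smul, hM] at h2
  have : Fh g P - ((1 / 2 : ℚ) * (a * t)) • M'
      = (Fh g P - (1 / 2 : ℚ) • Tm g p q P) + (1 / 2 : ℚ) • (Tm g p q P - a • t • M') := by
    module
  rw [this]
  exact h1.add h2

theorem Dom.step_lower {P M M' : RelRing g} (hP : Nonneg P) (h : Dom P M) {p : ℕ × ℕ}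
    (hp : p ∈ idx g) {t : ℚ} (ht : 0 < t) (hM : Tl g p M = t • M') :
    Dom (Fh g P) M' := by
  obtain ⟨a, ha, hPM⟩ := h
  refine ⟨a * t, by positivity, ?_⟩
  have h1 := Fh_sub_Tl_nonneg hP hp
  have h2 := Tl_nonneg hPM p
  rw [Tl_sub_smul, hM] at h2
  have : Fh g P - (a * t) • M' = (Fh g P - Tl g p P) + (Tl g p P - a • t • M') := by
    module
  rw [this]
  exact h1.add h2

end Groth.Agent.Lib.Helper28.TautJac
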