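import Mathlib

namespace Groth.Agent.Lib.Helper28.WRGmA

universe u

open TensorProduct

/-- `includeRight : B → (A/I) ⊗[A] B` is surjective. -/
theorem includeRight_surjective (A B : Type u) [CommRing A] [CommRing B] [Algebra A B] (I : Ideal A) :
    Function.Surjective (Algebra.TensorProduct.includeRight : B →ₐ[A] (A ⧸ I) ⊗[A] B) := by
  intro y
  obtain ⟨x, rfl⟩ := (TensorProduct.quotTensorEquivQuotSMul B I).symm.surjective y
  obtain ⟨b, rfl⟩ := Submodule.Quotient.mk_surjective _ x
  exact ⟨b, (TensorProduct.quotTensorEquivQuotSMul_symm_mk I b).symm⟩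

/-- kernel of `includeRight : B → (A/I) ⊗[A] B` is `I B`. -/
theorem includeRight_eq_zero_iff (A B : Type u) [CommRing A] [CommRing B] [Algebra A B] (I : Ideal A) (b : B) :
    (Algebra.TensorProduct.includeRight : B →ₐ[A] (A ⧸ I) ⊗[A] B) b = 0 ↔ b ∈ I.map (algebraMap A B) := by
  have h1 : (Algebra.TensorProduct.includeRight : B →ₐ[A] (A ⧸ I) ⊗[A] B) b = 1 ⊗ₜ b := rfl
  rw [h1, ← (TensorProduct.quotTensorEquivQuotSMul B I).map_eq_zero_iff,
    TensorProduct.quotTensorEquivQuotSMul_mk_one_tmul, Submodule.Quotient.mk_eq_zero, Ideal.smul_top_eq_map]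
  rfl

/-- Core ring lemma: lifting units from the closed fibres of an integral algebra over a semilocal ring. -/
theorem exists_unit_lift (A B : Type u) [CommRing A] [Finite (MaximalSpectrum A)] [CommRing B] [Algebra A B]
    [Algebra.IsIntegral A B]
    (R : MaximalSpectrum A → Type u) [∀ m, CommRing (R m)] (ψ : ∀ m, B →+* R m)
    (hsurj : ∀ m, Function.Surjective (ψ m))
    (hker : ∀ m (b : B), ψ m b = 0 ↔ b ∈ m.asIdeal.map (algebraMap A B))
    (w : ∀ m, (R m)ˣ) : ∃ b : Bˣ, ∀ m, ψ m b = w m := by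
  classical
  set I : MaximalSpectrum A → Ideal B := fun m => m.asIdeal.map (algebraMap A B) with hI
  have hcop : Pairwise (Function.onFun IsCoprime I) := by
    intro m m' hne
    show IsCoprime (I m) (I m')
    rw [Ideal.isCoprime_iff_sup_eq]
    have h1 : m.asIdeal ⊔ m'.asIdeal = ⊤ := by
      apply Ideal.IsMaximal.coprime_of_ne m.isMaximal m'.isMaximal
      intro h
      exact hne (MaximalSpectrum.ext h)
    simp only [hI]
    rw [← Ideal.map_sup, h1, Ideal.map_top]
  -- lifting any family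
  have hlift : ∀ g : ∀ m, R m, ∃ b : B, ∀ m, ψ m b = g m := by
    intro g
    choose c hc using fun m => hsurj m (g m)
    obtain ⟨y, hy⟩ := Ideal.quotientInfToPiQuotient_surj hcop (fun m => Ideal.Quotient.mk (I m) (c m))
    obtain ⟨b, rfl⟩ := Ideal.Quotient.mk_surjective y
    refine ⟨b, fun m => ?_⟩
    have h2 := congrFun hy m
    rw [Ideal.quotientInfToPiQuotient_mk'] at h2
    rw [Ideal.Quotient.eq] at h2
    have h3 := (hker m (b - c m)).mpr h2
    rw [map_sub, sub_eq_zero] at h3
    rw [h3, hc]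
  obtain ⟨b, hb⟩ := hlift (fun m => (w m : R m))
  obtain ⟨b', hb'⟩ := hlift (fun m => ((w m)⁻¹ : (R m)ˣ))
  have hunit : IsUnit b := by
    by_contra hnu
    obtain ⟨n, hnmax, hbn⟩ := exists_max_ideal_of_mem_nonunits hnu
    have hmax : (n.comap (algebraMap A B)).IsMaximal := Ideal.isMaximal_comap_of_isIntegral_of_isMaximal n
    let m : MaximalSpectrum A := ⟨_, hmax⟩
    have hle : I m ≤ n := Ideal.map_comap_le
    have h4 : ψ m (b * b' - 1) = 0 := by
      rw [map_sub, map_mul, hb, hb', map_one]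
      simp
    have h5 : b * b' - 1 ∈ n := hle ((hker m _).mp h4)
    have h6 : b * b' ∈ n := n.mul_mem_right _ hbn
    have h7 : (1 : B) ∈ n := by
      have := n.sub_mem h6 h5
      simpa using this
    exact hnmax.ne_top ((Ideal.eq_top_iff_one n).mpr h7)
  exact ⟨hunit.unit, fun m => by simpa using hb m⟩

end Groth.Agent.Lib.Helper28.WRGmA
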