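import Groth.Prelude.Def_WeilRes
import Groth.Prelude.Def_GmPts
import Groth.Agent.Lib.Helper28.WRGmA

set_option autoImplicit false

namespace Groth.Agent.Lib.Helper28.WRGmB

universe u

open CategoryTheory CategoryTheory.Limits AlgebraicGeometry TensorProduct

section gen
variable {S S' : Scheme.{u}} (f : S' ⟶ S)

/-- The structure map of the base change is `pullback.snd`. -/
theorem bc_map_left_snd {T T' : Over S} (t : T' ⟶ T) :
    ((Over.pullback f).map t).left ≫ pullback.snd T.hom f = pullback.snd T'.hom f := by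
  dsimp only [Over.pullback]
  exact pullback.lift_snd _ _ _
end gen

variable (A B : Type u) [CommRing A] [CommRing B] [Algebra A B]

noncomputable abbrev fAB : Spec (CommRingCat.of B) ⟶ Spec (CommRingCat.of A) :=
  Spec.map (CommRingCat.ofHom (algebraMap A B))

noncomputable abbrev TI (I : Ideal A) : Over (Spec (CommRingCat.of A)) :=
  Over.mk (Spec.map (CommRingCat.ofHom (Ideal.Quotient.mk I)))

noncomputable abbrev T0 : Over (Spec (CommRingCat.of A)) := Over.mk (𝟙 (Spec (CommRingCat.of A)))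

noncomputable def tI (I : Ideal A) : TI A I ⟶ T0 A :=
  Over.homMk (Spec.map (CommRingCat.ofHom (Ideal.Quotient.mk I))) (Category.comp_id _)

noncomputable def psi (I : Ideal A) : B →+* Γ(((Over.pullback (fAB A B)).obj (TI A I)).left, ⊤) :=
  ((Scheme.ΓSpecIso (CommRingCat.of B)).inv ≫ (pullback.snd (TI A I).hom (fAB A B)).appTop).hom

noncomputable def e0 : B →+* Γ(((Over.pullback (fAB A B)).obj (T0 A)).left, ⊤) :=
  ((Scheme.ΓSpecIso (CommRingCat.of B)).inv ≫ (pullback.snd (T0 A).hom (fAB A B)).appTop).hom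

theorem psi_eq (I : Ideal A) :
    psi A B I = (((Over.pullback (fAB A B)).map (tI A I)).left.appTop.hom).comp (e0 A B) := by
  unfold psi e0
  rw [← bc_map_left_snd (fAB A B) (tI A I), Scheme.Hom.comp_appTop]
  rfl

theorem psi_eq' (I : Ideal A) :
    psi A B I = (((Scheme.ΓSpecIso (CommRingCat.of ((A ⧸ I) ⊗[A] B))).inv ≫
      (pullbackSpecIso A (A ⧸ I) B).hom.appTop).hom).comp
        (Algebra.TensorProduct.includeRight : B →ₐ[A] (A ⧸ I) ⊗[A] B).toRingHom := by
  have h : pullback.snd (TI A I).hom (fAB A B) = (pullbackSpecIso A (A ⧸ I) B).hom ≫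
      Spec.map (CommRingCat.ofHom
        (Algebra.TensorProduct.includeRight : B →ₐ[A] (A ⧸ I) ⊗[A] B).toRingHom) := by
    exact (pullbackSpecIso_hom_snd A (A ⧸ I) B).symm
  unfold psi
  rw [h, Scheme.Hom.comp_appTop, ← Category.assoc, ← Scheme.ΓSpecIso_inv_naturality]
  rfl

theorem iso_bijective (I : Ideal A) :
    Function.Bijective (((Scheme.ΓSpecIso (CommRingCat.of ((A ⧸ I) ⊗[A] B))).inv ≫
      (pullbackSpecIso A (A ⧸ I) B).hom.appTop).hom) := by
  have h1 : IsIso ((pullbackSpecIso A (A ⧸ I) B).hom.appTop) := by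
    show IsIso ((pullbackSpecIso A (A ⧸ I) B).hom.app ⊤)
    infer_instance
  have : IsIso ((Scheme.ΓSpecIso (CommRingCat.of ((A ⧸ I) ⊗[A] B))).inv ≫
      (pullbackSpecIso A (A ⧸ I) B).hom.appTop) := inferInstance
  exact ConcreteCategory.bijective_of_isIso _

theorem psi_surjective (I : Ideal A) : Function.Surjective (psi A B I) := by
  rw [psi_eq']
  exact (iso_bijective A B I).2.comp (WRGmA.includeRight_surjective A B I)

theorem psi_eq_zero_iff (I : Ideal A) (b : B) :
    psi A B I b = 0 ↔ b ∈ I.map (algebraMap A B) := by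
  rw [psi_eq', ← WRGmA.includeRight_eq_zero_iff A B I b]
  constructor
  · intro h
    apply (iso_bijective A B I).1
    rw [map_zero]
    exact h
  · intro h
    show _ = 0
    rw [RingHom.comp_apply]
    erw [h]
    rw [map_zero]

theorem main (A B : Type u) [CommRing A] [Finite (MaximalSpectrum A)] [CommRing B] [Algebra A B]
    [Algebra.IsIntegral A B]
    (P : Over (Spec (CommRingCat.of A)))
    (q : Red.bc (fAB A B) P ⟶ Red.Gm (Spec (CommRingCat.of B)))
    (hP : WeilRes.IsWeilRes (fAB A B) (Red.Gm (Spec (CommRingCat.of B))) P q)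
    (u : ∀ m : MaximalSpectrum A, Spec (CommRingCat.of (A ⧸ m.asIdeal)) ⟶ P.left)
    (hu : ∀ m : MaximalSpectrum A,
      u m ≫ P.hom = Spec.map (CommRingCat.ofHom (Ideal.Quotient.mk m.asIdeal))) :
    ∃ s : Spec (CommRingCat.of A) ⟶ P.left, s ≫ P.hom = 𝟙 (Spec (CommRingCat.of A)) ∧
      ∀ m : MaximalSpectrum A,
        Spec.map (CommRingCat.ofHom (Ideal.Quotient.mk m.asIdeal)) ≫ s = u m := by
  let u' : ∀ m : MaximalSpectrum A, TI A m.asIdeal ⟶ P := fun m => Over.homMk (u m) (hu m)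
  let w : ∀ m : MaximalSpectrum A,
      (Γ(((Over.pullback (fAB A B)).obj (TI A m.asIdeal)).left, ⊤))ˣ :=
    fun m => GmPts.unitOfPt (WeilRes.restr (fAB A B) q _ (u' m))
  obtain ⟨b, hb⟩ := WRGmA.exists_unit_lift A B
    (fun m => Γ(((Over.pullback (fAB A B)).obj (TI A m.asIdeal)).left, ⊤))
    (fun m => psi A B m.asIdeal) (fun m => psi_surjective A B m.asIdeal)
    (fun m b => psi_eq_zero_iff A B m.asIdeal b) w
  let v : (Γ(((Over.pullback (fAB A B)).obj (T0 A)).left, ⊤))ˣ := Units.map (e0 A B).toMonoidHom b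
  obtain ⟨s', hs'⟩ := (hP (T0 A)).2 (GmPts.ptOfUnit v)
  refine ⟨s'.left, Over.w s', fun m => ?_⟩
  have key : tI A m.asIdeal ≫ s' = u' m := by
    apply (hP _).1
    rw [WeilRes.restr_comp, hs']
    rw [← GmPts.ptOfUnit_unitOfPt ((Over.pullback (fAB A B)).map (tI A m.asIdeal) ≫ GmPts.ptOfUnit v),
      ← GmPts.ptOfUnit_unitOfPt (WeilRes.restr (fAB A B) q _ (u' m))]
    congr 1
    rw [GmPts.unitOfPt_comp, GmPts.unitOfPt_ptOfUnit]
    ext
    have h1 := hb m
    rw [psi_eq] at h1
    exact h1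
  exact congrArg (fun g => g.left) key

end Groth.Agent.Lib.Helper28.WRGmB
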